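import Mathlib.GroupTheory.SchurZassenhaus
import Mathlib.GroupTheory.GroupAction.ConjAct
import Mathlib.GroupTheory.Commutator.Basic
import Mathlib.GroupTheory.OrderOfElement

set_option autoImplicit false

namespace Cfsg.Agent.Lib.Helper03

open scoped commutatorElement

open scoped IsMulCommutative in
/-- An abelian normal Hall subgroup `A` is generated by `[A, G]` and `Z(G) ∩ A`. -/
theorem le_commutator_sup_center_of_normal_abelian_hall {G : Type*} [Group G] [Finite G]
    (A : Subgroup G) [A.Normal] (hc : IsMulCommutative A)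
    (hHall : Nat.Coprime (Nat.card A) A.index) :
    A ≤ ⁅A, (⊤ : Subgroup G)⁆ ⊔ (Subgroup.center G ⊓ A) := by
  obtain ⟨K, hK⟩ := Subgroup.exists_right_complement'_of_coprime hHall
  have : Fintype K := Fintype.ofFinite K
  let ν : A → A := fun a => ∏ k : K, MulAut.conjNormal (k : G) a
  have hνK : ∀ (a : A) (k' : K), MulAut.conjNormal (k' : G) (ν a) = ν a := by
    intro a k'
    simp only [ν, map_prod]
    apply Fintype.prod_equiv (Equiv.mulLeft k')
    intro k
    simp [← MulAut.mul_apply, ← map_mul]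
  have hνcenter : ∀ a : A, ((ν a : A) : G) ∈ Subgroup.center G := by
    intro a
    rw [Subgroup.mem_center_iff]
    intro g
    obtain ⟨⟨a', k'⟩, hg⟩ := hK.2 g
    have hg' : (a' : G) * (k' : G) = g := hg
    have h1 : (k' : G) * ν a * (k' : G)⁻¹ = ν a := by
      rw [← MulAut.conjNormal_apply, hνK]
    have h2 : (a' : G) * ν a = ν a * a' := by
      have := congrArg Subtype.val (mul_comm a' (ν a))
      simpa using this
    rw [← hg']
    calc (a' : G) * k' * ν a = a' * (k' * ν a * (k' : G)⁻¹) * k' := by group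
      _ = a' * ν a * k' := by rw [h1]
      _ = ν a * a' * k' := by rw [h2]
      _ = ν a * (a' * k') := by group
  have hcomm_mem : ∀ a : A,
      ((a ^ Fintype.card K * (ν a)⁻¹ : A) : G) ∈ ⁅A, (⊤ : Subgroup G)⁆ := by
    intro a
    have h1 : a ^ Fintype.card K * (ν a)⁻¹ =
        ∏ k : K, a * (MulAut.conjNormal (k : G) a)⁻¹ := by
      rw [Finset.prod_mul_distrib, Finset.prod_const, Finset.card_univ, Finset.prod_inv_distrib]
    rw [h1, ← Subgroup.mem_subgroupOf]
    apply Subgroup.prod_mem
    intro k _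
    rw [Subgroup.mem_subgroupOf]
    have h2 : ((a * (MulAut.conjNormal (k : G) a)⁻¹ : A) : G) = ⁅(a : G), (k : G)⁆ := by
      simp only [Subgroup.coe_mul, Subgroup.coe_inv,
        MulAut.conjNormal_apply, commutatorElement_def]
      group
    rw [h2]
    exact Subgroup.commutator_mem_commutator a.2 (Subgroup.mem_top _)
  have hcardK : Fintype.card K = A.index := by
    rw [← Nat.card_eq_fintype_card]; exact hK.symm.index_eq_card.symm
  intro x hx
  set a : A := ⟨x, hx⟩ with ha
  have hcop : (Fintype.card K).Coprime (orderOf a) := by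
    rw [hcardK]
    exact (Nat.Coprime.coprime_dvd_left (orderOf_dvd_natCard a) hHall).symm
  obtain ⟨m, hm⟩ := exists_pow_eq_self_of_coprime hcop
  have h3 : ((a ^ Fintype.card K : A) : G) ∈ ⁅A, (⊤ : Subgroup G)⁆ ⊔ (Subgroup.center G ⊓ A) := by
    have : (a ^ Fintype.card K : A) = (a ^ Fintype.card K * (ν a)⁻¹) * ν a := by group
    rw [this, Subgroup.coe_mul]
    exact Subgroup.mul_mem_sup (hcomm_mem a) ⟨hνcenter a, (ν a).2⟩
  have h4 : x = ((a ^ Fintype.card K : A) : G) ^ m := by
    rw [← Subgroup.coe_pow, hm]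
  rw [h4]
  exact pow_mem h3 m

end Cfsg.Agent.Lib.Helper03
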