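import Cfsg.Agent.S0088
import Cfsg.Agent.Lib.Helper03.NormalAbelianHall

set_option autoImplicit false

namespace Cfsg.Agent.Lib.Helper03

/-- Relative form of the decomposition of an abelian normal Hall subgroup: if `P ≤ M ≤ N_G(P)`,
`P` is abelian and `|P|` is prime to `|M : P|`, then `P = [P, M] (C_G(M) ∩ P)`. -/
theorem le_commutator_sup_centralizer_of_abelian_hall {G : Type*} [Group G] [Finite G]
    (P M : Subgroup G) (hPM : P ≤ M) (hMN : M ≤ Subgroup.normalizer (P : Set G))
    (hc : IsMulCommutative P) (hcop : Nat.Coprime (Nat.card P) (P.relIndex M)) :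
    P ≤ ⁅P, M⁆ ⊔ (Subgroup.centralizer (M : Set G) ⊓ P) := by
  have hn : (P.subgroupOf M).Normal := (Subgroup.normal_subgroupOf_iff_le_normalizer hPM).mpr hMN
  have e : P.subgroupOf M ≃* P := Subgroup.subgroupOfEquivOfLe hPM
  have hc' : IsMulCommutative (P.subgroupOf M) := by
    rw [isMulCommutative_iff]
    intro a b
    apply e.injective
    rw [map_mul, map_mul]
    exact isMulCommutative_iff.mp hc _ _
  have hcard : Nat.card (P.subgroupOf M) = Nat.card P := Nat.card_congr e.toEquiv
  have hHall : Nat.Coprime (Nat.card (P.subgroupOf M)) (P.subgroupOf M).index := by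
    rw [hcard]; exact hcop
  have key := le_commutator_sup_center_of_normal_abelian_hall (P.subgroupOf M) hc' hHall
  have key' := Subgroup.map_mono (f := M.subtype) key
  rw [Subgroup.map_subgroupOf_eq_of_le hPM, Subgroup.map_sup, Subgroup.map_commutator,
    Subgroup.map_subgroupOf_eq_of_le hPM, ← MonoidHom.range_eq_map, Subgroup.range_subtype] at key'
  refine le_trans key' (sup_le_sup_left ?_ _)
  rintro _ ⟨z, hz, rfl⟩
  obtain ⟨hz1, hz2⟩ := Subgroup.mem_inf.mp hz
  refine Subgroup.mem_inf.mpr ⟨?_, Subgroup.mem_subgroupOf.mp hz2⟩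
  rw [Subgroup.mem_centralizer_iff]
  intro m hm
  have := Subgroup.mem_center_iff.mp hz1 ⟨m, hm⟩
  exact congrArg Subtype.val this

/-- Relative form of `S0088`: `[M, M] ∩ C_G(M) ∩ P = 1` for an abelian Hall subgroup `P` of `M`. -/
theorem commutator_inf_centralizer_inf_eq_bot_of_abelian_hall {G : Type*} [Group G] [Finite G]
    (P M : Subgroup G) (hPM : P ≤ M)
    (hc : IsMulCommutative P) (hcop : Nat.Coprime (Nat.card P) (P.relIndex M)) :
    ⁅M, M⁆ ⊓ Subgroup.centralizer (M : Set G) ⊓ P = ⊥ := by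
  have e : P.subgroupOf M ≃* P := Subgroup.subgroupOfEquivOfLe hPM
  have hc' : IsMulCommutative (P.subgroupOf M) := by
    rw [isMulCommutative_iff]
    intro a b
    apply e.injective
    rw [map_mul, map_mul]
    exact isMulCommutative_iff.mp hc _ _
  have hcard : Nat.card (P.subgroupOf M) = Nat.card P := Nat.card_congr e.toEquiv
  have hHall : Nat.Coprime (Nat.card (P.subgroupOf M)) (P.subgroupOf M).index := by
    rw [hcard]; exact hcop
  have h88 := Cfsg.Agent.S0088.result (P.subgroupOf M) hc' hHall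
  rw [eq_bot_iff]
  intro z hz
  obtain ⟨hz12, hz3⟩ := Subgroup.mem_inf.mp hz
  obtain ⟨hz1, hz2⟩ := Subgroup.mem_inf.mp hz12
  have hzM : z ∈ M := hPM hz3
  have hmem : (⟨z, hzM⟩ : M) ∈ P.subgroupOf M ⊓ commutator M ⊓ Subgroup.center M := by
    refine Subgroup.mem_inf.mpr ⟨Subgroup.mem_inf.mpr ⟨?_, ?_⟩, ?_⟩
    · rw [Subgroup.mem_subgroupOf]; exact hz3
    · have hz1' : z ∈ ⁅M, M⁆ := hz1
      rw [← Subgroup.map_subtype_commutator] at hz1'
      obtain ⟨w, hw, hwz⟩ := hz1'
      have : w = ⟨z, hzM⟩ := Subtype.ext hwz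
      rwa [← this]
    · rw [Subgroup.mem_center_iff]
      intro m
      apply Subtype.ext
      exact (Subgroup.mem_centralizer_iff.mp hz2) m m.2
  rw [h88, Subgroup.mem_bot] at hmem
  rw [Subgroup.mem_bot]
  exact congrArg Subtype.val hmem

end Cfsg.Agent.Lib.Helper03
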