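import Mathlib.GroupTheory.Sylow
import Mathlib.GroupTheory.Transfer
import Mathlib.GroupTheory.Complement
import Cfsg.Prelude.Def_Transfer

set_option autoImplicit false

namespace Cfsg.Agent.Lib.Helper03

open Cfsg

/-- A normal complement of one Sylow `p`-subgroup is a complement of every Sylow `p`-subgroup. -/
theorem isComplement'_sylow_of_isComplement'_sylow {G : Type*} [Group G] [Finite G] {p : ℕ}
    [Fact p.Prime] (P Q : Sylow p G) (N : Subgroup G)
    (hN : N.IsComplement' (Q : Subgroup G)) : N.IsComplement' (P : Subgroup G) := by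
  have hcard : Nat.card (P : Subgroup G) = Nat.card (Q : Subgroup G) := by
    rw [Sylow.card_eq_multiplicity, Sylow.card_eq_multiplicity]
  have h1 : Nat.card N * Nat.card (P : Subgroup G) = Nat.card G := by
    rw [hcard]; exact hN.card_mul_card
  have h2 : Nat.card N = (P : Subgroup G).index := by
    have h3 := (P : Subgroup G).card_mul_index
    have hpos : 0 < Nat.card (P : Subgroup G) := Nat.card_pos
    have : Nat.card (P : Subgroup G) * Nat.card N = Nat.card (P : Subgroup G) * (P : Subgroup G).index := by
      rw [h3, mul_comm, h1]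
    exact Nat.eq_of_mul_eq_mul_left hpos this
  apply Subgroup.isComplement'_of_coprime h1
  rw [h2]
  exact P.card_coprime_index.symm

/-- Having a normal `p`-complement can be tested on any given Sylow `p`-subgroup. -/
theorem hasNormalPComplement_iff {G : Type*} [Group G] [Finite G] {p : ℕ}
    [Fact p.Prime] (P : Sylow p G) :
    HasNormalPComplement p G ↔ ∃ N : Subgroup G, N.Normal ∧ N.IsComplement' (P : Subgroup G) := by
  constructor
  · rintro ⟨Q, N, hN, hc⟩
    exact ⟨N, hN, isComplement'_sylow_of_isComplement'_sylow P Q N hc⟩
  · rintro ⟨N, hN, hc⟩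
    exact ⟨P, N, hN, hc⟩

/-- Burnside's transfer theorem in the vocabulary of `HasNormalPComplement`. -/
theorem hasNormalPComplement_of_normalizer_le_centralizer {G : Type*} [Group G] [Finite G] {p : ℕ}
    [Fact p.Prime] (P : Sylow p G)
    (hP : Subgroup.normalizer (P : Set G) ≤ Subgroup.centralizer (P : Set G)) :
    HasNormalPComplement p G :=
  ⟨P, (MonoidHom.transferSylow P hP).ker, inferInstance,
    MonoidHom.ker_transferSylow_isComplement' P hP⟩

end Cfsg.Agent.Lib.Helper03
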