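import Mathlib.GroupTheory.Sylow
import Mathlib.GroupTheory.PGroup

set_option autoImplicit false

namespace Cfsg.Agent.Lib.Helper03

open scoped Pointwise

/-- Membership in a conjugate Sylow subgroup. -/
theorem mem_smul_sylow_iff' {G : Type*} [Group G] {p : ℕ} (P : Sylow p G) (g x : G) :
    x ∈ ((g • P : Sylow p G) : Subgroup G) ↔ g⁻¹ * x * g ∈ (P : Subgroup G) := by
  rw [Sylow.coe_subgroup_smul, Subgroup.mem_pointwise_smul_iff_inv_smul_mem]
  simp [MulAut.smul_def]

/-- A central element of `p`-power order lies in every Sylow `p`-subgroup. -/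
theorem mem_sylow_of_mem_center_of_orderOf_eq_prime_pow {G : Type*} [Group G] [Finite G] {p : ℕ}
    [Fact p.Prime] (P : Sylow p G) (z : G) (hz : z ∈ Subgroup.center G) (k : ℕ)
    (hk : orderOf z = p ^ k) : z ∈ (P : Subgroup G) := by
  have hpg : IsPGroup p (Subgroup.zpowers z) := by
    apply IsPGroup.of_card (n := k)
    rw [Nat.card_zpowers, hk]
  obtain ⟨Q, hQ⟩ := hpg.exists_le_sylow
  obtain ⟨g, rfl⟩ := MulAction.exists_smul_eq G P Q
  have h1 := (mem_smul_sylow_iff' P g z).mp (hQ (Subgroup.mem_zpowers z))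
  have h2 : g⁻¹ * z * g = z := by
    rw [mul_assoc, ← Subgroup.mem_center_iff.mp hz g, ← mul_assoc, inv_mul_cancel, one_mul]
  rwa [h2] at h1

end Cfsg.Agent.Lib.Helper03
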