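import Mathlib.GroupTheory.Sylow
import Mathlib.GroupTheory.Focal
import Mathlib.GroupTheory.Transfer
import Mathlib.GroupTheory.Nilpotent
import Mathlib.GroupTheory.Solvable
import Mathlib.GroupTheory.SpecificGroups.Cyclic
import Cfsg.Agent.Lib.Helper03.SylowBasic
import Cfsg.Agent.S0086

set_option autoImplicit false

namespace Cfsg.Agent.Lib.Helper03

open scoped commutatorElement Pointwise

universe u

/-- `P` controls its own fusion in `G`. -/
def ControlsOwnFusion {G : Type*} [Group G] (P : Subgroup G) : Prop :=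
  ∀ x ∈ P, ∀ y ∈ P, (∃ g : G, g * x * g⁻¹ = y) → ∃ z ∈ P, z * x * z⁻¹ = y

/-- Under control of fusion, the focal subgroup of a Sylow subgroup is its derived subgroup. -/
theorem focalSubgroup_le_commutator_of_controlsOwnFusion {G : Type*} [Group G]
    (P : Subgroup G) (h : ControlsOwnFusion P) : P.focalSubgroup ≤ ⁅P, P⁆ := by
  rw [Subgroup.focalSubgroup_def, Subgroup.closure_le]
  rintro g ⟨hgP, x, hxP, u, rfl⟩
  have hy : u * x⁻¹ * u⁻¹ ∈ P := by
    have : u * x⁻¹ * u⁻¹ = x⁻¹ * ⁅x, u⁆ := by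
      rw [commutatorElement_def]; group
    rw [this]
    exact mul_mem (inv_mem hxP) hgP
  obtain ⟨z, hzP, hz⟩ := h x⁻¹ (inv_mem hxP) _ hy ⟨u, rfl⟩
  have : ⁅x, u⁆ = ⁅x, z⁆ := by
    rw [commutatorElement_def, commutatorElement_def]
    calc x * u * x⁻¹ * u⁻¹ = x * (u * x⁻¹ * u⁻¹) := by group
      _ = x * (z * x⁻¹ * z⁻¹) := by rw [hz]
      _ = x * z * x⁻¹ * z⁻¹ := by group
  rw [SetLike.mem_coe, this]
  exact Subgroup.commutator_mem_commutator hxP hzP

/-- Under control of fusion, `C_P(x)` is a Sylow `p`-subgroup of `C_G(x)` for every `x ∈ P`. -/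
theorem not_dvd_relIndex_centralizer_of_controlsOwnFusion {G : Type*} [Group G] [Finite G]
    {p : ℕ} [Fact p.Prime] (P : Sylow p G) (h : ControlsOwnFusion (P : Subgroup G))
    (x : G) (hx : x ∈ (P : Subgroup G)) :
    ¬ p ∣ ((P : Subgroup G) ⊓ Subgroup.centralizer {x}).relIndex (Subgroup.centralizer {x}) := by
  set Cx : Subgroup G := Subgroup.centralizer {x} with hCx
  have hxC : x ∈ Cx := by
    rw [hCx, Subgroup.mem_centralizer_iff]
    intro y hy
    rw [Set.mem_singleton_iff.mp hy]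
  -- a Sylow subgroup of `C_G(x)`
  let S : Sylow p Cx := default
  -- `x` lies in it
  have hxcenter : (⟨x, hxC⟩ : Cx) ∈ Subgroup.center Cx := by
    rw [Subgroup.mem_center_iff]
    intro g
    apply Subtype.ext
    have := (Subgroup.mem_centralizer_iff.mp g.2) x (Set.mem_singleton x)
    exact this.symm
  obtain ⟨k, hk⟩ := (IsPGroup.iff_orderOf.mp P.2) ⟨x, hx⟩
  have hordx : orderOf (⟨x, hxC⟩ : Cx) = p ^ k := by
    rw [← hk, ← Subgroup.orderOf_coe, ← Subgroup.orderOf_coe (⟨x, hx⟩ : (P : Subgroup G))]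
  have hxS : (⟨x, hxC⟩ : Cx) ∈ (S : Subgroup Cx) :=
    mem_sylow_of_mem_center_of_orderOf_eq_prime_pow S _ hxcenter k hordx
  -- the image of `S` in `G` lies in a conjugate of `P`
  have hS' : IsPGroup p ((S : Subgroup Cx).map Cx.subtype) := S.2.map _
  obtain ⟨P', hP'⟩ := hS'.exists_le_sylow
  obtain ⟨g, rfl⟩ := MulAction.exists_smul_eq G P P'
  have hconj : ∀ s : Cx, s ∈ (S : Subgroup Cx) → g⁻¹ * (s : G) * g ∈ (P : Subgroup G) := by
    intro s hs
    exact (mem_smul_sylow_iff' P g s).mp (hP' ⟨s, hs, rfl⟩)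
  have hxg : g⁻¹ * x * g ∈ (P : Subgroup G) := hconj ⟨x, hxC⟩ hxS
  obtain ⟨v, hvP, hv⟩ := h x hx _ hxg ⟨g⁻¹, by rw [inv_inv]⟩
  -- `w = g * v` centralizes `x`
  have hwx : (g * v) * x * (g * v)⁻¹ = x := by
    calc (g * v) * x * (g * v)⁻¹ = g * (v * x * v⁻¹) * g⁻¹ := by group
      _ = g * (g⁻¹ * x * g) * g⁻¹ := by rw [hv]
      _ = x := by group
  have hwC : g * v ∈ Cx := by
    rw [hCx, Subgroup.mem_centralizer_iff]
    intro y hy
    rw [Set.mem_singleton_iff.mp hy]
    have := congrArg (· * (g * v)) hwx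
    simpa [mul_assoc] using this.symm
  set w : Cx := ⟨g * v, hwC⟩ with hw
  -- `w⁻¹ • S ≤ (P ⊓ Cx).subgroupOf Cx`
  have hle : ((w⁻¹ • S : Sylow p Cx) : Subgroup Cx) ≤ ((P : Subgroup G) ⊓ Cx).subgroupOf Cx := by
    intro s hs
    rw [mem_smul_sylow_iff'] at hs
    rw [Subgroup.mem_subgroupOf]
    refine Subgroup.mem_inf.mpr ⟨?_, s.2⟩
    have h1 := hconj _ hs
    simp only [inv_inv, Subgroup.coe_mul, Subgroup.coe_inv, hw] at h1
    have h2 : (s : G) = v⁻¹ * (g⁻¹ * ((g * v) * (s : G) * (g * v)⁻¹) * g) * v := by group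
    rw [h2]
    exact mul_mem (mul_mem (inv_mem hvP) h1) hvP
  have hpg : IsPGroup p (((P : Subgroup G) ⊓ Cx).subgroupOf Cx) := by
    have : IsPGroup p ((P : Subgroup G) ⊓ Cx : Subgroup G) := P.2.to_le inf_le_left
    exact this.comap_subtype
  have heq := (w⁻¹ • S : Sylow p Cx).is_maximal' hpg hle
  show ¬ p ∣ (((P : Subgroup G) ⊓ Cx).subgroupOf Cx).index
  rw [heq]
  exact Sylow.not_dvd_index _

/-- Control of fusion passes to a normal subgroup of index `p`. -/
theorem controlsOwnFusion_inf_of_normal_index_prime {G : Type*} [Group G] [Finite G]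
    {p : ℕ} [Fact p.Prime] (P : Sylow p G) (h : ControlsOwnFusion (P : Subgroup G))
    (M : Subgroup G) [hMn : M.Normal] (hM : M.index = p) :
    ∀ x ∈ (P : Subgroup G) ⊓ M, ∀ y ∈ (P : Subgroup G) ⊓ M,
      (∃ m ∈ M, m * x * m⁻¹ = y) → ∃ z ∈ (P : Subgroup G) ⊓ M, z * x * z⁻¹ = y := by
  have hp : p.Prime := Fact.out
  intro x hx y hy ⟨m, hmM, hm⟩
  obtain ⟨hxP, hxM⟩ := Subgroup.mem_inf.mp hx
  obtain ⟨hyP, hyM⟩ := Subgroup.mem_inf.mp hy
  obtain ⟨u, huP, hu⟩ := h x hxP y hyP ⟨m, hm⟩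
  by_cases huM : u ∈ M
  · exact ⟨u, Subgroup.mem_inf.mpr ⟨huP, huM⟩, hu⟩
  set Cx : Subgroup G := Subgroup.centralizer {x} with hCx
  have hmemC : ∀ c : G, c ∈ Cx ↔ c * x = x * c := by
    intro c
    rw [hCx, Subgroup.mem_centralizer_iff]
    constructor
    · intro hc; exact (hc x (Set.mem_singleton x)).symm
    · intro hc y hy; rw [Set.mem_singleton_iff.mp hy]; exact hc.symm
  have hcC : u⁻¹ * m ∈ Cx := by
    rw [hmemC]
    have h1 : u⁻¹ * m * x * (u⁻¹ * m)⁻¹ = x := by
      calc u⁻¹ * m * x * (u⁻¹ * m)⁻¹ = u⁻¹ * (m * x * m⁻¹) * u := by group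
        _ = u⁻¹ * (u * x * u⁻¹) * u := by rw [hm, hu]
        _ = x := by group
    have := congrArg (· * (u⁻¹ * m)) h1
    simpa [mul_assoc] using this
  have hcM : u⁻¹ * m ∉ M := by
    intro hc
    apply huM
    have : u = m * (u⁻¹ * m)⁻¹ := by group
    rw [this]
    exact mul_mem hmM (inv_mem hc)
  have hCM : ¬ Cx ≤ M := fun hle => hcM (hle hcC)
  have hL1 := not_dvd_relIndex_centralizer_of_controlsOwnFusion P h x hxP
  -- an element of `C_P(x)` outside `M`
  have hex : ∃ c' ∈ (P : Subgroup G) ⊓ Cx, c' ∉ M := by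
    by_contra hcon
    push Not at hcon
    have hle : (P : Subgroup G) ⊓ Cx ≤ M ⊓ Cx := fun c hc =>
      Subgroup.mem_inf.mpr ⟨hcon c hc, (Subgroup.mem_inf.mp hc).2⟩
    have h1 : (M ⊓ Cx).relIndex Cx ∣ ((P : Subgroup G) ⊓ Cx).relIndex Cx :=
      Subgroup.relIndex_dvd_of_le_left Cx hle
    rw [Subgroup.inf_relIndex_right] at h1
    have h2 : M.relIndex Cx ∣ p := hM ▸ Subgroup.relIndex_dvd_index_of_normal M Cx
    rcases (Nat.dvd_prime hp).mp h2 with h3 | h3
    · exact hCM (Subgroup.relIndex_eq_one.mp h3)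
    · exact hL1 (h3 ▸ h1)
  obtain ⟨c', hc', hc'M⟩ := hex
  obtain ⟨hc'P, hc'C⟩ := Subgroup.mem_inf.mp hc'
  have hcard : Nat.card (G ⧸ M) = p := hM
  have hc'1 : (QuotientGroup.mk c' : G ⧸ M) ≠ 1 := fun h1 => hc'M ((QuotientGroup.eq_one_iff c').mp h1)
  obtain ⟨i, hi⟩ := mem_powers_of_prime_card (g' := (QuotientGroup.mk u : G ⧸ M)) hcard hc'1
  have hi' : (QuotientGroup.mk c' : G ⧸ M) ^ i = QuotientGroup.mk u := hi
  refine ⟨u * (c' ^ i)⁻¹, Subgroup.mem_inf.mpr ⟨mul_mem huP (inv_mem (pow_mem hc'P i)), ?_⟩, ?_⟩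
  · rw [← QuotientGroup.eq_one_iff, QuotientGroup.mk_mul, QuotientGroup.mk_inv, QuotientGroup.mk_pow,
      hi', mul_inv_cancel]
  · have hcx : c' ^ i * x = x * c' ^ i := by
      have : c' ^ i ∈ Cx := pow_mem hc'C i
      exact (hmemC _).mp this
    calc u * (c' ^ i)⁻¹ * x * (u * (c' ^ i)⁻¹)⁻¹ = u * ((c' ^ i)⁻¹ * (x * c' ^ i)) * u⁻¹ := by group
      _ = u * ((c' ^ i)⁻¹ * (c' ^ i * x)) * u⁻¹ := by rw [hcx]
      _ = u * x * u⁻¹ := by group
      _ = y := hu

/-- A subgroup of order prime to `p` and `p`-power index is a complement of every Sylow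
`p`-subgroup. -/
theorem isComplement'_sylow_of_not_dvd_card_of_index_eq_pow {G : Type*} [Group G] [Finite G]
    {p : ℕ} [Fact p.Prime] (P : Sylow p G) (N : Subgroup G) (hN : ¬ p ∣ Nat.card N) (a : ℕ)
    (hidx : N.index = p ^ a) : N.IsComplement' (P : Subgroup G) := by
  have hp : p.Prime := Fact.out
  have hcardG : Nat.card G = Nat.card N * p ^ a := by rw [← hidx, N.card_mul_index]
  have hNpos : Nat.card N ≠ 0 := Nat.card_pos.ne'
  have hfac : (Nat.card G).factorization p = a := by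
    rw [hcardG, Nat.factorization_mul hNpos (pow_pos hp.pos a).ne', Finsupp.add_apply,
      Nat.factorization_eq_zero_of_not_dvd hN, zero_add, hp.factorization_pow,
      Finsupp.single_eq_same]
  have hcardP : Nat.card (P : Subgroup G) = p ^ a := by
    rw [Sylow.card_eq_multiplicity, hfac]
  apply Subgroup.isComplement'_of_coprime
  · rw [hcardP, hcardG]
  · rw [hcardP]
    exact Nat.Coprime.pow_right a (Nat.Coprime.symm ((Nat.Prime.coprime_iff_not_dvd hp).mpr hN))

/-- For a normal subgroup `M`, `|M : P ∩ M|` divides `|G : P|`. -/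
theorem relIndex_dvd_index_of_normal_right {G : Type*} [Group G] [Finite G]
    (P M : Subgroup G) [M.Normal] : P.relIndex M ∣ P.index := by
  have h1 : (P ⊓ M).relIndex P * P.relIndex (P ⊔ M) = (P ⊓ M).relIndex (P ⊔ M) :=
    Subgroup.relIndex_mul_relIndex _ _ _ inf_le_left le_sup_left
  have h2 : (P ⊓ M).relIndex M * M.relIndex (P ⊔ M) = (P ⊓ M).relIndex (P ⊔ M) :=
    Subgroup.relIndex_mul_relIndex _ _ _ inf_le_right le_sup_right
  have h3 : M.relIndex (P ⊔ M) = (P ⊓ M).relIndex P := by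
    rw [Subgroup.relIndex_sup_right, inf_comm, Subgroup.inf_relIndex_right]
  have h4 : (P ⊓ M).relIndex M = P.relIndex M := Subgroup.inf_relIndex_right P M
  rw [h3, h4] at h2
  have hpos : 0 < (P ⊓ M).relIndex P := by
    apply Nat.pos_of_ne_zero
    show ((P ⊓ M).subgroupOf P).index ≠ 0
    exact Subgroup.index_ne_zero_of_finite
  have h5 : P.relIndex (P ⊔ M) = P.relIndex M := by
    have : (P ⊓ M).relIndex P * P.relIndex (P ⊔ M) = (P ⊓ M).relIndex P * P.relIndex M := by
      rw [h1, ← h2, mul_comm]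
    exact Nat.eq_of_mul_eq_mul_left hpos this
  rw [← h5]
  exact Subgroup.relIndex_dvd_index_of_le le_sup_left

open scoped IsMulCommutative in
/-- **Frobenius**: a Sylow `p`-subgroup that controls its own fusion has a normal complement
(induction on the order of the group). -/
theorem exists_normal_complement_of_controlsOwnFusion_aux (n : ℕ) :
    ∀ {G : Type u} [Group G] [Finite G], Nat.card G = n → ∀ {p : ℕ} [Fact p.Prime]
      (P : Sylow p G), ControlsOwnFusion (P : Subgroup G) →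
      ∃ N : Subgroup G, N.Normal ∧ N.IsComplement' (P : Subgroup G) := by
  induction n using Nat.strong_induction_on with
  | _ n ih =>
    intro G _ _ hn p _ P h
    have hp : p.Prime := Fact.out
    by_cases hbot : (P : Subgroup G) = ⊥
    · exact ⟨⊤, inferInstance, by rw [hbot]; exact Subgroup.isComplement'_top_bot⟩
    have hfoc : (P : Subgroup G).focalSubgroup ≤ ⁅(P : Subgroup G), (P : Subgroup G)⁆ :=
      focalSubgroup_le_commutator_of_controlsOwnFusion _ h
    have hnt : Nontrivial (P : Subgroup G) := (Subgroup.nontrivial_iff_ne_bot _).mpr hbot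
    have hnil : Group.IsNilpotent (P : Subgroup G) := P.2.isNilpotent
    have hlt : commutator (P : Subgroup G) < ⊤ :=
      Group.IsSolvable.commutator_lt_top_of_nontrivial _
    have hfocOf : (P : Subgroup G).focalSubgroupOf ≤ commutator (P : Subgroup G) := by
      intro x hx
      rw [Subgroup.focalSubgroupOf_def, Subgroup.mem_subgroupOf] at hx
      have h1 := hfoc hx
      rw [← Subgroup.map_subtype_commutator] at h1
      obtain ⟨y, hy, hyx⟩ := h1
      rwa [← Subtype.ext hyx]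
    have hfocne : (P : Subgroup G).focalSubgroupOf ≠ ⊤ := fun h1 =>
      hlt.ne (top_le_iff.mp (h1 ▸ hfocOf))
    have hQp : IsPGroup p ((P : Subgroup G) ⧸ (P : Subgroup G).focalSubgroupOf) :=
      P.2.to_quotient _
    have hQnt : Nontrivial ((P : Subgroup G) ⧸ (P : Subgroup G).focalSubgroupOf) := by
      rw [← not_subsingleton_iff_nontrivial]
      intro hs
      exact hfocne (QuotientGroup.subgroup_eq_top_of_subsingleton _ hs)
    obtain ⟨k, hk0, hk⟩ := hQp.nontrivial_iff_card.mp hQnt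
    obtain ⟨Q₁, hQ₁⟩ := Sylow.exists_subgroup_card_pow_prime p (n := k - 1)
      (G := (P : Subgroup G) ⧸ (P : Subgroup G).focalSubgroupOf)
      (by rw [hk]; exact pow_dvd_pow p (Nat.sub_le k 1))
    have hQ₁idx : Q₁.index = p := by
      have h1 := Q₁.card_mul_index
      rw [hQ₁, hk] at h1
      have hk' : p ^ k = p ^ (k - 1) * p := by rw [← pow_succ, Nat.sub_add_cancel hk0]
      rw [hk'] at h1
      exact Nat.eq_of_mul_eq_mul_left (pow_pos hp.pos _) h1
    have hτ : Function.Surjective (P : Subgroup G).transferFocal :=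
      Subgroup.transferFocal_surjective P
    have hQ₁n : Q₁.Normal := Subgroup.normal_of_isMulCommutative _
    set M := Q₁.comap (P : Subgroup G).transferFocal with hMdef
    have hMn : M.Normal := hQ₁n.comap _
    have hMidx : M.index = p := by
      rw [hMdef, Subgroup.index_comap_of_surjective Q₁ hτ, hQ₁idx]
    -- the Sylow subgroup of `M`
    have hpg : IsPGroup p ((P : Subgroup G).subgroupOf M) := P.2.comap_subtype
    have hnd : ¬ p ∣ ((P : Subgroup G).subgroupOf M).index := by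
      intro hd
      exact P.not_dvd_index (dvd_trans hd (relIndex_dvd_index_of_normal_right (P : Subgroup G) M))
    let P₁ : Sylow p M := hpg.toSylow hnd
    have hP₁ : (P₁ : Subgroup M) = (P : Subgroup G).subgroupOf M := rfl
    -- control of fusion in `M`
    have hL2 := controlsOwnFusion_inf_of_normal_index_prime P h M hMidx
    have hctrl : ControlsOwnFusion (P₁ : Subgroup M) := by
      intro x hx y hy ⟨m, hm⟩
      rw [hP₁, Subgroup.mem_subgroupOf] at hx hy
      obtain ⟨z, hz, hzx⟩ := hL2 x (Subgroup.mem_inf.mpr ⟨hx, x.2⟩) y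
        (Subgroup.mem_inf.mpr ⟨hy, y.2⟩) ⟨m, m.2, by
          have := congrArg Subtype.val hm
          simpa using this⟩
      obtain ⟨hzP, hzM⟩ := Subgroup.mem_inf.mp hz
      refine ⟨⟨z, hzM⟩, ?_, ?_⟩
      · rw [hP₁, Subgroup.mem_subgroupOf]; exact hzP
      · apply Subtype.ext
        simpa using hzx
    -- induction
    have hcardM : Nat.card M < n := by
      have h1 := M.card_mul_index
      rw [hMidx, hn] at h1
      have hpos : 0 < Nat.card M := Nat.card_pos
      have : Nat.card M * 2 ≤ Nat.card M * p := Nat.mul_le_mul_left _ hp.two_le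
      omega
    obtain ⟨K', hK'n, hK'c⟩ := ih (Nat.card M) hcardM rfl P₁ hctrl
    have hK'mem : ∀ x : M, x ∈ K' ↔ Nat.Coprime (orderOf x) p :=
      fun x => Cfsg.Agent.S0086.result P₁ K' hK'c x
    -- the complement in `G`
    refine ⟨K'.map M.subtype, ?_, ?_⟩
    · constructor
      rintro _ ⟨k', hk', rfl⟩ g
      have hmem : g * (k' : G) * g⁻¹ ∈ M := hMn.conj_mem _ k'.2 g
      refine ⟨⟨g * (k' : G) * g⁻¹, hmem⟩, ?_, rfl⟩
      show (⟨g * (k' : G) * g⁻¹, hmem⟩ : M) ∈ K'
      rw [hK'mem]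
      have h1 : orderOf (⟨g * (k' : G) * g⁻¹, hmem⟩ : M) = orderOf k' := by
        rw [← Subgroup.orderOf_coe, ← Subgroup.orderOf_coe k']
        have : g * (k' : G) * g⁻¹ = MulAut.conj g (k' : G) := by simp [MulAut.conj_apply]
        rw [Subgroup.coe_mk, this, MulEquiv.orderOf_eq]
      rw [h1]
      exact (hK'mem k').mp hk'
    · have hcardK : Nat.card (K'.map M.subtype) = Nat.card K' :=
        Nat.card_congr (K'.equivMapOfInjective _ M.subtype_injective).toEquiv.symm
      have hK'idx : K'.index = Nat.card (P₁ : Subgroup M) := hK'c.symm.index_eq_card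
      obtain ⟨a, ha⟩ := P₁.2.exists_card_eq
      have hK'card : ¬ p ∣ Nat.card K' := by
        have := hK'c.index_eq_card
        rw [← this]
        exact P₁.not_dvd_index
      apply isComplement'_sylow_of_not_dvd_card_of_index_eq_pow P _ (by rw [hcardK]; exact hK'card)
        (a + 1)
      -- index of the image
      have h1 : Nat.card (K'.map M.subtype) * (K'.map M.subtype).index = Nat.card G :=
        Subgroup.card_mul_index _
      have h2 : Nat.card K' * K'.index = Nat.card M := Subgroup.card_mul_index _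
      have h3 : Nat.card M * M.index = Nat.card G := Subgroup.card_mul_index _
      rw [hcardK, ← h3, ← h2, hK'idx, ha, hMidx, mul_assoc, ← pow_succ] at h1
      exact Nat.eq_of_mul_eq_mul_left Nat.card_pos h1

/-- **Frobenius**: a Sylow `p`-subgroup that controls its own fusion has a normal complement. -/
theorem exists_normal_complement_of_controlsOwnFusion {G : Type u} [Group G] [Finite G]
    {p : ℕ} [Fact p.Prime] (P : Sylow p G) (h : ControlsOwnFusion (P : Subgroup G)) :
    ∃ N : Subgroup G, N.Normal ∧ N.IsComplement' (P : Subgroup G) :=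
  exists_normal_complement_of_controlsOwnFusion_aux (Nat.card G) rfl P h

end Cfsg.Agent.Lib.Helper03
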