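import Mathlib.GroupTheory.SpecificGroups.Cyclic
import Mathlib.GroupTheory.PGroup
import Mathlib.GroupTheory.Perm.Cycle.Type

set_option autoImplicit false

namespace Cfsg.Agent.Lib.Helper03

/-- In a finite cyclic group, any element with `z ^ p = 1` is a power of any element of
order `p`. -/
theorem mem_zpowers_of_pow_eq_one_of_isCyclic {P : Type*} [Group P] [Finite P] [IsCyclic P]
    {p : ℕ} (hp : 0 < p) (d z : P) (hd : orderOf d = p) (hz : z ^ p = 1) :
    z ∈ Subgroup.zpowers d := by
  classical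
  have : Fintype P := Fintype.ofFinite P
  have h1 : (Finset.univ.filter (fun a : P => a ^ p = 1)).card ≤ p :=
    IsCyclic.card_pow_eq_one_le hp
  let T : Finset P := (Finset.range p).image (fun i => d ^ i)
  have hTcard : T.card = p := by
    rw [Finset.card_image_of_injOn, Finset.card_range]
    intro i hi j hj hij
    apply pow_injOn_Iio_orderOf (x := d)
    · simpa [hd] using hi
    · simpa [hd] using hj
    · exact hij
  have hTS : T ⊆ Finset.univ.filter (fun a : P => a ^ p = 1) := by
    intro y hy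
    obtain ⟨i, -, rfl⟩ := Finset.mem_image.mp hy
    rw [Finset.mem_filter]
    refine ⟨Finset.mem_univ _, ?_⟩
    rw [← pow_mul, mul_comm, pow_mul, ← hd, pow_orderOf_eq_one, one_pow]
  have hEq : T = Finset.univ.filter (fun a : P => a ^ p = 1) :=
    Finset.eq_of_subset_of_card_le hTS (by rw [hTcard]; exact h1)
  have hzT : z ∈ T := by
    rw [hEq, Finset.mem_filter]; exact ⟨Finset.mem_univ _, hz⟩
  obtain ⟨i, -, rfl⟩ := Finset.mem_image.mp hzT
  exact Subgroup.npow_mem_zpowers d i

/-- Two subgroups of a finite cyclic `p`-group that meet trivially: one of them is trivial. -/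
theorem eq_bot_or_eq_bot_of_inf_eq_bot_of_isCyclic {P : Type*} [Group P] [Finite P]
    [IsCyclic P] {p : ℕ} [Fact p.Prime] (hP : IsPGroup p P) (D Z : Subgroup P)
    (h : D ⊓ Z = ⊥) : D = ⊥ ∨ Z = ⊥ := by
  have hp : p.Prime := Fact.out
  by_contra hcon
  push Not at hcon
  obtain ⟨hD, hZ⟩ := hcon
  have hDp : p ∣ Nat.card D := by
    rcases (hP.to_subgroup D).card_eq_or_dvd with h1 | h1
    · exact absurd (Subgroup.card_eq_one.mp h1) hD
    · exact h1
  have hZp : p ∣ Nat.card Z := by
    rcases (hP.to_subgroup Z).card_eq_or_dvd with h1 | h1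
    · exact absurd (Subgroup.card_eq_one.mp h1) hZ
    · exact h1
  obtain ⟨d, hd⟩ := exists_prime_orderOf_dvd_card' p hDp
  obtain ⟨z, hz⟩ := exists_prime_orderOf_dvd_card' p hZp
  have hd' : orderOf (d : P) = p := by rw [Subgroup.orderOf_coe, hd]
  have hz' : orderOf (z : P) = p := by rw [Subgroup.orderOf_coe, hz]
  have hzp : (z : P) ^ p = 1 := by rw [← hz']; exact pow_orderOf_eq_one _
  have hmem : (z : P) ∈ Subgroup.zpowers (d : P) :=
    mem_zpowers_of_pow_eq_one_of_isCyclic hp.pos (d : P) (z : P) hd' hzp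
  have hzD : (z : P) ∈ D := (Subgroup.zpowers_le.mpr d.2) hmem
  have : (z : P) ∈ D ⊓ Z := Subgroup.mem_inf.mpr ⟨hzD, z.2⟩
  rw [h, Subgroup.mem_bot] at this
  rw [this, orderOf_one] at hz'
  exact hp.one_lt.ne hz'

end Cfsg.Agent.Lib.Helper03
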