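import Mathlib.GroupTheory.PGroup
import Mathlib.GroupTheory.GroupAction.ConjAct
import Mathlib.GroupTheory.Frattini
import Mathlib.GroupTheory.FiniteAbelian.Duality
import Mathlib.RingTheory.RootsOfUnity.AlgebraicallyClosed
import Mathlib.Analysis.Complex.Polynomial.Basic
import Mathlib.RingTheory.IntegralDomain
import Mathlib.GroupTheory.SpecificGroups.Cyclic
import Cfsg.Agent.Lib.Helper03.PGroupFrattini

set_option autoImplicit false

namespace Cfsg.Agent.Lib.Helper03

open scoped commutatorElement

/-- A nontrivial normal subgroup of a finite `p`-group meets the centre nontrivially. -/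
theorem exists_mem_center_of_normal_ne_bot {P : Type*} [Group P] [Finite P] {p : ℕ}
    [Fact p.Prime] (hP : IsPGroup p P) (N : Subgroup P) [N.Normal] (hN : N ≠ ⊥) :
    ∃ z ∈ N, z ∈ Subgroup.center P ∧ z ≠ 1 := by
  have hNp : IsPGroup p N := hP.to_subgroup N
  have hdvd : p ∣ Nat.card N := by
    rcases hNp.card_eq_or_dvd with h1 | h1
    · exact absurd (Subgroup.card_eq_one.mp h1) hN
    · exact h1
  have h1 : (1 : N) ∈ MulAction.fixedPoints (ConjAct P) N := by
    intro g
    exact smul_one g
  obtain ⟨b, hb, hb1⟩ :=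
    (hP.of_equiv ConjAct.toConjAct).exists_fixed_point_of_prime_dvd_card_of_fixed_point N hdvd h1
  refine ⟨b, b.2, ?_, fun h => hb1 (Subtype.ext h.symm)⟩
  rw [Subgroup.mem_center_iff]
  intro g
  have := hb (ConjAct.toConjAct g)
  have h2 := congrArg Subtype.val this
  rw [ConjAct.Subgroup.val_conj_smul, ConjAct.toConjAct_smul] at h2
  calc g * (b : P) = (g * b * g⁻¹) * g := by group
    _ = b * g := by rw [h2]

/-- A subgroup of prime index is a maximal subgroup. -/
theorem isCoatom_of_index_eq_prime {H : Type*} [Group H] [Finite H] {p : ℕ} (hp : p.Prime)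
    (M : Subgroup H) (hM : M.index = p) : IsCoatom M := by
  constructor
  · intro h
    rw [h, Subgroup.index_top] at hM
    exact hp.one_lt.ne hM
  · intro L hL
    have h1 : L.index ∣ p := hM ▸ Subgroup.index_dvd_of_le hL.le
    rcases (Nat.dvd_prime hp).mp h1 with h | h
    · exact Subgroup.index_eq_one.mp h
    · exfalso
      have h2 : M.relIndex L * L.index = M.index := Subgroup.relIndex_mul_index hL.le
      rw [h, hM] at h2
      have h3 : M.relIndex L = 1 := by
        have hp0 : 0 < p := hp.pos
        exact Nat.eq_of_mul_eq_mul_right hp0 (by rw [h2, one_mul])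
      exact hL.not_ge (Subgroup.relIndex_eq_one.mp h3)

/-- If `H / A` is elementary abelian then the Frattini subgroup of `H` lies in `A`. -/
theorem frattini_le_of_elementary_abelian_quotient {H : Type*} [Group H] [Finite H] {p : ℕ}
    [Fact p.Prime] (A : Subgroup H) [A.Normal] (hpow : ∀ x : H, x ^ p ∈ A)
    (hcomm : commutator H ≤ A) : frattini H ≤ A := by
  have hp : p.Prime := Fact.out
  intro x hx
  by_contra hxA
  -- the quotient as a commutative group
  let _ : CommGroup (H ⧸ A) :=
    { (inferInstance : Group (H ⧸ A)) with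
      mul_comm := by
        intro a b
        obtain ⟨a, rfl⟩ := QuotientGroup.mk_surjective a
        obtain ⟨b, rfl⟩ := QuotientGroup.mk_surjective b
        rw [← QuotientGroup.mk_mul, ← QuotientGroup.mk_mul, QuotientGroup.eq]
        have : (a * b)⁻¹ * (b * a) = ⁅b⁻¹, a⁻¹⁆ := by rw [commutatorElement_def]; group
        rw [this]
        exact hcomm (Subgroup.commutator_mem_commutator (Subgroup.mem_top _) (Subgroup.mem_top _)) }
  have hx1 : (QuotientGroup.mk x : H ⧸ A) ≠ 1 := by
    intro h
    exact hxA ((QuotientGroup.eq_one_iff x).mp h)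
  have hne : NeZero (Monoid.exponent (H ⧸ A)) := ⟨Monoid.exponent_ne_zero_of_finite⟩
  obtain ⟨φ, hφ⟩ := CommGroup.exists_apply_ne_one_of_hasEnoughRootsOfUnity (H ⧸ A) ℂ hx1
  let ψ : H →* ℂˣ := φ.comp (QuotientGroup.mk' A)
  have hψx : ψ x ≠ 1 := hφ
  have hψp : ∀ h : H, ψ h ^ p = 1 := by
    intro h
    rw [← map_pow]
    show φ (QuotientGroup.mk' A (h ^ p)) = 1
    have h1 : QuotientGroup.mk' A (h ^ p) = 1 := (QuotientGroup.eq_one_iff (h ^ p)).mpr (hpow h)
    rw [h1, map_one]
  have hfin : Finite ψ.range := Finite.of_surjective ψ.rangeRestrict ψ.rangeRestrict_surjective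
  have hcyc : IsCyclic ψ.range := inferInstance
  have hexp : Monoid.exponent ψ.range ∣ p := by
    apply Monoid.exponent_dvd_of_forall_pow_eq_one
    rintro ⟨_, h, rfl⟩
    apply Subtype.ext
    simpa using hψp h
  rw [IsCyclic.exponent_eq_card] at hexp
  have hcard : Nat.card ψ.range = p := by
    rcases (Nat.dvd_prime hp).mp hexp with h | h
    · exfalso
      have hbot : ψ.range = ⊥ := Subgroup.card_eq_one.mp h
      have : ψ x ∈ ψ.range := ⟨x, rfl⟩
      rw [hbot, Subgroup.mem_bot] at this
      exact hψx this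
    · exact h
  have hidx : ψ.ker.index = p := by rw [Subgroup.index_ker, hcard]
  have hco : IsCoatom ψ.ker := isCoatom_of_index_eq_prime hp _ hidx
  have : x ∈ ψ.ker := (mem_frattini_iff x).mp hx _ hco
  exact hψx this

end Cfsg.Agent.Lib.Helper03
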