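import Mathlib.GroupTheory.Nilpotent
import Mathlib.GroupTheory.PGroup
import Mathlib.Data.Nat.Choose.Dvd

set_option autoImplicit false

namespace Cfsg.Agent.Lib.Helper03

open scoped commutatorElement

/-- If `a * b = c * b * a` with `c` central then `a ^ n * b = c ^ n * b * a ^ n`. -/
theorem pow_mul_eq_of_central {P : Type*} [Group P] (a b c : P) (hc : c ∈ Subgroup.center P)
    (habc : a * b = c * b * a) (n : ℕ) : a ^ n * b = c ^ n * b * a ^ n := by
  rw [Subgroup.mem_center_iff] at hc
  induction n with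
  | zero => simp
  | succ n ih =>
    calc a ^ (n + 1) * b = a * (a ^ n * b) := by rw [pow_succ']; group
      _ = a * (c ^ n * b * a ^ n) := by rw [ih]
      _ = (a * c ^ n) * b * a ^ n := by group
      _ = (c ^ n * a) * b * a ^ n := by
        have : a * c ^ n = c ^ n * a := by
          have h1 : c ^ n ∈ Subgroup.center P := pow_mem (Subgroup.mem_center_iff.mpr hc) n
          exact (Subgroup.mem_center_iff.mp h1 a)
        rw [this]
      _ = c ^ n * (a * b) * a ^ n := by group
      _ = c ^ n * (c * b * a) * a ^ n := by rw [habc]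
      _ = c ^ (n + 1) * b * a ^ (n + 1) := by rw [pow_succ, pow_succ']; group

/-- The power of a product when the commutator is central. -/
theorem mul_pow_of_central_commutator {P : Type*} [Group P] (x y c : P)
    (hc : c ∈ Subgroup.center P) (hyx : y * x = c * x * y) (n : ℕ) :
    (x * y) ^ n = x ^ n * y ^ n * c ^ (n.choose 2) := by
  have hcc : ∀ (k : ℕ) (z : P), z * c ^ k = c ^ k * z := fun k z =>
    Subgroup.mem_center_iff.mp (pow_mem hc k) z
  induction n with
  | zero => simp
  | succ n ih =>
    have h1 := pow_mul_eq_of_central y x c hc hyx n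
    have hch : (n + 1).choose 2 = n + n.choose 2 := by
      rw [Nat.choose_succ_succ' n 1, Nat.choose_one_right]
    calc (x * y) ^ (n + 1) = (x * y) ^ n * (x * y) := pow_succ _ _
      _ = x ^ n * y ^ n * c ^ (n.choose 2) * (x * y) := by rw [ih]
      _ = x ^ n * (y ^ n * x) * y * c ^ (n.choose 2) := by
        rw [mul_assoc (x ^ n * y ^ n), ← hcc]; group
      _ = x ^ n * (c ^ n * x * y ^ n) * y * c ^ (n.choose 2) := by rw [h1]
      _ = (x ^ n * c ^ n) * (x * y ^ n * y) * c ^ (n.choose 2) := by group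
      _ = (c ^ n * x ^ n) * (x * y ^ n * y) * c ^ (n.choose 2) := by rw [hcc n (x ^ n)]
      _ = c ^ n * (x ^ n * x * (y ^ n * y)) * c ^ (n.choose 2) := by group
      _ = (x ^ n * x * (y ^ n * y)) * c ^ n * c ^ (n.choose 2) := by
        rw [hcc n (x ^ n * x * (y ^ n * y))]
      _ = x ^ n * x * (y ^ n * y) * (c ^ n * c ^ (n.choose 2)) := by rw [mul_assoc]
      _ = x ^ (n + 1) * y ^ (n + 1) * c ^ ((n + 1).choose 2) := by
        rw [← pow_succ, ← pow_succ, ← pow_add, hch]

/-- `⁅commutator P, ⊤⁆ = ⊥` says that all commutators are central. -/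
theorem commutatorElement_mem_center_of_class_two {P : Type*} [Group P]
    (h2 : ⁅commutator P, (⊤ : Subgroup P)⁆ = ⊥) (a b : P) : ⁅a, b⁆ ∈ Subgroup.center P := by
  rw [Subgroup.mem_center_iff]
  intro g
  have h1 : ⁅⁅a, b⁆, g⁆ ∈ ⁅commutator P, (⊤ : Subgroup P)⁆ :=
    Subgroup.commutator_mem_commutator
      (Subgroup.commutator_mem_commutator (Subgroup.mem_top a) (Subgroup.mem_top b))
      (Subgroup.mem_top g)
  rw [h2, Subgroup.mem_bot, commutatorElement_eq_one_iff_mul_comm] at h1
  exact h1.symm

/-- In a group of class at most two and for an odd prime `p`, the elements with `x ^ p = 1`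
are closed under multiplication. -/
theorem mul_pow_prime_eq_one_of_class_two {P : Type*} [Group P] {p : ℕ} (hp : p.Prime)
    (hp2 : p ≠ 2) (h2 : ⁅commutator P, (⊤ : Subgroup P)⁆ = ⊥) (x y : P) (hx : x ^ p = 1)
    (hy : y ^ p = 1) : (x * y) ^ p = 1 := by
  have hc : ⁅y, x⁆ ∈ Subgroup.center P := commutatorElement_mem_center_of_class_two h2 y x
  have hyx : y * x = ⁅y, x⁆ * x * y := by rw [commutatorElement_def]; group
  have h1 := pow_mul_eq_of_central y x ⁅y, x⁆ hc hyx p
  rw [hy, one_mul, mul_one] at h1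
  have hcp : ⁅y, x⁆ ^ p = 1 := mul_eq_right.mp h1.symm
  have hdvd : p ∣ p.choose 2 := by
    apply hp.dvd_choose_self (by norm_num)
    have := hp.two_le
    omega
  obtain ⟨k, hk⟩ := hdvd
  rw [mul_pow_of_central_commutator x y ⁅y, x⁆ hc hyx p, hx, hy, hk, pow_mul, hcp]
  simp

/-- In a group of class at most two and for an odd prime `p`, the subgroup generated by the
elements with `x ^ p = 1` has exponent dividing `p`. -/
theorem pow_prime_eq_one_of_mem_closure_of_class_two {P : Type*} [Group P] {p : ℕ}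
    (hp : p.Prime) (hp2 : p ≠ 2) (h2 : ⁅commutator P, (⊤ : Subgroup P)⁆ = ⊥) (g : P)
    (hg : g ∈ Subgroup.closure {x : P | x ^ p = 1}) : g ^ p = 1 := by
  induction hg using Subgroup.closure_induction with
  | mem x hx => exact hx
  | one => exact one_pow p
  | mul x y _ _ hx hy => exact mul_pow_prime_eq_one_of_class_two hp hp2 h2 x y hx hy
  | inv x _ hx => rw [inv_pow, hx, inv_one]

end Cfsg.Agent.Lib.Helper03
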