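import Cfsg.Agent.Lib.Helper03.FrobAct

/-!
# Frobenius–Wielandt fixed point formula, subgroup form
-/

set_option autoImplicit false

namespace Cfsg.Agent.Lib.Helper03.FrobSub

open Cfsg.Agent.Lib.Helper03.FrobAct

variable {X : Type*} [Group X]

/-- conjugation action of a subgroup `L` on a subgroup `H` it normalizes -/
def conjAct (L H : Subgroup X) (hLH : ∀ x ∈ L, ∀ h ∈ H, x * h * x⁻¹ ∈ H) : L →* MulAut H where
  toFun g :=
    { toFun := fun h => ⟨g * h * (g : X)⁻¹, hLH g g.2 h h.2⟩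
      invFun := fun h => ⟨(g : X)⁻¹ * h * g, by
        have := hLH (g : X)⁻¹ (L.inv_mem g.2) h h.2
        simpa using this⟩
      left_inv := fun h => Subtype.ext (by simp [mul_assoc])
      right_inv := fun h => Subtype.ext (by simp [mul_assoc])
      map_mul' := fun a b => Subtype.ext (by simp [mul_assoc]) }
  map_one' := by
    ext h
    simp
  map_mul' a b := by
    ext h
    simp [mul_assoc]

theorem conjAct_apply (L H : Subgroup X) (hLH : ∀ x ∈ L, ∀ h ∈ H, x * h * x⁻¹ ∈ H) (g : L)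
    (h : H) : ((conjAct L H hLH g h : H) : X) = g * h * (g : X)⁻¹ := rfl

theorem card_fixedPts_conjAct (L H : Subgroup X) (hLH : ∀ x ∈ L, ∀ h ∈ H, x * h * x⁻¹ ∈ H)
    (Y : Subgroup X) (hY : Y ≤ L) :
    Nat.card (fixedPts (conjAct L H hLH) (Y.subgroupOf L)) =
      Nat.card ↥(H ⊓ Subgroup.centralizer (Y : Set X)) := by
  apply Nat.card_congr
  refine ⟨fun h => ⟨(h.1 : X), ?_⟩, fun x => ⟨⟨(x : X), (Subgroup.mem_inf.mp x.2).1⟩, ?_⟩, fun h => rfl, fun x => rfl⟩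
  · refine Subgroup.mem_inf.mpr ⟨h.1.2, ?_⟩
    rw [Subgroup.mem_centralizer_iff]
    intro y hy
    have h1 := h.2 ⟨y, hY hy⟩ (Subgroup.mem_subgroupOf.mpr hy)
    have h2 : y * (h.1 : X) * y⁻¹ = h.1 := congrArg Subtype.val h1
    calc y * (h.1 : X) = y * (h.1 : X) * y⁻¹ * y := by group
      _ = (h.1 : X) * y := by rw [h2]
  · intro y hy
    apply Subtype.ext
    have h1 := (Subgroup.mem_inf.mp x.2).2
    rw [Subgroup.mem_centralizer_iff] at h1
    have h2 := h1 (y : X) (Subgroup.mem_subgroupOf.mp hy)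
    show (y : X) * (x : X) * (y : X)⁻¹ = x
    rw [h2]
    group

/-- **Frobenius–Wielandt fixed point formula**, subgroup form: `U`, `E`, `H ≤ X`, `E` normalizes
`U` and acts on it without fixed points, `U` nilpotent, `U ⊔ E` normalizes the solvable group `H`
of coprime order. -/
theorem wielandt_sub [Finite X] (U E H : Subgroup X)
    (hUn : ∀ e ∈ E, ∀ u ∈ U, e * u * e⁻¹ ∈ U)
    (hfpf : ∀ e ∈ E, e ≠ 1 → ∀ u ∈ U, e * u = u * e → u = 1)
    (hnil : Group.IsNilpotent U)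
    (hHn : ∀ x ∈ U ⊔ E, ∀ h ∈ H, x * h * x⁻¹ ∈ H)
    (hsolv : Group.IsSolvable H) (hcop : Nat.Coprime (Nat.card H) (Nat.card ↥(U ⊔ E))) :
    Nat.card ↥(H ⊓ Subgroup.centralizer ((U ⊔ E : Subgroup X) : Set X)) ^ Nat.card E * Nat.card H =
      Nat.card ↥(H ⊓ Subgroup.centralizer (E : Set X)) ^ Nat.card E *
        Nat.card ↥(H ⊓ Subgroup.centralizer (U : Set X)) := by
  set L : Subgroup X := U ⊔ E with hL
  have hUL : U ≤ L := le_sup_left
  have hEL : E ≤ L := le_sup_right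
  have hLN : L ≤ Subgroup.normalizer (U : Set X) := by
    apply sup_le Subgroup.le_normalizer
    intro e he
    rw [Subgroup.mem_normalizer_iff]
    intro u
    constructor
    · exact hUn e he u
    · intro h
      have := hUn e⁻¹ (E.inv_mem he) _ h
      simpa [mul_assoc] using this
  have hUnorm : (U.subgroupOf L).Normal :=
    (Subgroup.normal_subgroupOf_iff_le_normalizer hUL).mpr hLN
  have hgen : U.subgroupOf L ⊔ E.subgroupOf L = ⊤ := by
    rw [← Subgroup.subgroupOf_sup hUL hEL, Subgroup.subgroupOf_self]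
  have hnil' : Group.IsNilpotent (U.subgroupOf L) :=
    (Group.isNilpotent_congr (Subgroup.subgroupOfEquivOfLe hUL)).mpr hnil
  have hfpf' : ∀ e ∈ E.subgroupOf L, e ≠ 1 → ∀ u ∈ U.subgroupOf L, e * u = u * e → u = 1 := by
    intro e he he1 u hu huc
    rw [Subgroup.mem_subgroupOf] at he hu
    have he1' : (e : X) ≠ 1 := fun h => he1 (Subtype.ext h)
    exact Subtype.ext (hfpf _ he he1' _ hu (congrArg Subtype.val huc))
  have key := wielandt_solvable (Γ := L) (U.subgroupOf L) (E.subgroupOf L) hgen hfpf' hnil'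
    (Nat.card H) H rfl hsolv hcop (conjAct L H hHn)
  have hcardE : Nat.card (E.subgroupOf L) = Nat.card E :=
    Nat.card_congr (Subgroup.subgroupOfEquivOfLe hEL).toEquiv
  have h0 := card_fixedPts_conjAct L H hHn L le_rfl
  rw [Subgroup.subgroupOf_self] at h0
  rw [h0, card_fixedPts_conjAct L H hHn E hEL, card_fixedPts_conjAct L H hHn U hUL, hcardE] at key
  exact key

open scoped commutatorElement

/-- the fixed points of the conjugation action, as a group isomorphism -/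
def fixedPtsEquiv (L H : Subgroup X) (hLH : ∀ x ∈ L, ∀ h ∈ H, x * h * x⁻¹ ∈ H)
    (Y : Subgroup X) (hY : Y ≤ L) :
    fixedPts (conjAct L H hLH) (Y.subgroupOf L) ≃* ↥(H ⊓ Subgroup.centralizer (Y : Set X)) where
  toFun h := ⟨(h.1 : X), by
    refine Subgroup.mem_inf.mpr ⟨h.1.2, ?_⟩
    rw [Subgroup.mem_centralizer_iff]
    intro y hy
    have h1 := h.2 ⟨y, hY hy⟩ (Subgroup.mem_subgroupOf.mpr hy)
    have h2 : y * (h.1 : X) * y⁻¹ = h.1 := congrArg Subtype.val h1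
    calc y * (h.1 : X) = y * (h.1 : X) * y⁻¹ * y := by group
      _ = (h.1 : X) * y := by rw [h2]⟩
  invFun x := ⟨⟨(x : X), (Subgroup.mem_inf.mp x.2).1⟩, by
    intro y hy
    apply Subtype.ext
    have h1 := (Subgroup.mem_inf.mp x.2).2
    rw [Subgroup.mem_centralizer_iff] at h1
    have h2 := h1 (y : X) (Subgroup.mem_subgroupOf.mp hy)
    show (y : X) * (x : X) * (y : X)⁻¹ = x
    rw [h2]
    group⟩
  left_inv h := rfl
  right_inv x := rfl
  map_mul' a b := rfl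

/-- **BG 3.3(c)**, subgroup form. -/
theorem comm_le_centralizer_sub [Finite X] (U E H : Subgroup X)
    (hUn : ∀ e ∈ E, ∀ u ∈ U, e * u * e⁻¹ ∈ U)
    (hfpf : ∀ e ∈ E, e ≠ 1 → ∀ u ∈ U, e * u = u * e → u = 1)
    (hnil : Group.IsNilpotent U)
    (hHn : ∀ x ∈ U ⊔ E, ∀ h ∈ H, x * h * x⁻¹ ∈ H)
    (hsolv : Group.IsSolvable H) (hcop : Nat.Coprime (Nat.card H) (Nat.card ↥(U ⊔ E)))
    (hCU : H ⊓ Subgroup.centralizer (U : Set X) = ⊥)
    (hcyc : IsCyclic ↥(H ⊓ Subgroup.centralizer (E : Set X))) :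
    ⁅U, U⁆ ≤ Subgroup.centralizer (H : Set X) := by
  set L : Subgroup X := U ⊔ E with hL
  have hUL : U ≤ L := le_sup_left
  have hEL : E ≤ L := le_sup_right
  have hLN : L ≤ Subgroup.normalizer (U : Set X) := by
    apply sup_le Subgroup.le_normalizer
    intro e he
    rw [Subgroup.mem_normalizer_iff]
    intro u
    constructor
    · exact hUn e he u
    · intro h
      have := hUn e⁻¹ (E.inv_mem he) _ h
      simpa [mul_assoc] using this
  have hUnorm : (U.subgroupOf L).Normal :=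
    (Subgroup.normal_subgroupOf_iff_le_normalizer hUL).mpr hLN
  have hgen : U.subgroupOf L ⊔ E.subgroupOf L = ⊤ := by
    rw [← Subgroup.subgroupOf_sup hUL hEL, Subgroup.subgroupOf_self]
  have hnil' : Group.IsNilpotent (U.subgroupOf L) :=
    (Group.isNilpotent_congr (Subgroup.subgroupOfEquivOfLe hUL)).mpr hnil
  have hfpf' : ∀ e ∈ E.subgroupOf L, e ≠ 1 → ∀ u ∈ U.subgroupOf L, e * u = u * e → u = 1 := by
    intro e he he1 u hu huc
    rw [Subgroup.mem_subgroupOf] at he hu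
    have he1' : (e : X) ≠ 1 := fun h => he1 (Subtype.ext h)
    exact Subtype.ext (hfpf _ he he1' _ hu (congrArg Subtype.val huc))
  have hCU' : fixedPts (conjAct L H hHn) (U.subgroupOf L) = ⊥ := by
    rw [← Subgroup.card_eq_one, card_fixedPts_conjAct L H hHn U hUL, hCU, Subgroup.card_bot]
  have hcyc' : IsCyclic (fixedPts (conjAct L H hHn) (E.subgroupOf L)) :=
    (MulEquiv.isCyclic (fixedPtsEquiv L H hHn E hEL)).mpr hcyc
  have key := comm_trivial_solvable (Γ := L) (U.subgroupOf L) (E.subgroupOf L) hgen hfpf' hnil'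
    (Nat.card H) H rfl hsolv hcop (conjAct L H hHn) hCU' hcyc'
  rw [Subgroup.commutator_le]
  intro g hg h hh
  rw [Subgroup.mem_centralizer_iff]
  intro x hx
  have h1 := key ⟨g, hUL hg⟩ (Subgroup.mem_subgroupOf.mpr hg) ⟨h, hUL hh⟩
    (Subgroup.mem_subgroupOf.mpr hh) ⟨x, hx⟩
  have h2 : ⁅g, h⁆ * x * ⁅g, h⁆⁻¹ = x := by
    have := congrArg Subtype.val h1
    rw [conjAct_apply] at this
    simpa [commutatorElement_def] using this
  calc x * ⁅g, h⁆ = ⁅g, h⁆ * x * ⁅g, h⁆⁻¹ * ⁅g, h⁆ := by rw [h2]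
    _ = ⁅g, h⁆ * x := by group

/-- Frobenius group `U ⋊ E` (kernel `U` nilpotent) normalizing an elementary abelian `p`-subgroup
`V` of coprime order with `|C_V(E)| ≤ p`: then `U' ≤ C(V)`. -/
theorem comm_le_centralizer_elem_sub [Finite X] (p : ℕ) [Fact p.Prime] (U E V : Subgroup X)
    (hUn : ∀ e ∈ E, ∀ u ∈ U, e * u * e⁻¹ ∈ U)
    (hfpf : ∀ e ∈ E, e ≠ 1 → ∀ u ∈ U, e * u = u * e → u = 1)
    (hnil : Group.IsNilpotent U)
    (hVn : ∀ x ∈ U ⊔ E, ∀ h ∈ V, x * h * x⁻¹ ∈ V)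
    (hVc : ∀ a ∈ V, ∀ b ∈ V, a * b = b * a) (hVexp : ∀ a ∈ V, a ^ p = 1)
    (hp : ¬ p ∣ Nat.card ↥(U ⊔ E))
    (hfix : Nat.card ↥(V ⊓ Subgroup.centralizer (E : Set X)) ≤ p) :
    ⁅U, U⁆ ≤ Subgroup.centralizer (V : Set X) := by
  set L : Subgroup X := U ⊔ E with hL
  have hUL : U ≤ L := le_sup_left
  have hEL : E ≤ L := le_sup_right
  have hLN : L ≤ Subgroup.normalizer (U : Set X) := by
    apply sup_le Subgroup.le_normalizer
    intro e he
    rw [Subgroup.mem_normalizer_iff]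
    intro u
    constructor
    · exact hUn e he u
    · intro h
      have := hUn e⁻¹ (E.inv_mem he) _ h
      simpa [mul_assoc] using this
  have hUnorm : (U.subgroupOf L).Normal :=
    (Subgroup.normal_subgroupOf_iff_le_normalizer hUL).mpr hLN
  have hnil' : Group.IsNilpotent (U.subgroupOf L) :=
    (Group.isNilpotent_congr (Subgroup.subgroupOfEquivOfLe hUL)).mpr hnil
  have hfpf' : ∀ e ∈ E.subgroupOf L, e ≠ 1 → ∀ u ∈ U.subgroupOf L, e * u = u * e → u = 1 := by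
    intro e he he1 u hu huc
    rw [Subgroup.mem_subgroupOf] at he hu
    have he1' : (e : X) ≠ 1 := fun h => he1 (Subtype.ext h)
    exact Subtype.ext (hfpf _ he he1' _ hu (congrArg Subtype.val huc))
  have hfix' : Nat.card (fixedPts (conjAct L V hVn) (E.subgroupOf L)) ≤ p := by
    rw [card_fixedPts_conjAct L V hVn E hEL]
    exact hfix
  have key : ∀ g ∈ U.subgroupOf L, ∀ h ∈ U.subgroupOf L, ∀ v,
      conjAct L V hVn g (conjAct L V hVn h v) = conjAct L V hVn h (conjAct L V hVn g v) := by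
    letI instV : CommGroup V :=
      { (inferInstance : Group V) with
        mul_comm := fun a b => Subtype.ext (hVc a a.2 b b.2) }
    exact commute_elem_fix (Γ := L) (V := ↥V) p (fun v => Subtype.ext (by
      rw [Subgroup.coe_pow]; exact hVexp v v.2)) hp (conjAct L V hVn) (U.subgroupOf L)
      (E.subgroupOf L) hfpf' hnil' hfix'
  rw [Subgroup.commutator_le]
  intro g hg h hh
  rw [Subgroup.mem_centralizer_iff]
  intro x hx
  have h1 := key ⟨g, hUL hg⟩ (Subgroup.mem_subgroupOf.mpr hg) ⟨h, hUL hh⟩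
    (Subgroup.mem_subgroupOf.mpr hh) ⟨x, hx⟩
  have h2 : g * (h * x * h⁻¹) * g⁻¹ = h * (g * x * g⁻¹) * h⁻¹ := congrArg Subtype.val h1
  have h3 : ⁅g, h⁆ * x * ⁅g, h⁆⁻¹ = x := by
    -- apply h2 to `h⁻¹ g⁻¹`-conjugate: use commutation of conjugations
    have hVmem : ∀ a ∈ L, ∀ y ∈ V, a * y * a⁻¹ ∈ V := hVn
    have hx' : h⁻¹ * (g⁻¹ * x * g) * h ∈ V := by
      have h4 := hVn g⁻¹ (L.inv_mem (hUL hg)) x hx
      have h5 := hVn h⁻¹ (L.inv_mem (hUL hh)) _ h4
      simpa [mul_assoc] using h5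
    have h6 := key ⟨g, hUL hg⟩ (Subgroup.mem_subgroupOf.mpr hg) ⟨h, hUL hh⟩
      (Subgroup.mem_subgroupOf.mpr hh) ⟨_, hx'⟩
    have h7 : g * (h * (h⁻¹ * (g⁻¹ * x * g) * h) * h⁻¹) * g⁻¹ =
        h * (g * (h⁻¹ * (g⁻¹ * x * g) * h) * g⁻¹) * h⁻¹ := congrArg Subtype.val h6
    have h8 : g * (h * (h⁻¹ * (g⁻¹ * x * g) * h) * h⁻¹) * g⁻¹ = x := by group
    rw [h8] at h7
    rw [commutatorElement_def]
    calc g * h * g⁻¹ * h⁻¹ * x * (g * h * g⁻¹ * h⁻¹)⁻¹
        = g * (h * (g⁻¹ * (h⁻¹ * x * h) * g) * h⁻¹) * g⁻¹ := by group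
      _ = x := ?_
    -- use the commutation on `h⁻¹ x h` conjugated
    have hx2 : g⁻¹ * (h⁻¹ * x * h) * g ∈ V := by
      have h4 := hVn h⁻¹ (L.inv_mem (hUL hh)) x hx
      have h5 := hVn g⁻¹ (L.inv_mem (hUL hg)) _ h4
      simpa [mul_assoc] using h5
    have h9 := key ⟨h, hUL hh⟩ (Subgroup.mem_subgroupOf.mpr hh) ⟨g, hUL hg⟩
      (Subgroup.mem_subgroupOf.mpr hg) ⟨_, hx2⟩
    have h10 : h * (g * (g⁻¹ * (h⁻¹ * x * h) * g) * g⁻¹) * h⁻¹ =
        g * (h * (g⁻¹ * (h⁻¹ * x * h) * g) * h⁻¹) * g⁻¹ := congrArg Subtype.val h9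
    rw [← h10]
    group
  calc x * ⁅g, h⁆ = ⁅g, h⁆ * x * ⁅g, h⁆⁻¹ * ⁅g, h⁆ := by rw [h3]
    _ = ⁅g, h⁆ * x := by group

end Cfsg.Agent.Lib.Helper03.FrobSub
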