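import Mathlib
import Cfsg.Agent.S1405
import Cfsg.Agent.S1406
import Cfsg.Agent.Lib.Helper55.CoprimeGen
import Cfsg.Agent.Lib.Helper71.BG11a
import Cfsg.Agent.Lib.Helper16.BG124Defs

set_option autoImplicit false
set_option linter.unusedSectionVars false

/-! S1416 keystone K5 (`alphaCore_eq_bot`), backup copy by helper3: `M_α = 1` in the non-unique case of
BG Lemma 12.4. -/

namespace Cfsg.Agent.Lib.Helper03.BG124

open Cfsg Cfsg.Agent.Lib.Helper55 Cfsg.Agent.Lib.Helper31 Cfsg.Agent.Lib.Helper71.BG10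
  Cfsg.Agent.Lib.Helper71.BG11

variable {G : Type*} [Group G] [Finite G]

variable {M A : Subgroup G} {p : ℕ} [Fact p.Prime]

/-- K5. STEP 2 of BG 12.4: `M_α = 1`. -/
theorem alphaCore_eq_bot (hG : IsMinSimpleOddOrder G) (hM : IsCoatom M) (hAM : A ≤ M)
    (hAe : IsElementaryAbelian p A) (hA2 : Nat.card A = p ^ 2) (hα : p ∉ alpha M)
    (h : ∀ A₀ : Subgroup G, A₀ ≤ A → Nat.card A₀ = p → ∃ H : Subgroup G, IsCoatom H ∧ H ≠ M ∧
      Subgroup.normalizer (A₀ : Set G) ≤ H ∧
      A ≤ Subgroup.centralizer ((alphaCore M ⊓ H : Subgroup G) : Set G)) :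
    alphaCore M = ⊥ := by
  have hp : p.Prime := Fact.out
  obtain ⟨hcomm, hexp⟩ := hAe
  have hAc : ∀ a ∈ A, ∀ b ∈ A, a * b = b * a := by
    intro a ha b hb
    have := hcomm.is_comm.comm ⟨a, ha⟩ ⟨b, hb⟩
    exact congrArg Subtype.val this
  have h1405 := Cfsg.Agent.S1405.result hG M hM
  have hHall : IsPiHallOf (alpha M) (alphaCore M) M := h1405.1
  have hMN : M ≤ Subgroup.normalizer ((alphaCore M : Subgroup G) : Set G) :=
    le_normalizer_piCoreOf (alpha M) M
  -- `p ∤ |M_α|`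
  have hcop : (Nat.card (alphaCore M)).Coprime p := by
    rw [Nat.coprime_comm]
    apply (Nat.Prime.coprime_iff_not_dvd hp).mpr
    intro hdvd
    exact hα (hHall.2.1 p hp hdvd)
  have hAN : A ≤ Subgroup.normalizer ((alphaCore M : Subgroup G) : Set G) := hAM.trans hMN
  have hAH : A ≤ Subgroup.centralizer (A : Set G) := by
    intro a ha
    rw [Subgroup.mem_centralizer_iff]
    intro b hb
    exact hAc b hb a ha
  have key : alphaCore M ≤ Subgroup.centralizer (A : Set G) := by
    apply Cfsg.Agent.Lib.Helper55.le_of_centralizers_le (p := p) hAc hexp (le_of_eq hA2.symm) hcop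
      hAN hAH
    intro a ha ha1
    have hord : orderOf a = p := by
      have h1 : orderOf a ∣ p := orderOf_dvd_of_pow_eq_one (hexp a ha)
      rcases (Nat.dvd_prime hp).mp h1 with h2 | h2
      · exact absurd (orderOf_eq_one_iff.mp h2) ha1
      · exact h2
    have hle : Subgroup.zpowers a ≤ A := by
      rw [Subgroup.zpowers_le]; exact ha
    have hcard : Nat.card (Subgroup.zpowers a) = p := by
      rw [Nat.card_zpowers, hord]
    obtain ⟨H, -, -, hNH, hAH'⟩ := h (Subgroup.zpowers a) hle hcard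
    intro x hx
    have hxσ : x ∈ alphaCore M := hx.1
    have hxc : x ∈ Subgroup.centralizer ({a} : Set G) := hx.2
    have hxN : x ∈ Subgroup.normalizer ((Subgroup.zpowers a : Subgroup G) : Set G) := by
      apply Subgroup.centralizer_le_normalizer
      rw [Subgroup.mem_centralizer_iff]
      intro y hy
      obtain ⟨k, rfl⟩ := Subgroup.mem_zpowers_iff.mp hy
      have hxa : a * x = x * a := by
        rw [Subgroup.mem_centralizer_iff] at hxc
        exact hxc a rfl
      exact (Commute.zpow_left hxa k).eq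
    have hxH : x ∈ alphaCore M ⊓ H := ⟨hxσ, hNH hxN⟩
    rw [Subgroup.mem_centralizer_iff]
    intro b hb
    have hb' := hAH' hb
    rw [Subgroup.mem_centralizer_iff] at hb'
    exact (hb' x hxH).symm
  -- now suppose `M_α ≠ 1`
  by_contra hne
  have hc1 : Nat.card (alphaCore M) ≠ 1 := fun h1 => hne (Subgroup.card_eq_one.mp h1)
  obtain ⟨q, hqp, hqd⟩ := Nat.exists_prime_and_dvd hc1
  have hqα : q ∈ alpha M := hHall.2.1 q hqp hqd
  have : Fact q.Prime := ⟨hqp⟩
  have hrk' : ∃ E : Subgroup ↥M, IsMulCommutative E ∧ (∀ a ∈ E, a ^ q = 1) ∧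
      q ^ 2 < Nat.card E := by
    by_contra hcon
    apply hqα.2
    intro E hE1 hE2
    by_contra hlt
    exact hcon ⟨E, hE1, hE2, not_le.mp hlt⟩
  obtain ⟨E, hEc, hEq, hEcard⟩ := hrk'
  set E' : Subgroup G := E.map M.subtype with hE'
  have hcard : Nat.card E' = Nat.card E := Subgroup.card_map_of_injective M.subtype_injective
  have hE'M : E' ≤ M := Subgroup.map_subtype_le E
  have hcommE : ∀ a ∈ E', ∀ b ∈ E', a * b = b * a := by
    rintro _ ⟨a, ha, rfl⟩ _ ⟨b, hb, rfl⟩
    have := hEc.is_comm.comm (⟨a, ha⟩ : E) ⟨b, hb⟩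
    have h2 : a * b = b * a := congrArg Subtype.val this
    rw [← map_mul, ← map_mul, h2]
  have hexpE : ∀ a ∈ E', a ^ q = 1 := by
    rintro _ ⟨a, ha, rfl⟩
    rw [← map_pow, hEq a ha, map_one]
  have hpg : IsPGroup q E' := by
    intro x
    refine ⟨1, ?_⟩
    rw [pow_one]
    exact Subtype.ext (by have := hexpE x.1 x.2; simpa using this)
  have hE'α : E' ≤ alphaCore M := by
    refine le_of_isPiHallOf_normal hHall hMN hE'M ?_
    intro r hr hrd
    obtain ⟨k, hk⟩ := IsPGroup.iff_card.mp hpg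
    rw [hk] at hrd
    have : r = q := (Nat.prime_dvd_prime_iff_eq hr hqp).mp (hr.dvd_of_dvd_pow hrd)
    rw [this]; exact hqα
  have hE'X : E' ≤ alphaCore M ⊓ Subgroup.centralizer (A : Set G) := le_inf hE'α (hE'α.trans key)
  have hr : ¬ RankLE 1 ↥(alphaCore M ⊓ Subgroup.centralizer (A : Set G)) := by
    intro hR
    have h1 := hR q hqp (E'.subgroupOf (alphaCore M ⊓ Subgroup.centralizer (A : Set G)))
      ⟨⟨fun a b => Subtype.ext (Subtype.ext (hcommE _ a.2 _ b.2))⟩⟩
      (fun a ha => Subtype.ext (by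
        have := hexpE a.1 ha
        simpa using this))
    rw [Nat.card_congr (Subgroup.subgroupOfEquivOfLe hE'X).toEquiv, hcard, pow_one] at h1
    have : q < q ^ 2 := by
      have := hqp.one_lt
      nlinarith
    omega
  have hXα : ∀ r : ℕ, r.Prime → r ∣ Nat.card A → r ∉ alpha M := by
    intro r hr hrd
    rw [hA2] at hrd
    have : r = p := (Nat.prime_dvd_prime_iff_eq hr hp).mp (hr.dvd_of_dvd_pow hrd)
    rw [this]; exact hα
  obtain ⟨L, -, huniq⟩ := Cfsg.Agent.S1406.result hG M hM A hAM hXα hr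
  -- a subgroup of order `p` of `A`
  have hexA0 : ∃ A₀ : Subgroup G, A₀ ≤ A ∧ Nat.card A₀ = p := by
    have hdvd : p ∣ Nat.card A := by rw [hA2]; exact dvd_pow_self p two_ne_zero
    obtain ⟨x, hx⟩ := exists_prime_orderOf_dvd_card' (G := A) p hdvd
    refine ⟨(Subgroup.zpowers x).map A.subtype, Subgroup.map_subtype_le _, ?_⟩
    rw [Subgroup.card_map_of_injective A.subtype_injective, Nat.card_zpowers, hx]
  obtain ⟨A₀, hA₀, hA₀c⟩ := hexA0
  obtain ⟨H, hH, hHM, hNH, -⟩ := h A₀ hA₀ hA₀c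
  have hle : M ⊓ Subgroup.centralizer (A : Set G) ≤ H :=
    inf_le_right.trans ((Subgroup.centralizer_le (SetLike.coe_subset_coe.mpr hA₀)).trans
      ((Subgroup.centralizer_le_normalizer _).trans hNH))
  apply hHM
  rw [huniq H ⟨hH, hle⟩, huniq M ⟨hM, inf_le_left⟩]

end Cfsg.Agent.Lib.Helper03.BG124
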