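import Cfsg.Agent.Lib.Helper03.FrobSub
import Cfsg.Agent.S0033

/-!
# Nilpotency of a group with a fixed-point-free group of operators (via Thompson, `S0033`)
-/

set_option autoImplicit false

namespace Cfsg.Agent.Lib.Helper03.FrobThompson

open Cfsg.Agent.Lib.Helper03.FrobSub Cfsg.Agent.Lib.Helper03.FrobAct

variable {X : Type*} [Group X]

/-- A subgroup `U` normalized by a nontrivial subgroup `E` whose nonidentity elements centralize
no nonidentity element of `U` is nilpotent (Thompson). -/
theorem isNilpotent_of_fpf [Finite X] (U E : Subgroup X) (hE1 : E ≠ ⊥)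
    (hUn : ∀ e ∈ E, ∀ u ∈ U, e * u * e⁻¹ ∈ U)
    (hfpf : ∀ e ∈ E, e ≠ 1 → ∀ u ∈ U, e * u = u * e → u = 1) : Group.IsNilpotent U := by
  by_cases hU : U = ⊥
  · subst hU
    infer_instance
  obtain ⟨e, he1⟩ := (Subgroup.ne_bot_iff_exists_ne_one).mp hE1
  have hord1 : orderOf e ≠ 1 := fun h => he1 (orderOf_eq_one_iff.mp h)
  obtain ⟨q, hq, hqd⟩ := Nat.exists_prime_and_dvd hord1
  have hpos : 0 < orderOf e := orderOf_pos e
  set e' : E := e ^ (orderOf e / q) with he'
  have hord' : orderOf e' = q := orderOf_pow_orderOf_div hpos.ne' hqd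
  have he'1 : e' ≠ 1 := by
    intro h
    rw [h, orderOf_one] at hord'
    exact hq.one_lt.ne hord'
  have he'1X : (e' : X) ≠ 1 := fun h => he'1 (Subtype.ext h)
  let φ : U ≃* U := conjAct E U hUn e'
  have hφfix : ∀ u : U, φ u = u → u = 1 := by
    intro u hu
    have h1 : (e' : X) * u * (e' : X)⁻¹ = u := congrArg Subtype.val hu
    have h2 : (e' : X) * u = u * e' := by
      calc (e' : X) * u = (e' : X) * u * (e' : X)⁻¹ * e' := by group
        _ = u * e' := by rw [h1]
    exact Subtype.ext (hfpf _ e'.2 he'1X _ u.2 h2)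
  have hφ : MonoidHom.FixedPointFree ((φ : U →* U)) := hφfix
  have hφq : φ ^ q = 1 := by
    show (conjAct E U hUn e') ^ q = 1
    rw [← map_pow, ← hord', pow_orderOf_eq_one, map_one]
  have hord : orderOf φ = q := by
    have h1 : orderOf φ ∣ q := orderOf_dvd_of_pow_eq_one hφq
    rcases (Nat.dvd_prime hq).mp h1 with h2 | h2
    · exfalso
      have h3 : φ = 1 := orderOf_eq_one_iff.mp h2
      obtain ⟨u, hu1⟩ := (Subgroup.ne_bot_iff_exists_ne_one).mp hU
      apply hu1
      apply hφfix
      rw [h3]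
      rfl
    · exact h2
  exact Cfsg.Agent.S0033.result φ hφ q hq hord

end Cfsg.Agent.Lib.Helper03.FrobThompson
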