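import Mathlib
import Cfsg.Agent.Lib.Helper71.BG1310Defs
import Cfsg.Agent.Lib.Helper13.BG12B
import Cfsg.Agent.Lib.Helper16.BG134Asm
import Cfsg.Agent.S1350

/-!
# BG 13.10 pack (architect helper71), core of LEAF P (131016) and LEAF Q (131017)

The two leaves with the consequences of LEAF E (`NR.structure`) they use taken as hypotheses.
-/

set_option autoImplicit false
set_option linter.unusedSectionVars false

namespace Cfsg.Agent.Lib.Helper03.BG1310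

open Cfsg Cfsg.Agent.Lib.Helper55 Cfsg.Agent.Lib.Helper31.BG134 Cfsg.Agent.Lib.Helper71.BG1310
open scoped Pointwise

variable {G : Type*} [Group G] [Finite G]

/-- a prime dividing `|E|` and in `π` divides the order of a Hall `π`-subgroup `X` of `E` -/
theorem dvd_card_of_hallOf {π : Set ℕ} {X E : Subgroup G} (hX : IsPiHallOf π X E) {p : ℕ}
    (hp : p.Prime) (hpπ : p ∈ π) (hpE : p ∣ Nat.card E) : p ∣ Nat.card X := by
  have h1 : Nat.card (X.subgroupOf E) * (X.subgroupOf E).index = Nat.card E :=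
    Subgroup.card_mul_index _
  rw [Nat.card_congr (Subgroup.subgroupOfEquivOfLe hX.1).toEquiv] at h1
  rw [← h1] at hpE
  rcases (Nat.Prime.dvd_mul hp).mp hpE with h | h
  · exact h
  · exact absurd h (hX.2.2 p hp hpπ)

/-- core of LEAF P -/
theorem kappa_of_data (hG : IsMinSimpleOddOrder G) {M E E₁ E₃ : Subgroup G} (hM : IsCoatom M)
    (hE : IsComplIn E (sigmaCore M) M) (hE₁ : IsPiHallOf (tau1 M) E₁ E)
    (hE₃ : IsPiHallOf (tau3 M) E₃ E) (h2 : ∀ q : ℕ, q ∉ tau2 M) (hC1 : CP M E₁ ≠ ⊥)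
    (hC3 : CP M E₃ ≠ ⊥) :
    ∀ p : ℕ, p.Prime → p ∣ Nat.card M → p ∉ sigma M → p ∈ kappa M := by
  intro p hp hpM hpσ
  have hHall := (Cfsg.Agent.S1350.result hG M hM).1
  have hn : M ≤ Subgroup.normalizer (sigmaCore M : Set G) :=
    Cfsg.Agent.Lib.Helper31.le_normalizer_piCoreOf (sigma M) M
  have hpE : p ∣ Nat.card E := by
    have h1 := Cfsg.Agent.Lib.Helper31.IsComplIn.card_mul hE
    rw [← h1] at hpM
    rcases (Nat.Prime.dvd_mul hp).mp hpM with h | h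
    · exact h
    · exact absurd (hHall.2.1 p hp h) hpσ
  -- a subgroup `X ≤ E` with `p ∣ |X|`, `C_{M_σ}(X) ≠ 1`, and rank one
  obtain ⟨X, hXE, hpX, hCX, hr⟩ : ∃ X : Subgroup G, X ≤ E ∧ p ∣ Nat.card X ∧ CP M X ≠ ⊥ ∧
      PRankLE p 1 ↥M := by
    rcases Cfsg.Agent.Lib.Helper16.BG134.mem_tau_cases hG hM hp hpM hpσ with h | h | h
    · exact ⟨E₁, hE₁.1, dvd_card_of_hallOf hE₁ hp h hpE, hC1, h.2.2.2.2⟩
    · exact absurd h (h2 p)
    · exact ⟨E₃, hE₃.1, dvd_card_of_hallOf hE₃ hp h hpE, hC3, h.2.2.2⟩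
  have hp2 : p ≠ 2 := by
    rintro rfl
    have hodd := Cfsg.Agent.Lib.Helper55.ms_odd hG M
    rw [Nat.odd_iff] at hodd
    omega
  have : Fact p.Prime := ⟨hp⟩
  -- elements
  obtain ⟨⟨x₁, hx₁X⟩, hx₁o⟩ := exists_prime_orderOf_dvd_card' (G := ↥X) p hpX
  have hx₁o' : orderOf x₁ = p := by
    rw [← hx₁o]; exact (Subgroup.orderOf_mk x₁ hx₁X).symm
  obtain ⟨⟨y₁, hy₁C⟩, hy₁1⟩ := (Subgroup.ne_bot_iff_exists_ne_one).mp hCX
  have hy₁1' : y₁ ≠ 1 := fun h => hy₁1 (Subtype.ext h)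
  have hy₁σ : y₁ ∈ sigmaCore M := hy₁C.1
  have hcomm : x₁ * y₁ = y₁ * x₁ := (Subgroup.mem_centralizer_iff.mp hy₁C.2) x₁ hx₁X
  have hx₁M : x₁ ∈ M := hE.1 (hXE hx₁X)
  have hx₁1 : x₁ ≠ 1 := by
    intro h
    rw [h, orderOf_one] at hx₁o'
    exact hp.one_lt.ne hx₁o'
  refine ⟨hp, hpM, hpσ, fun P => ⟨Cfsg.Agent.S2971.sylow_cyclic hp2 hr P, ?_⟩⟩
  -- put `x₁` in a Sylow subgroup and conjugate
  have hQ : IsPGroup p (Subgroup.zpowers (⟨x₁, hx₁M⟩ : M)) := by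
    apply IsPGroup.of_card (n := 1)
    rw [Nat.card_zpowers, pow_one, Subgroup.orderOf_mk, hx₁o']
  obtain ⟨P', hP'⟩ := hQ.exists_le_sylow
  obtain ⟨m, hm⟩ := MulAction.exists_smul_eq M P' P
  have hxP' : (⟨x₁, hx₁M⟩ : M) ∈ (P' : Subgroup M) := hP' (Subgroup.mem_zpowers _)
  have hxP : m * ⟨x₁, hx₁M⟩ * m⁻¹ ∈ (P : Subgroup M) := by
    rw [← hm, Sylow.coe_subgroup_smul]
    exact Subgroup.smul_mem_pointwise_smul _ (MulAut.conj m) _ hxP'
  refine ⟨m * ⟨x₁, hx₁M⟩ * m⁻¹, hxP, ?_, (m : G) * y₁ * (m : G)⁻¹, ?_, ?_, ?_⟩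
  · intro h
    apply hx₁1
    have h1 : (⟨x₁, hx₁M⟩ : M) = 1 := by
      have := congrArg (fun t => m⁻¹ * t * m) h
      simpa [mul_assoc] using this
    exact congrArg Subtype.val h1
  · exact ((Subgroup.mem_normalizer_iff.mp (hn m.2)) y₁).mp hy₁σ
  · intro h
    apply hy₁1'
    have := congrArg (fun t => (m : G)⁻¹ * t * (m : G)) h
    simpa [mul_assoc] using this
  · have e1 : ((m * ⟨x₁, hx₁M⟩ * m⁻¹ : M) : G) = (m : G) * x₁ * (m : G)⁻¹ := rfl
    rw [e1]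
    calc (m : G) * x₁ * (m : G)⁻¹ * ((m : G) * y₁ * (m : G)⁻¹)
        = (m : G) * (x₁ * y₁) * (m : G)⁻¹ := by group
      _ = (m : G) * (y₁ * x₁) * (m : G)⁻¹ := by rw [hcomm]
      _ = (m : G) * y₁ * (m : G)⁻¹ * ((m : G) * x₁ * (m : G)⁻¹) := by group

/-- core of LEAF Q -/
theorem not_comm_of_data (hG : IsMinSimpleOddOrder G) {M E : Subgroup G} (hM : IsCoatom M)
    (hE : IsComplIn E (sigmaCore M) M)
    (hκ : ∀ p : ℕ, p.Prime → p ∣ Nat.card M → p ∉ sigma M → p ∈ kappa M)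
    (hEnc : ¬ ∀ a ∈ E, ∀ b ∈ E, a * b = b * a)
    {K : Subgroup G} (hK : IsPiHallOf (kappa M) K M) : ¬ ∀ a ∈ K, ∀ b ∈ K, a * b = b * a := by
  intro hKc
  apply hEnc
  have hHall := (Cfsg.Agent.S1350.result hG M hM).1
  have hn : M ≤ Subgroup.normalizer (sigmaCore M : Set G) :=
    Cfsg.Agent.Lib.Helper31.le_normalizer_piCoreOf (sigma M) M
  -- arithmetic
  have e1 : Nat.card (K.subgroupOf M) * (K.subgroupOf M).index = Nat.card M :=
    Subgroup.card_mul_index _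
  rw [Nat.card_congr (Subgroup.subgroupOfEquivOfLe hK.1).toEquiv] at e1
  have e2 : Nat.card ((sigmaCore M).subgroupOf M) * ((sigmaCore M).subgroupOf M).index =
      Nat.card M := Subgroup.card_mul_index _
  rw [Nat.card_congr (Subgroup.subgroupOfEquivOfLe hHall.1).toEquiv] at e2
  have hK1 : ∀ p : ℕ, p.Prime → p ∣ Nat.card K → p ∉ sigma M :=
    fun p hp hpd => (hK.2.1 p hp hpd).2.2.1
  have hi1 : ∀ p : ℕ, p.Prime → p ∣ (K.subgroupOf M).index → p ∈ sigma M := by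
    intro p hp hpd
    by_contra h
    have hpM : p ∣ Nat.card M := by rw [← e1]; exact Dvd.dvd.mul_left hpd _
    exact hK.2.2 p hp (hκ p hp hpM h) hpd
  have hi2 : ∀ p : ℕ, p.Prime → p ∣ ((sigmaCore M).subgroupOf M).index → p ∉ sigma M :=
    fun p hp hpd hpσ => hHall.2.2 p hp hpσ hpd
  have c1 : (Nat.card K).Coprime (Nat.card (sigmaCore M)) :=
    Cfsg.Agent.Lib.Helper13.BG12.coprime_of_primes_disjoint hK1 hHall.2.1
  have c2 : (((sigmaCore M).subgroupOf M).index).Coprime (K.subgroupOf M).index :=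
    Cfsg.Agent.Lib.Helper13.BG12.coprime_of_primes_disjoint hi2 hi1
  have d1 : Nat.card K ∣ ((sigmaCore M).subgroupOf M).index := by
    have : Nat.card K ∣ Nat.card (sigmaCore M) * ((sigmaCore M).subgroupOf M).index := by
      rw [e2, ← e1]; exact dvd_mul_right _ _
    exact c1.dvd_of_dvd_mul_left this
  have d2 : ((sigmaCore M).subgroupOf M).index ∣ Nat.card K := by
    have : ((sigmaCore M).subgroupOf M).index ∣ Nat.card K * (K.subgroupOf M).index := by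
      rw [e1, ← e2]; exact dvd_mul_left _ _
    exact c2.dvd_of_dvd_mul_right this
  have e3 : Nat.card K = ((sigmaCore M).subgroupOf M).index := Nat.dvd_antisymm d1 d2
  have hKcompl : IsComplIn K (sigmaCore M) M :=
    Cfsg.Agent.Lib.Helper13.BG12.isComplIn_of_card hK.1 hHall.1 hn c1
      (by rw [e3, mul_comm]; exact e2)
  obtain ⟨s, -, hs⟩ := Cfsg.Agent.Lib.Helper13.BG12.complIn_conj hG hM hHall hKcompl hE
  intro a ha b hb
  have ha' : MulAut.conj s • a ∈ K := by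
    rw [← hs]; exact Subgroup.smul_mem_pointwise_smul a (MulAut.conj s) E ha
  have hb' : MulAut.conj s • b ∈ K := by
    rw [← hs]; exact Subgroup.smul_mem_pointwise_smul b (MulAut.conj s) E hb
  have h := hKc _ ha' _ hb'
  simp only [MulAut.smul_def, MulAut.conj_apply] at h
  have h2 : s * (a * b) * s⁻¹ = s * (b * a) * s⁻¹ := by
    calc s * (a * b) * s⁻¹ = s * a * s⁻¹ * (s * b * s⁻¹) := by group
      _ = s * b * s⁻¹ * (s * a * s⁻¹) := h
      _ = s * (b * a) * s⁻¹ := by group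
  exact mul_left_cancel (mul_right_cancel h2)

end Cfsg.Agent.Lib.Helper03.BG1310
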