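import Mathlib.GroupTheory.Sylow
import Mathlib.GroupTheory.PGroup
import Mathlib.GroupTheory.Solvable
import Mathlib.GroupTheory.Nilpotent
import Mathlib.Data.Nat.Factorization.Basic
import Cfsg.Prelude.Def_Transfer

set_option autoImplicit false

namespace Cfsg.Agent.Lib.Helper03

open Cfsg

/-- Elements of order prime to `p` lie in `O^p(G)`. -/
theorem mem_pResidual_of_coprime {G : Type*} [Group G] {p : ℕ} {g : G}
    (hg : Nat.Coprime (orderOf g) p) : g ∈ pResidual p G :=
  Subgroup.subset_closure hg

/-- `O^p(G)` is a normal subgroup. -/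
theorem pResidual_normal (p : ℕ) (G : Type*) [Group G] : (pResidual p G).Normal := by
  constructor
  intro n hn g
  unfold pResidual at hn ⊢
  induction hn using Subgroup.closure_induction with
  | mem x hx =>
    apply Subgroup.subset_closure
    show Nat.Coprime (orderOf (g * x * g⁻¹)) p
    have : g * x * g⁻¹ = MulAut.conj g x := by simp [MulAut.conj_apply]
    rw [this, MulEquiv.orderOf_eq]
    exact hx
  | one => simp
  | mul x y _ _ hx hy =>
    have : g * (x * y) * g⁻¹ = (g * x * g⁻¹) * (g * y * g⁻¹) := by group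
    rw [this]; exact mul_mem hx hy
  | inv x _ hx =>
    have : g * x⁻¹ * g⁻¹ = (g * x * g⁻¹)⁻¹ := by group
    rw [this]; exact inv_mem hx

/-- The quotient by `O^p(G)` is a `p`-group. -/
theorem isPGroup_quotient_pResidual {G : Type*} [Group G] [Finite G] {p : ℕ} [Fact p.Prime]
    [(pResidual p G).Normal] : IsPGroup p (G ⧸ pResidual p G) := by
  have hp : p.Prime := Fact.out
  intro q
  obtain ⟨g, rfl⟩ := QuotientGroup.mk_surjective q
  have hpos : orderOf g ≠ 0 := (orderOf_pos g).ne'
  obtain ⟨a, m, hm, hn⟩ := Nat.exists_eq_pow_mul_and_not_dvd hpos p hp.ne_one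
  refine ⟨a, ?_⟩
  rw [← QuotientGroup.mk_pow, QuotientGroup.eq_one_iff]
  apply mem_pResidual_of_coprime
  rw [orderOf_pow, hn]
  have hgcd : Nat.gcd (p ^ a * m) (p ^ a) = p ^ a := Nat.gcd_eq_right (dvd_mul_right _ _)
  rw [hgcd, Nat.mul_div_cancel_left _ (pow_pos hp.pos a)]
  exact (Nat.Coprime.symm ((Nat.Prime.coprime_iff_not_dvd hp).mpr hm))

/-- `G = P · O^p(G)` for a Sylow `p`-subgroup `P`. -/
theorem sylow_sup_pResidual_eq_top {G : Type*} [Group G] [Finite G] {p : ℕ} [Fact p.Prime]
    (P : Sylow p G) : (P : Subgroup G) ⊔ pResidual p G = ⊤ := by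
  have hp : p.Prime := Fact.out
  have hN : (pResidual p G).Normal := pResidual_normal p G
  have hQ : IsPGroup p (G ⧸ pResidual p G) := isPGroup_quotient_pResidual
  obtain ⟨k, hk⟩ := hQ.exists_card_eq
  have hidx : (pResidual p G).index = p ^ k := hk
  have h1 : ((P : Subgroup G) ⊔ pResidual p G).index ∣ (P : Subgroup G).index :=
    Subgroup.index_dvd_of_le le_sup_left
  have h2 : ((P : Subgroup G) ⊔ pResidual p G).index ∣ p ^ k :=
    hidx ▸ Subgroup.index_dvd_of_le le_sup_right
  have hcop : Nat.Coprime ((P : Subgroup G).index) (p ^ k) :=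
    Nat.Coprime.pow_right k (Nat.Coprime.symm ((Nat.Prime.coprime_iff_not_dvd hp).mpr P.not_dvd_index))
  have h3 : ((P : Subgroup G) ⊔ pResidual p G).index = 1 :=
    Nat.eq_one_of_dvd_coprimes hcop h1 h2
  exact Subgroup.index_eq_one.mp h3

/-- `O^p(G)` is contained in every normal subgroup with `p`-group quotient. -/
theorem pResidual_le_of_isPGroup_quotient {G : Type*} [Group G] [Finite G] {p : ℕ} [Fact p.Prime]
    (N : Subgroup G) [N.Normal] (hN : IsPGroup p (G ⧸ N)) : pResidual p G ≤ N := by
  unfold pResidual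
  rw [Subgroup.closure_le]
  intro g hg
  have hg' : Nat.Coprime (orderOf g) p := hg
  obtain ⟨k, hk⟩ := hN (QuotientGroup.mk' N g)
  have h1 : orderOf (QuotientGroup.mk' N g) ∣ p ^ k := orderOf_dvd_of_pow_eq_one hk
  have h2 : orderOf (QuotientGroup.mk' N g) ∣ orderOf g := orderOf_map_dvd _ g
  have h3 : orderOf (QuotientGroup.mk' N g) = 1 :=
    Nat.eq_one_of_dvd_coprimes (Nat.Coprime.pow_right k hg') h2 h1
  exact (QuotientGroup.eq_one_iff g).mp (orderOf_eq_one_iff.mp h3)

/-- If a Sylow `p`-subgroup lies in the derived subgroup then `O^p(G) = G`. -/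
theorem pResidual_eq_top_of_sylow_le_commutator {G : Type*} [Group G] [Finite G] {p : ℕ}
    [Fact p.Prime] (P : Sylow p G) (hP : (P : Subgroup G) ≤ commutator G) :
    pResidual p G = ⊤ := by
  have hN : (pResidual p G).Normal := pResidual_normal p G
  have hQ : IsPGroup p (G ⧸ pResidual p G) := isPGroup_quotient_pResidual
  have htop := sylow_sup_pResidual_eq_top P
  by_contra hne
  have hnt : Nontrivial (G ⧸ pResidual p G) := by
    rw [← not_subsingleton_iff_nontrivial]
    intro hs
    exact hne (QuotientGroup.subgroup_eq_top_of_subsingleton _ hs)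
  have hnil : Group.IsNilpotent (G ⧸ pResidual p G) := hQ.isNilpotent
  have hlt : commutator (G ⧸ pResidual p G) < ⊤ :=
    Group.IsSolvable.commutator_lt_top_of_nontrivial _
  apply hlt.ne
  rw [eq_top_iff]
  intro q _
  obtain ⟨g, rfl⟩ := QuotientGroup.mk_surjective q
  have hg : g ∈ ((P : Subgroup G) ⊔ pResidual p G : Subgroup G) := htop ▸ Subgroup.mem_top g
  have hle : (P : Subgroup G) ⊔ pResidual p G ≤
      (commutator (G ⧸ pResidual p G)).comap (QuotientGroup.mk' (pResidual p G)) := by
    apply sup_le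
    · intro x hx
      rw [Subgroup.mem_comap]
      have h1 : x ∈ commutator G := hP hx
      rw [commutator_def] at h1 ⊢
      have := Subgroup.mem_map_of_mem (QuotientGroup.mk' (pResidual p G)) h1
      rw [Subgroup.map_commutator] at this
      exact Subgroup.commutator_mono le_top le_top this
    · intro x hx
      rw [Subgroup.mem_comap]
      have : QuotientGroup.mk' (pResidual p G) x = 1 := (QuotientGroup.eq_one_iff x).mpr hx
      rw [this]; exact Subgroup.one_mem _
  exact hle hg

end Cfsg.Agent.Lib.Helper03
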