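import Mathlib

set_option autoImplicit false

namespace Cfsg.Agent.Lib.Helper03.A4OTorus

open Matrix

/-- The non-split torus: `SL₂(F)`, `F` a finite field with `q` elements, has an element of order `q + 1`. -/
theorem exists_orderOf_card_add_one (F : Type*) [Field F] [Finite F] :
    ∃ g : Matrix.SpecialLinearGroup (Fin 2) F, orderOf g = Nat.card F + 1 := by
  classical
  haveI : Fintype F := Fintype.ofFinite F
  obtain ⟨p, hp⟩ := CharP.exists F
  haveI := hp
  haveI : Fact p.Prime := ⟨CharP.char_is_prime F p⟩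
  let K := FiniteField.Extension F p 2
  have hfr : Module.finrank F K = 2 := FiniteField.finrank_extension F p 2
  have hcardK : Nat.card K = Nat.card F ^ 2 := FiniteField.natCard_extension F p 2
  haveI : Finite K := Module.finite_of_finite F
  haveI : Fintype K := Fintype.ofFinite K
  let b : Module.Basis (Fin 2) F K := Module.finBasisOfFinrankEq F K hfr
  set q := Nat.card F with hq
  have hq2 : 2 ≤ q := by
    rw [hq, Nat.card_eq_fintype_card]; exact Fintype.one_lt_card
  -- generator of Kˣ
  obtain ⟨ζ, hζ⟩ := IsCyclic.exists_generator (α := Kˣ)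
  have hordζ : orderOf ζ = q ^ 2 - 1 := by
    rw [orderOf_eq_card_of_forall_mem_zpowers hζ, Nat.card_units, hcardK]
  have hfac : q ^ 2 - 1 = (q - 1) * (q + 1) := by
    have h : q ^ 2 = (q - 1) * (q + 1) + 1 := by
      obtain ⟨k, hk⟩ : ∃ k, q = k + 1 := ⟨q - 1, by omega⟩
      rw [hk, Nat.add_sub_cancel]; ring
    omega
  set l : Kˣ := ζ ^ (q - 1) with hl
  have hordl : orderOf l = q + 1 := by
    rw [hl, orderOf_pow_of_dvd (by omega) (by rw [hordζ, hfac]; exact dvd_mul_right _ _), hordζ, hfac]
    exact Nat.mul_div_cancel_left _ (by omega)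
  -- norm of l is 1
  have hnorm : Algebra.norm F (l : K) = 1 := by
    rw [hl, Units.val_pow_eq_pow_val, map_pow]
    have hne : Algebra.norm F (ζ : K) ≠ 0 := by
      rw [Ne, Algebra.norm_eq_zero_iff]; exact ζ.ne_zero
    have := FiniteField.pow_card_sub_one_eq_one (Algebra.norm F (ζ : K)) hne
    rwa [← Nat.card_eq_fintype_card] at this
  let φ := Algebra.leftMulMatrix b
  have hφinj : Function.Injective φ := Algebra.leftMulMatrix_injective b
  have hdet : (φ (l : K)).det = 1 := by
    rw [← Algebra.norm_eq_matrix_det b, hnorm]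
  let g : Matrix.SpecialLinearGroup (Fin 2) F := ⟨φ (l : K), hdet⟩
  refine ⟨g, ?_⟩
  rw [← hordl]
  rw [orderOf_eq_orderOf_iff]
  intro n
  have h1 : g ^ n = 1 ↔ (φ (l : K)) ^ n = 1 := by
    constructor
    · intro h
      have h2 : ((g ^ n : Matrix.SpecialLinearGroup (Fin 2) F) : Matrix (Fin 2) (Fin 2) F)
          = ((1 : Matrix.SpecialLinearGroup (Fin 2) F) : Matrix (Fin 2) (Fin 2) F) := by rw [h]
      rw [Matrix.SpecialLinearGroup.coe_pow, Matrix.SpecialLinearGroup.coe_one] at h2
      exact h2
    · intro h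
      apply Subtype.ext
      rw [Matrix.SpecialLinearGroup.coe_pow, Matrix.SpecialLinearGroup.coe_one]
      exact h
  rw [h1, ← map_pow, ← map_one φ, hφinj.eq_iff, ← Units.val_pow_eq_pow_val, ← Units.val_one,
    Units.val_inj]

end Cfsg.Agent.Lib.Helper03.A4OTorus
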