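import Mathlib
import Cfsg.Agent.Lib.Helper70.AGDefs

/-!
# Pack K-4188, leaf A1 (keystone 418801): arithmetic of `ex`.
-/

set_option autoImplicit false

namespace Cfsg.Agent.Lib.Helper03.AG

open Cfsg.Agent.Lib.Helper70.AG

theorem ex_add (r a b : ℕ) (ha : 1 ≤ a) (hb : 1 ≤ b) : ex r a + ex r b ≤ ex r (a + b) := by
  unfold ex
  split_ifs <;> omega

theorem ex_double (r m : ℕ) (hm : 1 ≤ m) (h : r ≠ 3 ∨ 2 ≤ m) : 1 + 2 * ex r m ≤ ex r (2 * m) := by
  unfold ex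
  split_ifs <;> omega

theorem one_le_ex (r n : ℕ) (hn : 1 ≤ n) : 1 ≤ ex r n := by
  unfold ex
  split_ifs <;> omega

theorem two_le_ex (r n : ℕ) (hn : 2 ≤ n) : 2 ≤ ex r n := by
  unfold ex
  split_ifs <;> omega

theorem a1_three_aux (k : ℕ) : 2 ^ ((3 * (k + 2) - 2) / 2) * 2 ≤ 3 ^ (k + 2) ∧
    2 ^ ((3 * (k + 3) - 2) / 2) * 2 ≤ 3 ^ (k + 3) := by
  induction k with
  | zero => norm_num
  | succ k ih =>
    refine ⟨ih.2, ?_⟩
    have h1 : (3 * (k + 1 + 3) - 2) / 2 = (3 * (k + 2) - 2) / 2 + 3 := by omega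
    rw [h1, pow_add, show k + 1 + 3 = (k + 2) + 2 by ring, pow_add (3 : ℕ) (k + 2) 2]
    have := ih.1
    generalize 2 ^ ((3 * (k + 2) - 2) / 2) = x at this ⊢
    generalize 3 ^ (k + 2) = y at this ⊢
    norm_num
    omega

theorem a1_three (n : ℕ) (hn : 2 ≤ n) : 2 ^ ((3 * n - 2) / 2) * 2 ≤ 3 ^ n := by
  obtain ⟨k, rfl⟩ : ∃ k, n = k + 2 := ⟨n - 2, by omega⟩
  exact (a1_three_aux k).1

/-- r = 3: 2^((3n-2)/2) * 2 ≤ 3^n for n ≥ 2; r ≥ 5: 2^(2n-1) * 2 = 4^n ≤ r^n. -/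
theorem pow_ex_le (r n : ℕ) (hr : r.Prime) (hr2 : r ≠ 2) (hn : 1 ≤ n) : 2 ^ ex r n ≤ r ^ n - 1 := by
  have hr3 : 3 ≤ r := by
    have := hr.two_le
    omega
  by_cases h1 : n = 1
  · subst h1
    have : ex r 1 = 1 := by unfold ex; simp
    rw [this]
    simp only [pow_one]
    omega
  have hn2 : 2 ≤ n := by omega
  by_cases h3 : r = 3
  · subst h3
    have hex : ex 3 n = (3 * n - 2) / 2 := by
      unfold ex
      split_ifs <;> omega
    rw [hex]
    have h := a1_three n hn2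
    have hpos : 0 < 2 ^ ((3 * n - 2) / 2) := by positivity
    omega
  · have hex : ex r n = 2 * n - 1 := by
      unfold ex
      split_ifs <;> omega
    rw [hex]
    have hr5 : 4 ≤ r := by
      rcases Nat.lt_or_ge r 4 with h | h
      · exfalso; omega
      · exact h
    have h4 : 2 ^ (2 * n - 1) * 2 = 4 ^ n := by
      rw [← pow_succ, show 2 * n - 1 + 1 = 2 * n by omega, pow_mul]
      norm_num
    have h5 : 4 ^ n ≤ r ^ n := Nat.pow_le_pow_left hr5 n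
    have hpos : 0 < 2 ^ (2 * n - 1) := by positivity
    omega

end Cfsg.Agent.Lib.Helper03.AG
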