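import Mathlib
import Cfsg.Agent.Lib.Helper70.AGDefs
import Cfsg.Agent.Lib.Helper03.PGroupFrattini
import Cfsg.Agent.Lib.Helper14.Frattini
import Cfsg.Agent.Lib.Helper72.Frattini

/-!
# Pack K-4188, leaf A2 (keystone 418802): sub-multiplicativity of the Frattini index in 2-groups.
-/

set_option autoImplicit false

namespace Cfsg.Agent.Lib.Helper03.AG

open Cfsg.Agent.Lib.Helper70.AG

/-- the Frattini subgroup of a normal subgroup lies in the Frattini subgroup -/
theorem a2_map_frattini_le {X : Type*} [Group X] [Finite X] (K : Subgroup X) [K.Normal] :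
    (frattini ↥K).map K.subtype ≤ frattini X := by
  have : (frattini ↥K).Characteristic := frattini_characteristic
  have : ((frattini ↥K).map K.subtype).Normal := ConjAct.normal_of_characteristic_of_normal
  exact Cfsg.Agent.Lib.Helper14.le_frattini_of_normal_of_le_map_frattini K _ le_rfl

/-- in a 2-group, the Frattini subgroup of a quotient is the image of the Frattini subgroup -/
theorem a2_frattini_quotient_le {X : Type*} [Group X] [Finite X] (hX : IsPGroup 2 X)
    (K : Subgroup X) [K.Normal] :
    frattini (X ⧸ K) ≤ (frattini X).map (QuotientGroup.mk' K) := by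
  have : Fact (Nat.Prime 2) := ⟨Nat.prime_two⟩
  have hFn : (frattini X).Normal := inferInstance
  have : ((frattini X).map (QuotientGroup.mk' K)).Normal :=
    Subgroup.Normal.map hFn _ (QuotientGroup.mk'_surjective K)
  apply Cfsg.Agent.Lib.Helper72.frattini_le_of_sq_mem
  intro y
  obtain ⟨x, rfl⟩ := QuotientGroup.mk'_surjective K y
  rw [← map_pow]
  exact Subgroup.mem_map_of_mem _ (Cfsg.Agent.Lib.Helper03.pow_mem_frattini_of_isPGroup hX x)

theorem frattini_index_le_mul {X : Type*} [Group X] [Finite X] (hX : IsPGroup 2 X) (K : Subgroup X) [K.Normal] :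
    (frattini X).index ≤ (frattini (X ⧸ K)).index * (frattini ↥K).index := by
  have hFn : (frattini X).Normal := inferInstance
  -- step 1 : the part inside K
  have h1 : (frattini X).relIndex K ≤ (frattini ↥K).index := by
    have hle : frattini ↥K ≤ (frattini X).subgroupOf K := by
      intro k hk
      rw [Subgroup.mem_subgroupOf]
      exact a2_map_frattini_le K (Subgroup.mem_map_of_mem _ hk)
    have hdvd : ((frattini X).subgroupOf K).index ∣ (frattini ↥K).index :=
      Subgroup.index_dvd_of_le hle
    exact Nat.le_of_dvd (Nat.pos_of_ne_zero Subgroup.index_ne_zero_of_finite) hdvd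
  -- step 2 : the part above K
  have h2 : (frattini X ⊔ K).index ≤ (frattini (X ⧸ K)).index := by
    have hmap : ((frattini X).map (QuotientGroup.mk' K)).index = (frattini X ⊔ K).index := by
      rw [Subgroup.index_map, QuotientGroup.ker_mk',
        MonoidHom.range_eq_top.mpr (QuotientGroup.mk'_surjective K), Subgroup.index_top, mul_one]
    rw [← hmap]
    exact Nat.le_of_dvd (Nat.pos_of_ne_zero Subgroup.index_ne_zero_of_finite)
      (Subgroup.index_dvd_of_le (a2_frattini_quotient_le hX K))
  -- combine
  have h3 : (frattini X).relIndex (frattini X ⊔ K) * (frattini X ⊔ K).index = (frattini X).index :=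
    Subgroup.relIndex_mul_index le_sup_left
  have h4 : (frattini X).relIndex (frattini X ⊔ K) = (frattini X).relIndex K :=
    Subgroup.relIndex_sup_left K (frattini X)
  rw [← h3, h4, mul_comm]
  exact Nat.mul_le_mul h2 h1

end Cfsg.Agent.Lib.Helper03.AG
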