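import Mathlib.GroupTheory.Sylow
import Mathlib.GroupTheory.Transfer
import Mathlib.GroupTheory.Complement
import Mathlib.GroupTheory.PGroup
import Mathlib.GroupTheory.GroupAction.FixedPoints
import Cfsg.Prelude.Def_Transfer
import Cfsg.Agent.Lib.Helper03.NormalPComplement

set_option autoImplicit false

namespace Cfsg.Agent.Lib.Helper03

open Cfsg

/-- An automorphism of prime order `q` of a group of order `p ^ n` moves a number of points
divisible by `q`, and its fixed points form a proper subgroup. -/
theorem exists_lt_dvd_sub_of_orderOf_mulAut {T : Type*} [Group T] [Finite T] {p n q : ℕ}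
    (hp : p.Prime) (hq : q.Prime) (hT : Nat.card T = p ^ n) (σ : MulAut T)
    (hσ : orderOf σ = q) : ∃ j < n, q ∣ p ^ n - p ^ j := by
  have : Fact q.Prime := ⟨hq⟩
  have hz : IsPGroup q (Subgroup.zpowers σ) :=
    IsPGroup.of_card (n := 1) (by rw [Nat.card_zpowers, hσ, pow_one])
  have hmod := hz.card_modEq_card_fixedPoints T
  let F : Subgroup T :=
    { carrier := {x | σ x = x}
      mul_mem' := by
        intro a b ha hb
        simp only [Set.mem_ofPred_eq] at ha hb ⊢
        rw [map_mul, ha, hb]
      one_mem' := by simp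
      inv_mem' := by
        intro a ha
        simp only [Set.mem_ofPred_eq] at ha ⊢
        rw [map_inv, ha] }
  have hF : MulAction.fixedPoints (Subgroup.zpowers σ) T = (F : Set T) := by
    ext x
    rw [MulAction.mem_fixedPoints]
    constructor
    · intro h
      exact h ⟨σ, Subgroup.mem_zpowers σ⟩
    · rintro h ⟨τ, k, rfl⟩
      have h' : x ∈ MulAction.fixedBy T σ := h
      exact MulAction.mem_fixedBy_zpow h' k
  rw [hF] at hmod
  have hcard : Nat.card (F : Set T) = Nat.card F := rfl
  rw [hcard, hT] at hmod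
  have hdvd : Nat.card F ∣ p ^ n := hT ▸ Subgroup.card_subgroup_dvd_card F
  obtain ⟨j, hj, hFj⟩ := (Nat.dvd_prime_pow hp).mp hdvd
  rw [hFj] at hmod
  rcases hj.lt_or_eq with hlt | heq
  · refine ⟨j, hlt, ?_⟩
    exact (Nat.modEq_iff_dvd' (Nat.pow_le_pow_right hp.pos hj)).mp hmod.symm
  · exfalso
    have hFtop : F = ⊤ := by
      apply Subgroup.eq_top_of_card_eq
      rw [hFj, heq, hT]
    have hσ1 : σ = 1 := by
      ext x
      have : x ∈ F := hFtop ▸ Subgroup.mem_top x
      exact this
    rw [hσ1, orderOf_one] at hσ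
    exact hq.one_lt.ne hσ

/-- If no prime divisor `q ≠ p` of `|G|` divides any `p ^ n - p ^ j` with `j < n`, then an
abelian Sylow `p`-subgroup of order `p ^ n` is central in its normalizer. -/
theorem normalizer_le_centralizer_of_forall_not_dvd {G : Type*} [Group G] [Finite G] {p : ℕ}
    [Fact p.Prime] (P : Sylow p G) (hP : IsMulCommutative P) (n : ℕ)
    (hn : Nat.card P = p ^ n)
    (hq : ∀ q : ℕ, q.Prime → q ∣ Nat.card G → q ≠ p → ∀ j < n, ¬ q ∣ p ^ n - p ^ j) :
    Subgroup.normalizer (P : Set G) ≤ Subgroup.centralizer (P : Set G) := by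
  have hp : p.Prime := Fact.out
  set φ := (P : Subgroup G).normalizerMonoidHom with hφ
  have hker : φ.ker = (Subgroup.centralizer (P : Set G)).subgroupOf
      (Subgroup.normalizer ((P : Subgroup G) : Set G)) := Subgroup.normalizerMonoidHom_ker _
  suffices h : ∀ g, φ g = 1 by
    intro g hg
    have : (⟨g, hg⟩ : Subgroup.normalizer ((P : Subgroup G) : Set G)) ∈ φ.ker := h ⟨g, hg⟩
    rw [hker, Subgroup.mem_subgroupOf] at this
    exact this
  intro g
  by_contra hne
  have hord : orderOf (φ g) ≠ 1 := fun h1 => hne (orderOf_eq_one_iff.mp h1)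
  obtain ⟨q, hqp, hqdvd⟩ := Nat.exists_prime_and_dvd hord
  have hpos : orderOf (φ g) ≠ 0 := (orderOf_pos (φ g)).ne'
  have hσ : orderOf ((φ g) ^ (orderOf (φ g) / q)) = q := orderOf_pow_orderOf_div hpos hqdvd
  -- q divides the index of P
  have h1 : orderOf (φ g) ∣ Nat.card φ.range :=
    Subgroup.orderOf_dvd_natCard φ.range ⟨g, rfl⟩
  have h2 : Nat.card φ.range = (Subgroup.centralizer (P : Set G)).relIndex
      (Subgroup.normalizer ((P : Subgroup G) : Set G)) := by
    rw [← Subgroup.index_ker, hker]; rfl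
  have h3 : (Subgroup.centralizer (P : Set G)).relIndex
      (Subgroup.normalizer ((P : Subgroup G) : Set G)) ∣ (P : Subgroup G).index := by
    refine dvd_trans (Subgroup.relIndex_dvd_of_le_left _ P.le_centralizer) ?_
    exact Subgroup.relIndex_dvd_index_of_le Subgroup.le_normalizer
  have hqidx : q ∣ (P : Subgroup G).index := dvd_trans hqdvd (dvd_trans h1 (h2 ▸ h3))
  have hqG : q ∣ Nat.card G := dvd_trans hqidx (Subgroup.index_dvd_card _)
  have hqne : q ≠ p := by
    rintro rfl
    exact P.not_dvd_index hqidx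
  obtain ⟨j, hj, hdvd⟩ := exists_lt_dvd_sub_of_orderOf_mulAut hp hqp hn _ hσ
  exact hq q hqp hqG hqne j hj hdvd

/-- Normal `p`-complement from the arithmetic condition above. -/
theorem hasNormalPComplement_of_forall_not_dvd {G : Type*} [Group G] [Finite G] {p : ℕ}
    [Fact p.Prime] (P : Sylow p G) (hP : IsMulCommutative P) (n : ℕ)
    (hn : Nat.card P = p ^ n)
    (hq : ∀ q : ℕ, q.Prime → q ∣ Nat.card G → q ≠ p → ∀ j < n, ¬ q ∣ p ^ n - p ^ j) :
    HasNormalPComplement p G :=
  hasNormalPComplement_of_normalizer_le_centralizer P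
    (normalizer_le_centralizer_of_forall_not_dvd P hP n hn hq)

end Cfsg.Agent.Lib.Helper03
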