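import Mathlib
import Cfsg.Agent.S0027
import Cfsg.Agent.S1350
import Cfsg.Agent.S1403
import Cfsg.Agent.S1404
import Cfsg.Agent.S1405
import Cfsg.Agent.S1414
import Cfsg.Agent.Lib.Helper71.BG11e
import Cfsg.Agent.Lib.Helper16.BG124Defs

set_option autoImplicit false
set_option linter.unusedSectionVars false

/-! Bender–Glauberman Lemma 12.3 (in the shape `Hyp123` consumed by helper16's glue for S1416 = BG 12.4),
from BG 11.4 (on main) and BG 11.7 (explicit hypothesis / helper71's `Leaves`), together with the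
"σ-disjointness" lemma `α(M) ∩ σ(H) = ∅` for non-conjugate maximal subgroups. -/

namespace Cfsg.Agent.Lib.Helper03.BG12

open Cfsg Cfsg.Agent.Lib.Helper55 Cfsg.Agent.Lib.Helper31 Cfsg.Agent.Lib.Helper71.BG10
  Cfsg.Agent.Lib.Helper71.BG11
open scoped commutatorElement

variable {G : Type*} [Group G] [Finite G]

/-- `α(M) ∩ σ(H) = ∅` for non-conjugate maximal subgroups `M`, `H` (BG, before 12.3). -/
theorem alpha_sigma_disjoint (hG : IsMinSimpleOddOrder G) {M H : Subgroup G} (hM : IsCoatom M)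
    (hH : IsCoatom H) (hnc : ∀ x : G, H ≠ cj x M) {q : ℕ} (hqM : q ∈ alpha M)
    (hqH : q ∈ sigma H) : False := by
  obtain ⟨hqp, hrk⟩ := hqM
  have : Fact q.Prime := ⟨hqp⟩
  have hrk' : ∃ E : Subgroup ↥M, IsMulCommutative E ∧ (∀ a ∈ E, a ^ q = 1) ∧
      q ^ 2 < Nat.card E := by
    by_contra hcon
    apply hrk
    intro E hE1 hE2
    by_contra hlt
    exact hcon ⟨E, hE1, hE2, not_le.mp hlt⟩
  obtain ⟨E, hEc, hEq, hEcard⟩ := hrk'
  set E' : Subgroup G := E.map M.subtype with hE'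
  have hcard : Nat.card E' = Nat.card E := Subgroup.card_map_of_injective M.subtype_injective
  have hE'M : E' ≤ M := Subgroup.map_subtype_le E
  have hE'top : E' ≠ ⊤ := fun h => hM.1 (top_le_iff.mp (h ▸ hE'M))
  have hcomm : ∀ a ∈ E', ∀ b ∈ E', a * b = b * a := by
    rintro _ ⟨a, ha, rfl⟩ _ ⟨b, hb, rfl⟩
    have := hEc.is_comm.comm (⟨a, ha⟩ : E) ⟨b, hb⟩
    have h2 : a * b = b * a := congrArg Subtype.val this
    rw [← map_mul, ← map_mul, h2]
  have hexp : ∀ a ∈ E', a ^ q = 1 := by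
    rintro _ ⟨a, ha, rfl⟩
    rw [← map_pow, hEq a ha, map_one]
  have hrank : ∀ k, k ≤ 2 → ¬ RankLE k E' := by
    intro k hk h
    have h1 := h q hqp (⊤ : Subgroup E')
      ⟨⟨fun a b => Subtype.ext (Subtype.ext (hcomm _ a.1.2 _ b.1.2))⟩⟩
      (fun a _ => Subtype.ext (by
        have := hexp a.1 a.2
        simpa using this))
    rw [Subgroup.card_top, hcard] at h1
    have : q ^ k ≤ q ^ 2 := Nat.pow_le_pow_right hqp.pos hk
    omega
  obtain ⟨M', ⟨_, _⟩, huniq⟩ := Cfsg.Agent.S1403.result hG E' hE'top (hrank 1 (by norm_num))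
    (Or.inl (hrank 2 le_rfl))
  have hpg : IsPGroup q E' := by
    intro x
    refine ⟨1, ?_⟩
    rw [pow_one]
    exact Subtype.ext (by have := hexp x.1 x.2; simpa using this)
  obtain ⟨g, hg⟩ := sigma_pgroup_le_conj hqH hpg
  have h1 : cj g H = M := by
    rw [huniq (cj g H) ⟨isCoatom_cj g hH, hg⟩, huniq M ⟨hM, hE'M⟩]
  apply hnc g⁻¹
  rw [← h1, cj_inv_cj]

/-- elements of order prime to the index lie in a normal subgroup -/
theorem mem_of_pow_eq_one_of_coprime_index {G0 : Type*} [Group G0] [Finite G0] (N : Subgroup G0)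
    [N.Normal] {x : G0} {n : ℕ} (hx : x ^ n = 1) (hcop : n.Coprime N.index) : x ∈ N := by
  rw [← QuotientGroup.eq_one_iff]
  have h1 : ((x : G0 ⧸ N)) ^ n = 1 := by rw [← QuotientGroup.mk_pow, hx]; rfl
  have h2 : ((x : G0 ⧸ N)) ^ N.index = 1 := by
    rw [Subgroup.index_eq_card]; exact pow_card_eq_one'
  have := pow_gcd_eq_one.mpr ⟨h1, h2⟩
  rwa [Nat.Coprime.gcd_eq_one hcop, pow_one] at this

/-- if `A` normalizes `N` then a subgroup of `N ⊔ A` of order prime to `|A|` lies in `N` -/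
theorem le_of_le_sup_of_coprime {N A X : Subgroup G} (hA : A ≤ Subgroup.normalizer (N : Set G))
    (hX : X ≤ N ⊔ A) (hcop : (Nat.card X).Coprime (Nat.card A)) : X ≤ N := by
  set T := Subgroup.normalizer (N : Set G) with hT
  have : (N.subgroupOf T).Normal := Subgroup.normal_in_normalizer
  have hNT : N ≤ T := Subgroup.le_normalizer
  have hXT : X ≤ T := hX.trans (sup_le hNT hA)
  intro x hx
  have hxT : x ∈ T := hXT hx
  have h1 : (⟨x, hxT⟩ : T) ∈ (N.subgroupOf T) ⊔ (A.subgroupOf T) := by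
    rw [← Subgroup.subgroupOf_sup hNT hA]
    exact Subgroup.mem_subgroupOf.mpr (hX hx)
  have h2 : QuotientGroup.mk' (N.subgroupOf T) ⟨x, hxT⟩ ∈
      ((N.subgroupOf T) ⊔ (A.subgroupOf T)).map (QuotientGroup.mk' (N.subgroupOf T)) :=
    Subgroup.mem_map_of_mem _ h1
  rw [Subgroup.map_sup, QuotientGroup.map_mk'_self, bot_sup_eq] at h2
  have h3 : orderOf (QuotientGroup.mk' (N.subgroupOf T) ⟨x, hxT⟩) ∣ Nat.card A := by
    have h4 := orderOf_dvd_natCard (⟨_, h2⟩ :
      (A.subgroupOf T).map (QuotientGroup.mk' (N.subgroupOf T)))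
    rw [Subgroup.orderOf_mk] at h4
    refine h4.trans ((Subgroup.card_map_dvd _ _).trans ?_)
    rw [Nat.card_congr (Subgroup.subgroupOfEquivOfLe hA).toEquiv]
  have h5 : orderOf (QuotientGroup.mk' (N.subgroupOf T) ⟨x, hxT⟩) ∣ Nat.card X := by
    have h6 : orderOf (QuotientGroup.mk' (N.subgroupOf T) ⟨x, hxT⟩) ∣ orderOf (⟨x, hxT⟩ : T) :=
      orderOf_map_dvd _ _
    refine h6.trans ?_
    rw [Subgroup.orderOf_mk]
    have := orderOf_dvd_natCard (⟨x, hx⟩ : X)
    rwa [Subgroup.orderOf_mk] at this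
  have h7 : orderOf (QuotientGroup.mk' (N.subgroupOf T) ⟨x, hxT⟩) = 1 :=
    Nat.dvd_one.mp (hcop ▸ Nat.dvd_gcd h5 h3)
  have h8 := (QuotientGroup.eq_one_iff _).mp (orderOf_eq_one_iff.mp h7)
  exact Subgroup.mem_subgroupOf.mp h8

/-- The core of BG Lemma 12.3: for maximal subgroups `M ≠ H`, `A = E_{p²} ≤ M`, `A₀ ≤ A` of order `p`
with `N_G(A₀) ≤ H`, the group `A` centralizes `S ∩ H` for every `A`-invariant `p'`-subgroup `S` of `M_σ`.
BG 11.7 is used for `H` only (when `H` is exceptional). -/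
theorem centralizes_inf (hG : IsMinSimpleOddOrder G) {M H A A0 : Subgroup G} {p : ℕ}
    [Fact p.Prime] (hM : IsCoatom M) (hH : IsCoatom H) (hne : H ≠ M)
    (hAM : A ≤ M) (hAe : IsElementaryAbelian p A) (hA2 : Nat.card A = p ^ 2) (hA0 : A0 ≤ A)
    (hA0c : Nat.card A0 = p) (hN : Subgroup.normalizer (A0 : Set G) ≤ H)
    (h117 : Exc H p A A0 → H ≤ Subgroup.normalizer ((sigmaCore H ⊔ A : Subgroup G) : Set G))
    {S : Subgroup G} (hS : S ≤ sigmaCore M) (hAS : A ≤ Subgroup.normalizer (S : Set G))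
    (hpS : ¬ p ∣ Nat.card S) :
    A ≤ Subgroup.centralizer ((S ⊓ H : Subgroup G) : Set G) := by
  have hpp : p.Prime := Fact.out
  have hcomm : ∀ a ∈ A, ∀ b ∈ A, a * b = b * a := by
    intro a ha b hb
    have := hAe.1.is_comm.comm (⟨a, ha⟩ : A) ⟨b, hb⟩
    exact congrArg Subtype.val this
  have hCA0 : Subgroup.centralizer (A : Set G) ≤ H :=
    (Subgroup.centralizer_le (SetLike.coe_subset_coe.mpr hA0)).trans
      ((Subgroup.centralizer_le_normalizer _).trans hN)
  have hAH : A ≤ H := by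
    refine le_trans ?_ hCA0
    intro a ha
    rw [Subgroup.mem_centralizer_iff]
    intro x hx
    exact hcomm x hx a ha
  have hA1 : A ≠ ⊥ := by
    intro h
    rw [h, Subgroup.card_bot] at hA2
    have := hpp.one_lt
    have : 1 < p ^ 2 := by nlinarith
    omega
  set K : Subgroup G := S ⊓ H with hK
  have hAK : A ≤ Subgroup.normalizer (K : Set G) :=
    inf_normalizer_le A S H hAS (hAH.trans Subgroup.le_normalizer)
  have hpK : ¬ p ∣ Nat.card K := fun h => hpS (h.trans (Subgroup.card_dvd_of_le inf_le_left))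
  have hcop : (Nat.card A).Coprime (Nat.card K) := by
    rw [hA2]; exact Nat.Coprime.pow_left 2 ((Nat.Prime.coprime_iff_not_dvd hpp).2 hpK)
  have hAtop : A ≠ ⊤ := fun h => hM.1 (top_le_iff.mp (h ▸ hAM))
  have hsolvA : Group.IsSolvable A := ms_solvable hG hAtop
  have h27 : ⁅⁅K, A⁆, A⁆ = ⁅K, A⁆ := Cfsg.Agent.S0027.result A K hAK hcop (Or.inl hsolvA)
  apply le_centralizer_of_commutator_eq_bot
  set K1 : Subgroup G := ⁅K, A⁆ with hK1
  have hK1K : K1 ≤ K := Cfsg.Agent.Lib.Helper71.BG11.commutator_le_of_le_normalizer hAK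
  by_contra hK1ne
  have hK1c : Nat.card K1 ≠ 1 := fun h1 => hK1ne (Subgroup.card_eq_one.mp h1)
  have hcommEq : ∀ k a : G, ⁅k, a⁆ = (k * a * k⁻¹) * a⁻¹ := fun k a => by
    simp [commutatorElement_def]
  by_cases hpH : p ∈ sigma H
  · -- case `p ∈ σ(H)`
    have hHallH := (Cfsg.Agent.S1350.result hG H hH).1
    have hAσ : A ≤ sigmaCore H := by
      refine le_of_isPiHallOf_normal hHallH (le_normalizer_sigmaCore H) hAH ?_
      intro r hr hrd
      rw [hA2] at hrd
      have : r = p := (Nat.prime_dvd_prime_iff_eq hr hpp).mp (hr.dvd_of_dvd_pow hrd)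
      rw [this]; exact hpH
    -- `M` is not conjugate to `H`
    have hnc : ∀ x : G, M ≠ cj x H := by
      intro x hx
      have h1 : cj x⁻¹ A ≤ H := le_cj_iff.mp (hx ▸ hAM)
      obtain ⟨h, hh, c, hc, hxhc⟩ :=
        (Cfsg.Agent.S1404.result hG H hH p hpH A (IsPGroup.of_card hA2) hA1 hAH).1 x⁻¹ h1
      have hcH : c ∈ H := hCA0 hc
      have hxH : x⁻¹ ∈ H := hxhc ▸ H.mul_mem hh hcH
      have hxH' : x ∈ H := by simpa using H.inv_mem hxH
      have h2 : cj x H = H := cj_eq_self_of_mem hxH'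
      exact hne (by rw [hx, h2])
    obtain ⟨q, hqp, hqK1⟩ := Nat.exists_prime_and_dvd hK1c
    have : Fact q.Prime := ⟨hqp⟩
    have hqS : q ∣ Nat.card S := hqK1.trans (Subgroup.card_dvd_of_le (hK1K.trans inf_le_left))
    have hqσ : q ∈ sigma M := sigmaCore_pi hG hM hqp (hqS.trans (Subgroup.card_dvd_of_le hS))
    have hqne : q ≠ p := fun e => hpS (e ▸ hqS)
    have hqβ : q ∉ beta H := fun hb => alpha_sigma_disjoint hG hH hM hnc hb.1 hqσ
    have hqH : q ∣ Nat.card H :=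
      hqK1.trans (Subgroup.card_dvd_of_le (hK1K.trans inf_le_right))
    obtain ⟨-, hnpc, -⟩ := (Cfsg.Agent.S1414.result hG H hH).2.2.2.2 q hqp hqH hqβ
    obtain ⟨P, N, hNn, hNP⟩ := hnpc
    have := hNn
    have hidx : N.index = Nat.card (P : Subgroup ↥(sigmaCore H)) := hNP.symm.index_eq_card
    have hAN : ∀ a (ha : a ∈ A), (⟨a, hAσ ha⟩ : sigmaCore H) ∈ N := by
      intro a ha
      apply mem_of_pow_eq_one_of_coprime_index N (n := p)
      · exact Subtype.ext (by simpa using hAe.2 a ha)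
      · rw [hidx]
        obtain ⟨k, hk⟩ := IsPGroup.iff_card.mp P.isPGroup'
        rw [hk]
        exact Nat.Coprime.pow_right k ((Nat.coprime_primes hpp hqp).mpr hqne.symm)
    have hK1σ : K1 ≤ sigmaCore H := by
      rw [hK1, Subgroup.commutator_le]
      intro k hk a ha
      have hkH : k ∈ H := hk.2
      have haσ := hAσ ha
      have h1 : k * a * k⁻¹ ∈ sigmaCore H :=
        (Subgroup.mem_normalizer_iff.mp (le_normalizer_sigmaCore H hkH) a).mp haσ
      rw [hcommEq]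
      exact Subgroup.mul_mem _ h1 (Subgroup.inv_mem _ haσ)
    have hK1N : K1 ≤ N.map (sigmaCore H).subtype := by
      rw [← h27, Subgroup.commutator_le]
      intro k hk a ha
      have hkσ := hK1σ hk
      have h1 : (⟨k, hkσ⟩ : sigmaCore H) * ⟨a, hAσ ha⟩ * (⟨k, hkσ⟩ : sigmaCore H)⁻¹ ∈ N :=
        hNn.conj_mem _ (hAN a ha) _
      have h2 : (⟨k, hkσ⟩ : sigmaCore H) * ⟨a, hAσ ha⟩ * (⟨k, hkσ⟩ : sigmaCore H)⁻¹ *
          (⟨a, hAσ ha⟩ : sigmaCore H)⁻¹ ∈ N := N.mul_mem h1 (N.inv_mem (hAN a ha))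
      refine ⟨_, h2, ?_⟩
      rw [hcommEq]
      rfl
    have hqN : ¬ q ∣ Nat.card N := by
      have h1 : (P : Subgroup ↥(sigmaCore H)).index = Nat.card N := hNP.index_eq_card
      rw [← h1]
      exact P.not_dvd_index
    apply hqN
    have h3 : Nat.card (N.map (sigmaCore H).subtype) = Nat.card N :=
      Subgroup.card_map_of_injective (Subgroup.subtype_injective _)
    rw [← h3]
    exact hqK1.trans (Subgroup.card_dvd_of_le hK1N)
  · -- case `p ∉ σ(H)`: `H` is exceptional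
    have hE : Exc H p A A0 := ⟨hH, hpH, hAH, hAe, hA2, hA0, hA0c, hN⟩
    have hL := h117 hE
    have hK1L : K1 ≤ sigmaCore H ⊔ A := by
      rw [hK1, Subgroup.commutator_le]
      intro k hk a ha
      have hkH : k ∈ H := hk.2
      have haL : a ∈ sigmaCore H ⊔ A := (le_sup_right : A ≤ _) ha
      have h1 : k * a * k⁻¹ ∈ sigmaCore H ⊔ A :=
        (Subgroup.mem_normalizer_iff.mp (hL hkH) a).mp haL
      rw [hcommEq]
      exact Subgroup.mul_mem _ h1 (Subgroup.inv_mem _ haL)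
    have hK1σ : K1 ≤ sigmaCore H := by
      apply le_of_le_sup_of_coprime (hAH.trans (le_normalizer_sigmaCore H)) hK1L
      have : ¬ p ∣ Nat.card K1 := fun h => hpK (h.trans (Subgroup.card_dvd_of_le hK1K))
      rw [hA2]
      exact (Nat.Coprime.pow_left 2 ((Nat.Prime.coprime_iff_not_dvd hpp).2 this)).symm
    have h114 : sigmaCore M ⊓ sigmaCore H = ⊥ := by
      by_contra hne'
      exact hne (hE.eq_of_sigmaCore_inf hG hM hAM hne').symm
    apply hK1ne
    apply le_bot_iff.mp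
    rw [← h114]
    exact le_inf (hK1K.trans (inf_le_left.trans hS)) hK1σ

/-- BG Lemma 12.3 in helper16's shape, from BG 11.7 as a hypothesis. -/
theorem hyp123 (hG : IsMinSimpleOddOrder G)
    (h117 : ∀ (H A A0 : Subgroup G) (p : ℕ) [Fact p.Prime], Exc H p A A0 →
      H ≤ Subgroup.normalizer ((sigmaCore H ⊔ A : Subgroup G) : Set G)) :
    Cfsg.Agent.Lib.Helper16.BG124.Hyp123 G := by
  intro M H p _ A A0 hM hH hne hAM hAe hA2 hA0 hA0c hN
  constructor
  · intro hp
    exact centralizes_inf hG hM hH hne hAM hAe hA2 hA0 hA0c hN (h117 H A A0 p)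
      (S := sigmaCore M) le_rfl (hAM.trans (le_normalizer_sigmaCore M))
      (fun hd => hp (sigmaCore_pi hG hM Fact.out hd))
  · intro hp
    have h1405 := Cfsg.Agent.S1405.result hG M hM
    exact centralizes_inf hG hM hH hne hAM hAe hA2 hA0 hA0c hN (h117 H A A0 p)
      (S := alphaCore M) h1405.2.2.1 (hAM.trans (le_normalizer_piCoreOf (alpha M) M))
      (fun hd => hp (h1405.1.2.1 p Fact.out hd))

/-- BG Lemma 12.3 in helper16's shape, from helper71's leaves of BG 11.7. -/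
theorem hyp123_of_leaves (hG : IsMinSimpleOddOrder G) (hL : Leaves G) :
    Cfsg.Agent.Lib.Helper16.BG124.Hyp123 G :=
  hyp123 hG (fun _ _ _ _ _ h => h.le_normalizer_sup hG hL)

end Cfsg.Agent.Lib.Helper03.BG12
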