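import Mathlib
import Cfsg.Agent.Lib.Helper03.BG1310PQcore
import Cfsg.Agent.Lib.Helper54.BG1310CER

/-!
# BG 13.10 pack (architect helper71), LEAF P (131016) `NR.kappa_eq` and LEAF Q (131017)
`NR.not_comm_of_kappa_hall`, exact signatures (LEAF E = `Helper54.BG1310.NR.structure`).
-/

set_option autoImplicit false

namespace Cfsg.Agent.Lib.Helper03.BG1310

open Cfsg Cfsg.Agent.Lib.Helper55 Cfsg.Agent.Lib.Helper31.BG134 Cfsg.Agent.Lib.Helper71.BG1310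

variable {G : Type*} [Group G] [Finite G]

/-- **LEAF P (131016)  NR.kappa_eq**: every prime of `|M : M_σ|` is in `κ(M)`. -/
theorem NR.kappa_eq {M E E₁ E₃ : Subgroup G} (c : NR M E E₁ E₃) (hC1 : CP M E₁ ≠ ⊥) :
    ∀ p : ℕ, p.Prime → p ∣ Nat.card M → p ∉ sigma M → p ∈ kappa M :=
  kappa_of_data c.hG c.hM c.hE c.hE₁ c.hE₃ (Cfsg.Agent.Lib.Helper54.BG1310.NR.structure c).1 hC1
    c.hC3

/-- **LEAF Q (131017)  NR.not_comm_of_kappa_hall**: a Hall `κ(M)`-subgroup of `M` is not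
commutative. -/
theorem NR.not_comm_of_kappa_hall {M E E₁ E₃ : Subgroup G} (c : NR M E E₁ E₃) (hC1 : CP M E₁ ≠ ⊥)
    {K : Subgroup G} (hK : IsPiHallOf (kappa M) K M) : ¬ ∀ a ∈ K, ∀ b ∈ K, a * b = b * a := by
  have hs := Cfsg.Agent.Lib.Helper54.BG1310.NR.structure c
  refine not_comm_of_data c.hG c.hM c.hE (NR.kappa_eq c hC1) ?_ hK
  intro hEc
  apply c.hE₃1
  have h1 : E₃ ≤ Subgroup.centralizer (E₁ : Set G) := by
    intro x hx
    rw [Subgroup.mem_centralizer_iff]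
    intro y hy
    exact hEc y (c.hE₁.1 hy) x (c.hE₃.1 hx)
  rw [← hs.2.2.2.2.2.2.1]
  exact (inf_eq_left.mpr h1).symm

end Cfsg.Agent.Lib.Helper03.BG1310
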