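import Mathlib
import Cfsg.Agent.S1351
import Cfsg.Agent.S1352
import Cfsg.Agent.Lib.Helper14.BG151H2
import Cfsg.Agent.Lib.Helper26.BG151G
import Cfsg.Agent.Lib.Helper85.BG151J
import Cfsg.Agent.Lib.Helper71.BG11a
import Cfsg.Agent.Lib.Helper16.BG1363Defs
import Cfsg.Agent.Lib.Helper55.Basic

set_option autoImplicit false

/-!
# K-1435-P10 (keystone 143515, S1435 pack, architect helper31)

`K*` a nontrivial Hall `κ(M*)`-subgroup of the maximal subgroup `M*`, `|C_{M*_σ}(K*)| = q` prime: there is a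
normal `q`-subgroup `Q` of `M*` (inside `M*`) containing `C_{M*_σ}(K*)`.
-/

namespace Cfsg.Agent.Lib.Helper03.BG1435

open Cfsg Subgroup

variable {G : Type*} [Group G] [Finite G]

/-- a `q`-subgroup of `N` lies in every `q`-subgroup of `N` of index prime to `q` normalized by `N` -/
theorem le_of_isPGroup_of_normal_sylow {N S C : Subgroup G} (q : ℕ) [hq : Fact q.Prime]
    (hSN : S ≤ N) (hSq : IsPGroup q S) (hSi : ¬ q ∣ S.relIndex N)
    (hNS : N ≤ normalizer (S : Set G)) (hCN : C ≤ N) (hCq : IsPGroup q C) : C ≤ S := by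
  classical
  haveI hnorm : (S.subgroupOf N).Normal := by
    rw [← Subgroup.normalizer_eq_top_iff]
    rw [eq_top_iff]
    intro x _
    have hx : (x : G) ∈ normalizer (S : Set G) := hNS x.2
    rw [Subgroup.mem_normalizer_iff] at hx ⊢
    intro y
    simp only [Subgroup.mem_subgroupOf]
    exact hx y
  have hSq' : IsPGroup q (S.subgroupOf N) :=
    hSq.comap_of_injective N.subtype N.subtype_injective
  have hCq' : IsPGroup q (C.subgroupOf N) :=
    hCq.comap_of_injective N.subtype N.subtype_injective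
  let P : Sylow q N := hSq'.toSylow hSi
  haveI : Unique (Sylow q N) := Sylow.unique_of_normal P hnorm
  obtain ⟨P2, hP2⟩ := hCq'.exists_le_sylow
  have hP2P : P2 = P := Subsingleton.elim _ _
  intro x hx
  have hxN : x ∈ N := hCN hx
  have h1 : (⟨x, hxN⟩ : N) ∈ C.subgroupOf N := by
    rw [Subgroup.mem_subgroupOf]; exact hx
  have h2 : (⟨x, hxN⟩ : N) ∈ (P : Subgroup N) := by
    rw [← hP2P]; exact hP2 h1
  have h3 : (⟨x, hxN⟩ : N) ∈ S.subgroupOf N := h2
  rw [Subgroup.mem_subgroupOf] at h3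
  exact h3

/-- KEYSTONE 143515  K-1435-P10 -/
theorem exists_normal_pgroup_ge (hG : IsMinSimpleOddOrder G) {Ms Kst : Subgroup G}
    (hMs : IsCoatom Ms) (hKst : IsPiHallOf (kappa Ms) Kst Ms) (hKst1 : Kst ≠ ⊥)
    (hpr : (Nat.card ↥(sigmaCore Ms ⊓ centralizer (Kst : Set G))).Prime) :
    ∃ Q : Subgroup G, Q ≤ Ms ∧ Ms ≤ normalizer (Q : Set G) ∧
      IsPGroup (Nat.card ↥(sigmaCore Ms ⊓ centralizer (Kst : Set G))) Q ∧
      sigmaCore Ms ⊓ centralizer (Kst : Set G) ≤ Q := by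
  set q := Nat.card ↥(sigmaCore Ms ⊓ centralizer (Kst : Set G)) with hq
  haveI : Fact q.Prime := ⟨hpr⟩
  have hσle : sigmaCore Ms ≤ Ms := Cfsg.Agent.Lib.Helper71.BG11.sigmaCore_le Ms
  have hσn : Ms ≤ normalizer (sigmaCore Ms : Set G) :=
    Cfsg.Agent.Lib.Helper71.BG11.le_normalizer_sigmaCore Ms
  by_cases hnil : Group.IsNilpotent (sigmaCore Ms)
  · obtain ⟨S, hSN, hSq, hSi, hSn⟩ :=
      Cfsg.Agent.Lib.Helper85.BG151.exists_normal_sylow_of_nilpotent Ms (sigmaCore Ms) hσn hnil q hpr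
    refine ⟨S, hSN.trans hσle, hSn, hSq, ?_⟩
    have hCq : IsPGroup q ↥(sigmaCore Ms ⊓ centralizer (Kst : Set G)) :=
      IsPGroup.of_card (n := 1) (by rw [pow_one])
    exact le_of_isPGroup_of_normal_sylow q hSN hSq hSi (hσle.trans hSn) inf_le_left hCq
  · have hc : IsCyclic Kst := (Cfsg.Agent.S1351.result hG Ms hMs).2 Kst hKst
    obtain ⟨U', hKU'⟩ := (Cfsg.Agent.S1352.result hG Ms hMs Kst hc hKst).1
    have hU : U' = ⊥ := Cfsg.Agent.Lib.Helper14.BG151.eq_bot_of_not_nilpotent hG hMs hKU' hnil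
    subst hU
    obtain ⟨Q, D, hQn, hQp, -, hCQ, hQD, -⟩ :=
      Cfsg.Agent.Lib.Helper26.BG151.structure_of_decomp hG hMs hKU' hKst1 hpr hnil
    refine ⟨Q, ?_, hQn, hQp, hCQ⟩
    calc Q ≤ Q ⊔ D := le_sup_left
      _ = sigmaCore Ms := hQD
      _ ≤ Ms := hσle

end Cfsg.Agent.Lib.Helper03.BG1435
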