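import Mathlib
import Cfsg.Agent.S1375
import Cfsg.Agent.S1378
import Cfsg.Agent.Lib.Helper71.BG1381E1
import Cfsg.Agent.Lib.Helper64.BG1363H
import Cfsg.Agent.Lib.Helper68.BG144G2
import Cfsg.Agent.Lib.Helper01.BG134CJ
import Cfsg.Agent.Lib.Helper55.Basic

/-!
# K-1436 pack (S1436), leaf S: the basic facts on the support `N` of `x ∈ M_σ#`
-/

set_option autoImplicit false

namespace Cfsg.Agent.Lib.Helper03.BG1436

open Cfsg Subgroup Cfsg.Agent.Lib.Helper55

variable {G : Type*} [Group G] [Finite G]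

theorem facts (hG : IsMinSimpleOddOrder G) {M N : Subgroup G} (hM : IsCoatom M) (hN : IsCoatom N) {x : G}
    (hx : x ∈ sigmaCore M) (hx1 : x ≠ 1) (hxM : ¬ centralizer ({x} : Set G) ≤ M) (hxN : centralizer ({x} : Set G) ≤ N) :
    Group.IsNilpotent (sigmaCore N) ∧ IsComplIn (M ⊓ N) (sigmaCore N) N ∧
      sigmaCore N ⊓ centralizer ({x} : Set G) ≠ ⊥ ∧
      (∀ g : G, N.map (MulAut.conj g).toMonoidHom ≠ M) ∧
      (∀ p : ℕ, p ∈ sigma N → p ∉ sigma M) := by
  obtain ⟨N₀, ⟨hN₀, hxN₀⟩, huniq, hσF, -, hcx, hcompl, -⟩ :=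
    Cfsg.Agent.S1375.result hG M hM x hx hx1 hxM
  have hNN : N = N₀ := huniq N hN hxN
  subst hNN
  -- (1)
  have h1 : Group.IsNilpotent (sigmaCore N) := by
    rw [hσF]
    exact Cfsg.Agent.Lib.Helper71.BG1381.isNilpotent_fittingHallOf N
  -- (3)
  have h3 : sigmaCore N ⊓ centralizer ({x} : Set G) ≠ ⊥ := by
    intro hbot
    apply hxM
    intro m hm
    obtain ⟨a, ha, b, hb, hab⟩ := hcx.2.2.2 m hm
    rw [hbot, mem_bot] at hb
    rw [hab, hb, mul_one]
    exact ha.1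
  -- (4)
  have hxC : x ∈ centralizer ({x} : Set G) := by
    rw [mem_centralizer_iff]
    intro y hy
    rw [Set.mem_singleton_iff] at hy
    rw [hy]
  have hxNm : x ∈ N := hxN hxC
  have hxMm : x ∈ M := Cfsg.Agent.Lib.Helper71.BG11.sigmaCore_le M hx
  have h4 : ∀ g : G, N.map (MulAut.conj g).toMonoidHom ≠ M := by
    intro g hg
    have hσ : sigmaCore M = cj g (sigmaCore N) := by
      rw [← hg]
      exact Cfsg.Agent.Lib.Helper68.BG144.sigmaCore_cj hG hN g
    have hcard : Nat.card (sigmaCore M) = Nat.card (sigmaCore N) := by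
      rw [hσ, card_cj]
    have hxσ : x ∈ sigmaCore N := by
      apply Cfsg.Agent.Lib.Helper64.BG1363.mem_sigmaCore_of_orderOf hG hN hxNm
      intro p hp hpd
      rw [← hcard]
      have : orderOf x ∣ Nat.card (sigmaCore M) := by
        have h := Subgroup.orderOf_dvd_natCard (sigmaCore M) hx
        exact h
      exact hpd.trans this
    have hbot : x ∈ (M ⊓ N) ⊓ sigmaCore N := ⟨⟨hxMm, hxNm⟩, hxσ⟩
    rw [hcompl.2.2.1, mem_bot] at hbot
    exact hx1 hbot
  refine ⟨h1, hcompl, h3, h4, ?_⟩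
  -- (5)
  intro p hpN hpM
  obtain ⟨g, hg⟩ := (Cfsg.Agent.S1378.result hG).2 M N hM hN ⟨p, hpM, hpN⟩
  apply h4 g⁻¹
  rw [hg]
  exact cj_inv_cj g M

end Cfsg.Agent.Lib.Helper03.BG1436
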