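import Mathlib
import Cfsg.Agent.Lib.Helper15.BG147Defs
import Cfsg.Agent.Lib.Helper15.BG142Final
import Cfsg.Agent.Lib.Helper01.BG134CJ

/-!
# BG 14.7 local closure lemma, LEAF C1 (keystone 147101, pack K-147C, architect helper15): `cl1`
-/

set_option autoImplicit false

namespace Cfsg.Agent.Lib.Helper03.BG147

open Cfsg Cfsg.Agent.Lib.Helper55 Cfsg.Agent.Lib.Helper31.BG134 Cfsg.Agent.Lib.Helper15.BG139
  Cfsg.Agent.Lib.Helper15.BG142 Cfsg.Agent.Lib.Helper15.BG147

variable {G : Type*} [Group G] [Finite G]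

/-- LEAF C1 (147101) -/
theorem cl1 {M K X H : Subgroup G} (c : CL M K X H) : CL1 M K X H := by
  obtain ⟨hG, hM, hK, hK1, hXK, hXp, hH, hNH⟩ := c
  obtain ⟨E, ks⟩ := exists_ks hG hM hK hK1
  have hKM : K ≤ M := ks.hKE.trans ks.hE.1
  have hXM : X ≤ M := hXK.trans hKM
  have hXH : X ≤ H := Subgroup.le_normalizer.trans hNH
  have hC : CP M X ≠ ⊥ := by
    intro h
    apply ks.hKs
    rw [eq_bot_iff, ← h]
    exact inf_le_inf_left _ (Subgroup.centralizer_le (SetLike.coe_subset_coe.mpr hXK))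
  have hpσH : Nat.card X ∈ sigma H :=
    htx' hG M X H (Nat.card X) hM hXM rfl (ks.h13 X hXK hXp) hC hH hNH
  have hXσ : X ≤ sigmaCore H := ((s1430_of_ks hG hM ks).2.2 X hXK hXp).2.2 H hH hNH
  have hpκ : Nat.card X ∈ kappa M := hK.2.1 _ hXp (Subgroup.card_dvd_of_le hXK)
  have hpσM : Nat.card X ∉ sigma M := hpκ.2.2.1
  have hnc : ∀ g : G, cj g M ≠ H := by
    intro g hg
    apply hpσM
    rw [← Cfsg.Agent.Lib.Helper01.BG134.mem_sigma_cj_iff g, hg]
    exact hpσH
  have hZH : K ⊔ KStar M K ≤ H := by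
    rw [← ks.hN X hXK hXp]
    exact inf_le_right.trans hNH
  have hKsH : KStar M K ≤ H := le_sup_right.trans hZH
  have hσ : sigmaCore M ⊓ H = KStar M K := by
    apply le_antisymm
    · intro z hz
      have : Fact (Nat.card X).Prime := ⟨hXp⟩
      have hXpg : IsPGroup (Nat.card X) X := IsPGroup.of_card (n := 1) (by rw [pow_one])
      have h1 : Nat.card X ∉ tau1 H := fun h => h.2.1 hpσH
      have hcent := Cfsg.Agent.Lib.Helper31.BG134.t131 hG M H hM hH hnc (Nat.card X) hpσM X hXpg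
        hXM hXH h1
      -- a nontrivial element of `X`
      have hX1 : X ≠ ⊥ := by
        intro h
        rw [h, Subgroup.card_bot] at hXp
        exact Nat.not_prime_one hXp
      obtain ⟨a, ha⟩ := Subgroup.ne_bot_iff_exists_ne_one.1 hX1
      obtain ⟨x, hxX, hx1⟩ : ∃ x : G, x ∈ X ∧ x ≠ 1 :=
        ⟨(a : G), a.2, fun h => ha (Subtype.ext h)⟩
      rw [← ks.hpa x (hXK hxX) hx1]
      refine ⟨hz.1, ?_⟩
      change z ∈ Subgroup.centralizer ({x} : Set G)
      rw [Subgroup.mem_centralizer_iff]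
      intro h hh
      rw [Set.mem_singleton_iff] at hh
      subst hh
      have := (Subgroup.mem_centralizer_iff.1 (hcent hxX)) z hz
      exact this.symm
    · exact le_inf inf_le_left hKsH
  have hbot : sigmaCore M ⊓ sigmaCore H = ⊥ := by
    by_contra hne
    have hcard : Nat.card ↥(sigmaCore M ⊓ sigmaCore H) ≠ 1 := fun h =>
      hne (Subgroup.card_eq_one.1 h)
    obtain ⟨r, hr, hrd⟩ := Nat.exists_prime_and_dvd hcard
    have hrM : r ∈ sigma M := Cfsg.Agent.Lib.Helper71.BG11.sigmaCore_pi hG hM hr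
      (hrd.trans (Subgroup.card_dvd_of_le inf_le_left))
    have hrH : r ∈ sigma H := Cfsg.Agent.Lib.Helper71.BG11.sigmaCore_pi hG hH hr
      (hrd.trans (Subgroup.card_dvd_of_le inf_le_right))
    exact hsp hG M H hM hH hnc r hrM hrH
  have hcomm : sigmaCore H ⊓ M ≤ Subgroup.centralizer (KStar M K : Set G) := by
    intro d hd
    rw [Subgroup.mem_centralizer_iff]
    intro k hk
    have hkH : k ∈ H := hKsH hk
    have hkσ : k ∈ sigmaCore M := hk.1
    have hnH := Cfsg.Agent.Lib.Helper71.BG11.le_normalizer_sigmaCore H hkH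
    have hnM := Cfsg.Agent.Lib.Helper71.BG11.le_normalizer_sigmaCore M hd.2
    have h1 : k * d⁻¹ * k⁻¹ ∈ sigmaCore H :=
      (Subgroup.mem_normalizer_iff.1 hnH d⁻¹).1 ((sigmaCore H).inv_mem hd.1)
    have h2 : d * k * d⁻¹ ∈ sigmaCore M := (Subgroup.mem_normalizer_iff.1 hnM k).1 hkσ
    have h3 : d * k * d⁻¹ * k⁻¹ ∈ sigmaCore M ⊓ sigmaCore H := by
      refine ⟨(sigmaCore M).mul_mem h2 ((sigmaCore M).inv_mem hkσ), ?_⟩
      have : d * k * d⁻¹ * k⁻¹ = d * (k * d⁻¹ * k⁻¹) := by group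
      rw [this]
      exact (sigmaCore H).mul_mem hd.1 h1
    rw [hbot, Subgroup.mem_bot] at h3
    have : d * k = k * d := by
      have h4 : d * k * d⁻¹ * k⁻¹ * (k * d) = k * d := by rw [h3, one_mul]
      rw [← h4]
      group
    exact this.symm
  exact ⟨hnc, hXσ, hZH, hσ, hbot, hcomm, ks.hKs⟩

end Cfsg.Agent.Lib.Helper03.BG147
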