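import Mathlib
import Cfsg.Agent.S1374

set_option autoImplicit false

/-!
# K-153-E (keystone 143805, S1438 pack, architect helper32)

`x ∈ M_σ`, `x ≠ 1`, `g x g⁻¹ ∈ M`  ⟹  `g x g⁻¹ = m x m⁻¹` for some `m ∈ M`
(BG Theorem 14.4(a) = S1374: the complement `R ≤ C_G(x)` is transitive on the conjugates of `M` through `x`;
`N_G(M) = M`).
-/

namespace Cfsg.Agent.Lib.Helper03.BG153

open Cfsg

variable {G : Type*} [Group G] [Finite G]

/-- a coatom of a simple group is self-normalizing (if it is not trivial) -/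
theorem normalizer_coatom_eq (hG : IsMinSimpleOddOrder G) {M : Subgroup G} (hM : IsCoatom M)
    (hM1 : M ≠ ⊥) : Subgroup.normalizer (M : Set G) = M := by
  haveI : IsSimpleGroup G := hG.2.1
  rcases hM.le_iff.mp (Subgroup.le_normalizer (H := M)) with h | h
  · exfalso
    rw [Subgroup.normalizer_eq_top_iff] at h
    rcases h.eq_bot_or_eq_top with h3 | h3
    · exact hM1 h3
    · exact hM.1 h3
  · exact h

theorem mem_normalizer_of_map_conj_eq {M : Subgroup G} {n : G}
    (h : M.map (MulAut.conj n).toMonoidHom = M) : n ∈ Subgroup.normalizer (M : Set G) := by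
  rw [Subgroup.mem_normalizer_iff]
  intro a
  constructor
  · intro ha
    rw [← h]
    exact ⟨a, ha, by simp [MulAut.conj_apply]⟩
  · intro ha
    rw [← h] at ha
    obtain ⟨b, hb, hbe⟩ := ha
    have : b = a := by
      have h1 : n * b * n⁻¹ = n * a * n⁻¹ := by simpa [MulAut.conj_apply] using hbe
      have h2 := mul_right_cancel h1
      exact mul_left_cancel h2
    rw [← this]
    exact hb

/-- 143805 K-153-E -/
theorem exists_mem_conj_eq (hG : IsMinSimpleOddOrder G) {M : Subgroup G} (hM : IsCoatom M)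
    {x g : G} (hx : x ∈ sigmaCore M) (hx1 : x ≠ 1) (hgx : g * x * g⁻¹ ∈ M) :
    ∃ m ∈ M, m * x * m⁻¹ = g * x * g⁻¹ := by
  obtain ⟨-, R, -, hRc, huniq⟩ := Cfsg.Agent.S1374.result hG M hM x hx hx1
  have hxg : x ∈ M.map (MulAut.conj g⁻¹).toMonoidHom := by
    refine ⟨g * x * g⁻¹, hgx, ?_⟩
    simp only [MulEquiv.coe_toMonoidHom, MulAut.conj_apply, inv_inv]
    group
  obtain ⟨r, ⟨hrR, hrM⟩, -⟩ := huniq g⁻¹ hxg
  have hrc : r ∈ Subgroup.centralizer ({x} : Set G) := hRc.2.1 hrR
  have hrx : r * x * r⁻¹ = x := by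
    have h1 : x * r = r * x := Subgroup.mem_centralizer_iff.mp hrc x (Set.mem_singleton x)
    rw [← h1, mul_inv_cancel_right]
  -- `g * r` normalizes `M`
  have hmap : M.map (MulAut.conj (g * r)).toMonoidHom = M := by
    have h1 : (M.map (MulAut.conj r).toMonoidHom).map (MulAut.conj g).toMonoidHom =
        (M.map (MulAut.conj g⁻¹).toMonoidHom).map (MulAut.conj g).toMonoidHom := by rw [hrM]
    rw [Subgroup.map_map, Subgroup.map_map] at h1
    have e1 : (MulAut.conj g).toMonoidHom.comp (MulAut.conj r).toMonoidHom =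
        (MulAut.conj (g * r)).toMonoidHom := by
      ext a
      simp [MulAut.conj_apply, mul_assoc]
    have e2 : (MulAut.conj g).toMonoidHom.comp (MulAut.conj g⁻¹).toMonoidHom =
        MonoidHom.id G := by
      ext a
      simp [MulAut.conj_apply, mul_assoc]
    rw [e1, e2, Subgroup.map_id] at h1
    exact h1
  have hM1 : M ≠ ⊥ := by
    intro h
    have hxM : x ∈ M := by
      have := hgx
      rw [h, Subgroup.mem_bot] at this
      have hx' : x = 1 := by
        have h2 : g * x = g := by
          have := congrArg (· * g) this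
          simpa using this
        exact mul_left_cancel (a := g) (by rw [h2, mul_one])
      exact absurd hx' hx1
    rw [h, Subgroup.mem_bot] at hxM
    exact hx1 hxM
  have hgr : g * r ∈ M := by
    have := mem_normalizer_of_map_conj_eq hmap
    rwa [normalizer_coatom_eq hG hM hM1] at this
  refine ⟨g * r, hgr, ?_⟩
  calc g * r * x * (g * r)⁻¹ = g * (r * x * r⁻¹) * g⁻¹ := by group
    _ = g * x * g⁻¹ := by rw [hrx]

end Cfsg.Agent.Lib.Helper03.BG153
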