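import Mathlib
import Cfsg.Agent.Lib.Helper70.BQSDefs

set_option autoImplicit false

namespace Cfsg.Agent.Lib.Helper03.BQS

open Cfsg Cfsg.Agent.Lib.Helper70.BQS

/-- Schur–Zassenhaus lift of an abelian subgroup of `G ⧸ M` for a normal Hall subgroup `M`. -/
theorem b3_exists_lift {G : Type*} [Group G] [Finite G] (M : Subgroup G) [M.Normal]
    (hc : (Nat.card ↥M).Coprime M.index) (A : Subgroup (G ⧸ M)) (hA : IsMulCommutative ↥A) :
    ∃ A0 : Subgroup G, IsMulCommutative ↥A0 ∧ A0.map (QuotientGroup.mk' M) = A ∧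
      Nat.card ↥A0 = Nat.card ↥A := by
  classical
  set H : Subgroup G := A.comap (QuotientGroup.mk' M) with hH
  have hMH : M ≤ H := by
    intro m hm
    rw [hH, Subgroup.mem_comap]
    have : (QuotientGroup.mk' M) m = 1 := (QuotientGroup.eq_one_iff m).2 hm
    rw [this]; exact one_mem A
  have hmapH : H.map (QuotientGroup.mk' M) = A :=
    Subgroup.map_comap_eq_self_of_surjective (QuotientGroup.mk'_surjective M) A
  -- coprimality inside H
  have hcardN : Nat.card ↥(M.subgroupOf H) = Nat.card ↥M :=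
    Nat.card_congr (Subgroup.subgroupOfEquivOfLe hMH).toEquiv
  have hidx : (M.subgroupOf H).index ∣ M.index := by
    have : (M.subgroupOf H).index = M.relIndex H := rfl
    rw [this]
    exact Subgroup.relIndex_dvd_index_of_normal M H
  have hcop : (Nat.card ↥(M.subgroupOf H)).Coprime (M.subgroupOf H).index := by
    rw [hcardN]
    exact Nat.Coprime.coprime_dvd_right hidx hc
  obtain ⟨K, hK⟩ := Subgroup.exists_right_complement'_of_coprime hcop
  have hdisj : ∀ k : ↥H, k ∈ K → (k : G) ∈ M → k = 1 := by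
    intro k hkK hkM
    have h1 : k ∈ M.subgroupOf H ⊓ K := ⟨Subgroup.mem_subgroupOf.2 hkM, hkK⟩
    rw [hK.disjoint.eq_bot] at h1
    exact Subgroup.mem_bot.1 h1
  refine ⟨K.map H.subtype, ?_, ?_, ?_⟩
  · -- commutative
    rw [isMulCommutative_iff]
    rintro ⟨x, hx⟩ ⟨y, hy⟩
    obtain ⟨k1, hk1, rfl⟩ := Subgroup.mem_map.1 hx
    obtain ⟨k2, hk2, rfl⟩ := Subgroup.mem_map.1 hy
    apply Subtype.ext
    show H.subtype k1 * H.subtype k2 = H.subtype k2 * H.subtype k1
    have hcomm : k1 * k2 * k1⁻¹ * k2⁻¹ = 1 := by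
      apply hdisj _ (K.mul_mem (K.mul_mem (K.mul_mem hk1 hk2) (K.inv_mem hk1)) (K.inv_mem hk2))
      rw [← QuotientGroup.eq_one_iff]
      have ha1 : ((k1 : G) : G ⧸ M) ∈ A := k1.2
      have ha2 : ((k2 : G) : G ⧸ M) ∈ A := k2.2
      have hAc := (isMulCommutative_iff.1 hA) ⟨_, ha1⟩ ⟨_, ha2⟩
      have hAc' : ((k1 : G) : G ⧸ M) * ((k2 : G) : G ⧸ M) = ((k2 : G) : G ⧸ M) * ((k1 : G) : G ⧸ M) :=
        congrArg Subtype.val hAc
      push_cast
      simp only [QuotientGroup.mk_mul, QuotientGroup.mk_inv]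
      rw [hAc']
      group
    have : k1 * k2 = k2 * k1 := by
      have := hcomm
      calc k1 * k2 = (k1 * k2 * k1⁻¹ * k2⁻¹) * (k2 * k1) := by group
        _ = k2 * k1 := by rw [hcomm, one_mul]
    rw [← map_mul, ← map_mul, this]
  · -- image is A
    apply le_antisymm
    · rw [← hmapH]
      exact Subgroup.map_mono (Subgroup.map_subtype_le K)
    · intro a ha
      rw [← hmapH] at ha
      obtain ⟨h, hhH, rfl⟩ := Subgroup.mem_map.1 ha
      -- decompose ⟨h, hhH⟩ = n * k
      obtain ⟨⟨⟨n, hn⟩, ⟨k, hk⟩⟩, hnk⟩ := hK.existsUnique (⟨h, hhH⟩ : ↥H) |>.exists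
      simp only at hnk
      refine Subgroup.mem_map.2 ⟨(k : G), Subgroup.mem_map.2 ⟨k, hk, rfl⟩, ?_⟩
      have h2 : h = (n : G) * (k : G) := by
        have := congrArg Subtype.val hnk
        simpa using this.symm
      rw [h2, map_mul]
      have hn' : (QuotientGroup.mk' M) (n : G) = 1 :=
        (QuotientGroup.eq_one_iff _).2 (Subgroup.mem_subgroupOf.1 hn)
      rw [hn', one_mul]
  · -- cardinality
    have hinj : Function.Injective (fun x : ↥(K.map H.subtype) =>
        (⟨(QuotientGroup.mk' M) (x : G), Subgroup.mem_map_of_mem _ x.2⟩ :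
          ↥((K.map H.subtype).map (QuotientGroup.mk' M)))) := by
      rintro ⟨x, hx⟩ ⟨y, hy⟩ hxy
      obtain ⟨k1, hk1, rfl⟩ := Subgroup.mem_map.1 hx
      obtain ⟨k2, hk2, rfl⟩ := Subgroup.mem_map.1 hy
      have h1 : (QuotientGroup.mk' M) (H.subtype k1) = (QuotientGroup.mk' M) (H.subtype k2) :=
        congrArg Subtype.val hxy
      have h2 : ((k1⁻¹ * k2 : ↥H) : G) ∈ M := by
        have := (QuotientGroup.eq (s := M)).1 h1
        simpa using this
      have h3 : k1⁻¹ * k2 = 1 := hdisj _ (K.mul_mem (K.inv_mem hk1) hk2) h2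
      have h4 : k1 = k2 := by
        have := inv_mul_eq_one.1 h3
        exact this
      subst h4
      rfl
    have hsurj : Function.Surjective (fun x : ↥(K.map H.subtype) =>
        (⟨(QuotientGroup.mk' M) (x : G), Subgroup.mem_map_of_mem _ x.2⟩ :
          ↥((K.map H.subtype).map (QuotientGroup.mk' M)))) := by
      rintro ⟨y, hy⟩
      obtain ⟨x, hx, rfl⟩ := Subgroup.mem_map.1 hy
      exact ⟨⟨x, hx⟩, rfl⟩
    have hcard := Nat.card_eq_of_bijective _ ⟨hinj, hsurj⟩
    rw [hcard]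
    -- (K.map subtype).map mk = A was shown above; redo quickly
    have himg : (K.map H.subtype).map (QuotientGroup.mk' M) = A := by
      apply le_antisymm
      · rw [← hmapH]
        exact Subgroup.map_mono (Subgroup.map_subtype_le K)
      · intro a ha
        rw [← hmapH] at ha
        obtain ⟨h, hhH, rfl⟩ := Subgroup.mem_map.1 ha
        obtain ⟨⟨⟨n, hn⟩, ⟨k, hk⟩⟩, hnk⟩ := hK.existsUnique (⟨h, hhH⟩ : ↥H) |>.exists
        simp only at hnk
        refine Subgroup.mem_map.2 ⟨(k : G), Subgroup.mem_map.2 ⟨k, hk, rfl⟩, ?_⟩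
        have h2 : h = (n : G) * (k : G) := by
          have := congrArg Subtype.val hnk
          simpa using this.symm
        rw [h2, map_mul]
        have hn' : (QuotientGroup.mk' M) (n : G) = 1 :=
          (QuotientGroup.eq_one_iff _).2 (Subgroup.mem_subgroupOf.1 hn)
        rw [hn', one_mul]
    rw [himg]

/-- B3. -/
theorem propB_quot_of_coprime {G : Type*} [Group G] [Finite G] (hB : PropB G) (M : Subgroup G) [M.Normal]
    (hc : (Nat.card ↥M).Coprime M.index) : PropB (G ⧸ M) := by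
  intro A B hA hBc hAB
  obtain ⟨A0, hA0c, hA0m, hA0card⟩ := b3_exists_lift M hc A hA
  obtain ⟨B0, hB0c, hB0m, hB0card⟩ := b3_exists_lift M hc B hBc
  obtain ⟨g, hg⟩ := hB A0 B0 hA0c hB0c (by rw [hA0card, hB0card, hAB])
  refine ⟨(g : G ⧸ M), ?_⟩
  have hhom : (QuotientGroup.mk' M).comp (MulAut.conj g).toMonoidHom =
      (MulAut.conj (g : G ⧸ M)).toMonoidHom.comp (QuotientGroup.mk' M) := by
    ext x
    simp
  rw [← hB0m, hg, ← hA0m, Subgroup.map_map, Subgroup.map_map, hhom]

end Cfsg.Agent.Lib.Helper03.BQS
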