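import Mathlib
import Cfsg.Agent.Lib.Helper41.Conj

set_option autoImplicit false

/-!
# Bad pairs: `p'`-elements normalizing but not centralizing a `p`-subgroup

`IsBad p R` says that some element of order prime to `p` normalizes `R` without centralizing it.
Frobenius' criterion says that `G` has a normal `p`-complement iff no `p`-subgroup is bad.

The main tool is `exists_normalizing_of_sylow`: a Frattini-type extension lemma.  If `M ≤ N_G(R)` is
normalized by `N_G(R)`, all its `p'`-elements centralize `R`, and `T` is a Sylow `p`-subgroup of `M`,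
then the action on `R` of any `p'`-element of `N_G(R)` is also induced by a `p'`-element of
`N_G(R) ∩ N_G(T)`.
-/

namespace Cfsg.Agent.Lib.Helper03

open Cfsg.Agent.Lib.Helper41

variable {G : Type*} [Group G]

/-- Some `p'`-element normalizes but does not centralize `R`. -/
def IsBad (p : ℕ) (R : Subgroup G) : Prop :=
  ∃ y ∈ Subgroup.normalizer (R : Set G), (orderOf y).Coprime p ∧ ∃ r ∈ R, y * r ≠ r * y

theorem orderOf_conj_eq (g y : G) : orderOf (g * y * g⁻¹) = orderOf y := by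
  have : g * y * g⁻¹ = MulAut.conj g y := by simp [MulAut.conj_apply]
  rw [this, MulEquiv.orderOf_eq]

theorem IsBad.lc {p : ℕ} {R : Subgroup G} (h : IsBad p R) (g : G) : IsBad p (lc g R) := by
  obtain ⟨y, hy, hyo, r, hr, hne⟩ := h
  refine ⟨g * y * g⁻¹, ?_, ?_, g * r * g⁻¹, conj_mem_lc hr, ?_⟩
  · rw [normalizer_lc]; exact conj_mem_lc hy
  · rwa [orderOf_conj_eq]
  · intro heq
    apply hne
    have h1 : g * (y * r) * g⁻¹ = g * (r * y) * g⁻¹ := by
      calc g * (y * r) * g⁻¹ = g * y * g⁻¹ * (g * r * g⁻¹) := by group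
        _ = g * r * g⁻¹ * (g * y * g⁻¹) := heq
        _ = g * (r * y) * g⁻¹ := by group
    exact mul_left_cancel (mul_right_cancel h1)

/-- The `p'`-part trick: `n ^ (p ^ k)` has order prime to `p` for `k` the `p`-adic valuation of `|G|`. -/
theorem coprime_orderOf_pow_ordProj [Finite G] (p : ℕ) [Fact p.Prime] (n : G) :
    (orderOf (n ^ (p ^ (Nat.card G).factorization p))).Coprime p := by
  have hp : p.Prime := Fact.out
  have hcard : Nat.card G ≠ 0 := Nat.card_pos.ne'
  have h1 : (n ^ (p ^ (Nat.card G).factorization p)) ^ (Nat.card G / p ^ (Nat.card G).factorization p) = 1 := by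
    rw [← pow_mul, Nat.ordProj_mul_ordCompl_eq_self]
    exact pow_card_eq_one'
  have h2 : orderOf (n ^ (p ^ (Nat.card G).factorization p)) ∣
      Nat.card G / p ^ (Nat.card G).factorization p := orderOf_dvd_of_pow_eq_one h1
  exact Nat.Coprime.coprime_dvd_left h2 (Nat.coprime_ordCompl hp hcard).symm

/-- If `n` and `y` induce the same conjugation on `R` (and normalize it) so do their powers. -/
theorem conj_pow_eq_of_conj_eq {R : Subgroup G} {n y : G}
    (hy : y ∈ Subgroup.normalizer (R : Set G))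
    (h : ∀ r ∈ R, n * r * n⁻¹ = y * r * y⁻¹) (k : ℕ) :
    ∀ r ∈ R, n ^ k * r * (n ^ k)⁻¹ = y ^ k * r * (y ^ k)⁻¹ := by
  induction k with
  | zero => intro r _; simp
  | succ k ih =>
    intro r hr
    have hyr : y ^ k * r * (y ^ k)⁻¹ ∈ R :=
      (Subgroup.mem_normalizer_iff.mp (pow_mem hy k) r).mp hr
    calc n ^ (k + 1) * r * (n ^ (k + 1))⁻¹ = n * (n ^ k * r * (n ^ k)⁻¹) * n⁻¹ := by
          rw [pow_succ']; group
      _ = n * (y ^ k * r * (y ^ k)⁻¹) * n⁻¹ := by rw [ih r hr]
      _ = y * (y ^ k * r * (y ^ k)⁻¹) * y⁻¹ := h _ hyr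
      _ = y ^ (k + 1) * r * (y ^ (k + 1))⁻¹ := by rw [pow_succ']; group

/-- A `p'`-element commuting with `R` after raising to a `p`-power commutes with `R`. -/
theorem commute_of_pow_prime_pow_commute {p : ℕ} [Fact p.Prime] {y : G} (hyo : (orderOf y).Coprime p)
    (k : ℕ) {r : G} (h : y ^ (p ^ k) * r = r * y ^ (p ^ k)) : y * r = r * y := by
  obtain ⟨m, hm⟩ := exists_pow_eq_self_of_coprime (Nat.Coprime.pow_left k hyo.symm)
  have hc : Commute (y ^ (p ^ k)) r := h
  have := hc.pow_left m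
  rw [hm] at this
  exact this

/-- Subgroup generated by a Sylow `p`-subgroup `T` of `M` and a subgroup `C` containing all `p'`-elements
of `M` contains `M`. -/
theorem le_sup_of_sylow_of_pprime [Finite G] {p : ℕ} [Fact p.Prime] {M T C : Subgroup G}
    (hTM : T ≤ M) (hTs : ¬ p ∣ T.relIndex M) (hCM : C ≤ M)
    (hM : ∀ m ∈ M, (orderOf m).Coprime p → m ∈ C) : M ≤ T ⊔ C := by
  have hp : p.Prime := Fact.out
  have hXM : T ⊔ C ≤ M := sup_le hTM hCM
  rw [← Subgroup.relIndex_eq_one]
  by_contra hne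
  obtain ⟨q, hq, hqd⟩ := Nat.exists_prime_and_dvd hne
  have : Fact q.Prime := ⟨hq⟩
  have hqp : q ≠ p := by
    rintro rfl
    exact hTs (hqd.trans (Subgroup.relIndex_dvd_of_le_left M le_sup_left))
  obtain ⟨Rq, -, hRqM, hRq, hRqs⟩ := exists_sylowIn_ge (p := q) (H := M) (Q := ⊥)
    IsPGroup.of_bot bot_le
  have hRqC : Rq ≤ C := by
    intro x hx
    apply hM x (hRqM hx)
    obtain ⟨j, hj⟩ := hRq ⟨x, hx⟩
    have hj' : x ^ q ^ j = 1 := by
      have := congrArg Subtype.val hj
      simpa using this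
    have : orderOf x ∣ q ^ j := orderOf_dvd_of_pow_eq_one hj'
    exact Nat.Coprime.coprime_dvd_left this
      (Nat.Coprime.pow_left j ((Nat.coprime_primes hq hp).mpr hqp))
  exact hRqs (hqd.trans (Subgroup.relIndex_dvd_of_le_left M (hRqC.trans le_sup_right)))

/-- **Frattini-type extension lemma.** -/
theorem exists_normalizing_of_sylow [Finite G] {p : ℕ} [Fact p.Prime] {R M T : Subgroup G}
    (hMN : M ≤ Subgroup.normalizer (R : Set G))
    (hMnorm : ∀ g ∈ Subgroup.normalizer (R : Set G), ∀ m ∈ M, g * m * g⁻¹ ∈ M)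
    (hM : ∀ m ∈ M, (orderOf m).Coprime p → m ∈ Subgroup.centralizer (R : Set G))
    (hTM : T ≤ M) (hT : IsPGroup p T) (hTs : ¬ p ∣ T.relIndex M)
    {y : G} (hy : y ∈ Subgroup.normalizer (R : Set G)) (hyo : (orderOf y).Coprime p)
    {r₀ : G} (hr₀ : r₀ ∈ R) (hne : y * r₀ ≠ r₀ * y) :
    ∃ n ∈ Subgroup.normalizer (R : Set G), n ∈ Subgroup.normalizer (T : Set G) ∧
      (orderOf n).Coprime p ∧ ∃ r ∈ R, n * r ≠ r * n := by
  -- Sylow conjugacy inside M
  have h1 : lc y T ≤ M := by
    intro x hx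
    rw [mem_lc] at hx
    have := hMnorm y hy _ (hTM hx)
    have e : y * (y⁻¹ * x * y) * y⁻¹ = x := by group
    rwa [e] at this
  obtain ⟨m, hmM, hm⟩ := exists_lc_le_of_relIndex hTM hT hTs (isPGroup_lc (g := y) hT) h1
  rw [← lc_mul] at hm
  have hmy : m * y ∈ Subgroup.normalizer (T : Set G) := mem_normalizer_of_lc_le hm
  -- M = T * (C ∩ M)
  set C' : Subgroup G := Subgroup.centralizer (R : Set G) ⊓ M with hC'
  have hle : M ≤ T ⊔ C' :=
    le_sup_of_sylow_of_pprime hTM hTs inf_le_right (fun x hx hxo => ⟨hM x hx hxo, hx⟩)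
  have hTC' : T ≤ Subgroup.normalizer (C' : Set G) := by
    intro t ht
    apply Subgroup.mem_normalizer_fintype
    intro c hc
    have htN : t ∈ Subgroup.normalizer (R : Set G) := hMN (hTM ht)
    refine Subgroup.mem_inf.mpr ⟨?_, hMnorm t htN c hc.2⟩
    have hcC : c ∈ Subgroup.centralizer (R : Set G) := hc.1
    rw [Subgroup.mem_centralizer_iff] at hcC ⊢
    intro r hr
    have hr' : t⁻¹ * r * t ∈ R := by
      have := (Subgroup.mem_normalizer_iff.mp (inv_mem htN) r).mp hr
      simpa using this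
    have := hcC _ hr'
    calc r * (t * c * t⁻¹) = t * ((t⁻¹ * r * t) * c) * t⁻¹ := by group
      _ = t * (c * (t⁻¹ * r * t)) * t⁻¹ := by rw [this]
      _ = t * c * t⁻¹ * r := by group
  have hmem : m ∈ ((T ⊔ C' : Subgroup G) : Set G) := hle hmM
  rw [Subgroup.coe_mul_of_left_le_normalizer_right T C' hTC'] at hmem
  obtain ⟨t, ht, c, hc, rfl⟩ := Set.mem_mul.mp hmem
  have hcC : c ∈ Subgroup.centralizer (R : Set G) := hc.1
  -- n₀ = c * y
  have hn₀T : c * y ∈ Subgroup.normalizer (T : Set G) := by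
    have : c * y = t⁻¹ * (t * c * y) := by group
    rw [this]
    exact mul_mem (inv_mem (Subgroup.le_normalizer ht)) hmy
  have hn₀R : c * y ∈ Subgroup.normalizer (R : Set G) :=
    mul_mem (Subgroup.centralizer_le_normalizer _ hcC) hy
  have hact : ∀ r ∈ R, (c * y) * r * (c * y)⁻¹ = y * r * y⁻¹ := by
    intro r hr
    have hyr : y * r * y⁻¹ ∈ R := (Subgroup.mem_normalizer_iff.mp hy r).mp hr
    have := Subgroup.mem_centralizer_iff.mp hcC _ hyr
    calc (c * y) * r * (c * y)⁻¹ = c * (y * r * y⁻¹) * c⁻¹ := by group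
      _ = (y * r * y⁻¹) * c * c⁻¹ := by rw [this]
      _ = y * r * y⁻¹ := by group
  set k := (Nat.card G).factorization p with hk
  refine ⟨(c * y) ^ (p ^ k), pow_mem hn₀R _, pow_mem hn₀T _, coprime_orderOf_pow_ordProj p _, ?_⟩
  by_contra hall
  push Not at hall
  apply hne
  apply commute_of_pow_prime_pow_commute hyo k
  have h2 := conj_pow_eq_of_conj_eq hy hact (p ^ k) r₀ hr₀
  have h3 : (c * y) ^ (p ^ k) * r₀ * ((c * y) ^ (p ^ k))⁻¹ = r₀ := by
    rw [hall r₀ hr₀]; group
  rw [h3] at h2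
  calc y ^ (p ^ k) * r₀ = (y ^ (p ^ k) * r₀ * (y ^ (p ^ k))⁻¹) * y ^ (p ^ k) := by group
    _ = r₀ * y ^ (p ^ k) := by rw [← h2]

end Cfsg.Agent.Lib.Helper03
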