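import Mathlib

/-!
# Pack K-CD3 (S4460), leaf N3 (keystone 446003): `G' ≤ H'` and `H''' = 1` give `G''' = 1`.
-/

set_option autoImplicit false

universe u

namespace Cfsg.Agent.Lib.Helper03.CD3

variable {G : Type u} [Group G] [Finite G]

theorem n3_derivedSeries_le {G : Type u} [Group G] (H : Subgroup G) (hle : commutator G ≤ ⁅H, H⁆) (k : ℕ) :
    derivedSeries G (k + 1) ≤ (derivedSeries H (k + 1)).map H.subtype := by
  induction k with
  | zero =>
    have h1 : derivedSeries G (0 + 1) = commutator G := by
      rw [derivedSeries_succ, derivedSeries_zero, commutator_def]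
    have h2 : (derivedSeries H (0 + 1)).map H.subtype = ⁅H, H⁆ := by
      rw [derivedSeries_succ, derivedSeries_zero, Subgroup.map_commutator]
      have : (⊤ : Subgroup H).map H.subtype = H := by
        rw [← MonoidHom.range_eq_map, Subgroup.range_subtype]
      rw [this]
    rw [h1, h2]
    exact hle
  | succ k ih =>
    rw [derivedSeries_succ G (k + 1), derivedSeries_succ H (k + 1), Subgroup.map_commutator]
    exact Subgroup.commutator_mono ih ih

/-- 446003 N3 : `G' ≤ H'` and `H''' = 1` give `G''' = 1` (Mathlib only). -/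
theorem d3_of_commutator_le (H : Subgroup G) (hle : commutator G ≤ ⁅H, H⁆)
    (hH : derivedSeries H 3 = ⊥) : derivedSeries G 3 = ⊥ := by
  have h := n3_derivedSeries_le H hle 2
  rw [show 2 + 1 = 3 by norm_num, hH, Subgroup.map_bot] at h
  exact le_bot_iff.mp h

end Cfsg.Agent.Lib.Helper03.CD3
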