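import Mathlib.GroupTheory.Sylow
import Mathlib.GroupTheory.Transfer
import Mathlib.GroupTheory.Abelianization.Defs
import Mathlib.GroupTheory.PGroup

set_option autoImplicit false

namespace Cfsg.Agent.Lib.Helper03

/-- `Z(H) ∩ H' ∩ P ≤ P'` for a Sylow `p`-subgroup `P` of a finite group `H`. -/
theorem mem_commutator_sylow_of_mem_center_of_mem_commutator {H : Type*} [Group H] [Finite H]
    {p : ℕ} [Fact p.Prime] (P : Sylow p H) (z : H) (hzP : z ∈ (P : Subgroup H))
    (hzZ : z ∈ Subgroup.center H) (hzC : z ∈ commutator H) :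
    (⟨z, hzP⟩ : (P : Subgroup H)) ∈ commutator (P : Subgroup H) := by
  have hp : p.Prime := Fact.out
  let φ : (P : Subgroup H) →* Abelianization (P : Subgroup H) := Abelianization.of
  have key : ∀ (k : ℕ) (g₀ : H), g₀⁻¹ * z ^ k * g₀ ∈ (P : Subgroup H) →
      g₀⁻¹ * z ^ k * g₀ = z ^ k := by
    intro k g₀ _
    have hzk : z ^ k ∈ Subgroup.center H := pow_mem hzZ k
    rw [Subgroup.mem_center_iff] at hzk
    rw [mul_assoc, ← hzk g₀, ← mul_assoc, inv_mul_cancel, one_mul]
  have h1 := MonoidHom.transfer_eq_pow φ z key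
  have h2 : MonoidHom.transfer φ z = 1 :=
    Abelianization.commutator_subset_ker (MonoidHom.transfer φ) hzC
  rw [h2] at h1
  set w : (P : Subgroup H) := ⟨z, hzP⟩ with hw
  have h3 : w ^ (P : Subgroup H).index ∈ commutator (P : Subgroup H) := by
    rw [← Abelianization.ker_of, MonoidHom.mem_ker]
    rw [h1]
    congr 1
  -- `w` is a power of `w ^ index`
  obtain ⟨k, hk⟩ := (P.2 w)
  have hcop : ((P : Subgroup H).index).Coprime (orderOf w) := by
    have h4 : orderOf w ∣ p ^ k := orderOf_dvd_of_pow_eq_one hk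
    have h5 : ((P : Subgroup H).index).Coprime (p ^ k) :=
      Nat.Coprime.pow_right k
        ((Nat.Coprime.symm ((Nat.Prime.coprime_iff_not_dvd hp).mpr P.not_dvd_index)))
    exact Nat.Coprime.coprime_dvd_right h4 h5
  obtain ⟨m, hm⟩ := exists_pow_eq_self_of_coprime hcop
  rw [← hm]
  exact pow_mem h3 m

end Cfsg.Agent.Lib.Helper03
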