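import Mathlib
import Cfsg.Agent.Lib.Helper03.SylowBasic

set_option autoImplicit false

namespace Cfsg.Agent.Lib.Helper03

open Subgroup

universe u

/-- Membership in a conjugate subgroup, elementwise. -/
theorem mem_map_conj_iff {C : Type*} [Group C] (H : Subgroup C) (c y : C) :
    y ∈ H.map (MulAut.conj c).toMonoidHom ↔ c⁻¹ * y * c ∈ H := by
  rw [Subgroup.mem_map]
  constructor
  · rintro ⟨t, ht, rfl⟩
    simp only [MulEquiv.coe_toMonoidHom, MulAut.conj_apply]
    have : c⁻¹ * (c * t * c⁻¹) * c = t := by group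
    rw [this]; exact ht
  · intro hy
    refine ⟨c⁻¹ * y * c, hy, ?_⟩
    simp only [MulEquiv.coe_toMonoidHom, MulAut.conj_apply]
    group

/-- A conjugate of an abelian subgroup is abelian (elementwise form). -/
theorem mul_comm_of_mem_map_conj {C : Type*} [Group C] (H : Subgroup C) (c : C)
    (hab : ∀ a ∈ H, ∀ b ∈ H, a * b = b * a) :
    ∀ a ∈ H.map (MulAut.conj c).toMonoidHom, ∀ b ∈ H.map (MulAut.conj c).toMonoidHom,
      a * b = b * a := by
  intro a ha b hb
  have h1 := hab _ ((mem_map_conj_iff H c a).mp ha) _ ((mem_map_conj_iff H c b).mp hb)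
  have h2 : c⁻¹ * (a * b) * c = c⁻¹ * (b * a) * c := by
    have e1 : c⁻¹ * (a * b) * c = (c⁻¹ * a * c) * (c⁻¹ * b * c) := by group
    have e2 : c⁻¹ * (b * a) * c = (c⁻¹ * b * c) * (c⁻¹ * a * c) := by group
    rw [e1, e2, h1]
  exact mul_left_cancel (mul_right_cancel h2)

/-- Restricting a complement pair to a subgroup containing the right factor. -/
theorem isComplement'_subgroupOf_of_le {C : Type*} [Group C] {K H D : Subgroup C}
    (h : K.IsComplement' H) (hHD : H ≤ D) :
    (K.subgroupOf D).IsComplement' (H.subgroupOf D) := by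
  apply isComplement'_of_disjoint_and_mul_eq_univ
  · rw [disjoint_iff, eq_bot_iff]
    intro x hx
    rw [Subgroup.mem_inf, Subgroup.mem_subgroupOf, Subgroup.mem_subgroupOf] at hx
    have h1 : (x : C) ∈ K ⊓ H := Subgroup.mem_inf.mpr hx
    rw [disjoint_iff.mp h.disjoint, Subgroup.mem_bot] at h1
    rw [Subgroup.mem_bot]
    exact Subtype.ext h1
  · rw [Set.eq_univ_iff_forall]
    intro d
    obtain ⟨⟨k, t⟩, hkt⟩ := h.2 (d : C)
    have hkt' : (k : C) * (t : C) = d := hkt
    have htD : (t : C) ∈ D := hHD t.2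
    have hkD : (k : C) ∈ D := by
      have h2 : (k : C) = d * (t : C)⁻¹ := by rw [← hkt']; group
      rw [h2]
      exact D.mul_mem d.2 (D.inv_mem htD)
    refine Set.mem_mul.mpr ⟨⟨k, hkD⟩, ?_, ⟨t, htD⟩, ?_, ?_⟩
    · exact Subgroup.mem_subgroupOf.mpr k.2
    · exact Subgroup.mem_subgroupOf.mpr t.2
    · exact Subtype.ext hkt'

/-- A conjugate of a coprime complement is again a complement. -/
theorem isComplement'_map_conj_of_coprime {C : Type*} [Group C] [Finite C] {K H : Subgroup C}
    (h : K.IsComplement' H) (hcop : Nat.Coprime (Nat.card K) (Nat.card H)) (c : C) :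
    K.IsComplement' (H.map (MulAut.conj c).toMonoidHom) := by
  have hcard : Nat.card (H.map (MulAut.conj c).toMonoidHom) = Nat.card H :=
    Subgroup.card_map_of_injective (MulAut.conj c).injective
  apply isComplement'_of_coprime
  · rw [hcard]; exact h.card_mul_card
  · rw [hcard]; exact hcop

theorem card_subgroupOf_eq_card_inf {C : Type*} [Group C] (K D : Subgroup C) :
    Nat.card (K.subgroupOf D) = Nat.card (K ⊓ D : Subgroup C) := by
  rw [← Subgroup.inf_subgroupOf_right K D]
  exact Nat.card_congr (Subgroup.subgroupOfEquivOfLe inf_le_right).toEquiv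

theorem card_subgroupOf_of_le {C : Type*} [Group C] {H D : Subgroup C} (h : H ≤ D) :
    Nat.card (H.subgroupOf D) = Nat.card H :=
  Nat.card_congr (Subgroup.subgroupOfEquivOfLe h).toEquiv

/-- Schur–Zassenhaus conjugacy for abelian complements (induction form). -/
theorem exists_conj_of_abelian_complements_aux :
    ∀ n : ℕ, ∀ {C : Type u} [Group C] [Finite C], Nat.card C = n →
      ∀ (K H H₁ : Subgroup C), K.Normal → K.IsComplement' H → K.IsComplement' H₁ →
        (∀ a ∈ H, ∀ b ∈ H, a * b = b * a) → (∀ a ∈ H₁, ∀ b ∈ H₁, a * b = b * a) →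
        Nat.Coprime (Nat.card K) (Nat.card H) →
        ∃ c : C, ∀ x, x ∈ H₁ ↔ c⁻¹ * x * c ∈ H := by
  intro n
  induction n using Nat.strong_induction_on with
  | _ n ih =>
  intro C _ _ hn K H H₁ hKn hKH hKH₁ hab hab₁ hcop
  have hKpos : 0 < Nat.card K := Nat.card_pos
  have hcardH : Nat.card H₁ = Nat.card H := by
    have h1 := hKH.card_mul_card
    have h2 := hKH₁.card_mul_card
    exact Nat.eq_of_mul_eq_mul_left hKpos (h2.trans h1.symm)
  by_cases hZ : H ≤ center C
  · refine ⟨1, ?_⟩
    have hle : H₁ ≤ H := by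
      intro x hx
      obtain ⟨⟨k, t⟩, hkt⟩ := hKH.2 x
      have hkt' : (k : C) * (t : C) = x := hkt
      have hxm : x ^ Nat.card H = 1 := by
        have h1 := pow_card_eq_one' (G := H₁) (x := ⟨x, hx⟩)
        rw [hcardH] at h1
        have h2 : (((⟨x, hx⟩ : H₁) ^ Nat.card H : H₁) : C) = ((1 : H₁) : C) :=
          congrArg Subtype.val h1
        rwa [Subgroup.coe_pow, Subgroup.coe_one] at h2
      have htm : (t : C) ^ Nat.card H = 1 := by
        have h1 := pow_card_eq_one' (G := H) (x := t)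
        have h2 : ((t ^ Nat.card H : H) : C) = ((1 : H) : C) := congrArg Subtype.val h1
        rwa [Subgroup.coe_pow, Subgroup.coe_one] at h2
      have hcomm : Commute (k : C) (t : C) := Subgroup.mem_center_iff.mp (hZ t.2) k
      have hkm : (k : C) ^ Nat.card H = 1 := by
        rw [← hkt', hcomm.mul_pow, htm, mul_one] at hxm
        exact hxm
      have hkK : (k : C) ^ Nat.card K = 1 := by
        have h1 := pow_card_eq_one' (G := K) (x := k)
        have h2 : ((k ^ Nat.card K : K) : C) = ((1 : K) : C) := congrArg Subtype.val h1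
        rwa [Subgroup.coe_pow, Subgroup.coe_one] at h2
      have hk1 : (k : C) = 1 := by
        have h1 : orderOf (k : C) ∣ Nat.card H := orderOf_dvd_of_pow_eq_one hkm
        have h2 : orderOf (k : C) ∣ Nat.card K := orderOf_dvd_of_pow_eq_one hkK
        have h3 := Nat.dvd_gcd h2 h1
        rw [hcop.gcd_eq_one] at h3
        exact orderOf_eq_one_iff.mp (Nat.dvd_one.mp h3)
      rw [← hkt', hk1, one_mul]; exact t.2
    have heq : H₁ = H := Subgroup.eq_of_le_of_card_ge hle (le_of_eq hcardH.symm)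
    intro x; simp [heq]
  · -- find a prime `p` and a Sylow `p`-subgroup of `H` which is not central
    have hex : ∃ (p : ℕ) (_ : Fact p.Prime) (Q : Sylow p H),
        ¬ (Q : Subgroup H).map H.subtype ≤ center C := by
      by_contra hcon
      push Not at hcon
      apply hZ
      have hdvd : Nat.card H ∣ Nat.card ((center C).subgroupOf H) := by
        rw [Nat.dvd_iff_prime_pow_dvd_dvd]
        intro p k hp hpk
        have : Fact p.Prime := ⟨hp⟩
        let Q : Sylow p H := default
        have h1 : p ^ k ∣ Nat.card Q := Q.pow_dvd_card_of_pow_dvd_card hpk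
        have h2 : (Q : Subgroup H) ≤ (center C).subgroupOf H := by
          intro x hx
          rw [Subgroup.mem_subgroupOf]
          exact hcon p ⟨hp⟩ Q (Subgroup.mem_map_of_mem _ hx)
        exact h1.trans (Subgroup.card_dvd_of_le h2)
      have htop : (center C).subgroupOf H = ⊤ := by
        apply Subgroup.eq_top_of_card_eq
        exact Nat.dvd_antisymm (Subgroup.card_subgroup_dvd_card _) hdvd
      intro x hx
      have h3 : (⟨x, hx⟩ : H) ∈ (center C).subgroupOf H := by rw [htop]; trivial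
      exact Subgroup.mem_subgroupOf.mp h3
    obtain ⟨p, hp, Q, hQ⟩ := hex
    have hpH : p ∣ Nat.card H := by
      by_contra hnd
      apply hQ
      have h1 : Nat.card Q = 1 := by
        rcases Q.2.card_eq_or_dvd with h | h
        · exact h
        · exact absurd (h.trans (Subgroup.card_subgroup_dvd_card _)) hnd
      have hbot : (Q : Subgroup H) = ⊥ := Subgroup.card_eq_one.mp h1
      rw [hbot, Subgroup.map_bot]; exact bot_le
    have hpK : ¬ p ∣ Nat.card K := fun h => by
      have h3 := Nat.dvd_gcd h hpH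
      rw [hcop.gcd_eq_one] at h3
      exact hp.out.not_dvd_one h3
    have hindexK : H.index = Nat.card K := hKH.index_eq_card
    have hindexK₁ : H₁.index = Nat.card K := hKH₁.index_eq_card
    have hPpg : IsPGroup p ((Q : Subgroup H).map H.subtype) := Q.2.map H.subtype
    have hPidx : ¬ p ∣ ((Q : Subgroup H).map H.subtype).index := by
      rw [Subgroup.index_map_subtype, hindexK]
      intro h
      rcases (Nat.Prime.dvd_mul hp.out).mp h with h | h
      · exact Q.not_dvd_index h
      · exact hpK h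
    let P : Sylow p C := hPpg.toSylow hPidx
    let Q₁ : Sylow p H₁ := default
    have hP₁pg : IsPGroup p ((Q₁ : Subgroup H₁).map H₁.subtype) := Q₁.2.map H₁.subtype
    have hP₁idx : ¬ p ∣ ((Q₁ : Subgroup H₁).map H₁.subtype).index := by
      rw [Subgroup.index_map_subtype, hindexK₁]
      intro h
      rcases (Nat.Prime.dvd_mul hp.out).mp h with h | h
      · exact Q₁.not_dvd_index h
      · exact hpK h
    let P₁ : Sylow p C := hP₁pg.toSylow hP₁idx
    obtain ⟨c₀, hc₀⟩ := MulAction.exists_smul_eq C P P₁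
    have hPH : ∀ y, y ∈ (P : Subgroup C) → y ∈ H := fun y hy =>
      Subgroup.map_subtype_le _ hy
    have hP₁H₁ : ∀ y, y ∈ (P₁ : Subgroup C) → y ∈ H₁ := fun y hy =>
      Subgroup.map_subtype_le _ hy
    have hP₁iff : ∀ y, y ∈ (P₁ : Subgroup C) ↔ c₀⁻¹ * y * c₀ ∈ (P : Subgroup C) := by
      intro y
      rw [← hc₀]
      exact mem_smul_sylow_iff' P c₀ y
    obtain ⟨x₀, hx₀P, hx₀Z⟩ := SetLike.not_le_iff_exists.mp hQ
    have hx₀P' : x₀ ∈ (P : Subgroup C) := hx₀P
    set H' : Subgroup C := H.map (MulAut.conj c₀).toMonoidHom with hH'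
    have hmemH' : ∀ y, y ∈ H' ↔ c₀⁻¹ * y * c₀ ∈ H := by
      intro y
      rw [hH', Subgroup.mem_map]
      constructor
      · rintro ⟨t, ht, rfl⟩
        simp only [MulEquiv.coe_toMonoidHom, MulAut.conj_apply]
        have : c₀⁻¹ * (c₀ * t * c₀⁻¹) * c₀ = t := by group
        rw [this]; exact ht
      · intro hy
        refine ⟨c₀⁻¹ * y * c₀, hy, ?_⟩
        simp only [MulEquiv.coe_toMonoidHom, MulAut.conj_apply]
        group
    have hP₁H' : ∀ y, y ∈ (P₁ : Subgroup C) → y ∈ H' := fun y hy =>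
      (hmemH' y).mpr (hPH _ ((hP₁iff y).mp hy))
    have hab' : ∀ a ∈ H', ∀ b ∈ H', a * b = b * a := by
      intro a ha b hb
      have h1 := hab _ ((hmemH' a).mp ha) _ ((hmemH' b).mp hb)
      have h2 : c₀⁻¹ * (a * b) * c₀ = c₀⁻¹ * (b * a) * c₀ := by
        have e1 : c₀⁻¹ * (a * b) * c₀ = (c₀⁻¹ * a * c₀) * (c₀⁻¹ * b * c₀) := by group
        have e2 : c₀⁻¹ * (b * a) * c₀ = (c₀⁻¹ * b * c₀) * (c₀⁻¹ * a * c₀) := by group
        rw [e1, e2, h1]
      exact mul_left_cancel (mul_right_cancel h2)
    set D : Subgroup C := centralizer ((P₁ : Subgroup C) : Set C) with hD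
    have hH₁D : H₁ ≤ D := by
      intro z hz
      rw [hD, Subgroup.mem_centralizer_iff]
      intro y hy
      exact hab₁ y (hP₁H₁ y hy) z hz
    have hH'D : H' ≤ D := by
      intro z hz
      rw [hD, Subgroup.mem_centralizer_iff]
      intro y hy
      exact hab' y (hP₁H' y hy) z hz
    have hDtop : D ≠ ⊤ := by
      intro htop
      rw [hD, Subgroup.centralizer_eq_top_iff_subset] at htop
      apply hx₀Z
      have hy₀ : c₀ * x₀ * c₀⁻¹ ∈ (P₁ : Subgroup C) := by
        rw [hP₁iff]
        have : c₀⁻¹ * (c₀ * x₀ * c₀⁻¹) * c₀ = x₀ := by group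
        rw [this]; exact hx₀P'
      have hy₀Z : c₀ * x₀ * c₀⁻¹ ∈ center C := htop hy₀
      have h4 := (inferInstance : (center C).Normal).conj_mem _ hy₀Z c₀⁻¹
      have : c₀⁻¹ * (c₀ * x₀ * c₀⁻¹) * c₀⁻¹⁻¹ = x₀ := by group
      rwa [this] at h4
    have hlt : Nat.card D < n := by
      rw [← hn]
      refine lt_of_le_of_ne (Subgroup.card_le_card_group D) ?_
      intro h
      exact hDtop (Subgroup.eq_top_of_card_eq _ h)
    have hKH'D : (K.subgroupOf D).IsComplement' (H'.subgroupOf D) :=
      isComplement'_subgroupOf_of_le (isComplement'_map_conj_of_coprime hKH hcop c₀) hH'D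
    have hKH₁D : (K.subgroupOf D).IsComplement' (H₁.subgroupOf D) :=
      isComplement'_subgroupOf_of_le hKH₁ hH₁D
    have hcopD : Nat.Coprime (Nat.card (K.subgroupOf D)) (Nat.card (H'.subgroupOf D)) := by
      rw [card_subgroupOf_of_le hH'D, card_subgroupOf_eq_card_inf]
      have h1 : Nat.card (H' : Subgroup C) = Nat.card H :=
        Subgroup.card_map_of_injective (MulAut.conj c₀).injective
      rw [h1]
      exact Nat.Coprime.coprime_dvd_left (Subgroup.card_dvd_of_le inf_le_left) hcop
    obtain ⟨d, hd⟩ := ih (Nat.card D) hlt rfl (K.subgroupOf D) (H'.subgroupOf D)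
      (H₁.subgroupOf D) (hKn.subgroupOf D) hKH'D hKH₁D
      (fun a ha b hb => Subtype.ext (hab' _ (Subgroup.mem_subgroupOf.mp ha) _
        (Subgroup.mem_subgroupOf.mp hb)))
      (fun a ha b hb => Subtype.ext (hab₁ _ (Subgroup.mem_subgroupOf.mp ha) _
        (Subgroup.mem_subgroupOf.mp hb)))
      hcopD
    refine ⟨(d : C) * c₀, fun x => ?_⟩
    have hkey : ((d : C) * c₀)⁻¹ * x * ((d : C) * c₀) = c₀⁻¹ * ((d : C)⁻¹ * x * d) * c₀ := by
      group
    rw [hkey, ← hmemH']
    constructor
    · intro hx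
      have hxD : x ∈ D := hH₁D hx
      have h1 := (hd ⟨x, hxD⟩).mp (Subgroup.mem_subgroupOf.mpr hx)
      have h2 := Subgroup.mem_subgroupOf.mp h1
      simpa using h2
    · intro hx
      have hxD : x ∈ D := by
        have h1 : (d : C)⁻¹ * x * d ∈ D := hH'D hx
        have h2 : x = (d : C) * ((d : C)⁻¹ * x * d) * (d : C)⁻¹ := by group
        rw [h2]
        exact D.mul_mem (D.mul_mem d.2 h1) (D.inv_mem d.2)
      have h3 : d⁻¹ * (⟨x, hxD⟩ : D) * d ∈ H'.subgroupOf D := by
        rw [Subgroup.mem_subgroupOf]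
        simpa using hx
      exact Subgroup.mem_subgroupOf.mp ((hd ⟨x, hxD⟩).mpr h3)

/-- **Schur–Zassenhaus conjugacy, abelian complements.** If `K` is normal in the finite group `C`
and `H`, `H₁` are abelian complements of `K` of order coprime to `|K|`, then `H₁` is a conjugate
of `H`. -/
theorem exists_conj_of_abelian_complements {C : Type u} [Group C] [Finite C]
    (K H H₁ : Subgroup C) (hKn : K.Normal) (hKH : K.IsComplement' H) (hKH₁ : K.IsComplement' H₁)
    (hab : ∀ a ∈ H, ∀ b ∈ H, a * b = b * a) (hab₁ : ∀ a ∈ H₁, ∀ b ∈ H₁, a * b = b * a)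
    (hcop : Nat.Coprime (Nat.card K) (Nat.card H)) :
    ∃ c : C, ∀ x, x ∈ H₁ ↔ c⁻¹ * x * c ∈ H :=
  exists_conj_of_abelian_complements_aux (Nat.card C) rfl K H H₁ hKn hKH hKH₁ hab hab₁ hcop

end Cfsg.Agent.Lib.Helper03
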