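import Cfsg.Agent.Lib.Helper03.FrobLin

/-!
# Frobenius groups acting on groups: the fixed point order formula

Abstract-action form.  `c : Γ →* MulAut H`.
-/

set_option autoImplicit false

namespace Cfsg.Agent.Lib.Helper03.FrobAct

open Cfsg.Agent.Lib.Helper03.FrobLin Module

universe u v w

section basic

variable {Γ : Type w} [Group Γ]

/-- fixed points of a subgroup `Y` of `Γ` in an action `c : Γ →* MulAut H` -/
def fixedPts {H : Type*} [Group H] (c : Γ →* MulAut H) (Y : Subgroup Γ) : Subgroup H where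
  carrier := {h | ∀ y ∈ Y, c y h = h}
  mul_mem' := by
    intro a b ha hb y hy
    rw [map_mul, ha y hy, hb y hy]
  one_mem' := by
    intro y _
    exact map_one _
  inv_mem' := by
    intro a ha y hy
    rw [map_inv, ha y hy]

theorem mem_fixedPts {H : Type*} [Group H] (c : Γ →* MulAut H) (Y : Subgroup Γ) (h : H) :
    h ∈ fixedPts c Y ↔ ∀ y ∈ Y, c y h = h := Iff.rfl

end basic

section lin

variable {Γ : Type w} [Group Γ] {V : Type u} [CommGroup V] (p : ℕ) [Fact p.Prime]
  [Module (ZMod p) (Additive V)]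

/-- the linear representation attached to an action on an elementary abelian group -/
noncomputable def linRep (c : Γ →* MulAut V) : Representation (ZMod p) Γ (Additive V) where
  toFun g := (MonoidHom.toAdditive (c g).toMonoidHom).toZModLinearMap p
  map_one' := by
    ext x
    simp
  map_mul' a b := by
    ext x
    simp

theorem linRep_apply (c : Γ →* MulAut V) (g : Γ) (x : Additive V) :
    linRep p c g x = Additive.ofMul (c g x.toMul) := rfl

theorem card_fixedPts_eq (c : Γ →* MulAut V) (Y : Subgroup Γ) :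
    Nat.card (fixedPts c Y) = Nat.card (fixedSub (linRep p c) Y) := by
  apply Nat.card_congr
  refine ⟨fun x => ⟨Additive.ofMul x.1, fun y hy => ?_⟩, fun x => ⟨x.1.toMul, fun y hy => ?_⟩,
    fun x => rfl, fun x => rfl⟩
  · rw [linRep_apply]
    exact congrArg Additive.ofMul (x.2 y hy)
  · have := x.2 y hy
    rw [linRep_apply] at this
    exact congrArg Additive.toMul this

end lin

section elem

variable {Γ : Type w} [Group Γ]

theorem card_eq_pow_finrank_aux {W : Type*} [AddCommGroup W] (p : ℕ) [Fact p.Prime]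
    [Module (ZMod p) W] [Finite W] : Nat.card W = p ^ finrank (ZMod p) W := by
  rw [Module.natCard_eq_pow_finrank (K := ZMod p) (V := W), Nat.card_zmod]

theorem wielandt_elem_aux [Finite Γ] {V : Type u} [CommGroup V] [Finite V] (p : ℕ) [Fact p.Prime]
    [Module (ZMod p) (Additive V)] (hp : ¬ p ∣ Nat.card Γ)
    (c : Γ →* MulAut V) (U E : Subgroup Γ) [U.Normal] (hgen : U ⊔ E = ⊤)
    (hfpf : ∀ e ∈ E, e ≠ 1 → ∀ u ∈ U, e * u = u * e → u = 1) (hnil : Group.IsNilpotent U) :
    Nat.card (fixedPts c ⊤) ^ Nat.card E * Nat.card V =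
      Nat.card (fixedPts c E) ^ Nat.card E * Nat.card (fixedPts c U) := by
  have hG : (Nat.card Γ : ZMod p) ≠ 0 := by
    rw [Ne, ZMod.natCast_eq_zero_iff]
    exact hp
  have hfinA : Finite (Additive V) := inferInstanceAs (Finite V)
  have hfin : Module.Finite (ZMod p) (Additive V) := Module.Finite.of_finite
  have key := wielandt_lin (k := ZMod p) hG U E hgen hfpf hnil (linRep p c)
  have hV : Nat.card V = p ^ finrank (ZMod p) (Additive V) := by
    rw [← card_eq_pow_finrank_aux p]
    exact Nat.card_congr Additive.ofMul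
  let S0 : Submodule (ZMod p) (Additive V) := fixedSub (linRep p c) ⊤
  let SE : Submodule (ZMod p) (Additive V) := fixedSub (linRep p c) E
  let SU : Submodule (ZMod p) (Additive V) := fixedSub (linRep p c) U
  have h1 : Nat.card S0 = p ^ finrank (ZMod p) S0 := card_eq_pow_finrank_aux p
  have h2 : Nat.card SE = p ^ finrank (ZMod p) SE := card_eq_pow_finrank_aux p
  have h3 : Nat.card SU = p ^ finrank (ZMod p) SU := card_eq_pow_finrank_aux p
  rw [card_fixedPts_eq p c ⊤, card_fixedPts_eq p c E, card_fixedPts_eq p c U, hV,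
    h1, h2, h3, ← pow_mul, ← pow_mul, ← pow_add, ← pow_add]
  congr 1
  rw [mul_comm _ (Nat.card E), mul_comm _ (Nat.card E)]
  exact key

/-- **Frobenius–Wielandt formula**, elementary abelian case. -/
theorem wielandt_elem [Finite Γ] {V : Type u} [CommGroup V] [Finite V] (p : ℕ) [Fact p.Prime]
    (hexp : ∀ v : V, v ^ p = 1) (hp : ¬ p ∣ Nat.card Γ)
    (c : Γ →* MulAut V) (U E : Subgroup Γ) [U.Normal] (hgen : U ⊔ E = ⊤)
    (hfpf : ∀ e ∈ E, e ≠ 1 → ∀ u ∈ U, e * u = u * e → u = 1) (hnil : Group.IsNilpotent U) :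
    Nat.card (fixedPts c ⊤) ^ Nat.card E * Nat.card V =
      Nat.card (fixedPts c E) ^ Nat.card E * Nat.card (fixedPts c U) := by
  letI _inst : Module (ZMod p) (Additive V) := AddCommGroup.zmodModule (n := p) (fun x => by
    show Additive.ofMul (x.toMul ^ p) = 0
    rw [hexp]; rfl)
  exact wielandt_elem_aux p hp c U E hgen hfpf hnil

end elem

open scoped commutatorElement

section quot

variable {Γ : Type w} [Group Γ] {H : Type u} [Group H]

theorem char_mem_iff (N : Subgroup H) [hN : N.Characteristic] (ϕ : H ≃* H) (x : H) :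
    ϕ x ∈ N ↔ x ∈ N := by
  have := hN.fixed ϕ
  constructor
  · intro h
    rw [← this]
    exact h
  · intro h
    rw [← this] at h
    exact h

/-- restriction of an action to a characteristic subgroup -/
def subAct (c : Γ →* MulAut H) (N : Subgroup H) [N.Characteristic] : Γ →* MulAut N where
  toFun g :=
    { toFun := fun n => ⟨c g n, (char_mem_iff N (c g) n).mpr n.2⟩
      invFun := fun n => ⟨(c g).symm n, (char_mem_iff N (c g).symm n).mpr n.2⟩
      left_inv := fun n => Subtype.ext (by simp)
      right_inv := fun n => Subtype.ext (by simp)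
      map_mul' := fun a b => Subtype.ext (by simp) }
  map_one' := by
    ext n
    simp
  map_mul' a b := by
    ext n
    simp

theorem subAct_apply (c : Γ →* MulAut H) (N : Subgroup H) [N.Characteristic] (g : Γ) (n : N) :
    ((subAct c N g n : N) : H) = c g n := rfl

/-- the induced action on the quotient by a characteristic subgroup -/
def quotAct (c : Γ →* MulAut H) (N : Subgroup H) [N.Characteristic] : Γ →* MulAut (H ⧸ N) where
  toFun g := QuotientGroup.congr N N (c g) (Subgroup.characteristic_iff_map_eq.mp inferInstance (c g))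
  map_one' := by
    ext x
    induction x using QuotientGroup.induction_on with
    | H x => simp
  map_mul' a b := by
    ext x
    induction x using QuotientGroup.induction_on with
    | H x =>
      simp only [map_mul, MulAut.mul_apply]
      rfl

theorem quotAct_mk (c : Γ →* MulAut H) (N : Subgroup H) [N.Characteristic] (g : Γ) (x : H) :
    quotAct c N g (x : H ⧸ N) = ((c g x : H) : H ⧸ N) := rfl

end quot

section lemmaM

variable {Γ : Type w} [Group Γ] {H : Type u} [Group H]

/-- every invariant coset of an abelian characteristic subgroup of coprime order contains a fixed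
point -/
theorem exists_fixed_in_coset (c : Γ →* MulAut H) (N : Subgroup H) [N.Characteristic] [Finite N]
    (hNc : ∀ a ∈ N, ∀ b ∈ N, a * b = b * a) (Y : Subgroup Γ) [Finite Y]
    (hcop : (Nat.card N).Coprime (Nat.card Y)) (h : H)
    (hh : ∀ y ∈ Y, h⁻¹ * c y h ∈ N) : ∃ m ∈ N, ∀ y ∈ Y, c y (h * m) = h * m := by
  classical
  letI : CommGroup N :=
    { (inferInstance : Group N) with
      mul_comm := fun a b => Subtype.ext (hNc a a.2 b b.2) }
  have : Fintype Y := Fintype.ofFinite Y
  let n : Y → N := fun y => ⟨h⁻¹ * c y h, hh y y.2⟩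
  let a : Γ →* MulAut N := subAct c N
  have hcoc : ∀ y y' : Y, n (y * y') = n y * a y (n y') := by
    intro y y'
    apply Subtype.ext
    show h⁻¹ * c ((y : Γ) * y') h = h⁻¹ * c y h * c y (h⁻¹ * c y' h)
    rw [map_mul, MulAut.mul_apply, map_mul, map_inv]
    group
  let m₀ : N := ∏ y' : Y, n y'
  have hm₀ : ∀ y : Y, a y m₀ = (n y)⁻¹ ^ (Fintype.card Y) * m₀ := by
    intro y
    have h1 : a y m₀ = ∏ y' : Y, a y (n y') := map_prod (a y).toMonoidHom _ _
    have h2 : ∀ y' : Y, a y (n y') = (n y)⁻¹ * n (y * y') := by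
      intro y'
      rw [hcoc]; group
    rw [h1, Finset.prod_congr rfl (fun y' _ => h2 y'), Finset.prod_mul_distrib,
      Finset.prod_const, Finset.card_univ]
    congr 1
    exact Fintype.prod_equiv (Equiv.mulLeft y) _ _ (fun _ => rfl)
  have hcop' : (Nat.card N).Coprime (Fintype.card Y) := by
    rwa [← Nat.card_eq_fintype_card]
  let pw : N ≃ N := powCoprime hcop'
  obtain ⟨m, hm⟩ := pw.surjective m₀
  have hm' : m ^ Fintype.card Y = m₀ := hm
  refine ⟨m, m.2, ?_⟩
  intro y hy
  have h3 : a y m = (n ⟨y, hy⟩)⁻¹ * m := by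
    apply pw.injective
    show (a y m) ^ Fintype.card Y = ((n ⟨y, hy⟩)⁻¹ * m) ^ Fintype.card Y
    rw [← map_pow, hm', hm₀ ⟨y, hy⟩, mul_pow, hm']
  have h4 : c y m = (h⁻¹ * c y h)⁻¹ * m := congrArg Subtype.val h3
  rw [map_mul, h4]
  group

end lemmaM

section lemmaM2

variable {Γ : Type w} [Group Γ] {H : Type u} [Group H]

theorem card_fixedPts_mul (c : Γ →* MulAut H) (N : Subgroup H) [N.Characteristic] [Finite H]
    (hNc : ∀ a ∈ N, ∀ b ∈ N, a * b = b * a) (Y : Subgroup Γ) [Finite Y]
    (hcop : (Nat.card N).Coprime (Nat.card Y)) :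
    Nat.card (fixedPts c Y) =
      Nat.card (fixedPts (subAct c N) Y) * Nat.card (fixedPts (quotAct c N) Y) := by
  let f : ↥(fixedPts c Y) →* H ⧸ N := (QuotientGroup.mk' N).comp (fixedPts c Y).subtype
  have hker : Nat.card f.ker = Nat.card (fixedPts (subAct c N) Y) := by
    apply Nat.card_congr
    refine ⟨fun x => ⟨⟨(x.1 : H), ?_⟩, ?_⟩, fun n => ⟨⟨(n.1 : H), ?_⟩, ?_⟩, ?_, ?_⟩
    · have := x.2
      rw [MonoidHom.mem_ker] at this
      exact (QuotientGroup.eq_one_iff _).mp this
    · intro y hy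
      apply Subtype.ext
      exact x.1.2 y hy
    · intro y hy
      exact congrArg Subtype.val (n.2 y hy)
    · rw [MonoidHom.mem_ker]
      exact (QuotientGroup.eq_one_iff _).mpr n.1.2
    · intro x; rfl
    · intro n; rfl
  have hrange : f.range = fixedPts (quotAct c N) Y := by
    ext xb
    constructor
    · rintro ⟨x, rfl⟩
      intro y hy
      show quotAct c N y ((x.1 : H) : H ⧸ N) = ((x.1 : H) : H ⧸ N)
      rw [quotAct_mk, x.2 y hy]
    · intro hx
      induction xb using QuotientGroup.induction_on with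
      | H h =>
        have hh : ∀ y ∈ Y, h⁻¹ * c y h ∈ N := by
          intro y hy
          have := hx y hy
          rw [quotAct_mk] at this
          exact QuotientGroup.eq.mp this.symm
        obtain ⟨m, hm, hfix⟩ := exists_fixed_in_coset c N hNc Y hcop h hh
        refine ⟨⟨h * m, hfix⟩, ?_⟩
        show ((h * m : H) : H ⧸ N) = (h : H ⧸ N)
        rw [QuotientGroup.eq]
        simpa using N.inv_mem hm
  have h1 := Subgroup.card_mul_index f.ker
  rw [Subgroup.index_ker, hker, hrange] at h1
  exact h1.symm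

end lemmaM2

section charsub

open scoped commutatorElement

variable {H : Type u} [Group H]

/-- a nontrivial finite solvable group has a nontrivial characteristic elementary abelian
subgroup -/
theorem exists_char_elem_abelian [Finite H] [Nontrivial H] (hs : Group.IsSolvable H) :
    ∃ (N : Subgroup H) (p : ℕ), N.Characteristic ∧ p.Prime ∧ N ≠ ⊥ ∧
      (∀ a ∈ N, ∀ b ∈ N, a * b = b * a) ∧ ∀ a ∈ N, a ^ p = 1 := by
  classical
  have hex : ∃ n, derivedSeries H n = ⊥ := hs.solvable
  set n := Nat.find hex with hn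
  have hn0 : n ≠ 0 := by
    intro h0
    have := Nat.find_spec hex
    rw [← hn, h0, derivedSeries_zero] at this
    exact top_ne_bot this
  obtain ⟨k, hk⟩ := Nat.exists_eq_succ_of_ne_zero hn0
  set D := derivedSeries H k with hD
  have hDne : D ≠ ⊥ := by
    intro h
    have : n ≤ k := Nat.find_min' hex h
    omega
  have hDD : ⁅D, D⁆ = ⊥ := by
    have := Nat.find_spec hex
    rw [← hn, hk] at this
    exact this
  have hDc : ∀ a ∈ D, ∀ b ∈ D, a * b = b * a := by
    intro a ha b hb
    have h1 : ⁅a, b⁆ ∈ ⁅D, D⁆ := Subgroup.commutator_mem_commutator ha hb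
    rw [hDD, Subgroup.mem_bot, commutatorElement_eq_one_iff_mul_comm] at h1
    exact h1
  have hcard : Nat.card D ≠ 1 := by
    intro h
    exact hDne (Subgroup.card_eq_one.mp h)
  obtain ⟨p, hp, hpd⟩ := Nat.exists_prime_and_dvd hcard
  have : Fact p.Prime := ⟨hp⟩
  let N : Subgroup H :=
    { carrier := {x | x ∈ D ∧ x ^ p = 1}
      mul_mem' := by
        rintro a b ⟨ha, ha'⟩ ⟨hb, hb'⟩
        refine ⟨D.mul_mem ha hb, ?_⟩
        rw [Commute.mul_pow (hDc a ha b hb), ha', hb', one_mul]
      one_mem' := ⟨D.one_mem, one_pow _⟩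
      inv_mem' := by
        rintro a ⟨ha, ha'⟩
        exact ⟨D.inv_mem ha, by rw [inv_pow, ha', inv_one]⟩ }
  refine ⟨N, p, ?_, hp, ?_, ?_, ?_⟩
  · rw [Subgroup.characteristic_iff_le_comap]
    intro ϕ x hx
    refine ⟨?_, ?_⟩
    · exact (char_mem_iff D ϕ x).mpr hx.1
    · show (ϕ x) ^ p = 1
      rw [← map_pow, hx.2, map_one]
  · obtain ⟨x, hx⟩ := exists_prime_orderOf_dvd_card' (G := D) p hpd
    intro hN
    have h1 : (x : H) ∈ N := ⟨x.2, by rw [← Subgroup.coe_pow, ← hx, pow_orderOf_eq_one]; rfl⟩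
    rw [hN, Subgroup.mem_bot] at h1
    have h2 : x = 1 := Subtype.ext h1
    rw [h2, orderOf_one] at hx
    exact hp.one_lt.ne hx
  · intro a ha b hb
    exact hDc a ha.1 b hb.1
  · intro a ha
    exact ha.2

end charsub

section solv

variable {Γ : Type w} [Group Γ]

/-- **Frobenius–Wielandt fixed point formula** for a Frobenius-like group `Γ = U ⋊ E`
(`U` nilpotent normal, `E` acting without fixed points on `U`) acting coprimely on a solvable
group `H`. -/
theorem wielandt_solvable [Finite Γ] (U E : Subgroup Γ) [U.Normal] (hgen : U ⊔ E = ⊤)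
    (hfpf : ∀ e ∈ E, e ≠ 1 → ∀ u ∈ U, e * u = u * e → u = 1) (hnil : Group.IsNilpotent U) :
    ∀ (n : ℕ) (H : Type u) [Group H] [Finite H], Nat.card H = n → Group.IsSolvable H →
      (Nat.card H).Coprime (Nat.card Γ) → ∀ c : Γ →* MulAut H,
      Nat.card (fixedPts c ⊤) ^ Nat.card E * Nat.card H =
        Nat.card (fixedPts c E) ^ Nat.card E * Nat.card (fixedPts c U) := by
  intro n
  induction n using Nat.strong_induction_on with
  | _ n ih =>
  intro H _ _ hn hs hcop c
  by_cases hH : Nontrivial H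
  swap
  · have hsub : Subsingleton H := not_nontrivial_iff_subsingleton.mp hH
    have h1 : ∀ K : Subgroup H, Nat.card K = 1 := fun K => Nat.card_unique
    have h2 : Nat.card H = 1 := Nat.card_unique
    rw [h1, h1, h1, h2]
  obtain ⟨N, p, hNchar, hp, hNne, hNc, hNexp⟩ := exists_char_elem_abelian hs
  have : Fact p.Prime := ⟨hp⟩
  have hNn : N.Normal := inferInstance
  have hcardH : Nat.card (H ⧸ N) * Nat.card N = Nat.card H :=
    (Subgroup.card_eq_card_quotient_mul_card_subgroup N).symm
  have hN1 : 1 < Nat.card N := by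
    rw [Finite.one_lt_card_iff_nontrivial]
    exact (Subgroup.nontrivial_iff_ne_bot N).mpr hNne
  have hNdvd : Nat.card N ∣ Nat.card H := Subgroup.card_subgroup_dvd_card N
  have hQdvd : Nat.card (H ⧸ N) ∣ Nat.card H := ⟨Nat.card N, hcardH.symm⟩
  have hpN : p ∣ Nat.card N := by
    obtain ⟨a, ha1⟩ := (Subgroup.ne_bot_iff_exists_ne_one).mp hNne
    have h1 : a ^ p = 1 := Subtype.ext (by rw [Subgroup.coe_pow]; exact hNexp a a.2)
    have h2 : orderOf a ∣ p := orderOf_dvd_of_pow_eq_one h1
    rcases (Nat.dvd_prime hp).mp h2 with h3 | h3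
    · exact absurd (orderOf_eq_one_iff.mp h3) ha1
    · rw [← h3]; exact orderOf_dvd_natCard a
  have hpΓ : ¬ p ∣ Nat.card Γ := by
    intro h
    have h1 : p ∣ Nat.gcd (Nat.card H) (Nat.card Γ) := Nat.dvd_gcd (hpN.trans hNdvd) h
    rw [hcop] at h1
    exact hp.one_lt.ne' (Nat.dvd_one.mp h1)
  have hcopY : ∀ Y : Subgroup Γ, (Nat.card N).Coprime (Nat.card Y) := fun Y =>
    Nat.Coprime.coprime_dvd_left hNdvd
      (Nat.Coprime.coprime_dvd_right (Subgroup.card_subgroup_dvd_card Y) hcop)
  have hM0 := card_fixedPts_mul c N hNc ⊤ (hcopY ⊤)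
  have hME := card_fixedPts_mul c N hNc E (hcopY E)
  have hMU := card_fixedPts_mul c N hNc U (hcopY U)
  have hqpos : 0 < Nat.card (H ⧸ N) := Nat.card_pos
  have hlt : Nat.card (H ⧸ N) < n := by
    rw [← hn, ← hcardH]
    exact lt_mul_of_one_lt_right hqpos hN1
  have hQ := ih (Nat.card (H ⧸ N)) hlt (H ⧸ N) rfl inferInstance
    (Nat.Coprime.coprime_dvd_left hQdvd hcop) (quotAct c N)
  have hNf : Nat.card (fixedPts (subAct c N) ⊤) ^ Nat.card E * Nat.card N =
      Nat.card (fixedPts (subAct c N) E) ^ Nat.card E * Nat.card (fixedPts (subAct c N) U) := by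
    letI instN : CommGroup N :=
      { (inferInstance : Group N) with
        mul_comm := fun a b => Subtype.ext (hNc a a.2 b b.2) }
    exact wielandt_elem (V := ↥N) p (fun v => Subtype.ext (by
      rw [Subgroup.coe_pow]; exact hNexp v v.2)) hpΓ (subAct c N) U E hgen hfpf hnil
  rw [hM0, hME, hMU, ← hcardH, mul_pow, mul_pow]
  calc Nat.card (fixedPts (subAct c N) ⊤) ^ Nat.card E * Nat.card (fixedPts (quotAct c N) ⊤) ^ Nat.card E
        * (Nat.card (H ⧸ N) * Nat.card N)
      = (Nat.card (fixedPts (subAct c N) ⊤) ^ Nat.card E * Nat.card N) *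
        (Nat.card (fixedPts (quotAct c N) ⊤) ^ Nat.card E * Nat.card (H ⧸ N)) := by ring
    _ = (Nat.card (fixedPts (subAct c N) E) ^ Nat.card E * Nat.card (fixedPts (subAct c N) U)) *
        (Nat.card (fixedPts (quotAct c N) E) ^ Nat.card E * Nat.card (fixedPts (quotAct c N) U)) := by
        rw [hNf, hQ]
    _ = _ := by ring

end solv

section comm

variable {Γ : Type w} [Group Γ]

theorem commute_elem_aux [Finite Γ] {V : Type u} [CommGroup V] [Finite V] (p : ℕ) [Fact p.Prime]
    [Module (ZMod p) (Additive V)] (hp : ¬ p ∣ Nat.card Γ)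
    (c : Γ →* MulAut V) (U E : Subgroup Γ) [U.Normal]
    (hfpf : ∀ e ∈ E, e ≠ 1 → ∀ u ∈ U, e * u = u * e → u = 1) (hnil : Group.IsNilpotent U)
    (hCU : ∀ v, (∀ u ∈ U, c u v = v) → v = 1) (hcard : Nat.card V = p ^ Nat.card E) :
    ∀ g ∈ U, ∀ h ∈ U, ∀ v, c g (c h v) = c h (c g v) := by
  have hG : (Nat.card Γ : ZMod p) ≠ 0 := by
    rw [Ne, ZMod.natCast_eq_zero_iff]
    exact hp
  have hfinA : Finite (Additive V) := inferInstanceAs (Finite V)
  have hfin : Module.Finite (ZMod p) (Additive V) := Module.Finite.of_finite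
  have hV : Nat.card V = p ^ finrank (ZMod p) (Additive V) := by
    rw [← card_eq_pow_finrank_aux p]
    exact Nat.card_congr Additive.ofMul
  have hdim : finrank (ZMod p) (Additive V) = Nat.card E := by
    rw [hV] at hcard
    exact Nat.pow_right_injective (Fact.out : p.Prime).two_le hcard
  have key := commute_of_finrank_eq_card (k := ZMod p) hG U E hfpf hnil (linRep p c)
    (fun v hv => by
      have := hCU v.toMul (fun u hu => by
        have := hv u hu
        rw [linRep_apply] at this
        exact congrArg Additive.toMul this)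
      exact congrArg Additive.ofMul this) hdim
  intro g hg h hh v
  have := congrArg (fun f : Module.End (ZMod p) (Additive V) => f (Additive.ofMul v)) (key g hg h hh)
  simp only [Module.End.mul_apply, linRep_apply] at this
  exact congrArg Additive.toMul this

/-- group form: Frobenius group acting on an elementary abelian group of order `p ^ |E|` with
`C_V(U) = 1`: the kernel acts through an abelian group. -/
theorem commute_elem [Finite Γ] {V : Type u} [CommGroup V] [Finite V] (p : ℕ) [Fact p.Prime]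
    (hexp : ∀ v : V, v ^ p = 1) (hp : ¬ p ∣ Nat.card Γ)
    (c : Γ →* MulAut V) (U E : Subgroup Γ) [U.Normal]
    (hfpf : ∀ e ∈ E, e ≠ 1 → ∀ u ∈ U, e * u = u * e → u = 1) (hnil : Group.IsNilpotent U)
    (hCU : ∀ v, (∀ u ∈ U, c u v = v) → v = 1) (hcard : Nat.card V = p ^ Nat.card E) :
    ∀ g ∈ U, ∀ h ∈ U, ∀ v, c g (c h v) = c h (c g v) := by
  letI _inst : Module (ZMod p) (Additive V) := AddCommGroup.zmodModule (n := p) (fun x => by
    show Additive.ofMul (x.toMul ^ p) = 0
    rw [hexp]; rfl)
  exact commute_elem_aux p hp c U E hfpf hnil hCU hcard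

end comm

section solvcomm

variable {Γ : Type w} [Group Γ] {H : Type u} [Group H]

theorem exists_fixed_lift (c : Γ →* MulAut H) (N : Subgroup H) [N.Characteristic] [Finite N]
    (hNc : ∀ a ∈ N, ∀ b ∈ N, a * b = b * a) (Y : Subgroup Γ) [Finite Y]
    (hcop : (Nat.card N).Coprime (Nat.card Y)) (xb : H ⧸ N)
    (hx : xb ∈ fixedPts (quotAct c N) Y) : ∃ x ∈ fixedPts c Y, (x : H ⧸ N) = xb := by
  induction xb using QuotientGroup.induction_on with
  | H h =>
    have hh : ∀ y ∈ Y, h⁻¹ * c y h ∈ N := by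
      intro y hy
      have := hx y hy
      rw [quotAct_mk] at this
      exact QuotientGroup.eq.mp this.symm
    obtain ⟨m, hm, hfix⟩ := exists_fixed_in_coset c N hNc Y hcop h hh
    refine ⟨h * m, hfix, ?_⟩
    rw [QuotientGroup.eq]
    simpa using N.inv_mem hm

/-- an operator acting trivially on a characteristic subgroup `N` and on `H ⧸ N`, of order prime
to `|N|`, acts trivially on `H`. -/
theorem trivial_of_trivial_sub_quot [Finite Γ] (c : Γ →* MulAut H) (N : Subgroup H)
    [N.Characteristic] [Finite N] (y : Γ) (hcop : (Nat.card N).Coprime (Nat.card Γ))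
    (hN : ∀ n ∈ N, c y n = n) (hQ : ∀ xb : H ⧸ N, quotAct c N y xb = xb) (x : H) :
    c y x = x := by
  set n := x⁻¹ * c y x with hn
  have hnN : n ∈ N := by
    have := hQ (x : H ⧸ N)
    rw [quotAct_mk] at this
    exact QuotientGroup.eq.mp this.symm
  have hpow : ∀ k : ℕ, c (y ^ k) x = x * n ^ k := by
    intro k
    induction k with
    | zero => simp
    | succ k ih =>
      rw [pow_succ', map_mul, MulAut.mul_apply, ih, map_mul, map_pow, hN n hnN, pow_succ',
        ← mul_assoc]
      congr 1
      rw [hn]; group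
  have h1 : n ^ orderOf y = 1 := by
    have := hpow (orderOf y)
    rw [pow_orderOf_eq_one, map_one, MulAut.one_apply] at this
    exact mul_left_cancel (a := x) (by rw [← this, mul_one])
  have h2 : n ^ Nat.card N = 1 := by
    have := pow_card_eq_one' (G := N) (x := ⟨n, hnN⟩)
    have h3 := congrArg Subtype.val this
    rwa [Subgroup.coe_pow] at h3
  have h3 : orderOf n ∣ Nat.gcd (orderOf y) (Nat.card N) :=
    Nat.dvd_gcd (orderOf_dvd_of_pow_eq_one h1) (orderOf_dvd_of_pow_eq_one h2)
  have h4 : Nat.gcd (orderOf y) (Nat.card N) = 1 :=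
    Nat.Coprime.coprime_dvd_left (orderOf_dvd_natCard y) hcop.symm
  rw [h4, Nat.dvd_one, orderOf_eq_one_iff] at h3
  calc c y x = x * n := by rw [hn]; group
    _ = x := by rw [h3, mul_one]

end solvcomm

section solvcomm2

variable {Γ : Type w} [Group Γ]

/-- **BG 3.3(c)-type statement**: Frobenius-like `Γ = U ⋊ E` acting coprimely on a solvable group
`H` with `C_H(U) = 1` and `C_H(E)` cyclic: `U'` acts trivially on `H`. -/
theorem comm_trivial_solvable [Finite Γ] (U E : Subgroup Γ) [U.Normal] (hgen : U ⊔ E = ⊤)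
    (hfpf : ∀ e ∈ E, e ≠ 1 → ∀ u ∈ U, e * u = u * e → u = 1) (hnil : Group.IsNilpotent U) :
    ∀ (n : ℕ) (H : Type u) [Group H] [Finite H], Nat.card H = n → Group.IsSolvable H →
      (Nat.card H).Coprime (Nat.card Γ) → ∀ c : Γ →* MulAut H,
      fixedPts c U = ⊥ → IsCyclic (fixedPts c E) →
      ∀ g ∈ U, ∀ h ∈ U, ∀ x : H, c ⁅g, h⁆ x = x := by
  intro n
  induction n using Nat.strong_induction_on with
  | _ n ih =>
  intro H _ _ hn hs hcop c hCU hcyc g hg h hh x
  by_cases hH : Nontrivial H
  swap
  · have hsub : Subsingleton H := not_nontrivial_iff_subsingleton.mp hH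
    exact Subsingleton.elim _ _
  obtain ⟨N, p, hNchar, hp, hNne, hNc, hNexp⟩ := exists_char_elem_abelian hs
  have : Fact p.Prime := ⟨hp⟩
  have hNn : N.Normal := inferInstance
  have hcardH : Nat.card (H ⧸ N) * Nat.card N = Nat.card H :=
    (Subgroup.card_eq_card_quotient_mul_card_subgroup N).symm
  have hN1 : 1 < Nat.card N := by
    rw [Finite.one_lt_card_iff_nontrivial]
    exact (Subgroup.nontrivial_iff_ne_bot N).mpr hNne
  have hNdvd : Nat.card N ∣ Nat.card H := Subgroup.card_subgroup_dvd_card N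
  have hQdvd : Nat.card (H ⧸ N) ∣ Nat.card H := ⟨Nat.card N, hcardH.symm⟩
  have hpN : p ∣ Nat.card N := by
    obtain ⟨a, ha1⟩ := (Subgroup.ne_bot_iff_exists_ne_one).mp hNne
    have h1 : a ^ p = 1 := Subtype.ext (by rw [Subgroup.coe_pow]; exact hNexp a a.2)
    have h2 : orderOf a ∣ p := orderOf_dvd_of_pow_eq_one h1
    rcases (Nat.dvd_prime hp).mp h2 with h3 | h3
    · exact absurd (orderOf_eq_one_iff.mp h3) ha1
    · rw [← h3]; exact orderOf_dvd_natCard a
  have hpΓ : ¬ p ∣ Nat.card Γ := by
    intro h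
    have h1 : p ∣ Nat.gcd (Nat.card H) (Nat.card Γ) := Nat.dvd_gcd (hpN.trans hNdvd) h
    rw [hcop] at h1
    exact hp.one_lt.ne' (Nat.dvd_one.mp h1)
  have hcopN : (Nat.card N).Coprime (Nat.card Γ) := Nat.Coprime.coprime_dvd_left hNdvd hcop
  have hcopY : ∀ Y : Subgroup Γ, (Nat.card N).Coprime (Nat.card Y) := fun Y =>
    Nat.Coprime.coprime_dvd_right (Subgroup.card_subgroup_dvd_card Y) hcopN
  -- fixed points of `U` on `N`
  have hCUN : ∀ v : N, (∀ u ∈ U, subAct c N u v = v) → v = 1 := by
    intro v hv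
    have h1 : (v : H) ∈ fixedPts c U := fun u hu => congrArg Subtype.val (hv u hu)
    rw [hCU, Subgroup.mem_bot] at h1
    exact Subtype.ext h1
  have hNU : Nat.card (fixedPts (subAct c N) U) = 1 := by
    rw [Subgroup.card_eq_one, eq_bot_iff]
    intro v hv
    exact (Subgroup.mem_bot).mpr (hCUN v hv)
  have hN0 : Nat.card (fixedPts (subAct c N) ⊤) = 1 := by
    rw [Subgroup.card_eq_one, eq_bot_iff]
    intro v hv
    exact (Subgroup.mem_bot).mpr (hCUN v (fun u _ => hv u (Subgroup.mem_top u)))
  -- order of `N`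
  have hNf : Nat.card (fixedPts (subAct c N) ⊤) ^ Nat.card E * Nat.card N =
      Nat.card (fixedPts (subAct c N) E) ^ Nat.card E * Nat.card (fixedPts (subAct c N) U) := by
    letI instN : CommGroup N :=
      { (inferInstance : Group N) with
        mul_comm := fun a b => Subtype.ext (hNc a a.2 b b.2) }
    exact wielandt_elem (V := ↥N) p (fun v => Subtype.ext (by
      rw [Subgroup.coe_pow]; exact hNexp v v.2)) hpΓ (subAct c N) U E hgen hfpf hnil
  rw [hN0, hNU, one_pow, one_mul, mul_one] at hNf
  -- `C_N(E)` is cyclic of exponent `p`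
  have hFcyc : IsCyclic (fixedPts (subAct c N) E) := by
    let f : fixedPts (subAct c N) E →* fixedPts c E :=
      { toFun := fun v => ⟨(v.1 : H), fun e he => congrArg Subtype.val (v.2 e he)⟩
        map_one' := rfl
        map_mul' := fun a b => rfl }
    have hf : Function.Injective f := by
      intro a b hab
      have : ((a.1 : N) : H) = ((b.1 : N) : H) := congrArg (fun t => (t.1 : H)) hab
      exact Subtype.ext (Subtype.ext this)
    exact isCyclic_of_injective f hf
  have hFcard : Nat.card (fixedPts (subAct c N) E) = p := by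
    obtain ⟨γ, hγ⟩ := hFcyc.exists_generator
    have h1 : γ ^ p = 1 := by
      apply Subtype.ext
      apply Subtype.ext
      show ((γ.1 : N) : H) ^ p = 1
      exact hNexp _ γ.1.2
    have h2 : Nat.card (fixedPts (subAct c N) E) = orderOf γ :=
      (orderOf_eq_card_of_forall_mem_zpowers hγ).symm
    have h3 : orderOf γ ∣ p := orderOf_dvd_of_pow_eq_one h1
    rcases (Nat.dvd_prime hp).mp h3 with h4 | h4
    · exfalso
      rw [h2, h4, one_pow] at hNf
      omega
    · rw [h2, h4]
  rw [hFcard] at hNf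
  -- `U` acts on `N` through an abelian group
  have hcommN : ∀ g ∈ U, ∀ h ∈ U, ∀ v : N, subAct c N g (subAct c N h v) =
      subAct c N h (subAct c N g v) := by
    letI instN : CommGroup N :=
      { (inferInstance : Group N) with
        mul_comm := fun a b => Subtype.ext (hNc a a.2 b b.2) }
    exact commute_elem (V := ↥N) p (fun v => Subtype.ext (by
      rw [Subgroup.coe_pow]; exact hNexp v v.2)) hpΓ (subAct c N) U E hfpf hnil hCUN hNf
  have hcommN' : ∀ g ∈ U, ∀ h ∈ U, ∀ v ∈ N, c g (c h v) = c h (c g v) := by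
    intro g hg h hh v hv
    exact congrArg Subtype.val (hcommN g hg h hh ⟨v, hv⟩)
  have hNtriv : ∀ v ∈ N, c ⁅g, h⁆ v = v := by
    intro v hv
    have hmem : ∀ (a : Γ) (w : H), w ∈ N → c a w ∈ N := fun a w hw =>
      (char_mem_iff N (c a) w).mpr hw
    rw [commutatorElement_def, map_mul, map_mul, map_mul, MulAut.mul_apply, MulAut.mul_apply,
      MulAut.mul_apply]
    rw [hcommN' h hh g⁻¹ (U.inv_mem hg) _ (hmem _ _ hv), ← MulAut.mul_apply, ← map_mul,
      mul_inv_cancel, map_one, MulAut.one_apply, ← MulAut.mul_apply, ← map_mul, mul_inv_cancel,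
      map_one, MulAut.one_apply]
  -- the quotient
  have hQU : fixedPts (quotAct c N) U = ⊥ := by
    have h1 := card_fixedPts_mul c N hNc U (hcopY U)
    rw [hCU, Subgroup.card_bot, hNU, one_mul] at h1
    exact Subgroup.card_eq_one.mp h1.symm
  have hQcyc : IsCyclic (fixedPts (quotAct c N) E) := by
    let f : fixedPts c E →* fixedPts (quotAct c N) E :=
      { toFun := fun v => ⟨((v.1 : H) : H ⧸ N), fun e he => by
          rw [quotAct_mk, v.2 e he]⟩
        map_one' := rfl
        map_mul' := fun a b => rfl }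
    have hf : Function.Surjective f := by
      rintro ⟨xb, hxb⟩
      obtain ⟨x, hx, hxe⟩ := exists_fixed_lift c N hNc E (hcopY E) xb hxb
      exact ⟨⟨x, hx⟩, Subtype.ext hxe⟩
    exact isCyclic_of_surjective f hf
  have hqpos : 0 < Nat.card (H ⧸ N) := Nat.card_pos
  have hlt : Nat.card (H ⧸ N) < n := by
    rw [← hn, ← hcardH]
    exact lt_mul_of_one_lt_right hqpos hN1
  have hQ := ih (Nat.card (H ⧸ N)) hlt (H ⧸ N) rfl inferInstance
    (Nat.Coprime.coprime_dvd_left hQdvd hcop) (quotAct c N) hQU hQcyc g hg h hh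
  exact trivial_of_trivial_sub_quot c N ⁅g, h⁆ hcopN hNtriv hQ x

end solvcomm2

section commfix

variable {Γ : Type w} [Group Γ]

theorem commute_elem_fix_aux [Finite Γ] {V : Type u} [CommGroup V] [Finite V] (p : ℕ)
    [Fact p.Prime]
    [Module (ZMod p) (Additive V)] (hp : ¬ p ∣ Nat.card Γ)
    (c : Γ →* MulAut V) (U E : Subgroup Γ) [U.Normal]
    (hfpf : ∀ e ∈ E, e ≠ 1 → ∀ u ∈ U, e * u = u * e → u = 1) (hnil : Group.IsNilpotent U)
    (hfix : Nat.card (fixedPts c E) ≤ p) :
    ∀ g ∈ U, ∀ h ∈ U, ∀ v, c g (c h v) = c h (c g v) := by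
  have hG : (Nat.card Γ : ZMod p) ≠ 0 := by
    rw [Ne, ZMod.natCast_eq_zero_iff]
    exact hp
  have hfinA : Finite (Additive V) := inferInstanceAs (Finite V)
  have hfin : Module.Finite (ZMod p) (Additive V) := Module.Finite.of_finite
  have hdim : finrank (ZMod p) (fixedSub (linRep p c) E) ≤ 1 := by
    rw [card_fixedPts_eq p c E, card_eq_pow_finrank_aux p] at hfix
    by_contra hcon
    push Not at hcon
    have h2 : p ^ 2 ≤ p ^ finrank (ZMod p) (fixedSub (linRep p c) E) :=
      Nat.pow_le_pow_right (Fact.out : p.Prime).pos hcon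
    have h3 : p < p ^ 2 := by
      have := (Fact.out : p.Prime).two_le
      nlinarith
    omega
  have key := commute_of_finrank_fixedSub_le_one (k := ZMod p) hG U E hfpf hnil (linRep p c) hdim
  intro g hg h hh v
  have := congrArg (fun f : Module.End (ZMod p) (Additive V) => f (Additive.ofMul v)) (key g hg h hh)
  simp only [Module.End.mul_apply, linRep_apply] at this
  exact congrArg Additive.toMul this

/-- group form: Frobenius group acting on an elementary abelian `p`-group with
`|C_V(E)| ≤ p`: the kernel acts through an abelian group. -/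
theorem commute_elem_fix [Finite Γ] {V : Type u} [CommGroup V] [Finite V] (p : ℕ) [Fact p.Prime]
    (hexp : ∀ v : V, v ^ p = 1) (hp : ¬ p ∣ Nat.card Γ)
    (c : Γ →* MulAut V) (U E : Subgroup Γ) [U.Normal]
    (hfpf : ∀ e ∈ E, e ≠ 1 → ∀ u ∈ U, e * u = u * e → u = 1) (hnil : Group.IsNilpotent U)
    (hfix : Nat.card (fixedPts c E) ≤ p) :
    ∀ g ∈ U, ∀ h ∈ U, ∀ v, c g (c h v) = c h (c g v) := by
  letI _inst : Module (ZMod p) (Additive V) := AddCommGroup.zmodModule (n := p) (fun x => by
    show Additive.ofMul (x.toMul ^ p) = 0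
    rw [hexp]; rfl)
  exact commute_elem_fix_aux p hp c U E hfpf hnil hfix

end commfix

end Cfsg.Agent.Lib.Helper03.FrobAct
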