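import Mathlib

/-!
# Frobenius actions on vector spaces

Core linear algebra: if an abelian group `A` (of order invertible in the field) acts on a
finite-dimensional space `V` with `C_V(A) = 0`, and a group `E` acts on `A` without fixed points
(compatibly), then `dim V = |E| * dim C_V(E)`.
-/

set_option autoImplicit false

namespace Cfsg.Agent.Lib.Helper03.FrobLin

open Module

universe u v w

section basic

variable {K G V : Type*} [Field K] [Group G] [AddCommGroup V] [Module K V]

/-- fixed points of a subgroup under a representation -/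
def fixedSub (ρ : Representation K G V) (E : Subgroup G) : Submodule K V where
  carrier := {v | ∀ e ∈ E, ρ e v = v}
  add_mem' := by
    intro a b ha hb e he
    rw [map_add, ha e he, hb e he]
  zero_mem' := by
    intro e _
    rw [map_zero]
  smul_mem' := by
    intro c v hv e he
    rw [map_smul, hv e he]

theorem mem_fixedSub (ρ : Representation K G V) (E : Subgroup G) (v : V) :
    v ∈ fixedSub ρ E ↔ ∀ e ∈ E, ρ e v = v := Iff.rfl

/-- transport of generalised eigenvectors along an intertwining map -/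
theorem map_mem_maxGenEigenspace (f f' T : Module.End K V) (h : f' * T = T * f) (μ : K) (v : V)
    (hv : v ∈ f.maxGenEigenspace μ) : T v ∈ f'.maxGenEigenspace μ := by
  rw [Module.End.mem_maxGenEigenspace] at hv ⊢
  obtain ⟨k, hk⟩ := hv
  refine ⟨k, ?_⟩
  have key : ∀ k : ℕ, (f' - μ • 1) ^ k * T = T * (f - μ • 1) ^ k := by
    intro k
    induction k with
    | zero => simp
    | succ k ih =>
      rw [pow_succ, mul_assoc, pow_succ]
      have h1 : (f' - μ • 1) * T = T * (f - μ • 1) := by
        rw [sub_mul, mul_sub, h]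
        simp
      rw [h1, ← mul_assoc, ih, mul_assoc]
  have := congrArg (fun g : Module.End K V => g v) (key k)
  simp only [Module.End.mul_apply] at this
  rw [this, hk, map_zero]

end basic

section main

variable {K : Type*} {G : Type*} [Field K] [Group G]

open Classical in
/-- the commuting family of operators attached to `A` -/
noncomputable def opFam {V : Type*} [AddCommGroup V] [Module K V]
    (ρ : Representation K G V) (A : Subgroup G) : G → Module.End K V :=
  fun g => if g ∈ A then ρ g else 1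

theorem opFam_of_mem {V : Type*} [AddCommGroup V] [Module K V]
    (ρ : Representation K G V) (A : Subgroup G) {g : G} (hg : g ∈ A) : opFam ρ A g = ρ g := by
  simp [opFam, hg]

theorem opFam_of_not_mem {V : Type*} [AddCommGroup V] [Module K V]
    (ρ : Representation K G V) (A : Subgroup G) {g : G} (hg : g ∉ A) : opFam ρ A g = 1 := by
  simp [opFam, hg]

theorem opFam_commute {V : Type*} [AddCommGroup V] [Module K V]
    (ρ : Representation K G V) (A : Subgroup G)
    (hcomm : ∀ a ∈ A, ∀ b ∈ A, ρ a * ρ b = ρ b * ρ a) (i j : G) :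
    Commute (opFam ρ A i) (opFam ρ A j) := by
  show opFam ρ A i * opFam ρ A j = opFam ρ A j * opFam ρ A i
  by_cases hi : i ∈ A <;> by_cases hj : j ∈ A
  · rw [opFam_of_mem ρ A hi, opFam_of_mem ρ A hj]; exact hcomm i hi j hj
  · rw [opFam_of_not_mem ρ A hj]; simp
  · rw [opFam_of_not_mem ρ A hi]; simp
  · rw [opFam_of_not_mem ρ A hj]; simp

/-- simultaneous generalized eigenspace -/
noncomputable def simSp {V : Type*} [AddCommGroup V] [Module K V]
    (ρ : Representation K G V) (A : Subgroup G) (χ : G → K) : Submodule K V :=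
  ⨅ g, (opFam ρ A g).maxGenEigenspace (χ g)

theorem simSp_indep {V : Type*} [AddCommGroup V] [Module K V]
    (ρ : Representation K G V) (A : Subgroup G)
    (hcomm : ∀ a ∈ A, ∀ b ∈ A, ρ a * ρ b = ρ b * ρ a) : iSupIndep (simSp ρ A) := by
  apply Module.End.independent_iInf_maxGenEigenspace_of_forall_mapsTo
  intro i j φ
  exact Module.End.mapsTo_maxGenEigenspace_of_comm (opFam_commute ρ A hcomm j i) φ

theorem mem_norm_iff (A : Subgroup G) (e : G) (h1 : ∀ a ∈ A, e * a * e⁻¹ ∈ A)
    (h2 : ∀ a ∈ A, e⁻¹ * a * e ∈ A) (g : G) : e⁻¹ * g * e ∈ A ↔ g ∈ A := by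
  constructor
  · intro h
    have := h1 _ h
    simpa [mul_assoc] using this
  · exact h2 g

theorem map_mem_simSp {V : Type*} [AddCommGroup V] [Module K V]
    (ρ : Representation K G V) (A : Subgroup G) (e : G) (h1 : ∀ a ∈ A, e * a * e⁻¹ ∈ A)
    (h2 : ∀ a ∈ A, e⁻¹ * a * e ∈ A) (χ : G → K) (v : V) (hv : v ∈ simSp ρ A χ) :
    ρ e v ∈ simSp ρ A (fun g => χ (e⁻¹ * g * e)) := by
  rw [simSp, Submodule.mem_iInf] at hv ⊢
  intro g
  apply map_mem_maxGenEigenspace (opFam ρ A (e⁻¹ * g * e)) (opFam ρ A g) (ρ e) _ _ v (hv _)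
  by_cases hg : g ∈ A
  · have hg' : e⁻¹ * g * e ∈ A := (mem_norm_iff A e h1 h2 g).mpr hg
    rw [opFam_of_mem ρ A hg, opFam_of_mem ρ A hg', ← map_mul, ← map_mul]
    congr 1
    group
  · have hg' : e⁻¹ * g * e ∉ A := fun h => hg ((mem_norm_iff A e h1 h2 g).mp h)
    rw [opFam_of_not_mem ρ A hg, opFam_of_not_mem ρ A hg']
    simp

theorem mem_simSp_of_eigen {V : Type*} [AddCommGroup V] [Module K V]
    (ρ : Representation K G V) (A : Subgroup G) (χ : G → K) (v : V)
    (h1 : ∀ g, g ∉ A → χ g = 1) (h2 : ∀ a ∈ A, ρ a v = χ a • v) : v ∈ simSp ρ A χ := by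
  rw [simSp, Submodule.mem_iInf]
  intro g
  apply Module.End.eigenspace_le_maxGenEigenspace  -- placeholder name
  rw [Module.End.mem_eigenspace_iff]
  by_cases hg : g ∈ A
  · rw [opFam_of_mem ρ A hg]; exact h2 g hg
  · rw [opFam_of_not_mem ρ A hg, h1 g hg]; simp

theorem semisimple_of_pow {V : Type*} [AddCommGroup V] [Module K V]
    (f : Module.End K V) (m : ℕ) (hm : (m : K) ≠ 0) (hf : f ^ m = 1) : f.IsSemisimple := by
  have hsep : (Polynomial.X ^ m - 1 : Polynomial K).Separable :=
    Polynomial.X_pow_sub_one_separable_iff.mpr hm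
  apply Module.End.isSemisimple_of_squarefree_aeval_eq_zero hsep.squarefree
  simp [hf]

/-- existence of a common eigenvector for the abelian image of `A` -/
theorem exists_common_eigenvector [IsAlgClosed K] [Finite G] {V : Type*} [AddCommGroup V]
    [Module K V] [FiniteDimensional K V] [Nontrivial V]
    (ρ : Representation K G V) (A : Subgroup G) (hA : (Nat.card A : K) ≠ 0)
    (hcomm : ∀ a ∈ A, ∀ b ∈ A, ρ a * ρ b = ρ b * ρ a) :
    ∃ (χ : G → K) (v : V), v ≠ 0 ∧ (∀ g, g ∉ A → χ g = 1) ∧ ∀ a ∈ A, ρ a v = χ a • v := by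
  classical
  let f : G → Module.End K V := fun g => if g ∈ A then ρ g else 1
  have hcf : Pairwise fun i j => Commute (f i) (f j) := by
    intro i j _
    show f i * f j = f j * f i
    by_cases hi : i ∈ A <;> by_cases hj : j ∈ A <;> simp [f, hi, hj]
    exact hcomm i hi j hj
  have htri : ∀ g, ⨆ μ, (f g).maxGenEigenspace μ = ⊤ := fun g =>
    Module.End.iSup_maxGenEigenspace_eq_top (f g)
  have htop := Module.End.iSup_iInf_maxGenEigenspace_eq_top_of_iSup_maxGenEigenspace_eq_top_of_commute
    f hcf htri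
  have hex : ∃ χ : G → K, ⨅ g, (f g).maxGenEigenspace (χ g) ≠ ⊥ := by
    by_contra hne
    push Not at hne
    have : (⨆ χ : G → K, ⨅ g, (f g).maxGenEigenspace (χ g)) = ⊥ := by
      simp [hne]
    rw [this] at htop
    exact bot_ne_top htop
  obtain ⟨χ, hχ⟩ := hex
  obtain ⟨v, hv, hv0⟩ := Submodule.exists_mem_ne_zero_of_ne_bot hχ
  rw [Submodule.mem_iInf] at hv
  -- adjust χ outside A
  refine ⟨fun g => if g ∈ A then χ g else 1, v, hv0, fun g hg => by simp [hg], ?_⟩
  intro a ha
  have h1 := hv a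
  simp only [f, ha, if_true] at h1
  have hss : Module.End.IsSemisimple (ρ a) := by
    apply semisimple_of_pow (ρ a) (Nat.card A) hA
    rw [← map_pow]
    have : a ^ Nat.card A = 1 := by
      have h2 := pow_card_eq_one' (G := A) (x := ⟨a, ha⟩)
      have h3 := congrArg Subtype.val h2
      rwa [Subgroup.coe_pow] at h3
    rw [this, map_one]
  rw [hss.isFinitelySemisimple.maxGenEigenspace_eq_eigenspace, Module.End.mem_eigenspace_iff] at h1
  simpa [ha] using h1


end main

section ind

variable {K : Type v} {G : Type w} [Field K] [Group G]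

/-- invariant complement (Maschke) -/
theorem exists_invariant_isCompl [Finite G] [NeZero (Nat.card G : K)] {V : Type*} [AddCommGroup V]
    [Module K V] (ρ : Representation K G V) (X : Submodule K V)
    (hX : ∀ g, ∀ x ∈ X, ρ g x ∈ X) :
    ∃ Y : Submodule K V, IsCompl X Y ∧ ∀ g, ∀ y ∈ Y, ρ g y ∈ Y := by
  obtain ⟨Y, hY⟩ := exists_isCompl (⟨X, fun g v hv => hX g v hv⟩ : Subrepresentation ρ)
  refine ⟨Y.toSubmodule, ?_, fun h y hy => Y.apply_mem_toSubmodule h hy⟩
  constructor
  · rw [disjoint_iff]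
    exact congrArg Subrepresentation.toSubmodule hY.inf_eq_bot
  · rw [codisjoint_iff]
    exact congrArg Subrepresentation.toSubmodule hY.sup_eq_top

theorem invariant_of_gen {V : Type*} [AddCommGroup V] [Module K V]
    (ρ : Representation K G V) (X : Submodule K V) (A E : Subgroup G) (hgen : A ⊔ E = ⊤)
    (hA : ∀ a ∈ A, ∀ x ∈ X, ρ a x ∈ X) (hE : ∀ e ∈ E, ∀ x ∈ X, ρ e x ∈ X) :
    ∀ g, ∀ x ∈ X, ρ g x ∈ X := by
  let S : Subgroup G :=
    { carrier := {g | (∀ x ∈ X, ρ g x ∈ X) ∧ (∀ x ∈ X, ρ g⁻¹ x ∈ X)}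
      mul_mem' := by
        rintro a b ⟨ha1, ha2⟩ ⟨hb1, hb2⟩
        refine ⟨fun x hx => ?_, fun x hx => ?_⟩
        · rw [map_mul]; exact ha1 _ (hb1 x hx)
        · rw [mul_inv_rev, map_mul]; exact hb2 _ (ha2 x hx)
      one_mem' := by
        refine ⟨fun x hx => ?_, fun x hx => ?_⟩
        · rw [map_one]; exact hx
        · rw [inv_one, map_one]; exact hx
      inv_mem' := by
        rintro a ⟨ha1, ha2⟩
        refine ⟨ha2, ?_⟩
        rw [inv_inv]; exact ha1 }
  have hAS : A ≤ S := fun a ha => ⟨hA a ha, hA a⁻¹ (A.inv_mem ha)⟩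
  have hES : E ≤ S := fun e he => ⟨hE e he, hE e⁻¹ (E.inv_mem he)⟩
  have : (⊤ : Subgroup G) ≤ S := hgen ▸ sup_le hAS hES
  intro g
  exact (this (Subgroup.mem_top g)).1

theorem natCast_card_ne_zero_of_le [Finite G] [NeZero (Nat.card G : K)] (A : Subgroup G) :
    (Nat.card A : K) ≠ 0 := by
  obtain ⟨m, hm⟩ := Subgroup.card_subgroup_dvd_card A
  intro h
  have h2 : (Nat.card G : K) = 0 := by
    rw [hm, Nat.cast_mul, h, zero_mul]
  exact NeZero.ne _ h2

theorem finrank_eq_of_gen [IsAlgClosed K] [Finite G] [NeZero (Nat.card G : K)]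
    (A E : Subgroup G) (hgen : A ⊔ E = ⊤)
    (hnorm : ∀ e ∈ E, ∀ a ∈ A, e * a * e⁻¹ ∈ A) :
    ∀ (n : ℕ) (V : Type u) [AddCommGroup V] [Module K V] [FiniteDimensional K V]
      (ρ : Representation K G V), finrank K V = n →
      (∀ a ∈ A, ∀ b ∈ A, ρ a * ρ b = ρ b * ρ a) →
      (∀ e ∈ E, e ≠ 1 → ∀ a ∈ A, ∃ a' ∈ A, ρ a = ρ (a'⁻¹ * (e * a' * e⁻¹))) →
      (∀ v, (∀ a ∈ A, ρ a v = v) → v = 0) →
      finrank K V = Nat.card E * finrank K (fixedSub ρ E) := by
  intro n
  induction n using Nat.strong_induction_on with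
  | _ n ih =>
  intro V _ _ _ ρ hn hcomm hfpf hCA
  by_cases hV : Subsingleton V
  · have h0 : finrank K V = 0 := finrank_zero_of_subsingleton
    have h1 : finrank K (fixedSub ρ E) = 0 := finrank_zero_of_subsingleton
    rw [h0, h1, mul_zero]
  have : Nontrivial V := not_subsingleton_iff_nontrivial.mp hV
  have hAK : (Nat.card A : K) ≠ 0 := natCast_card_ne_zero_of_le A
  obtain ⟨χ, v, hv0, hχ1, hχ2⟩ := exists_common_eigenvector ρ A hAK hcomm
  have hvS : v ∈ simSp ρ A χ := mem_simSp_of_eigen ρ A χ v hχ1 hχ2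
  have : Fintype E := Fintype.ofFinite E
  let w : E → V := fun e => ρ (e : G) v
  have hnorm' : ∀ e ∈ E, ∀ a ∈ A, e⁻¹ * a * e ∈ A := by
    intro e he a ha
    have := hnorm e⁻¹ (E.inv_mem he) a ha
    simpa using this
  let χe : E → (G → K) := fun e g => χ ((e : G)⁻¹ * g * e)
  have hwS : ∀ e : E, w e ∈ simSp ρ A (χe e) := fun e =>
    map_mem_simSp ρ A e (hnorm e e.2) (hnorm' e e.2) χ v hvS
  have hρinv : ∀ (g : G) (x : V), ρ g⁻¹ (ρ g x) = x := by
    intro g x
    rw [← Module.End.mul_apply, ← map_mul, inv_mul_cancel, map_one, Module.End.one_apply]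
  have hχinj : Function.Injective χe := by
    intro e e' hee
    by_contra hne
    set d : G := (e' : G)⁻¹ * e with hd
    have hdE : d ∈ E := E.mul_mem (E.inv_mem e'.2) e.2
    have hd1 : d ≠ 1 := by
      intro h
      apply hne
      have : (e : G) = e' := by
        have := congrArg (fun x => (e' : G) * x) h
        simpa [hd] using this
      exact Subtype.ext this
    have hinv : ∀ h : G, χ (d⁻¹ * h * d) = χ h := by
      intro h
      have h1 := congrFun hee ((e' : G) * h * (e' : G)⁻¹)
      simp only [χe] at h1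
      have e1 : (e : G)⁻¹ * ((e' : G) * h * (e' : G)⁻¹) * e = d⁻¹ * h * d := by
        rw [hd]; group
      have e2 : (e' : G)⁻¹ * ((e' : G) * h * (e' : G)⁻¹) * e' = h := by group
      rw [e1, e2] at h1
      exact h1
    apply hv0
    apply hCA
    intro a ha
    obtain ⟨a', ha', hρ⟩ := hfpf d hdE hd1 a ha
    have hbA : d * a' * d⁻¹ ∈ A := hnorm d hdE a' ha'
    have hχb : χ (d * a' * d⁻¹) = χ a' := by
      have := hinv (d * a' * d⁻¹)
      rw [← this]
      congr 1
      group
    rw [hρ, map_mul, Module.End.mul_apply, hχ2 _ hbA, hχb, ← hχ2 _ ha', hρinv]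
  have hw0 : ∀ e : E, w e ≠ 0 := by
    intro e h
    apply hv0
    have := hρinv (e : G) v
    rw [← this]
    show ρ (e : G)⁻¹ (w e) = 0
    rw [h, map_zero]
  have hli : LinearIndependent K w :=
    iSupIndep.linearIndependent (fun e => simSp ρ A (χe e))
      ((simSp_indep ρ A hcomm).comp hχinj) hwS hw0
  set X : Submodule K V := Submodule.span K (Set.range w) with hX
  have hXfin : finrank K X = Nat.card E := by
    rw [hX, finrank_span_eq_card hli, Nat.card_eq_fintype_card]
  -- invariance of X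
  have hXA : ∀ a ∈ A, ∀ x ∈ X, ρ a x ∈ X := by
    intro a ha x hx
    have : X.map (ρ a) ≤ X := by
      rw [hX, Submodule.map_span, Submodule.span_le]
      rintro _ ⟨_, ⟨e, rfl⟩, rfl⟩
      have hconj : (e : G)⁻¹ * a * e ∈ A := hnorm' e e.2 a ha
      have : ρ a (w e) = χ ((e : G)⁻¹ * a * e) • w e := by
        show ρ a (ρ (e : G) v) = χ ((e : G)⁻¹ * a * e) • ρ (e : G) v
        rw [← map_smul, ← hχ2 _ hconj, ← Module.End.mul_apply, ← Module.End.mul_apply, ← map_mul,
          ← map_mul]
        congr 2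
        group
      rw [this]
      exact Submodule.smul_mem _ _ (Submodule.subset_span ⟨e, rfl⟩)
    exact this (Submodule.mem_map_of_mem hx)
  have hXE : ∀ e ∈ E, ∀ x ∈ X, ρ e x ∈ X := by
    intro e he x hx
    have : X.map (ρ e) ≤ X := by
      rw [hX, Submodule.map_span, Submodule.span_le]
      rintro _ ⟨_, ⟨e', rfl⟩, rfl⟩
      apply Submodule.subset_span
      refine ⟨⟨e, he⟩ * e', ?_⟩
      show ρ ((e : G) * e') v = ρ e (ρ (e' : G) v)
      rw [map_mul, Module.End.mul_apply]
    exact this (Submodule.mem_map_of_mem hx)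
  have hXinv := invariant_of_gen ρ X A E hgen hXA hXE
  obtain ⟨Y, hXY, hYinv⟩ := exists_invariant_isCompl ρ X hXinv
  have hdim : finrank K X + finrank K Y = finrank K V := Submodule.finrank_add_eq_of_isCompl hXY
  set F := fixedSub ρ E with hF
  have hFsup : (F ⊓ X) ⊔ (F ⊓ Y) = F := by
    apply le_antisymm (sup_le inf_le_left inf_le_left)
    intro x hx
    obtain ⟨x1, hx1, x2, hx2, rfl⟩ : ∃ x1 ∈ X, ∃ x2 ∈ Y, x1 + x2 = x := by
      have : x ∈ X ⊔ Y := by rw [hXY.sup_eq_top]; trivial
      exact Submodule.mem_sup.mp this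
    have hfix : ∀ e ∈ E, ρ e x1 = x1 ∧ ρ e x2 = x2 := by
      intro e he
      have h1 := hx e he
      rw [map_add] at h1
      have h2 : ρ e x1 - x1 = x2 - ρ e x2 :=
        sub_eq_sub_iff_add_eq_add.mpr (by rw [h1, add_comm])
      have hz : ρ e x1 - x1 ∈ X ⊓ Y := by
        refine ⟨X.sub_mem (hXinv e x1 hx1) hx1, ?_⟩
        rw [h2]
        exact Y.sub_mem hx2 (hYinv e x2 hx2)
      rw [hXY.inf_eq_bot, Submodule.mem_bot] at hz
      refine ⟨sub_eq_zero.mp hz, ?_⟩
      rw [hz] at h2
      exact (sub_eq_zero.mp h2.symm).symm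
    exact Submodule.add_mem_sup ⟨fun e he => (hfix e he).1, hx1⟩ ⟨fun e he => (hfix e he).2, hx2⟩
  have hFinf : (F ⊓ X) ⊓ (F ⊓ Y) = ⊥ := by
    rw [eq_bot_iff]
    intro x hx
    have : x ∈ X ⊓ Y := ⟨hx.1.2, hx.2.2⟩
    rw [hXY.inf_eq_bot] at this
    exact this
  have hFdim : finrank K F = finrank K ↥(F ⊓ X) + finrank K ↥(F ⊓ Y) := by
    have := Submodule.finrank_sup_add_finrank_inf_eq (F ⊓ X) (F ⊓ Y)
    rw [hFsup, hFinf, finrank_bot, add_zero] at this
    exact this
  set s : V := ∑ e : E, w e with hs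
  have hsF : s ∈ F := by
    intro e he
    rw [hs, map_sum]
    exact Fintype.sum_equiv (Equiv.mulLeft (⟨e, he⟩ : E)) _ _ (fun e' => by
      show ρ e (ρ (e' : G) v) = ρ ((⟨e,he⟩ * e' : E) : G) v
      rw [Subgroup.coe_mul, map_mul, Module.End.mul_apply])
  have hsX : s ∈ X := Submodule.sum_mem _ (fun e _ => Submodule.subset_span ⟨e, rfl⟩)
  have hs0 : s ≠ 0 := by
    intro h
    have := Fintype.linearIndependent_iff.mp hli (fun _ => 1) (by simpa using h)
    exact one_ne_zero (this 1)
  have hFX : F ⊓ X = Submodule.span K {s} := by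
    apply le_antisymm
    · rintro x ⟨hxF, hxX⟩
      obtain ⟨c, hc⟩ := (Submodule.mem_span_range_iff_exists_fun K).mp hxX
      have hconst : ∀ e' : E, c e' = c 1 := by
        intro e'
        have h1 := hxF e' e'.2
        rw [← hc, map_sum] at h1
        have h2 : ∑ e : E, ρ e' (c e • w e) = ∑ e : E, c (e'⁻¹ * e) • w e := by
          apply Fintype.sum_equiv (Equiv.mulLeft e')
          intro e
          simp only [Equiv.coe_mulLeft, inv_mul_cancel_left, map_smul]
          congr 1
          show ρ (e' : G) (ρ (e : G) v) = ρ ((e' * e : E) : G) v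
          rw [Subgroup.coe_mul, map_mul, Module.End.mul_apply]
        rw [h2] at h1
        have h3 : ∑ e : E, (c (e'⁻¹ * e) - c e) • w e = 0 := by
          simp only [sub_smul, Finset.sum_sub_distrib]
          rw [h1, sub_self]
        have h4 := Fintype.linearIndependent_iff.mp hli _ h3 e'
        rw [inv_mul_cancel, sub_eq_zero] at h4
        exact h4.symm
      rw [Submodule.mem_span_singleton]
      refine ⟨c 1, ?_⟩
      rw [← hc, hs, Finset.smul_sum]
      exact Finset.sum_congr rfl (fun e _ => by rw [hconst e])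
    · rw [Submodule.span_le]
      rintro _ rfl
      exact ⟨hsF, hsX⟩
  have hFXdim : finrank K ↥(F ⊓ X) = 1 := by
    rw [hFX]; exact finrank_span_singleton hs0
  let ρY : Representation K G Y :=
    (⟨Y, fun g v hv => hYinv g v hv⟩ : Subrepresentation ρ).toRepresentation
  have hFY : (fixedSub ρY E).map Y.subtype = F ⊓ Y := by
    ext x
    constructor
    · rintro ⟨y, hy, rfl⟩
      refine ⟨fun e he => ?_, y.2⟩
      exact congrArg Subtype.val (hy e he)
    · rintro ⟨hxF, hxY⟩
      exact ⟨⟨x, hxY⟩, fun e he => Subtype.ext (hxF e he), rfl⟩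
  have hFYdim : finrank K ↥(F ⊓ Y) = finrank K (fixedSub ρY E) := by
    rw [← hFY]; exact Submodule.finrank_map_subtype_eq Y (fixedSub ρY E)
  have hYlt : finrank K Y < n := by
    have : 0 < Nat.card E := Nat.card_pos
    omega
  have ihY := ih (finrank K Y) hYlt Y ρY rfl ?_ ?_ ?_
  · rw [hFdim, hFXdim, hFYdim, ← hdim, hXfin, ihY]; ring
  · intro a ha b hb
    ext y
    exact congrArg (fun f : Module.End K V => f (y : V)) (hcomm a ha b hb)
  · intro e he he1 a ha
    obtain ⟨a', ha', h⟩ := hfpf e he he1 a ha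
    refine ⟨a', ha', ?_⟩
    ext y
    exact congrArg (fun f : Module.End K V => f (y : V)) h
  · intro y hy
    apply Subtype.ext
    apply hCA
    intro a ha
    exact congrArg Subtype.val (hy a ha)

end ind

open TensorProduct

section bc

variable {k : Type*} [Field k] {G : Type*} [Group G] {V : Type*} [AddCommGroup V] [Module k V]

/-- base change of a representation -/
noncomputable def bcRep (K : Type*) [Field K] [Algebra k K] (ρ : Representation k G V) :
    Representation K G (K ⊗[k] V) where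
  toFun g := (ρ g).baseChange K
  map_one' := by rw [map_one]; exact LinearMap.baseChange_one _ _
  map_mul' a b := by rw [map_mul]; exact LinearMap.baseChange_mul (ρ a) (ρ b)

theorem bcRep_apply (K : Type*) [Field K] [Algebra k K] (ρ : Representation k G V) (g : G) :
    bcRep K ρ g = (ρ g).baseChange K := rfl

/-- the averaging operator -/
noncomputable def avg {F : Type*} [Field F] {W : Type*} [AddCommGroup W] [Module F W]
    (σ : Representation F G W) (E : Subgroup G) [Fintype E] (c : F) : Module.End F W :=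
  c • ∑ e : E, σ (e : G)

theorem maxGenEigenspace_avg {F : Type*} [Field F] {W : Type*} [AddCommGroup W] [Module F W]
    (σ : Representation F G W) (E : Subgroup G) [Fintype E] (c : F)
    (hc : c * (Fintype.card E : F) = 1) :
    (avg σ E c).maxGenEigenspace 1 = fixedSub σ E := by
  set π := avg σ E c with hπ
  have hfix : ∀ w ∈ fixedSub σ E, π w = w := by
    intro w hw
    rw [hπ, avg, LinearMap.smul_apply, LinearMap.sum_apply]
    have : ∑ e : E, σ (e : G) w = (Fintype.card E : F) • w := by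
      rw [Finset.sum_congr rfl (fun (e : E) _ => hw (e : G) e.2)]
      simp [Nat.cast_smul_eq_nsmul]
    rw [this, smul_smul, hc, one_smul]
  have hσπ : ∀ e ∈ E, ∀ w, σ e (π w) = π w := by
    intro e he w
    rw [hπ, avg, LinearMap.smul_apply, LinearMap.sum_apply, map_smul, map_sum]
    congr 1
    exact Fintype.sum_equiv (Equiv.mulLeft (⟨e, he⟩ : E)) _ _ (fun e' => by
      show σ e (σ (e' : G) w) = σ ((⟨e, he⟩ * e' : E) : G) w
      rw [Subgroup.coe_mul, map_mul, Module.End.mul_apply])
  have hidem : π * π = π := by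
    ext w
    rw [Module.End.mul_apply]
    exact hfix _ (fun e he => hσπ e he w)
  ext w
  rw [Module.End.mem_maxGenEigenspace, mem_fixedSub]
  constructor
  · rintro ⟨n, hn⟩
    -- (π - 1)^n w = 0 → π w = w
    have key : ∀ n : ℕ, ∀ w, ((π - (1 : F) • 1) ^ n) w = 0 → π w = w := by
      intro n
      induction n with
      | zero => intro w hw; simp at hw; rw [hw, map_zero]
      | succ n ih =>
        intro w hw
        rw [pow_succ, Module.End.mul_apply] at hw
        have h1 := ih _ hw
        -- π ((π - 1) w) = (π - 1) w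
        simp only [one_smul, LinearMap.sub_apply, Module.End.one_apply, map_sub] at h1
        have h2 : π (π w) = π w := by
          rw [← Module.End.mul_apply, hidem]
        rw [h2, sub_self] at h1
        exact (sub_eq_zero.mp h1.symm)
    have h1 := key n w hn
    intro e he
    rw [← h1]
    exact hσπ e he w
  · intro hw
    refine ⟨1, ?_⟩
    rw [pow_one, one_smul, LinearMap.sub_apply, Module.End.one_apply, hfix w hw, sub_self]

end bc

section bc2

variable {k : Type*} [Field k] {G : Type*} [Group G] {V : Type*} [AddCommGroup V] [Module k V]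

theorem avg_bcRep (K : Type*) [Field K] [Algebra k K] (ρ : Representation k G V)
    (E : Subgroup G) [Fintype E] (c : k) :
    avg (bcRep K ρ) E (algebraMap k K c) = (avg ρ E c).baseChange K := by
  apply LinearMap.ext
  intro x
  induction x using TensorProduct.induction_on with
  | zero => simp
  | add x y hx hy => rw [map_add, map_add, hx, hy]
  | tmul a v =>
    simp only [avg, LinearMap.smul_apply, LinearMap.sum_apply, bcRep_apply,
      LinearMap.baseChange_tmul]
    rw [← TensorProduct.tmul_sum, TensorProduct.tmul_smul, algebraMap_smul]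

theorem finrank_fixedSub_bcRep (K : Type*) [Field K] [Algebra k K] [FiniteDimensional k V]
    (ρ : Representation k G V) (E : Subgroup G) [Finite E] (hE : (Nat.card E : k) ≠ 0) :
    finrank K (fixedSub (bcRep K ρ) E) = finrank k (fixedSub ρ E) := by
  classical
  have : Fintype E := Fintype.ofFinite E
  have hE' : (Fintype.card E : k) ≠ 0 := by rwa [← Nat.card_eq_fintype_card]
  set c : k := (Fintype.card E : k)⁻¹ with hc
  have hc1 : c * (Fintype.card E : k) = 1 := inv_mul_cancel₀ hE'
  have hc2 : algebraMap k K c * (Fintype.card E : K) = 1 := by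
    have := congrArg (algebraMap k K) hc1
    rwa [map_mul, map_natCast, map_one] at this
  rw [← maxGenEigenspace_avg ρ E c hc1, ← maxGenEigenspace_avg (bcRep K ρ) E _ hc2,
    LinearMap.finrank_maxGenEigenspace_eq, LinearMap.finrank_maxGenEigenspace_eq, avg_bcRep,
    LinearMap.charpoly_baseChange]
  have := Polynomial.eq_rootMultiplicity_map (p := LinearMap.charpoly (avg ρ E c))
    (algebraMap k K).injective 1
  rw [map_one] at this
  exact this.symm

end bc2

section thmB

theorem finrank_eq_of_gen' {k : Type v} [Field k] {G : Type w} [Group G] [Finite G]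
    (hG : (Nat.card G : k) ≠ 0) (A E : Subgroup G) (hgen : A ⊔ E = ⊤)
    (hnorm : ∀ e ∈ E, ∀ a ∈ A, e * a * e⁻¹ ∈ A)
    {V : Type u} [AddCommGroup V] [Module k V] [FiniteDimensional k V]
    (ρ : Representation k G V)
    (hcomm : ∀ a ∈ A, ∀ b ∈ A, ρ a * ρ b = ρ b * ρ a)
    (hfpf : ∀ e ∈ E, e ≠ 1 → ∀ a ∈ A, ∃ a' ∈ A, ρ a = ρ (a'⁻¹ * (e * a' * e⁻¹)))
    (hCA : ∀ v, (∀ a ∈ A, ρ a v = v) → v = 0) :
    finrank k V = Nat.card E * finrank k (fixedSub ρ E) := by
  let K := AlgebraicClosure k
  have hGK : (Nat.card G : K) ≠ 0 := by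
    intro h
    apply hG
    have h2 : algebraMap k K (Nat.card G : k) = 0 := by rw [map_natCast]; exact h
    exact (map_eq_zero (algebraMap k K)).mp h2
  have : NeZero (Nat.card G : K) := ⟨hGK⟩
  have : NeZero (Nat.card G : k) := ⟨hG⟩
  have hAk : (Nat.card A : k) ≠ 0 := natCast_card_ne_zero_of_le A
  have hEk : (Nat.card E : k) ≠ 0 := natCast_card_ne_zero_of_le E
  have hfixA : fixedSub ρ A = ⊥ := by
    rw [eq_bot_iff]
    intro v hv
    exact (Submodule.mem_bot k).mpr (hCA v hv)
  have hfixAK : fixedSub (bcRep K ρ) A = ⊥ := by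
    have h1 := finrank_fixedSub_bcRep K ρ A hAk
    rw [hfixA, finrank_bot] at h1
    exact Submodule.finrank_eq_zero.mp h1
  have key := finrank_eq_of_gen (K := K) A E hgen hnorm (finrank K (K ⊗[k] V)) (K ⊗[k] V)
    (bcRep K ρ) rfl ?_ ?_ ?_
  · rw [finrank_baseChange, finrank_fixedSub_bcRep K ρ E hEk] at key
    exact key
  · intro a ha b hb
    rw [bcRep_apply, bcRep_apply, ← LinearMap.baseChange_mul, ← LinearMap.baseChange_mul,
      hcomm a ha b hb]
  · intro e he he1 a ha
    obtain ⟨a', ha', h⟩ := hfpf e he he1 a ha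
    exact ⟨a', ha', by rw [bcRep_apply, bcRep_apply, h]⟩
  · intro x hx
    have : x ∈ fixedSub (bcRep K ρ) A := hx
    rw [hfixAK] at this
    exact (Submodule.mem_bot K).mp this

end thmB

section thmC

theorem finrank_eq_card_mul_finrank_fixedSub {k : Type v} [Field k] {G : Type w} [Group G]
    (A E : Subgroup G) [Finite ↥(A ⊔ E)] (hH : (Nat.card ↥(A ⊔ E) : k) ≠ 0)
    (hnorm : ∀ e ∈ E, ∀ a ∈ A, e * a * e⁻¹ ∈ A)
    {V : Type u} [AddCommGroup V] [Module k V] [FiniteDimensional k V]
    (ρ : Representation k G V)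
    (hcomm : ∀ a ∈ A, ∀ b ∈ A, ρ a * ρ b = ρ b * ρ a)
    (hfpf : ∀ e ∈ E, e ≠ 1 → ∀ a ∈ A, ∃ a' ∈ A, ρ a = ρ (a'⁻¹ * (e * a' * e⁻¹)))
    (hCA : ∀ v, (∀ a ∈ A, ρ a v = v) → v = 0) :
    finrank k V = Nat.card E * finrank k (fixedSub ρ E) := by
  set H₀ : Subgroup G := A ⊔ E with hH₀
  have hAH : A ≤ H₀ := le_sup_left
  have hEH : E ≤ H₀ := le_sup_right
  let ρ' : Representation k H₀ V := ρ.comp H₀.subtype
  have hρ' : ∀ g : H₀, ρ' g = ρ (g : G) := fun g => rfl
  have hgen : A.subgroupOf H₀ ⊔ E.subgroupOf H₀ = ⊤ := by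
    rw [← Subgroup.subgroupOf_sup hAH hEH, Subgroup.subgroupOf_self]
  have key := finrank_eq_of_gen' (k := k) (G := H₀) hH (A.subgroupOf H₀) (E.subgroupOf H₀) hgen
    ?_ ρ' ?_ ?_ ?_
  · have hcard : Nat.card (E.subgroupOf H₀) = Nat.card E :=
      Nat.card_congr (Subgroup.subgroupOfEquivOfLe hEH).toEquiv
    have hfix : fixedSub ρ' (E.subgroupOf H₀) = fixedSub ρ E := by
      ext x
      constructor
      · intro hx e he
        exact hx ⟨e, hEH he⟩ (Subgroup.mem_subgroupOf.mpr he)
      · intro hx e he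
        exact hx (e : G) (Subgroup.mem_subgroupOf.mp he)
    rw [hcard, hfix] at key
    exact key
  · intro e he a ha
    rw [Subgroup.mem_subgroupOf] at he ha ⊢
    exact hnorm _ he _ ha
  · intro a ha b hb
    rw [Subgroup.mem_subgroupOf] at ha hb
    exact hcomm _ ha _ hb
  · intro e he he1 a ha
    rw [Subgroup.mem_subgroupOf] at he ha
    have he1' : (e : G) ≠ 1 := fun h => he1 (Subtype.ext h)
    obtain ⟨a', ha', h⟩ := hfpf _ he he1' _ ha
    exact ⟨⟨a', hAH ha'⟩, Subgroup.mem_subgroupOf.mpr ha', h⟩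
  · intro x hx
    apply hCA
    intro a ha
    exact hx ⟨a, hAH ha⟩ (Subgroup.mem_subgroupOf.mpr ha)

end thmC

open scoped commutatorElement

section nil

variable {k : Type v} [Field k] {G : Type w} [Group G]

/-- the sub-representation on an invariant submodule -/
noncomputable def subRep {V : Type*} [AddCommGroup V] [Module k V] (ρ : Representation k G V)
    (X : Submodule k V) (hX : ∀ g, ∀ x ∈ X, ρ g x ∈ X) : Representation k G X :=
  (⟨X, fun g v hv => hX g v hv⟩ : Subrepresentation ρ).toRepresentation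

theorem subRep_apply {V : Type*} [AddCommGroup V] [Module k V] (ρ : Representation k G V)
    (X : Submodule k V) (hX : ∀ g, ∀ x ∈ X, ρ g x ∈ X) (g : G) (x : X) :
    ((subRep ρ X hX g x : X) : V) = ρ g (x : V) := rfl

theorem finrank_fixedSub_subRep {V : Type*} [AddCommGroup V] [Module k V]
    [FiniteDimensional k V] (ρ : Representation k G V)
    (X : Submodule k V) (hX : ∀ g, ∀ x ∈ X, ρ g x ∈ X) (E : Subgroup G) :
    finrank k (fixedSub (subRep ρ X hX) E) = finrank k ↥(fixedSub ρ E ⊓ X) := by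
  have hFY : (fixedSub (subRep ρ X hX) E).map X.subtype = fixedSub ρ E ⊓ X := by
    ext x
    constructor
    · rintro ⟨y, hy, rfl⟩
      refine ⟨fun e he => ?_, y.2⟩
      exact congrArg Subtype.val (hy e he)
    · rintro ⟨hxF, hxY⟩
      exact ⟨⟨x, hxY⟩, fun e he => Subtype.ext (hxF e he), rfl⟩
  rw [← hFY]
  exact (Submodule.finrank_map_subtype_eq X (fixedSub (subRep ρ X hX) E)).symm

/-- additivity of fixed points over an invariant decomposition -/
theorem finrank_fixedSub_of_isCompl {V : Type*} [AddCommGroup V] [Module k V]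
    [FiniteDimensional k V] (ρ : Representation k G V)
    (X Y : Submodule k V) (hXY : IsCompl X Y) (hX : ∀ g, ∀ x ∈ X, ρ g x ∈ X)
    (hY : ∀ g, ∀ y ∈ Y, ρ g y ∈ Y) (E : Subgroup G) :
    finrank k (fixedSub ρ E) =
      finrank k (fixedSub (subRep ρ X hX) E) + finrank k (fixedSub (subRep ρ Y hY) E) := by
  rw [finrank_fixedSub_subRep, finrank_fixedSub_subRep]
  set F := fixedSub ρ E with hF
  have hFsup : (F ⊓ X) ⊔ (F ⊓ Y) = F := by
    apply le_antisymm (sup_le inf_le_left inf_le_left)
    intro x hx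
    obtain ⟨x1, hx1, x2, hx2, rfl⟩ : ∃ x1 ∈ X, ∃ x2 ∈ Y, x1 + x2 = x := by
      have : x ∈ X ⊔ Y := by rw [hXY.sup_eq_top]; trivial
      exact Submodule.mem_sup.mp this
    have hfix : ∀ e ∈ E, ρ e x1 = x1 ∧ ρ e x2 = x2 := by
      intro e he
      have h1 := hx e he
      rw [map_add] at h1
      have h2 : ρ e x1 - x1 = x2 - ρ e x2 :=
        sub_eq_sub_iff_add_eq_add.mpr (by rw [h1, add_comm])
      have hz : ρ e x1 - x1 ∈ X ⊓ Y := by
        refine ⟨X.sub_mem (hX e x1 hx1) hx1, ?_⟩
        rw [h2]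
        exact Y.sub_mem hx2 (hY e x2 hx2)
      rw [hXY.inf_eq_bot, Submodule.mem_bot] at hz
      refine ⟨sub_eq_zero.mp hz, ?_⟩
      rw [hz] at h2
      exact (sub_eq_zero.mp h2.symm).symm
    exact Submodule.add_mem_sup ⟨fun e he => (hfix e he).1, hx1⟩ ⟨fun e he => (hfix e he).2, hx2⟩
  have hFinf : (F ⊓ X) ⊓ (F ⊓ Y) = ⊥ := by
    rw [eq_bot_iff]
    intro x hx
    have : x ∈ X ⊓ Y := ⟨hx.1.2, hx.2.2⟩
    rw [hXY.inf_eq_bot] at this
    exact this
  have := Submodule.finrank_sup_add_finrank_inf_eq (F ⊓ X) (F ⊓ Y)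
  rw [hFsup, hFinf, finrank_bot, add_zero] at this
  exact this

end nil

section nil2

variable {k : Type v} [Field k] {G : Type w} [Group G]

/-- surjectivity of `a ↦ a⁻¹ e a e⁻¹` on a finite normal subgroup on which `e` acts without
fixed points -/
theorem exists_comm_eq {Z : Subgroup G} [Z.Normal] [Finite Z] (e : G)
    (hfp : ∀ u ∈ Z, e * u = u * e → u = 1) (a : G) (ha : a ∈ Z) :
    ∃ a' ∈ Z, a = a'⁻¹ * (e * a' * e⁻¹) := by
  let φ : Z → Z := fun x => ⟨(x : G)⁻¹ * (e * x * e⁻¹),
    Z.mul_mem (Z.inv_mem x.2) (Subgroup.Normal.conj_mem inferInstance _ x.2 e)⟩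
  have hinj : Function.Injective φ := by
    intro x y hxy
    have h1 : (x : G)⁻¹ * (e * x * e⁻¹) = (y : G)⁻¹ * (e * y * e⁻¹) := congrArg Subtype.val hxy
    have h2 : e * ((y : G) * (x : G)⁻¹) = ((y : G) * (x : G)⁻¹) * e := by
      have h3 : (y : G) * (x : G)⁻¹ = e * y * e⁻¹ * (e * x * e⁻¹)⁻¹ := by
        have : (y : G) * ((x : G)⁻¹ * (e * x * e⁻¹)) = e * y * e⁻¹ := by
          rw [h1]; group
        calc (y : G) * (x : G)⁻¹ = (y : G) * ((x : G)⁻¹ * (e * x * e⁻¹)) * (e * x * e⁻¹)⁻¹ := by
              group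
          _ = e * y * e⁻¹ * (e * x * e⁻¹)⁻¹ := by rw [this]
      have h4 : e * y * e⁻¹ * (e * x * e⁻¹)⁻¹ = e * ((y : G) * (x : G)⁻¹) * e⁻¹ := by group
      rw [h4] at h3
      calc e * ((y : G) * (x : G)⁻¹) = e * ((y : G) * (x : G)⁻¹) * e⁻¹ * e := by group
        _ = ((y : G) * (x : G)⁻¹) * e := by rw [← h3]
    have h5 := hfp _ (Z.mul_mem y.2 (Z.inv_mem x.2)) h2
    apply Subtype.ext
    have : (y : G) = x := by
      have := congrArg (fun t => t * (x : G)) h5
      simpa using this
    exact this.symm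
  have hsurj : Function.Surjective φ := Finite.injective_iff_surjective.mp hinj
  obtain ⟨a', ha'⟩ := hsurj ⟨a, ha⟩
  exact ⟨a', a'.2, (congrArg Subtype.val ha').symm⟩

theorem finrank_eq_of_nilpotent_gen [Finite G] (hG : (Nat.card G : k) ≠ 0)
    (U E : Subgroup G) [U.Normal]
    (hfpf : ∀ e ∈ E, e ≠ 1 → ∀ u ∈ U, e * u = u * e → u = 1) :
    ∀ (i : ℕ) (V : Type u) [AddCommGroup V] [Module k V] [FiniteDimensional k V]
      (ρ : Representation k G V),
      (∀ v, (∀ a ∈ (Subgroup.upperCentralSeries U i).map U.subtype, ρ a v = v) → v = 0) →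
      finrank k V = Nat.card E * finrank k (fixedSub ρ E) := by
  have : NeZero (Nat.card G : k) := ⟨hG⟩
  intro i
  induction i with
  | zero =>
    intro V _ _ _ ρ hC
    have hsub : Subsingleton V := by
      refine ⟨fun a b => ?_⟩
      have h0 : ∀ v : V, v = 0 := by
        intro v
        apply hC
        intro a ha
        rw [Subgroup.upperCentralSeries_zero, Subgroup.map_bot, Subgroup.mem_bot] at ha
        rw [ha, map_one, Module.End.one_apply]
      rw [h0 a, h0 b]
    have h0 : finrank k V = 0 := finrank_zero_of_subsingleton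
    have h1 : finrank k (fixedSub ρ E) = 0 := finrank_zero_of_subsingleton
    rw [h0, h1, mul_zero]
  | succ i ih =>
    intro V _ _ _ ρ hC
    set Z : Subgroup G := (Subgroup.upperCentralSeries U i).map U.subtype with hZ
    set Z' : Subgroup G := (Subgroup.upperCentralSeries U (i + 1)).map U.subtype with hZ'
    have hZn : Z.Normal := ConjAct.normal_of_characteristic_of_normal
    have hZ'n : Z'.Normal := ConjAct.normal_of_characteristic_of_normal
    have hZ'U : Z' ≤ U := Subgroup.map_subtype_le _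
    -- V₁ = C_V(Z)
    set V₁ := fixedSub ρ Z with hV₁
    have hV₁inv : ∀ g, ∀ x ∈ V₁, ρ g x ∈ V₁ := by
      intro g x hx z hz
      have hz' : g⁻¹ * z * g ∈ Z := by
        have := hZn.conj_mem z hz g⁻¹
        simpa using this
      have h1 := hx _ hz'
      calc ρ z (ρ g x) = ρ g (ρ (g⁻¹ * z * g) x) := by
            rw [← Module.End.mul_apply, ← Module.End.mul_apply, ← map_mul, ← map_mul]
            congr 2
            group
        _ = ρ g x := by rw [h1]
    obtain ⟨T, hVT, hTinv⟩ := exists_invariant_isCompl ρ V₁ hV₁inv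
    have hdim : finrank k V₁ + finrank k T = finrank k V := Submodule.finrank_add_eq_of_isCompl hVT
    have hfix := finrank_fixedSub_of_isCompl ρ V₁ T hVT hV₁inv hTinv E
    -- T part
    have hT := ih T (subRep ρ T hTinv) (by
      intro t ht
      have h1 : (t : V) ∈ V₁ := fun a ha => congrArg Subtype.val (ht a ha)
      have h2 : (t : V) ∈ V₁ ⊓ T := ⟨h1, t.2⟩
      rw [hVT.inf_eq_bot, Submodule.mem_bot] at h2
      exact Subtype.ext h2)
    -- V₁ part
    have hZ'E : (Nat.card ↥(Z' ⊔ E) : k) ≠ 0 := natCast_card_ne_zero_of_le _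
    have hV1 := finrank_eq_card_mul_finrank_fixedSub (k := k) Z' E hZ'E
      (fun e _ a ha => hZ'n.conj_mem a ha e) (subRep ρ V₁ hV₁inv) ?_ ?_ ?_
    · rw [← hdim, hfix, hV1, hT]; ring
    · -- commuting on V₁
      intro a ha b hb
      ext x
      show ρ a (ρ b (x : V)) = ρ b (ρ a (x : V))
      have hcomm : ⁅a, b⁆ ∈ Z := by
        obtain ⟨a0, ha0, rfl⟩ := ha
        obtain ⟨b0, -, rfl⟩ := hb
        have := Subgroup.mem_upperCentralSeries_succ_iff.mp ha0 b0
        exact ⟨⁅a0, b0⁆, this, by simp [commutatorElement_def]⟩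
      have hx1 : ρ b (ρ a (x : V)) ∈ V₁ := hV₁inv b _ (hV₁inv a _ x.2)
      have h2 := hx1 _ hcomm
      rw [← h2]
      rw [← Module.End.mul_apply, ← Module.End.mul_apply, ← Module.End.mul_apply,
        ← map_mul, ← map_mul, ← map_mul]
      congr 2
      rw [commutatorElement_def]
      group
    · intro e he he1 a ha
      have := hZ'n
      obtain ⟨a', ha', h⟩ := exists_comm_eq (Z := Z') e
        (fun u hu => hfpf e he he1 u (hZ'U hu)) a ha
      exact ⟨a', ha', by rw [← h]⟩
    · intro x hx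
      apply Subtype.ext
      apply hC
      intro a ha
      exact congrArg Subtype.val (hx a ha)

end nil2

section nil3

variable {k : Type v} [Field k] {G : Type w} [Group G]

/-- **Frobenius action, nilpotent kernel**: if `E` acts without fixed points on the nilpotent
group `U`, and `U ⊔ E` acts on `V` (in characteristic prime to `|U ⊔ E|`) with `C_V(U) = 0`, then
`dim V = |E| * dim C_V(E)`. -/
theorem finrank_eq_of_nilpotent (U E : Subgroup G) [Finite ↥(U ⊔ E)]
    (hH : (Nat.card ↥(U ⊔ E) : k) ≠ 0) (hnorm : ∀ e ∈ E, ∀ u ∈ U, e * u * e⁻¹ ∈ U)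
    (hfpf : ∀ e ∈ E, e ≠ 1 → ∀ u ∈ U, e * u = u * e → u = 1) (hnil : Group.IsNilpotent U)
    {V : Type u} [AddCommGroup V] [Module k V] [FiniteDimensional k V]
    (ρ : Representation k G V) (hCU : ∀ v, (∀ a ∈ U, ρ a v = v) → v = 0) :
    finrank k V = Nat.card E * finrank k (fixedSub ρ E) := by
  set H₀ : Subgroup G := U ⊔ E with hH₀
  have hUH : U ≤ H₀ := le_sup_left
  have hEH : E ≤ H₀ := le_sup_right
  let ρ' : Representation k H₀ V := ρ.comp H₀.subtype
  have hHN : H₀ ≤ Subgroup.normalizer (U : Set G) := by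
    apply sup_le Subgroup.le_normalizer
    intro e he
    rw [Subgroup.mem_normalizer_iff]
    intro u
    constructor
    · exact hnorm e he u
    · intro h
      have := hnorm e⁻¹ (E.inv_mem he) _ h
      simpa [mul_assoc] using this
  have : (U.subgroupOf H₀).Normal := (Subgroup.normal_subgroupOf_iff_le_normalizer hUH).mpr hHN
  have hnil' : Group.IsNilpotent (U.subgroupOf H₀) :=
    (Group.isNilpotent_congr (Subgroup.subgroupOfEquivOfLe hUH)).mpr hnil
  obtain ⟨n, hn⟩ := hnil'.nilpotent'
  have key := finrank_eq_of_nilpotent_gen (k := k) (G := H₀) hH (U.subgroupOf H₀)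
    (E.subgroupOf H₀) ?_ n V ρ' ?_
  · have hcard : Nat.card (E.subgroupOf H₀) = Nat.card E :=
      Nat.card_congr (Subgroup.subgroupOfEquivOfLe hEH).toEquiv
    have hfix : fixedSub ρ' (E.subgroupOf H₀) = fixedSub ρ E := by
      ext x
      constructor
      · intro hx e he
        exact hx ⟨e, hEH he⟩ (Subgroup.mem_subgroupOf.mpr he)
      · intro hx e he
        exact hx (e : G) (Subgroup.mem_subgroupOf.mp he)
    rw [hcard, hfix] at key
    exact key
  · intro e he he1 u hu huc
    rw [Subgroup.mem_subgroupOf] at he hu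
    have he1' : (e : G) ≠ 1 := fun h => he1 (Subtype.ext h)
    have := hfpf _ he he1' _ hu (congrArg Subtype.val huc)
    exact Subtype.ext this
  · intro x hx
    apply hCU
    intro a ha
    apply hx ⟨a, hUH ha⟩
    rw [hn]
    exact ⟨⟨⟨a, hUH ha⟩, Subgroup.mem_subgroupOf.mpr ha⟩, Subgroup.mem_top _, rfl⟩

end nil3

section wl

variable {k : Type v} [Field k] {G : Type w} [Group G]

theorem fixedSub_top_eq {V : Type*} [AddCommGroup V] [Module k V] (ρ : Representation k G V)
    (U E : Subgroup G) (hgen : U ⊔ E = ⊤) :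
    fixedSub ρ ⊤ = fixedSub ρ E ⊓ fixedSub ρ U := by
  ext v
  constructor
  · intro hv
    exact ⟨fun e _ => hv e (Subgroup.mem_top e), fun u _ => hv u (Subgroup.mem_top u)⟩
  · rintro ⟨hE, hU⟩
    let S : Subgroup G :=
      { carrier := {g | ρ g v = v}
        mul_mem' := by
          intro a b ha hb
          show ρ (a * b) v = v
          rw [map_mul, Module.End.mul_apply, hb, ha]
        one_mem' := by
          show ρ 1 v = v
          rw [map_one, Module.End.one_apply]
        inv_mem' := by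
          intro a ha
          show ρ a⁻¹ v = v
          have h1 : ρ a⁻¹ (ρ a v) = v := by
            rw [← Module.End.mul_apply, ← map_mul, inv_mul_cancel, map_one, Module.End.one_apply]
          rw [ha] at h1
          exact h1 }
    have h1 : U ≤ S := fun u hu => hU u hu
    have h2 : E ≤ S := fun e he => hE e he
    have h3 : (⊤ : Subgroup G) ≤ S := hgen ▸ sup_le h1 h2
    intro g _
    exact h3 (Subgroup.mem_top g)

/-- **Frobenius–Wielandt fixed point formula, linear form.** -/
theorem wielandt_lin [Finite G] (hG : (Nat.card G : k) ≠ 0) (U E : Subgroup G) [hUn : U.Normal]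
    (hgen : U ⊔ E = ⊤)
    (hfpf : ∀ e ∈ E, e ≠ 1 → ∀ u ∈ U, e * u = u * e → u = 1) (hnil : Group.IsNilpotent U)
    {V : Type u} [AddCommGroup V] [Module k V] [FiniteDimensional k V]
    (ρ : Representation k G V) :
    Nat.card E * finrank k (fixedSub ρ ⊤) + finrank k V =
      Nat.card E * finrank k (fixedSub ρ E) + finrank k (fixedSub ρ U) := by
  have : NeZero (Nat.card G : k) := ⟨hG⟩
  set V₁ := fixedSub ρ U with hV₁
  have hV₁inv : ∀ g, ∀ x ∈ V₁, ρ g x ∈ V₁ := by
    intro g x hx z hz
    have hz' : g⁻¹ * z * g ∈ U := by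
      have := hUn.conj_mem z hz g⁻¹
      simpa using this
    have h1 := hx _ hz'
    calc ρ z (ρ g x) = ρ g (ρ (g⁻¹ * z * g) x) := by
          rw [← Module.End.mul_apply, ← Module.End.mul_apply, ← map_mul, ← map_mul]
          congr 2
          group
      _ = ρ g x := by rw [h1]
  obtain ⟨T, hVT, hTinv⟩ := exists_invariant_isCompl ρ V₁ hV₁inv
  have hdim : finrank k V₁ + finrank k T = finrank k V := Submodule.finrank_add_eq_of_isCompl hVT
  have hfix := finrank_fixedSub_of_isCompl ρ V₁ T hVT hV₁inv hTinv E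
  have hUE : (Nat.card ↥(U ⊔ E) : k) ≠ 0 := natCast_card_ne_zero_of_le _
  have hT := finrank_eq_of_nilpotent (k := k) U E hUE (fun e _ u hu => hUn.conj_mem u hu e) hfpf
    hnil (subRep ρ T hTinv) (by
      intro t ht
      have h1 : (t : V) ∈ V₁ := fun a ha => congrArg Subtype.val (ht a ha)
      have h2 : (t : V) ∈ V₁ ⊓ T := ⟨h1, t.2⟩
      rw [hVT.inf_eq_bot, Submodule.mem_bot] at h2
      exact Subtype.ext h2)
  have h0 : finrank k (fixedSub ρ ⊤) = finrank k (fixedSub (subRep ρ V₁ hV₁inv) E) := by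
    rw [finrank_fixedSub_subRep, fixedSub_top_eq ρ U E hgen]
  rw [h0, hfix, ← hdim, hT]
  ring

end wl

section thmH

variable {K : Type v} {G : Type w} [Field K] [Group G]

/-- If `dim V = |E|` in the situation of `finrank_eq_of_gen`, then any two operators commuting
with the image of `A` commute with each other (they are simultaneously diagonal). -/
theorem commute_of_finrank_eq_card_algClosed [IsAlgClosed K] [Finite G] (A E : Subgroup G)
    (hAK : (Nat.card A : K) ≠ 0)
    (hnorm : ∀ e ∈ E, ∀ a ∈ A, e * a * e⁻¹ ∈ A)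
    {V : Type u} [AddCommGroup V] [Module K V] [FiniteDimensional K V]
    (ρ : Representation K G V)
    (hcomm : ∀ a ∈ A, ∀ b ∈ A, ρ a * ρ b = ρ b * ρ a)
    (hfpf : ∀ e ∈ E, e ≠ 1 → ∀ a ∈ A, ∃ a' ∈ A, ρ a = ρ (a'⁻¹ * (e * a' * e⁻¹)))
    (hCA : ∀ v, (∀ a ∈ A, ρ a v = v) → v = 0)
    (hdim : finrank K V = Nat.card E)
    (S T : Module.End K V) (hS : ∀ a ∈ A, ρ a * S = S * ρ a) (hT : ∀ a ∈ A, ρ a * T = T * ρ a) :
    S * T = T * S := by
  have hEpos : 0 < Nat.card E := Nat.card_pos
  have : Nontrivial V := by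
    apply Module.nontrivial_of_finrank_pos (R := K)
    rw [hdim]; exact hEpos
  obtain ⟨χ, v, hv0, hχ1, hχ2⟩ := exists_common_eigenvector ρ A hAK hcomm
  have hvS : v ∈ simSp ρ A χ := mem_simSp_of_eigen ρ A χ v hχ1 hχ2
  have : Fintype E := Fintype.ofFinite E
  let w : E → V := fun e => ρ (e : G) v
  have hnorm' : ∀ e ∈ E, ∀ a ∈ A, e⁻¹ * a * e ∈ A := by
    intro e he a ha
    have := hnorm e⁻¹ (E.inv_mem he) a ha
    simpa using this
  let χe : E → (G → K) := fun e g => χ ((e : G)⁻¹ * g * e)
  have hwS : ∀ e : E, w e ∈ simSp ρ A (χe e) := fun e =>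
    map_mem_simSp ρ A e (hnorm e e.2) (hnorm' e e.2) χ v hvS
  have hρinv : ∀ (g : G) (x : V), ρ g⁻¹ (ρ g x) = x := by
    intro g x
    rw [← Module.End.mul_apply, ← map_mul, inv_mul_cancel, map_one, Module.End.one_apply]
  have hχinj : Function.Injective χe := by
    intro e e' hee
    by_contra hne
    set d : G := (e' : G)⁻¹ * e with hd
    have hdE : d ∈ E := E.mul_mem (E.inv_mem e'.2) e.2
    have hd1 : d ≠ 1 := by
      intro h
      apply hne
      have : (e : G) = e' := by
        have := congrArg (fun x => (e' : G) * x) h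
        simpa [hd] using this
      exact Subtype.ext this
    have hinv : ∀ h : G, χ (d⁻¹ * h * d) = χ h := by
      intro h
      have h1 := congrFun hee ((e' : G) * h * (e' : G)⁻¹)
      simp only [χe] at h1
      have e1 : (e : G)⁻¹ * ((e' : G) * h * (e' : G)⁻¹) * e = d⁻¹ * h * d := by
        rw [hd]; group
      have e2 : (e' : G)⁻¹ * ((e' : G) * h * (e' : G)⁻¹) * e' = h := by group
      rw [e1, e2] at h1
      exact h1
    apply hv0
    apply hCA
    intro a ha
    obtain ⟨a', ha', hρ⟩ := hfpf d hdE hd1 a ha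
    have hbA : d * a' * d⁻¹ ∈ A := hnorm d hdE a' ha'
    have hχb : χ (d * a' * d⁻¹) = χ a' := by
      have := hinv (d * a' * d⁻¹)
      rw [← this]
      congr 1
      group
    rw [hρ, map_mul, Module.End.mul_apply, hχ2 _ hbA, hχb, ← hχ2 _ ha', hρinv]
  have hw0 : ∀ e : E, w e ≠ 0 := by
    intro e h
    apply hv0
    have := hρinv (e : G) v
    rw [← this]
    show ρ (e : G)⁻¹ (w e) = 0
    rw [h, map_zero]
  have hind : iSupIndep (fun e : E => simSp ρ A (χe e)) := (simSp_indep ρ A hcomm).comp hχinj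
  have hli : LinearIndependent K w :=
    iSupIndep.linearIndependent (fun e => simSp ρ A (χe e)) hind hwS hw0
  have hspan : Submodule.span K (Set.range w) = ⊤ := by
    apply hli.span_eq_top_of_card_eq_finrank'
    rw [hdim, Nat.card_eq_fintype_card]
  -- operators commuting with `A` are diagonal
  have hdiag : ∀ (S : Module.End K V), (∀ a ∈ A, ρ a * S = S * ρ a) →
      ∀ e : E, ∃ c : K, S (w e) = c • w e := by
    intro S hS e
    have hx : S (w e) ∈ simSp ρ A (χe e) := by
      have h1 := hwS e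
      rw [simSp, Submodule.mem_iInf] at h1 ⊢
      intro g
      apply map_mem_maxGenEigenspace (opFam ρ A g) (opFam ρ A g) S _ _ _ (h1 g)
      by_cases hg : g ∈ A
      · rw [opFam_of_mem ρ A hg]; exact hS g hg
      · rw [opFam_of_not_mem ρ A hg]; simp
    have hxs : S (w e) ∈ Submodule.span K (Set.range w) := by rw [hspan]; trivial
    obtain ⟨c, hc⟩ := (Submodule.mem_span_range_iff_exists_fun K).mp hxs
    refine ⟨c e, ?_⟩
    classical
    have hy : S (w e) - c e • w e ∈ ⨆ (e' : E) (_ : e' ≠ e), simSp ρ A (χe e') := by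
      rw [← hc, ← Finset.add_sum_erase Finset.univ _ (Finset.mem_univ e), add_sub_cancel_left]
      apply Submodule.sum_mem
      intro e' he'
      have hne : e' ≠ e := Finset.ne_of_mem_erase he'
      apply Submodule.smul_mem
      exact Submodule.mem_iSup_of_mem e' (Submodule.mem_iSup_of_mem hne (hwS e'))
    have hy2 : S (w e) - c e • w e ∈ simSp ρ A (χe e) :=
      Submodule.sub_mem _ hx (Submodule.smul_mem _ _ (hwS e))
    have := (hind e).le_bot ⟨hy2, hy⟩
    exact sub_eq_zero.mp ((Submodule.mem_bot K).mp this)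
  apply LinearMap.ext_on_range hspan
  intro e
  obtain ⟨c1, h1⟩ := hdiag S hS e
  obtain ⟨c2, h2⟩ := hdiag T hT e
  rw [Module.End.mul_apply, Module.End.mul_apply, h2, h1, map_smul, map_smul, h1, h2, smul_smul,
    smul_smul, mul_comm]

end thmH

section thmH2

variable {k : Type v} [Field k] {G : Type w} [Group G]

/-- **Frobenius action in minimal dimension**: if `dim V = |E|` and `C_V(U) = 0`, the nilpotent
kernel `U` acts on `V` through an abelian group. -/
theorem commute_of_finrank_eq_card [Finite G] (hG : (Nat.card G : k) ≠ 0)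
    (U E : Subgroup G) [hUn : U.Normal]
    (hfpf : ∀ e ∈ E, e ≠ 1 → ∀ u ∈ U, e * u = u * e → u = 1) (hnil : Group.IsNilpotent U)
    {V : Type u} [AddCommGroup V] [Module k V] [FiniteDimensional k V]
    (ρ : Representation k G V) (hCU : ∀ v, (∀ a ∈ U, ρ a v = v) → v = 0)
    (hdim : finrank k V = Nat.card E) :
    ∀ g ∈ U, ∀ h ∈ U, ρ g * ρ h = ρ h * ρ g := by
  classical
  have : NeZero (Nat.card G : k) := ⟨hG⟩
  have hEpos : 0 < Nat.card E := Nat.card_pos
  have hVnt : Nontrivial V := by
    apply Module.nontrivial_of_finrank_pos (R := k)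
    rw [hdim]; exact hEpos
  let Z : ℕ → Subgroup G := fun i => (Subgroup.upperCentralSeries U i).map U.subtype
  have hZn : ∀ i, (Z i).Normal := fun i => ConjAct.normal_of_characteristic_of_normal
  have hZU : ∀ i, Z i ≤ U := fun i => Subgroup.map_subtype_le _
  obtain ⟨n, hn⟩ := hnil.nilpotent'
  have hZnU : Z n = U := by
    show (Subgroup.upperCentralSeries U n).map U.subtype = U
    rw [hn, ← MonoidHom.range_eq_map, Subgroup.range_subtype]
  have hex : ∃ i, ¬ ∀ a ∈ Z i, ρ a = 1 := by
    refine ⟨n, fun h => ?_⟩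
    obtain ⟨v, hv⟩ := exists_ne (0 : V)
    apply hv
    apply hCU
    intro a ha
    rw [h a (hZnU ▸ ha), Module.End.one_apply]
  set i₀ := Nat.find hex with hi₀
  have hi₀0 : i₀ ≠ 0 := by
    intro h0
    have := Nat.find_spec hex
    rw [← hi₀, h0] at this
    apply this
    intro a ha
    have : a = 1 := by
      have ha' : a ∈ (Subgroup.upperCentralSeries U 0).map U.subtype := ha
      rw [Subgroup.upperCentralSeries_zero, Subgroup.map_bot, Subgroup.mem_bot] at ha'
      exact ha'
    rw [this, map_one]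
  obtain ⟨j, hj⟩ := Nat.exists_eq_succ_of_ne_zero hi₀0
  have hPj : ∀ a ∈ Z j, ρ a = 1 := by
    have := Nat.find_min hex (m := j) (by omega)
    push Not at this
    exact this
  have hnPj : ¬ ∀ a ∈ Z (j + 1), ρ a = 1 := by
    have := Nat.find_spec hex
    rw [← hi₀, hj] at this
    exact this
  set A := Z (j + 1) with hA
  have hAn : A.Normal := hZn (j + 1)
  have hAU : A ≤ U := hZU (j + 1)
  -- commutators of `A` with `U` act trivially
  have hcen : ∀ a ∈ A, ∀ g ∈ U, ρ a * ρ g = ρ g * ρ a := by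
    intro a ha g hg
    have hc : ⁅a, g⁆ ∈ Z j := by
      obtain ⟨a0, ha0, rfl⟩ := ha
      have := Subgroup.mem_upperCentralSeries_succ_iff.mp ha0 ⟨g, hg⟩
      exact ⟨⁅a0, ⟨g, hg⟩⁆, this, by simp [commutatorElement_def]⟩
    have h1 := hPj _ hc
    have h2 : a * g = ⁅a, g⁆ * (g * a) := by rw [commutatorElement_def]; group
    rw [← map_mul, h2, map_mul, h1, one_mul, map_mul]
  -- `C_V(A) = 0`
  set W := fixedSub ρ A with hW
  have hWinv : ∀ g, ∀ x ∈ W, ρ g x ∈ W := by
    intro g x hx z hz
    have hz' : g⁻¹ * z * g ∈ A := by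
      have := hAn.conj_mem z hz g⁻¹
      simpa using this
    have h1 := hx _ hz'
    calc ρ z (ρ g x) = ρ g (ρ (g⁻¹ * z * g) x) := by
          rw [← Module.End.mul_apply, ← Module.End.mul_apply, ← map_mul, ← map_mul]
          congr 2
          group
      _ = ρ g x := by rw [h1]
  have hUE : (Nat.card ↥(U ⊔ E) : k) ≠ 0 := natCast_card_ne_zero_of_le _
  have hWdim := finrank_eq_of_nilpotent (k := k) U E hUE (fun e _ u hu => hUn.conj_mem u hu e)
    hfpf hnil (subRep ρ W hWinv) (by
      intro t ht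
      apply Subtype.ext
      apply hCU
      intro a ha
      exact congrArg Subtype.val (ht a ha))
  have hWlt : finrank k W < finrank k V := by
    apply Submodule.finrank_lt
    intro htop
    apply hnPj
    intro a ha
    ext x
    have : x ∈ W := by rw [htop]; trivial
    rw [Module.End.one_apply]
    exact this a ha
  have hW0 : W = ⊥ := by
    rw [hdim, hWdim] at hWlt
    have h0 : finrank k (fixedSub (subRep ρ W hWinv) E) = 0 := by
      by_contra hne
      have : 1 ≤ finrank k (fixedSub (subRep ρ W hWinv) E) := Nat.one_le_iff_ne_zero.mpr hne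
      have := Nat.mul_le_mul_left (Nat.card E) this
      omega
    rw [h0, mul_zero] at hWdim
    exact Submodule.finrank_eq_zero.mp hWdim
  have hCA : ∀ v, (∀ a ∈ A, ρ a v = v) → v = 0 := by
    intro v hv
    have : v ∈ W := hv
    rw [hW0] at this
    exact (Submodule.mem_bot k).mp this
  -- base change
  let K := AlgebraicClosure k
  have hAk : (Nat.card A : k) ≠ 0 := natCast_card_ne_zero_of_le A
  have hAK : (Nat.card A : K) ≠ 0 := by
    intro h
    apply hAk
    have h2 : algebraMap k K (Nat.card A : k) = 0 := by rw [map_natCast]; exact h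
    exact (map_eq_zero (algebraMap k K)).mp h2
  have hfixA : fixedSub ρ A = ⊥ := hW0
  have hfixAK : fixedSub (bcRep K ρ) A = ⊥ := by
    have h1 := finrank_fixedSub_bcRep K ρ A hAk
    rw [hfixA, finrank_bot] at h1
    exact Submodule.finrank_eq_zero.mp h1
  intro g hg h hh
  have key := commute_of_finrank_eq_card_algClosed (K := K) A E hAK
    (fun e _ a ha => hAn.conj_mem a ha e) (bcRep K ρ) ?_ ?_ ?_ ?_ (bcRep K ρ g) (bcRep K ρ h) ?_ ?_
  · rw [bcRep_apply, bcRep_apply, ← LinearMap.baseChange_mul, ← LinearMap.baseChange_mul] at key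
    exact LinearMap.baseChangeHom_injective k V K key
  · intro a ha b hb
    rw [bcRep_apply, bcRep_apply, ← LinearMap.baseChange_mul, ← LinearMap.baseChange_mul,
      hcen a ha b (hAU hb)]
  · intro e he he1 a ha
    have := hAn
    obtain ⟨a', ha', h⟩ := exists_comm_eq (Z := A) e
      (fun u hu => hfpf e he he1 u (hAU hu)) a ha
    exact ⟨a', ha', by rw [← h]⟩
  · intro x hx
    have : x ∈ fixedSub (bcRep K ρ) A := hx
    rw [hfixAK] at this
    exact (Submodule.mem_bot K).mp this
  · rw [finrank_baseChange, hdim]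
  · intro a ha
    rw [bcRep_apply, bcRep_apply, ← LinearMap.baseChange_mul, ← LinearMap.baseChange_mul,
      hcen a ha g hg]
  · intro a ha
    rw [bcRep_apply, bcRep_apply, ← LinearMap.baseChange_mul, ← LinearMap.baseChange_mul,
      hcen a ha h hh]

end thmH2

section thmI

variable {k : Type v} [Field k] {G : Type w} [Group G]

/-- If `C_V(E)` is at most one-dimensional, the nilpotent Frobenius kernel `U` acts on `V`
through an abelian group. -/
theorem commute_of_finrank_fixedSub_le_one [Finite G] (hG : (Nat.card G : k) ≠ 0)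
    (U E : Subgroup G) [hUn : U.Normal]
    (hfpf : ∀ e ∈ E, e ≠ 1 → ∀ u ∈ U, e * u = u * e → u = 1) (hnil : Group.IsNilpotent U)
    {V : Type u} [AddCommGroup V] [Module k V] [FiniteDimensional k V]
    (ρ : Representation k G V) (hfix : finrank k (fixedSub ρ E) ≤ 1) :
    ∀ g ∈ U, ∀ h ∈ U, ρ g * ρ h = ρ h * ρ g := by
  have : NeZero (Nat.card G : k) := ⟨hG⟩
  set V₁ := fixedSub ρ U with hV₁
  have hV₁inv : ∀ g, ∀ x ∈ V₁, ρ g x ∈ V₁ := by
    intro g x hx z hz
    have hz' : g⁻¹ * z * g ∈ U := by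
      have := hUn.conj_mem z hz g⁻¹
      simpa using this
    have h1 := hx _ hz'
    calc ρ z (ρ g x) = ρ g (ρ (g⁻¹ * z * g) x) := by
          rw [← Module.End.mul_apply, ← Module.End.mul_apply, ← map_mul, ← map_mul]
          congr 2
          group
      _ = ρ g x := by rw [h1]
  obtain ⟨T, hVT, hTinv⟩ := exists_invariant_isCompl ρ V₁ hV₁inv
  have hfixsum := finrank_fixedSub_of_isCompl ρ V₁ T hVT hV₁inv hTinv E
  have hUE : (Nat.card ↥(U ⊔ E) : k) ≠ 0 := natCast_card_ne_zero_of_le _
  have hCT : ∀ t : T, (∀ a ∈ U, subRep ρ T hTinv a t = t) → t = 0 := by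
    intro t ht
    have h1 : (t : V) ∈ V₁ := fun a ha => congrArg Subtype.val (ht a ha)
    have h2 : (t : V) ∈ V₁ ⊓ T := ⟨h1, t.2⟩
    rw [hVT.inf_eq_bot, Submodule.mem_bot] at h2
    exact Subtype.ext h2
  have hT := finrank_eq_of_nilpotent (k := k) U E hUE (fun e _ u hu => hUn.conj_mem u hu e) hfpf
    hnil (subRep ρ T hTinv) hCT
  have hTcomm : ∀ g ∈ U, ∀ h ∈ U, ∀ t ∈ T, ρ g (ρ h t) = ρ h (ρ g t) := by
    have hf : finrank k (fixedSub (subRep ρ T hTinv) E) ≤ 1 := by omega
    rcases Nat.le_one_iff_eq_zero_or_eq_one.mp hf with h0 | h1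
    · rw [h0, mul_zero] at hT
      have hT0 : T = ⊥ := Submodule.finrank_eq_zero.mp hT
      intro g _ h _ t ht
      rw [hT0, Submodule.mem_bot] at ht
      rw [ht, map_zero, map_zero, map_zero]
    · rw [h1, mul_one] at hT
      have key := commute_of_finrank_eq_card (k := k) hG U E hfpf hnil (subRep ρ T hTinv) hCT hT
      intro g hg h hh t ht
      have := congrArg (fun f : Module.End k T => ((f ⟨t, ht⟩ : T) : V)) (key g hg h hh)
      exact this
  intro g hg h hh
  ext x
  obtain ⟨x1, hx1, x2, hx2, rfl⟩ : ∃ x1 ∈ V₁, ∃ x2 ∈ T, x1 + x2 = x := by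
    have : x ∈ V₁ ⊔ T := by rw [hVT.sup_eq_top]; trivial
    exact Submodule.mem_sup.mp this
  simp only [Module.End.mul_apply, map_add]
  rw [hx1 h hh, hx1 g hg, hx1 h hh, hTcomm g hg h hh x2 hx2]

end thmI

end Cfsg.Agent.Lib.Helper03.FrobLin
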