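import Mathlib
import Cfsg.Prelude.Def_FusionSystem
import Cfsg.Agent.Lib.Helper89.FusionAut
import Cfsg.Agent.Lib.Helper90.StabChain
import Cfsg.Agent.Lib.Helper53.StronglyEmbedded2
import Cfsg.Agent.Lib.Helper91.FusionEssentialClass

set_option autoImplicit false

/-!
Essential subgroups of a saturated fusion system: an element of `N_S(P)` which stabilizes a chain of
`Aut_F(P)`-invariant subgroups of `P` lies in `P` (because `Out_F(P)` has no nontrivial normal `p`-subgroup).
-/

namespace Cfsg.Agent.Lib.Helper03.FusEss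

open Cfsg Cfsg.FusionSystem Cfsg.Agent.Lib.Helper89 Cfsg.Agent.Lib.Helper90
  Cfsg.Agent.Lib.Helper53

/-- A finite group with a strongly `p`-embedded subgroup has no nontrivial normal `p`-subgroup. -/
theorem normal_pSubgroup_eq_bot {X : Type*} [Group X] [Finite X] {p : ℕ} [Fact p.Prime]
    (E : Subgroup X) (hE : IsStronglyPEmbedded p E) (N : Subgroup X) (hNn : N.Normal)
    (hN : IsPGroup p N) : N = ⊥ := by
  by_contra hne
  obtain ⟨P, _, _, _, hnorm⟩ := exists_sylow_of_isStronglyPEmbedded hE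
  obtain ⟨Q, hNQ⟩ := hN.exists_le_sylow
  obtain ⟨g, hg⟩ := MulAction.exists_smul_eq X Q P
  have hNP : N ≤ (P : Subgroup X) := by
    rw [← hg]
    intro x hx
    rw [Sylow.coe_subgroup_smul, Subgroup.mem_pointwise_smul_iff_inv_smul_mem]
    apply hNQ
    have := hNn.conj_mem x hx g⁻¹
    simpa [MulAut.smul_def] using this
  have h1 := hnorm N hNP hne
  have h2 : Subgroup.normalizer (N : Set X) = ⊤ := Subgroup.normalizer_eq_top_iff.mpr hNn
  rw [h2] at h1
  exact hE.2.1 (top_le_iff.mp h1)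

variable {Ω : Type*} [Group Ω] {S : Subgroup Ω}

/-- An essential subgroup contains its centralizer in `S`. -/
theorem centralizerIn_le_of_isEssential (F : FusionSystem S) {p : ℕ} {P : Subgroup Ω}
    (hP : F.IsEssential p P) : centralizerIn S P ≤ P :=
  hP.1.2 P (Helper87.isConj_refl F hP.1.1)

/-- Lemma R: in an essential subgroup `P`, an element of `N_S(P)` whose conjugation action stabilizes a
chain of `Aut_F(P)`-invariant subgroups of `P` lies in `P`. -/
theorem mem_of_stabChain [Finite S] {p : ℕ} [Fact p.Prime] (hS : IsPGroup p S) (F : FusionSystem S)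
    {P : Subgroup Ω} (hP : F.IsEssential p P)
    (c : ℕ → Subgroup P) (hmono : Monotone c) (hc0 : c 0 = ⊥) (n : ℕ) (hcn : c n = ⊤)
    (hinv : ∀ α ∈ F.autGroup P, ∀ i, ∀ x ∈ c i, α x ∈ c i)
    {g : Ω} (hgS : g ∈ S) (hgN : g ∈ Subgroup.normalizer (P : Set Ω))
    (hg : conjAut P g hgN ∈ stabChain c hmono) : g ∈ P := by
  have hPS : P ≤ S := hP.1.1
  have : Finite P := Helper87.finite_of_le hPS
  have hPp : IsPGroup p P := hS.to_le hPS
  obtain ⟨hcen, -, hnorm, E, hE⟩ := hP
  -- the stabilizer of the chain inside `Aut_F(P)`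
  set Γ := F.autGroup P with hΓ
  set N : Subgroup Γ := (stabChain c hmono).subgroupOf Γ with hNdef
  have hNn : N.Normal := by
    constructor
    intro β hβ a
    rw [hNdef, Subgroup.mem_subgroupOf] at hβ ⊢
    have h1 := stabChain_conj_mem c hmono (a : MulAut P) (fun j x hx => hinv a a.2 j x hx)
      (fun j x hx => hinv _ (Γ.inv_mem a.2) j x hx) hβ
    simpa using h1
  have hNp : IsPGroup p N := (stabChain_isPGroup hPp c hc0 hmono n hcn).comap_subtype
  have hsurj := QuotientGroup.mk'_surjective ((Inn P).subgroupOf Γ)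
  have hbar : N.map (QuotientGroup.mk' ((Inn P).subgroupOf Γ)) = ⊥ :=
    normal_pSubgroup_eq_bot E hE _ (hNn.map _ hsurj) (hNp.map _)
  -- conjugation by `g` is inner
  have hgΓ : conjAut P g hgN ∈ Γ :=
    Helper89.autInducedBy_le_autGroup F hPS (conjAut_mem_autInducedBy hgS hgN)
  have hmem : (⟨conjAut P g hgN, hgΓ⟩ : Γ) ∈ N := by
    rw [hNdef, Subgroup.mem_subgroupOf]; exact hg
  have h1 : QuotientGroup.mk' ((Inn P).subgroupOf Γ) ⟨conjAut P g hgN, hgΓ⟩ ∈
      N.map (QuotientGroup.mk' ((Inn P).subgroupOf Γ)) := Subgroup.mem_map_of_mem _ hmem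
  rw [hbar, Subgroup.mem_bot, QuotientGroup.mk'_apply, QuotientGroup.eq_one_iff,
    Subgroup.mem_subgroupOf] at h1
  obtain ⟨u, hu⟩ := h1
  -- `u⁻¹ g` centralizes `P`
  have hcent : (u : Ω)⁻¹ * g ∈ centralizerIn S P := by
    rw [Helper87.mem_centralizerIn]
    refine ⟨S.mul_mem (S.inv_mem (hPS u.2)) hgS, fun x hx => ?_⟩
    have h2 := congrArg (fun α : MulAut P => ((α ⟨x, hx⟩ : P) : Ω)) hu
    simp only [MulAut.conj_apply, conjAut_apply, Subgroup.coe_mul, Subgroup.coe_inv] at h2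
    -- h2 : u * x * u⁻¹ = g * x * g⁻¹
    have h3 : (u : Ω)⁻¹ * g * x = (u : Ω)⁻¹ * (g * x * g⁻¹) * g := by group
    rw [h3, ← h2]; group
  have h4 := hcen.2 P (Helper87.isConj_refl F hPS) hcent
  have h5 : g = (u : Ω) * ((u : Ω)⁻¹ * g) := by group
  rw [h5]
  exact P.mul_mem u.2 h4

end Cfsg.Agent.Lib.Helper03.FusEss
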