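import Mathlib

set_option autoImplicit false

/-!
Small index lemmas: a normal subgroup of prime index together with any element outside it generates
the group in the strong form `g = h * x ^ i`; an index formula for `N = H P` with `P` normal in `N`.
-/

namespace Cfsg.Agent.Lib.Helper03.IdxPrime

/-- Lemma D: if `H` is normal of prime index and `x ∉ H`, every `g` is `h * x ^ i` with `h ∈ H`. -/
theorem exists_eq_mul_pow {G : Type*} [Group G] (H : Subgroup G) [H.Normal] {p : ℕ}
    (hp : p.Prime) (hH : H.index = p) {x : G} (hx : x ∉ H) (g : G) :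
    ∃ h ∈ H, ∃ i : ℕ, g = h * x ^ i := by
  have : Fact p.Prime := ⟨hp⟩
  have hcard : Nat.card (G ⧸ H) = p := by rw [← Subgroup.index_eq_card]; exact hH
  have hfin : Finite (G ⧸ H) := Nat.finite_of_card_ne_zero (by rw [hcard]; exact hp.ne_zero)
  have hne : (QuotientGroup.mk x : G ⧸ H) ≠ 1 := by
    intro h
    exact hx ((QuotientGroup.eq_one_iff x).mp h)
  have htop := zpowers_eq_top_of_prime_card hcard hne
  have hmem : (QuotientGroup.mk g : G ⧸ H) ∈ Subgroup.zpowers (QuotientGroup.mk x : G ⧸ H) := by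
    rw [htop]; trivial
  rw [← mem_powers_iff_mem_zpowers] at hmem
  obtain ⟨i, hi⟩ := hmem
  refine ⟨g * (x ^ i)⁻¹, ?_, i, by group⟩
  rw [← QuotientGroup.eq_one_iff]
  rw [QuotientGroup.mk_mul, QuotientGroup.mk_inv, QuotientGroup.mk_pow]
  rw [← hi]
  simp

/-- If `N = H P` with `P ≤ N ≤ N(P)`, then `|N : P| = |H : H ∩ P|`. -/
theorem relIndex_eq_of_prod {G : Type*} [Group G] (P H N : Subgroup G) (hPN : P ≤ N) (hHN : H ≤ N)
    (hnorm : N ≤ Subgroup.normalizer (P : Set G))
    (hgen : ∀ g ∈ N, ∃ h ∈ H, ∃ u ∈ P, g = h * u) : P.relIndex N = (P ⊓ H).relIndex H := by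
  have hn : (P.subgroupOf N).Normal := (Subgroup.normal_subgroupOf_iff_le_normalizer hPN).mpr hnorm
  have hsup : H.subgroupOf N ⊔ P.subgroupOf N = ⊤ := by
    rw [eq_top_iff]
    intro g _
    obtain ⟨h, hh, u, hu, hgu⟩ := hgen g g.2
    have e : g = (⟨h, hHN hh⟩ : N) * ⟨u, hPN hu⟩ := Subtype.ext hgu
    rw [e]
    exact Subgroup.mul_mem _ (Subgroup.mem_sup_left (Subgroup.mem_subgroupOf.mpr hh))
      (Subgroup.mem_sup_right (Subgroup.mem_subgroupOf.mpr hu))
  calc P.relIndex N = (P.subgroupOf N).index := rfl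
    _ = (P.subgroupOf N).relIndex ⊤ := (Subgroup.relIndex_top_right _).symm
    _ = (P.subgroupOf N).relIndex (H.subgroupOf N ⊔ P.subgroupOf N) := by rw [hsup]
    _ = (P.subgroupOf N).relIndex (H.subgroupOf N) := Subgroup.relIndex_sup_right _ _
    _ = P.relIndex H := Subgroup.relIndex_subgroupOf hHN
    _ = (P ⊓ H).relIndex H := (Subgroup.inf_relIndex_right P H).symm

end Cfsg.Agent.Lib.Helper03.IdxPrime
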