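import Mathlib
import Cfsg.Agent.Lib.Helper53.StronglyEmbedded2
import Cfsg.Agent.Lib.Helper03.IdxPrime

set_option autoImplicit false

/-!
Lemma T: a finite group `X` with a strongly `p`-embedded subgroup acting faithfully on a finite
abelian group `V`, such that a Sylow `p`-subgroup `T` of `X` fixes pointwise a subgroup `W` of index
`p` of `V` and acts trivially on `V / W`.  Then `|T| = p`.
-/

namespace Cfsg.Agent.Lib.Helper03.StrEmbAct

open Cfsg Cfsg.Agent.Lib.Helper53 Cfsg.Agent.Lib.Helper03.IdxPrime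

variable {X V : Type*} [Group X] [Group V]

theorem rho_apply_inv (ρ : X →* MulAut V) (a : X) (v : V) : ρ a (ρ a⁻¹ v) = v := by
  rw [← MulAut.mul_apply, ← map_mul, mul_inv_cancel, map_one, MulAut.one_apply]

theorem rho_inv_apply (ρ : X →* MulAut V) (a : X) (v : V) : ρ a⁻¹ (ρ a v) = v := by
  rw [← MulAut.mul_apply, ← map_mul, inv_mul_cancel, map_one, MulAut.one_apply]

/-- Sub-lemma U. -/
theorem exists_ne_one_comm_mem {p : ℕ} [Fact p.Prime]
    (hcomm : ∀ a b : V, a * b = b * a)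
    (ρ : X →* MulAut V) (T : Subgroup X) (hcard : p < Nat.card T)
    (W : Subgroup V) (hW : W.index = p)
    (hfix : ∀ t ∈ T, ∀ w ∈ W, ρ t w = w) (hquot : ∀ t ∈ T, ∀ v : V, v⁻¹ * ρ t v ∈ W)
    (Y : Subgroup V) (hY : Y.index = p) :
    ∃ t ∈ T, t ≠ 1 ∧ ∀ u : V, u⁻¹ * ρ t u ∈ Y := by
  have hp : p.Prime := Fact.out
  have hWn : W.Normal := ⟨fun n hn g => by rw [hcomm g n, mul_inv_cancel_right]; exact hn⟩
  have hYn : Y.Normal := ⟨fun n hn g => by rw [hcomm g n, mul_inv_cancel_right]; exact hn⟩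
  obtain ⟨x, hx⟩ : ∃ x : V, x ∉ W := by
    by_contra h
    push Not at h
    have : W = ⊤ := eq_top_iff.mpr (fun v _ => h v)
    rw [this, Subgroup.index_top] at hW
    exact hp.one_lt.ne hW
  let c : T →* V := MonoidHom.mk' (fun t => x⁻¹ * ρ (t : X) x) (by
    intro t s
    have h1 : ρ ((t * s : T) : X) x = ρ (t : X) (ρ (s : X) x) := by
      rw [Subgroup.coe_mul, map_mul, MulAut.mul_apply]
    have h2 : ρ (s : X) x = x * (x⁻¹ * ρ (s : X) x) := by group
    have h3 : ρ (t : X) (x⁻¹ * ρ (s : X) x) = x⁻¹ * ρ (s : X) x :=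
      hfix t t.2 _ (hquot s s.2 x)
    show x⁻¹ * ρ ((t * s : T) : X) x = x⁻¹ * ρ (t : X) x * (x⁻¹ * ρ (s : X) x)
    rw [h1, h2, map_mul, h3]
    group)
  have hc : ∀ t : T, c t = x⁻¹ * ρ (t : X) x := fun t => rfl
  set K := Y.comap c with hK
  have hKidx : K.index ∣ p := by
    rw [hK, Subgroup.index_comap, ← hY]
    exact Subgroup.relIndex_dvd_index_of_normal Y c.range
  have hKne : K ≠ ⊥ := by
    intro hKb
    rw [hKb, Subgroup.index_bot] at hKidx
    exact absurd (Nat.le_of_dvd hp.pos hKidx) (not_le.mpr hcard)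
  obtain ⟨⟨t, htK⟩, ht1⟩ := (Subgroup.ne_bot_iff_exists_ne_one).mp hKne
  refine ⟨(t : X), t.2, ?_, ?_⟩
  · intro h
    apply ht1
    apply Subtype.ext
    apply Subtype.ext
    exact h
  · intro u
    obtain ⟨w, hw, i, rfl⟩ := exists_eq_mul_pow W hp hW hx u
    have hct : c t ∈ Y := htK
    rw [hc] at hct
    have h1 : ρ (t : X) (w * x ^ i) = w * (ρ (t : X) x) ^ i := by
      rw [map_mul, map_pow, hfix t t.2 w hw]
    have h2 : ρ (t : X) x = x * (x⁻¹ * ρ (t : X) x) := by group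
    have h3 : (x * (x⁻¹ * ρ (t : X) x)) ^ i = x ^ i * (x⁻¹ * ρ (t : X) x) ^ i :=
      (show Commute x (x⁻¹ * ρ (t : X) x) from hcomm _ _).mul_pow i
    have h4 : (w * x ^ i)⁻¹ * ρ (t : X) (w * x ^ i) = (x⁻¹ * ρ (t : X) x) ^ i := by
      rw [h1]
      conv_lhs => rw [h2, h3]
      group
    rw [h4]
    exact Y.pow_mem hct i

/-- Lemma T. -/
theorem card_sylow_eq_prime [Finite X] {p : ℕ} [Fact p.Prime]
    (hcomm : ∀ a b : V, a * b = b * a) (E : Subgroup X) (hE : IsStronglyPEmbedded p E)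
    (ρ : X →* MulAut V) (hρ : Function.Injective ρ) (T : Sylow p X)
    (W : Subgroup V) (hW : W.index = p)
    (hfix : ∀ t ∈ T, ∀ w ∈ W, ρ t w = w) (hquot : ∀ t ∈ T, ∀ v : V, v⁻¹ * ρ t v ∈ W) :
    Nat.card T = p := by
  have hp : p.Prime := Fact.out
  by_contra hne
  obtain ⟨P₁, hP₁ne, hP₁E, hB, -⟩ := exists_sylow_of_isStronglyPEmbedded hE
  obtain ⟨g, hg⟩ := MulAction.exists_smul_eq X P₁ T
  set M := E.map (MulAut.conj g).toMonoidHom with hM
  have hBM : NormB p M := normB_map_conj hB g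
  have hTM : (T : Subgroup X) ≤ M := by
    rw [← hg, coe_smul_sylow_eq_map]
    exact Subgroup.map_mono hP₁E
  have hMne : M ≠ ⊤ := by
    intro h
    apply hE.2.1
    have h1 := map_conj_inv_map_conj E g
    rw [← hM, h] at h1
    rw [← h1, eq_top_iff]
    intro y _
    rw [mem_map_conj_iff]
    trivial
  have hTne : (T : Subgroup X) ≠ ⊥ := T.ne_bot_of_dvd_card hE.1
  have hpT : p ∣ Nat.card (T : Subgroup X) := dvd_card_of_ne_bot_of_isPGroup T.isPGroup' hTne
  have hcardT : p < Nat.card (T : Subgroup X) := by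
    obtain ⟨k, hk⟩ := IsPGroup.iff_card.mp T.isPGroup'
    have hk0 : k ≠ 0 := by
      rintro rfl
      rw [hk, pow_zero] at hpT
      exact hp.one_lt.ne' (Nat.dvd_one.mp hpT)
    have hk1 : k ≠ 1 := by
      rintro rfl
      rw [pow_one] at hk
      exact hne hk
    rw [hk]
    calc p = p ^ 1 := (pow_one p).symm
      _ < p ^ k := Nat.pow_lt_pow_right hp.one_lt (by omega)
  have hpM : p ∣ Nat.card M := hpT.trans (Subgroup.card_dvd_of_le hTM)
  have hall : ∀ a : X, a ∈ M := by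
    intro a
    by_contra haM
    obtain ⟨t, htT, ht1, ht⟩ := exists_ne_one_comm_mem hcomm ρ (T : Subgroup X) hcardT W hW hfix
      hquot (W.map (ρ a).toMonoidHom) ((Subgroup.index_map_equiv W (ρ a)).trans hW)
    obtain ⟨s, hsT, hs1, hs⟩ := exists_ne_one_comm_mem hcomm ρ (T : Subgroup X) hcardT W hW hfix
      hquot (W.map (ρ a⁻¹).toMonoidHom) ((Subgroup.index_map_equiv W (ρ a⁻¹)).trans hW)
    have ht'v : ∀ v, ρ (a * s * a⁻¹) v = ρ a (ρ s (ρ a⁻¹ v)) := by
      intro v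
      rw [map_mul, map_mul, MulAut.mul_apply, MulAut.mul_apply]
    -- (3) `t'` fixes `aW` pointwise
    have h3 : ∀ w ∈ W, ρ (a * s * a⁻¹) (ρ a w) = ρ a w := by
      intro w hw
      rw [ht'v, rho_inv_apply, hfix s hsT w hw]
    -- (4) `t'` displaces into `W`
    have h4 : ∀ v, v⁻¹ * ρ (a * s * a⁻¹) v ∈ W := by
      intro v
      obtain ⟨w, hw, hw2⟩ := hs (ρ a⁻¹ v)
      have e : v⁻¹ * ρ (a * s * a⁻¹) v = ρ a ((ρ a⁻¹ v)⁻¹ * ρ s (ρ a⁻¹ v)) := by
        rw [map_mul (ρ a), map_inv (ρ a), rho_apply_inv, ht'v]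
      rw [e, ← hw2]
      show ρ a (ρ a⁻¹ w) ∈ W
      rw [rho_apply_inv]
      exact hw
    have hcommute : t * (a * s * a⁻¹) = (a * s * a⁻¹) * t := by
      apply hρ
      ext v
      show ρ (t * (a * s * a⁻¹)) v = ρ ((a * s * a⁻¹) * t) v
      rw [map_mul ρ t, map_mul ρ (a * s * a⁻¹) t, MulAut.mul_apply, MulAut.mul_apply]
      obtain ⟨w, hw, hw2⟩ := ht v
      have hd : ρ t v = v * ρ a w := by
        have : ρ a w = v⁻¹ * ρ t v := hw2
        rw [this]; group
      obtain ⟨d', hd'W, hd'⟩ : ∃ d' ∈ W, ρ (a * s * a⁻¹) v = v * d' :=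
        ⟨v⁻¹ * ρ (a * s * a⁻¹) v, h4 v, by group⟩
      have e1 : ρ t (ρ (a * s * a⁻¹) v) = v * ρ a w * d' := by
        rw [hd', map_mul, hfix t htT _ hd'W, hd]
      have e2 : ρ (a * s * a⁻¹) (ρ t v) = v * d' * ρ a w := by
        rw [hd, map_mul, h3 w hw, hd']
      rw [e1, e2, mul_assoc, mul_assoc, hcomm (ρ a w)]
    have ht'N : a * s * a⁻¹ ∈ Subgroup.normalizer ((Subgroup.zpowers t : Subgroup X) : Set X) := by
      apply Subgroup.centralizer_le_normalizer
      rw [Subgroup.mem_centralizer_iff]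
      intro z hz
      obtain ⟨k, rfl⟩ := Subgroup.mem_zpowers_iff.mp hz
      have hc : Commute t (a * s * a⁻¹) := hcommute
      exact (hc.zpow_left k).eq
    have htM : Subgroup.zpowers t ≤ M := by
      rw [Subgroup.zpowers_le]; exact hTM htT
    have htp : IsPGroup p (Subgroup.zpowers t) :=
      T.isPGroup'.to_le (by rw [Subgroup.zpowers_le]; exact htT)
    have ht'M : a * s * a⁻¹ ∈ M :=
      hBM (Subgroup.zpowers t) htM htp (by rw [Ne, Subgroup.zpowers_eq_bot]; exact ht1) ht'N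
    have h2 : Subgroup.zpowers (a * s * a⁻¹) ≤ M ⊓ M.map (MulAut.conj a).toMonoidHom := by
      rw [Subgroup.zpowers_le]
      exact ⟨ht'M, conj_mem_map_conj (hTM hsT)⟩
    have hsp : IsPGroup p (Subgroup.zpowers (a * s * a⁻¹)) := by
      have h7 : Subgroup.zpowers (a * s * a⁻¹) =
          (Subgroup.zpowers s).map (MulAut.conj a).toMonoidHom := by
        rw [MonoidHom.map_zpowers]; rfl
      rw [h7]
      exact (T.isPGroup'.to_le (by rw [Subgroup.zpowers_le]; exact hsT)).map _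
    have hne' : Subgroup.zpowers (a * s * a⁻¹) ≠ ⊥ := by
      rw [Ne, Subgroup.zpowers_eq_bot]
      intro h
      apply hs1
      have : s = a⁻¹ * (a * s * a⁻¹) * a := by group
      rw [this, h]; group
    have hdvd : p ∣ Nat.card ↥(M ⊓ M.map (MulAut.conj a).toMonoidHom) :=
      (dvd_card_of_ne_bot_of_isPGroup hsp hne').trans (Subgroup.card_dvd_of_le h2)
    exact (normB_iff_conj_inf hpM).mp hBM a haM hdvd
  exact hMne (eq_top_iff.mpr fun a _ => hall a)

end Cfsg.Agent.Lib.Helper03.StrEmbAct
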