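import Mathlib
import Cfsg.Prelude.Def_FusionSystem
import Cfsg.Agent.Lib.Helper03.FusEss
import Cfsg.Agent.Lib.Helper03.StrEmbAct
import Cfsg.Agent.Lib.Helper87.FusionSaturated

set_option autoImplicit false

/-!
Essential subgroups, continued: two-step chains, the conjugation homomorphism `N_S(P) → Aut_F(P)`,
and the index `|N_S(P) : P| = p` for an abelian essential subgroup with a suitable hyperplane.
-/

namespace Cfsg.Agent.Lib.Helper03.FusEss

open Cfsg Cfsg.FusionSystem Cfsg.Agent.Lib.Helper89 Cfsg.Agent.Lib.Helper90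
  Cfsg.Agent.Lib.Helper53 Cfsg.Agent.Lib.Helper03.StrEmbAct

section chain
variable {P : Type*} [Group P]

/-- The chain `⊥ ≤ K ≤ ⊤ ≤ ⊤ ≤ …`. -/
def twoChain (K : Subgroup P) : ℕ → Subgroup P
  | 0 => ⊥
  | 1 => K
  | _ + 2 => ⊤

theorem twoChain_mono (K : Subgroup P) : Monotone (twoChain K) := by
  apply monotone_nat_of_le_succ
  intro n
  match n with
  | 0 => exact bot_le
  | 1 => exact le_top
  | _ + 2 => exact le_rfl

end chain

variable {Ω : Type*} [Group Ω] {S : Subgroup Ω}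

/-- Lemma R for a two-step chain `1 ≤ K ≤ P`. -/
theorem mem_of_stab_two [Finite S] {p : ℕ} [Fact p.Prime] (hS : IsPGroup p S) (F : FusionSystem S)
    {P : Subgroup Ω} (hP : F.IsEssential p P) (K : Subgroup Ω)
    (hinv : ∀ α ∈ F.autGroup P, ∀ y : P, (y : Ω) ∈ K → ((α y : P) : Ω) ∈ K)
    {g : Ω} (hgS : g ∈ S) (hgN : g ∈ Subgroup.normalizer (P : Set Ω))
    (hgK : ∀ y ∈ K, y ∈ P → g * y * g⁻¹ = y)
    (hgPK : ∀ u ∈ P, u⁻¹ * (g * u * g⁻¹) ∈ K) : g ∈ P := by
  refine mem_of_stabChain hS F hP (twoChain (K.subgroupOf P)) (twoChain_mono _) rfl 2 rfl ?_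
    hgS hgN ?_
  · intro α hα i x hx
    match i with
    | 0 =>
      have : x ∈ (⊥ : Subgroup P) := hx
      rw [Subgroup.mem_bot] at this
      rw [this, map_one]; exact Subgroup.one_mem _
    | 1 =>
      have hx' : x ∈ K.subgroupOf P := hx
      show α x ∈ K.subgroupOf P
      rw [Subgroup.mem_subgroupOf] at hx' ⊢
      exact hinv α hα x hx'
    | _ + 2 => exact Subgroup.mem_top _
  · rw [mem_stabChain]
    intro i x hx
    have hginv : g⁻¹ ∈ Subgroup.normalizer (P : Set Ω) := Subgroup.inv_mem _ hgN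
    have hcoe2 : (((conjAut P g hgN)⁻¹ x : P) : Ω) = g⁻¹ * x * g := rfl
    match i with
    | 0 =>
      have hx' : x ∈ K.subgroupOf P := hx
      rw [Subgroup.mem_subgroupOf] at hx'
      have h1 := hgK x hx' x.2
      constructor
      · show x⁻¹ * conjAut P g hgN x ∈ (⊥ : Subgroup P)
        rw [Subgroup.mem_bot]
        apply Subtype.ext
        rw [Subgroup.coe_mul, Subgroup.coe_inv, conjAut_apply, h1]
        simp
      · show x⁻¹ * (conjAut P g hgN)⁻¹ x ∈ (⊥ : Subgroup P)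
        rw [Subgroup.mem_bot]
        apply Subtype.ext
        rw [Subgroup.coe_mul, Subgroup.coe_inv, hcoe2]
        have h2 : g⁻¹ * (x : Ω) * g = g⁻¹ * (g * x * g⁻¹) * g := by rw [h1]
        rw [h2]
        simp [mul_assoc]
    | 1 =>
      constructor
      · show x⁻¹ * conjAut P g hgN x ∈ K.subgroupOf P
        rw [Subgroup.mem_subgroupOf, Subgroup.coe_mul, Subgroup.coe_inv, conjAut_apply]
        exact hgPK x x.2
      · show x⁻¹ * (conjAut P g hgN)⁻¹ x ∈ K.subgroupOf P
        rw [Subgroup.mem_subgroupOf, Subgroup.coe_mul, Subgroup.coe_inv, hcoe2]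
        have hw : g⁻¹ * (x : Ω) * g ∈ P := by
          have := (Subgroup.mem_normalizer_iff.mp hginv x).mp x.2
          simpa using this
        have h3 := hgPK _ hw
        have h4 : (g⁻¹ * (x : Ω) * g)⁻¹ * (g * (g⁻¹ * (x : Ω) * g) * g⁻¹) =
            ((x : Ω)⁻¹ * (g⁻¹ * x * g))⁻¹ := by group
        rw [h4] at h3
        exact (Subgroup.inv_mem_iff K).mp h3
    | _ + 2 => exact ⟨Subgroup.mem_top _, Subgroup.mem_top _⟩

/-- The conjugation homomorphism `N_S(P) → Aut_F(P)`. -/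
def normHom (F : FusionSystem S) {P : Subgroup Ω} (hPS : P ≤ S) :
    ↥(normalizerIn S P) →* ↥(F.autGroup P) where
  toFun g := ⟨conjAut P g (Subgroup.mem_inf.mp g.2).2,
    Helper89.autInducedBy_le_autGroup F hPS
      (conjAut_mem_autInducedBy (Subgroup.mem_inf.mp g.2).1 _)⟩
  map_one' := by
    apply Subtype.ext
    ext x
    simp [conjAut_apply]
  map_mul' g h := by
    apply Subtype.ext
    ext x
    simp [conjAut_apply, mul_assoc]

theorem normHom_apply (F : FusionSystem S) {P : Subgroup Ω} (hPS : P ≤ S)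
    (g : ↥(normalizerIn S P)) (x : P) :
    ((((normHom F hPS g : ↥(F.autGroup P)) : MulAut P) x : P) : Ω) = g * x * (g : Ω)⁻¹ := rfl

theorem normHom_range (F : FusionSystem S) {P : Subgroup Ω} (hPS : P ≤ S) :
    (normHom F hPS).range = (autInducedBy S P).subgroupOf (F.autGroup P) := by
  ext γ
  rw [Subgroup.mem_subgroupOf, Helper89.mem_autInducedBy_iff]
  constructor
  · rintro ⟨g, rfl⟩
    exact ⟨g, (Subgroup.mem_inf.mp g.2).1, fun x => rfl⟩
  · rintro ⟨g, hgS, hg⟩
    have hgN := mem_normalizer_of_conj_eq (γ : MulAut P) hg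
    refine ⟨⟨g, Subgroup.mem_inf.mpr ⟨hgS, hgN⟩⟩, ?_⟩
    apply Subtype.ext
    ext x
    rw [hg x]
    rfl

theorem normHom_eq_one_iff (F : FusionSystem S) {P : Subgroup Ω} (hPS : P ≤ S)
    (g : ↥(normalizerIn S P)) : normHom F hPS g = 1 ↔ (g : Ω) ∈ centralizerIn S P := by
  rw [Helper87.mem_centralizerIn]
  constructor
  · intro h
    refine ⟨(Subgroup.mem_inf.mp g.2).1, fun x hx => ?_⟩
    have h1 := normHom_apply F hPS g ⟨x, hx⟩
    rw [h] at h1
    have h2 : x = (g : Ω) * x * (g : Ω)⁻¹ := h1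
    calc x * (g : Ω) = ((g : Ω) * x * (g : Ω)⁻¹) * g := by rw [← h2]
      _ = g * x := by group
  · rintro ⟨-, h⟩
    apply Subtype.ext
    ext x
    rw [normHom_apply]
    show (g : Ω) * x * (g : Ω)⁻¹ = x
    rw [← h x x.2]; group

/-- Abelian essential subgroups with an `N_S(P)`-stable hyperplane have index `p` in `N_S(P)`. -/
theorem relIndex_normalizerIn_eq_prime_of_comm [Finite S] {p : ℕ} [Fact p.Prime]
    (hS : IsPGroup p S) (F : FusionSystem S) (hF : F.IsSaturated p) {P : Subgroup Ω}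
    (hP : F.IsEssential p P) (hcomm : ∀ u ∈ P, ∀ v ∈ P, u * v = v * u)
    (W : Subgroup Ω) (hW : W.relIndex P = p)
    (hfix : ∀ g ∈ normalizerIn S P, ∀ w ∈ W, w ∈ P → g * w * g⁻¹ = w)
    (hquot : ∀ g ∈ normalizerIn S P, ∀ u ∈ P, u⁻¹ * (g * u * g⁻¹) ∈ W) :
    P.relIndex (normalizerIn S P) = p := by
  have hPS : P ≤ S := hP.1.1
  have : Finite P := Helper87.finite_of_le hPS
  obtain ⟨hcen, hfn, hnorm, E, hE⟩ := hP
  set Γ := F.autGroup P with hΓ
  set N := (Inn P).subgroupOf Γ with hNdef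
  have hN : ∀ n ∈ N, (n : MulAut P) = 1 := by
    intro n hn
    rw [hNdef, Subgroup.mem_subgroupOf] at hn
    obtain ⟨u, hu⟩ := hn
    rw [← hu]
    ext v
    rw [MulAut.conj_apply, MulAut.one_apply, Subgroup.coe_mul, Subgroup.coe_mul,
      hcomm u u.2 v v.2]
    simp
  let ρ : Γ ⧸ N →* MulAut P := QuotientGroup.lift N Γ.subtype (fun n hn => hN n hn)
  have hρmk : ∀ γ : Γ, ρ (QuotientGroup.mk γ) = (γ : MulAut P) := fun γ => rfl
  have hρ : Function.Injective ρ := by
    rw [injective_iff_map_eq_one]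
    intro q hq
    obtain ⟨γ, rfl⟩ := QuotientGroup.mk_surjective q
    rw [hρmk] at hq
    have : γ = 1 := Subtype.ext hq
    rw [this]; rfl
  obtain ⟨-, -, R, hR⟩ := Helper87.fullyNormalized_props p hS F hF P hfn
  let T : Sylow p (Γ ⧸ N) := R.mapSurjective (QuotientGroup.mk'_surjective N)
  have hTcoe : (T : Subgroup (Γ ⧸ N)) = (R : Subgroup Γ).map (QuotientGroup.mk' N) := rfl
  have hT : ∀ t ∈ T, ∃ g : ↥(normalizerIn S P), ρ t = ((normHom F hPS g : Γ) : MulAut P) := by
    intro t ht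
    have ht' : t ∈ (T : Subgroup (Γ ⧸ N)) := ht
    rw [hTcoe, hR, ← normHom_range F hPS] at ht'
    obtain ⟨γ, ⟨g, rfl⟩, rfl⟩ := ht'
    exact ⟨g, rfl⟩
  have hcardT : Nat.card T = p := by
    refine card_sylow_eq_prime (V := P) (fun a b => Subtype.ext (hcomm a a.2 b b.2)) E hE ρ hρ T
      (W.subgroupOf P) hW ?_ ?_
    · intro t ht w hw
      obtain ⟨g, hg⟩ := hT t ht
      rw [hg]
      apply Subtype.ext
      rw [normHom_apply]
      exact hfix g g.2 w (Subgroup.mem_subgroupOf.mp hw) w.2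
    · intro t ht v
      obtain ⟨g, hg⟩ := hT t ht
      rw [hg, Subgroup.mem_subgroupOf, Subgroup.coe_mul, Subgroup.coe_inv, normHom_apply]
      exact hquot g g.2 v v.2
  let φ : ↥(normalizerIn S P) →* Γ ⧸ N := (QuotientGroup.mk' N).comp (normHom F hPS)
  have hrange : φ.range = (T : Subgroup (Γ ⧸ N)) := by
    rw [hTcoe, hR, ← normHom_range F hPS]
    exact MonoidHom.range_comp _ _
  have hker : φ.ker = P.subgroupOf (normalizerIn S P) := by
    ext g
    rw [MonoidHom.mem_ker, Subgroup.mem_subgroupOf]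
    show (QuotientGroup.mk' N) (normHom F hPS g) = 1 ↔ _
    rw [QuotientGroup.mk'_apply, QuotientGroup.eq_one_iff]
    constructor
    · intro h
      have h1 : normHom F hPS g = 1 := Subtype.ext (hN _ h)
      rw [normHom_eq_one_iff] at h1
      exact hcen.2 P (Helper87.isConj_refl F hPS) h1
    · intro h
      have h1 : normHom F hPS g = 1 := by
        rw [normHom_eq_one_iff, Helper87.mem_centralizerIn]
        exact ⟨hPS h, fun x hx => hcomm x hx _ h⟩
      rw [h1]; exact Subgroup.one_mem _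
  calc P.relIndex (normalizerIn S P) = (P.subgroupOf (normalizerIn S P)).index := rfl
    _ = φ.ker.index := by rw [hker]
    _ = Nat.card φ.range := Subgroup.index_ker φ
    _ = Nat.card (T : Subgroup (Γ ⧸ N)) := by rw [hrange]
    _ = p := hcardT

end Cfsg.Agent.Lib.Helper03.FusEss
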