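import Cfsg.Agent.Lib.Helper37.G2InvDefs

/-!
# K-G2I pack (S2177), leaf B2a: involutions `x₇(t) x₈(t₈) z`, `t ≠ 0`, of `U ≤ G₂(q)`, `q` even

A small simp-based collector for words in the root elements (characteristic 2) and the leaf `good_78z`.
-/

set_option autoImplicit false
set_option linter.unusedSectionVars false
set_option linter.unusedVariables false
set_option linter.unusedSimpArgs false

namespace Cfsg.Agent.Lib.Helper03.G2Inv

open Cfsg.Agent.Lib.Helper37.G2Inv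

variable {F : Type*} [Field F] [CharP F 2] {G : Type*} [Group G] (D : UData F G)

/-! ### merging -/

theorem b2a_add (r : ℕ) (t u : F) (w : G) : D.x r t * (D.x r u * w) = D.x r (t + u) * w := by
  rw [← mul_assoc, D.add]

/-! ### sorting: commuting pairs -/

theorem b2a_s68 (t u : F) : D.x 8 u * D.x 6 t = D.x 6 t * D.x 8 u := (D.c68 t u).symm
theorem b2a_s68' (t u : F) (w : G) : D.x 8 u * (D.x 6 t * w) = D.x 6 t * (D.x 8 u * w) := by
  rw [← mul_assoc, b2a_s68, mul_assoc]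
theorem b2a_s69 (t u : F) : D.x 9 u * D.x 6 t = D.x 6 t * D.x 9 u := (D.c69 t u).symm
theorem b2a_s69' (t u : F) (w : G) : D.x 9 u * (D.x 6 t * w) = D.x 6 t * (D.x 9 u * w) := by
  rw [← mul_assoc, b2a_s69, mul_assoc]
theorem b2a_s611 (t u : F) : D.x 11 u * D.x 6 t = D.x 6 t * D.x 11 u := (D.c611 t u).symm
theorem b2a_s611' (t u : F) (w : G) : D.x 11 u * (D.x 6 t * w) = D.x 6 t * (D.x 11 u * w) := by
  rw [← mul_assoc, b2a_s611, mul_assoc]
theorem b2a_s710 (t u : F) : D.x 10 u * D.x 7 t = D.x 7 t * D.x 10 u := (D.c710 t u).symm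
theorem b2a_s710' (t u : F) (w : G) : D.x 10 u * (D.x 7 t * w) = D.x 7 t * (D.x 10 u * w) := by
  rw [← mul_assoc, b2a_s710, mul_assoc]
theorem b2a_s711 (t u : F) : D.x 11 u * D.x 7 t = D.x 7 t * D.x 11 u := (D.c711 t u).symm
theorem b2a_s711' (t u : F) (w : G) : D.x 11 u * (D.x 7 t * w) = D.x 7 t * (D.x 11 u * w) := by
  rw [← mul_assoc, b2a_s711, mul_assoc]
theorem b2a_s810 (t u : F) : D.x 10 u * D.x 8 t = D.x 8 t * D.x 10 u := (D.c810 t u).symm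
theorem b2a_s810' (t u : F) (w : G) : D.x 10 u * (D.x 8 t * w) = D.x 8 t * (D.x 10 u * w) := by
  rw [← mul_assoc, b2a_s810, mul_assoc]
theorem b2a_s811 (t u : F) : D.x 11 u * D.x 8 t = D.x 8 t * D.x 11 u := (D.c811 t u).symm
theorem b2a_s811' (t u : F) (w : G) : D.x 11 u * (D.x 8 t * w) = D.x 8 t * (D.x 11 u * w) := by
  rw [← mul_assoc, b2a_s811, mul_assoc]
theorem b2a_s910 (t u : F) : D.x 10 u * D.x 9 t = D.x 9 t * D.x 10 u := (D.c910 t u).symm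
theorem b2a_s910' (t u : F) (w : G) : D.x 10 u * (D.x 9 t * w) = D.x 9 t * (D.x 10 u * w) := by
  rw [← mul_assoc, b2a_s910, mul_assoc]
theorem b2a_s911 (t u : F) : D.x 11 u * D.x 9 t = D.x 9 t * D.x 11 u := (D.c911 t u).symm
theorem b2a_s911' (t u : F) (w : G) : D.x 11 u * (D.x 9 t * w) = D.x 9 t * (D.x 11 u * w) := by
  rw [← mul_assoc, b2a_s911, mul_assoc]
theorem b2a_s1011 (t u : F) : D.x 11 u * D.x 10 t = D.x 10 t * D.x 11 u := (D.c1011 t u).symm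
theorem b2a_s1011' (t u : F) (w : G) : D.x 11 u * (D.x 10 t * w) = D.x 10 t * (D.x 11 u * w) := by
  rw [← mul_assoc, b2a_s1011, mul_assoc]

/-! ### sorting: the five commutator relations -/

theorem b2a_s67 (t u : F) : D.x 7 u * D.x 6 t =
    D.x 6 t * (D.x 7 u * (D.x 8 (t * u) * (D.x 9 (t * u ^ 2) * D.x 10 (t * u ^ 3)))) := by
  rw [D.r67, mul_assoc]
theorem b2a_s67' (t u : F) (w : G) : D.x 7 u * (D.x 6 t * w) =
    D.x 6 t * (D.x 7 u * (D.x 8 (t * u) * (D.x 9 (t * u ^ 2) * (D.x 10 (t * u ^ 3) * w)))) := by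
  rw [← mul_assoc, b2a_s67]; simp only [mul_assoc]
theorem b2a_s78 (t u : F) : D.x 8 u * D.x 7 t =
    D.x 7 t * (D.x 8 u * (D.x 10 (t ^ 2 * u) * D.x 11 (t * u ^ 2))) := by
  rw [D.r78, mul_assoc]
theorem b2a_s78' (t u : F) (w : G) : D.x 8 u * (D.x 7 t * w) =
    D.x 7 t * (D.x 8 u * (D.x 10 (t ^ 2 * u) * (D.x 11 (t * u ^ 2) * w))) := by
  rw [← mul_assoc, b2a_s78]; simp only [mul_assoc]
theorem b2a_s79 (t u : F) : D.x 9 u * D.x 7 t = D.x 7 t * (D.x 9 u * D.x 10 (t * u)) := by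
  rw [D.r79, mul_assoc]
theorem b2a_s79' (t u : F) (w : G) : D.x 9 u * (D.x 7 t * w) =
    D.x 7 t * (D.x 9 u * (D.x 10 (t * u) * w)) := by
  rw [← mul_assoc, b2a_s79]; simp only [mul_assoc]
theorem b2a_s610 (t u : F) : D.x 10 u * D.x 6 t = D.x 6 t * (D.x 10 u * D.x 11 (t * u)) := by
  rw [D.r610, mul_assoc]
theorem b2a_s610' (t u : F) (w : G) : D.x 10 u * (D.x 6 t * w) =
    D.x 6 t * (D.x 10 u * (D.x 11 (t * u) * w)) := by
  rw [← mul_assoc, b2a_s610]; simp only [mul_assoc]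
theorem b2a_s89 (t u : F) : D.x 9 u * D.x 8 t = D.x 8 t * (D.x 9 u * D.x 11 (t * u)) := by
  rw [D.r89, mul_assoc]
theorem b2a_s89' (t u : F) (w : G) : D.x 9 u * (D.x 8 t * w) =
    D.x 8 t * (D.x 9 u * (D.x 11 (t * u) * w)) := by
  rw [← mul_assoc, b2a_s89]; simp only [mul_assoc]

/-! ### characteristic two cancellations -/

theorem b2a_ch1 (a b : F) : a + b + b = a := by
  rw [add_assoc, CharTwo.add_self_eq_zero, add_zero]
theorem b2a_ch2 (a b : F) : a + (a + b) = b := by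
  rw [← add_assoc, CharTwo.add_self_eq_zero, zero_add]
theorem b2a_ch3 (a b : F) : a + (b + a) = b := by
  rw [add_comm b a, b2a_ch2]
theorem b2a_ch4 (a b : F) : a + b + a = b := by
  rw [add_comm a b, b2a_ch1]


/-! ### the conjugations used in leaf B2a -/

theorem b2a_conj6 (c t α β γ : F) :
    D.x 6 c * (D.x 7 t * (D.x 8 (c * t) * D.z α β γ)) * (D.x 6 c)⁻¹ =
      D.x 7 t * D.z (c * t ^ 2 + α) (c * t ^ 3 + β) (c * (t * (c * t ^ 2)) + (c * β + γ)) := by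
  simp only [UData.z, UData.x_inv, mul_assoc, b2a_add, D.add,
    b2a_s68, b2a_s68', b2a_s69, b2a_s69', b2a_s611, b2a_s611', b2a_s710, b2a_s710', b2a_s711, b2a_s711',
    b2a_s810, b2a_s810', b2a_s811, b2a_s811', b2a_s910, b2a_s910', b2a_s911, b2a_s911', b2a_s1011, b2a_s1011',
    b2a_s67, b2a_s67', b2a_s78, b2a_s78', b2a_s79, b2a_s79', b2a_s610, b2a_s610', b2a_s89, b2a_s89',
    b2a_ch1, b2a_ch2, b2a_ch3, b2a_ch4, CharTwo.add_self_eq_zero, UData.x_zero, one_mul, mul_one,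
    add_zero, zero_add, mul_zero, zero_mul]

theorem b2a_sq7z (t α β γ : F) :
    D.x 7 t * D.z α β γ * (D.x 7 t * D.z α β γ) = D.x 10 (t * α) := by
  simp only [UData.z, UData.x_inv, mul_assoc, b2a_add, D.add,
    b2a_s68, b2a_s68', b2a_s69, b2a_s69', b2a_s611, b2a_s611', b2a_s710, b2a_s710', b2a_s711, b2a_s711',
    b2a_s810, b2a_s810', b2a_s811, b2a_s811', b2a_s910, b2a_s910', b2a_s911, b2a_s911', b2a_s1011, b2a_s1011',
    b2a_s67, b2a_s67', b2a_s78, b2a_s78', b2a_s79, b2a_s79', b2a_s610, b2a_s610', b2a_s89, b2a_s89',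
    b2a_ch1, b2a_ch2, b2a_ch3, b2a_ch4, CharTwo.add_self_eq_zero, UData.x_zero, one_mul, mul_one,
    add_zero, zero_add, mul_zero, zero_mul]

theorem b2a_conj9a (e t : F) : D.x 9 e * (D.x 7 t * D.x 10 (t * e)) * (D.x 9 e)⁻¹ = D.x 7 t := by
  simp only [UData.z, UData.x_inv, mul_assoc, b2a_add, D.add,
    b2a_s68, b2a_s68', b2a_s69, b2a_s69', b2a_s611, b2a_s611', b2a_s710, b2a_s710', b2a_s711, b2a_s711',
    b2a_s810, b2a_s810', b2a_s811, b2a_s811', b2a_s910, b2a_s910', b2a_s911, b2a_s911', b2a_s1011, b2a_s1011',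
    b2a_s67, b2a_s67', b2a_s78, b2a_s78', b2a_s79, b2a_s79', b2a_s610, b2a_s610', b2a_s89, b2a_s89',
    b2a_ch1, b2a_ch2, b2a_ch3, b2a_ch4, CharTwo.add_self_eq_zero, UData.x_zero, one_mul, mul_one,
    add_zero, zero_add, mul_zero, zero_mul]

theorem b2a_conj8 (c t : F) :
    D.x 8 c * (D.x 7 t * D.x 11 (t * c ^ 2)) * (D.x 8 c)⁻¹ = D.x 7 t * D.x 10 (t ^ 2 * c) := by
  simp only [UData.z, UData.x_inv, mul_assoc, b2a_add, D.add,
    b2a_s68, b2a_s68', b2a_s69, b2a_s69', b2a_s611, b2a_s611', b2a_s710, b2a_s710', b2a_s711, b2a_s711',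
    b2a_s810, b2a_s810', b2a_s811, b2a_s811', b2a_s910, b2a_s910', b2a_s911, b2a_s911', b2a_s1011, b2a_s1011',
    b2a_s67, b2a_s67', b2a_s78, b2a_s78', b2a_s79, b2a_s79', b2a_s610, b2a_s610', b2a_s89, b2a_s89',
    b2a_ch1, b2a_ch2, b2a_ch3, b2a_ch4, CharTwo.add_self_eq_zero, UData.x_zero, one_mul, mul_one,
    add_zero, zero_add, mul_zero, zero_mul]

theorem b2a_conj9b (e t g : F) :
    D.x 9 e * (D.x 7 t * (D.x 10 (t * e) * D.x 11 g)) * (D.x 9 e)⁻¹ = D.x 7 t * D.x 11 g := by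
  simp only [UData.z, UData.x_inv, mul_assoc, b2a_add, D.add,
    b2a_s68, b2a_s68', b2a_s69, b2a_s69', b2a_s611, b2a_s611', b2a_s710, b2a_s710', b2a_s711, b2a_s711',
    b2a_s810, b2a_s810', b2a_s811, b2a_s811', b2a_s910, b2a_s910', b2a_s911, b2a_s911', b2a_s1011, b2a_s1011',
    b2a_s67, b2a_s67', b2a_s78, b2a_s78', b2a_s79, b2a_s79', b2a_s610, b2a_s610', b2a_s89, b2a_s89',
    b2a_ch1, b2a_ch2, b2a_ch3, b2a_ch4, CharTwo.add_self_eq_zero, UData.x_zero, one_mul, mul_one,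
    add_zero, zero_add, mul_zero, zero_mul]


theorem b2a_x10_eq_one {v : F} (h : D.x 10 v = 1) : v = 0 := by
  have h2 := D.inj 0 0 0 0 v 0 0 0 0 0 0 0 (by simp only [UData.x_zero, one_mul, mul_one, h])
  exact h2.2.2.2.2.1

/-! ### the chain of conjugations -/

theorem b2a_good7 (t : F) (ht : t ≠ 0) : D.Good (D.x 7 t) := by
  obtain ⟨g, hg⟩ := D.w7_9 t
  obtain ⟨g', hg'⟩ := D.torus9 t ht
  refine ⟨g' * g, Or.inr ?_⟩
  have e : g' * g * D.x 7 t * (g' * g)⁻¹ = g' * (g * D.x 7 t * g⁻¹) * g'⁻¹ := by group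
  rw [e, hg, hg']

theorem b2a_good7_10 (t b : F) (ht : t ≠ 0) : D.Good (D.x 7 t * D.x 10 b) := by
  obtain ⟨e, rfl⟩ : ∃ e, b = t * e := ⟨b / t, by field_simp⟩
  apply D.good_of_conj (D.x 9 e)
  rw [b2a_conj9a]
  exact b2a_good7 D t ht

theorem b2a_good7_11 (t g : F) (ht : t ≠ 0) : D.Good (D.x 7 t * D.x 11 g) := by
  obtain ⟨c, hc⟩ := D.sqrt (g / t)
  obtain rfl : g = t * c ^ 2 := by
    rw [pow_two, hc]; field_simp
  apply D.good_of_conj (D.x 8 c)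
  rw [b2a_conj8]
  exact b2a_good7_10 D t _ ht

theorem b2a_good7_10_11 (t b g : F) (ht : t ≠ 0) : D.Good (D.x 7 t * (D.x 10 b * D.x 11 g)) := by
  obtain ⟨e, rfl⟩ : ∃ e, b = t * e := ⟨b / t, by field_simp⟩
  apply D.good_of_conj (D.x 9 e)
  rw [b2a_conj9b]
  exact b2a_good7_11 D t g ht

/-- **LEAF B2a** (keystone 217709): an involution `x₇(t) x₈(t₈) z` with `t ≠ 0` is conjugate to `x₉(1)`. -/
theorem good_78z (t t8 α β γ : F) (ht : t ≠ 0)
    (h : D.x 7 t * (D.x 8 t8 * D.z α β γ) * (D.x 7 t * (D.x 8 t8 * D.z α β γ)) = 1) :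
    D.Good (D.x 7 t * (D.x 8 t8 * D.z α β γ)) := by
  obtain ⟨c, rfl⟩ : ∃ c, t8 = c * t := ⟨t8 / t, by field_simp⟩
  apply D.good_of_conj (D.x 6 c)
  -- the conjugate is again an involution
  have hinv : D.x 6 c * (D.x 7 t * (D.x 8 (c * t) * D.z α β γ)) * (D.x 6 c)⁻¹ *
      (D.x 6 c * (D.x 7 t * (D.x 8 (c * t) * D.z α β γ)) * (D.x 6 c)⁻¹) = 1 := by
    have e : ∀ a u : G, a * u * a⁻¹ * (a * u * a⁻¹) = a * (u * u) * a⁻¹ := by
      intro a u; group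
    rw [e, h, mul_one, mul_inv_cancel]
  rw [b2a_conj6] at hinv ⊢
  rw [b2a_sq7z] at hinv
  have h0 := b2a_x10_eq_one D hinv
  have hα : c * t ^ 2 + α = 0 := by
    rcases mul_eq_zero.mp h0 with h1 | h1
    · exact absurd h1 ht
    · exact h1
  rw [hα]
  have hz : ∀ b g : F, D.z 0 b g = D.x 10 b * D.x 11 g := by
    intro b g
    simp only [UData.z, UData.x_zero, one_mul]
  rw [hz]
  exact b2a_good7_10_11 D t _ _ ht

end Cfsg.Agent.Lib.Helper03.G2Inv
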