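import Mathlib
import Cfsg.Prelude.Def_Solvable
import Cfsg.Agent.Lib.Helper72.G42Defs
import Cfsg.Agent.S0144

/-!
# K-G42 pack (S2553), leaf 255312 L8 `case8` (glue over L8a, L8b, L8c and Burnside `p^a q^b`)

`case8_of` takes the three leaves L8a `prim8`, L8b `jordan5`, L8c `order8` as hypotheses.
-/

set_option autoImplicit false

namespace Cfsg.Agent.Lib.Helper03.G42

open Cfsg.Agent.Lib.Helper72.G42

/-- Primitivity passes to an overgroup. -/
theorem prim_of_le {N K : Subgroup (Equiv.Perm (Fin 8))} (hNK : N ≤ K)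
    (hN : MulAction.IsPreprimitive ↥N (Fin 8)) : MulAction.IsPreprimitive ↥K (Fin 8) := by
  haveI : MulAction.IsPretransitive ↥K (Fin 8) := by
    constructor
    intro x y
    obtain ⟨n, hn⟩ := hN.toIsPretransitive.exists_smul_eq x y
    exact ⟨⟨n.1, hNK n.2⟩, hn⟩
  constructor
  intro B hB
  apply hN.isTrivialBlock_of_isBlock
  intro n₁ n₂ hne
  exact @hB ⟨n₁.1, hNK n₁.2⟩ ⟨n₂.1, hNK n₂.2⟩ hne

theorem card_dvd_fact8 (G : Subgroup (Equiv.Perm (Fin 8))) : Nat.card ↥G ∣ 40320 := by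
  have h := Subgroup.card_subgroup_dvd_card G
  rw [Nat.card_eq_fintype_card (α := Equiv.Perm (Fin 8)), Fintype.card_perm, Fintype.card_fin] at h
  have e : Nat.factorial 8 = 40320 := by decide
  rwa [e] at h

/-- A subgroup of `S_8` of order prime to 5 and 7 is solvable (Burnside). -/
theorem solvable_of_not_5_7 (G : Subgroup (Equiv.Perm (Fin 8))) (h5 : ¬ 5 ∣ Nat.card ↥G)
    (h7 : ¬ 7 ∣ Nat.card ↥G) : Group.IsSolvable ↥G := by
  have hd := card_dvd_fact8 G
  have hc5 : Nat.Coprime (Nat.card ↥G) 5 :=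
    ((Nat.Prime.coprime_iff_not_dvd (by norm_num)).2 h5).symm
  have hc7 : Nat.Coprime (Nat.card ↥G) 7 :=
    ((Nat.Prime.coprime_iff_not_dvd (by norm_num)).2 h7).symm
  have hc35 : Nat.Coprime (Nat.card ↥G) 35 := by
    have := Nat.Coprime.mul_right hc5 hc7
    simpa using this
  have hd' : Nat.card ↥G ∣ 2 ^ 7 * 3 ^ 2 := by
    apply Nat.Coprime.dvd_of_dvd_mul_right hc35
    norm_num
    exact hd
  obtain ⟨k₁, k₂, hk₁, hk₂, hk⟩ := (Nat.dvd_mul).1 hd'
  obtain ⟨a, -, rfl⟩ := (Nat.dvd_prime_pow Nat.prime_two).1 hk₁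
  obtain ⟨b, -, rfl⟩ := (Nat.dvd_prime_pow Nat.prime_three).1 hk₂
  exact Cfsg.Agent.S0144.result 2 3 a b Nat.prime_two Nat.prime_three hk.symm

theorem solvable_of_card_56 (G : Subgroup (Equiv.Perm (Fin 8))) (h : Nat.card ↥G = 56) :
    Group.IsSolvable ↥G :=
  Cfsg.Agent.S0144.result 2 7 3 1 Nat.prime_two (by norm_num) (by rw [h]; norm_num)

theorem card_stab_mul_eight (G : Subgroup (Equiv.Perm (Fin 8)))
    [MulAction.IsPretransitive ↥G (Fin 8)] :
    Nat.card ↥(MulAction.stabilizer ↥G (0 : Fin 8)) * 8 = Nat.card ↥G := by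
  have h1 := Subgroup.card_mul_index (MulAction.stabilizer ↥G (0 : Fin 8))
  rw [MulAction.index_stabilizer_of_transitive] at h1
  simpa using h1

/-- `|N| = 168`, `|K| = 1344` with simple point stabilizer in `K` is impossible. -/
theorem no_168_1344 {K N : Subgroup (Equiv.Perm (Fin 8))} (hNK : N ≤ K) (hnorm : NormalizedBy K N)
    (hNtr : MulAction.IsPretransitive ↥N (Fin 8)) (hKtr : MulAction.IsPretransitive ↥K (Fin 8))
    (hN : Nat.card ↥N = 168) (hK : Nat.card ↥K = 1344)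
    (hS : IsSimpleGroup ↥(MulAction.stabilizer ↥K (0 : Fin 8))) : False := by
  have hScard : Nat.card ↥(MulAction.stabilizer ↥K (0 : Fin 8)) = 168 := by
    have := card_stab_mul_eight K
    omega
  haveI hN'n : (N.subgroupOf K).Normal := by
    constructor
    intro n hn k
    rw [Subgroup.mem_subgroupOf] at hn ⊢
    exact hnorm k.1 k.2 n.1 hn
  have hN'card : Nat.card ↥(N.subgroupOf K) = 168 := by
    rw [← hN]; exact Nat.card_congr (Subgroup.subgroupOfEquivOfLe hNK).toEquiv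
  have hM : ((N.subgroupOf K).subgroupOf (MulAction.stabilizer ↥K (0 : Fin 8))).Normal :=
    inferInstance
  rcases hS.eq_bot_or_eq_top_of_normal _ hM with hbot | htop
  · rw [Subgroup.subgroupOf_eq_bot] at hbot
    have hinj := Subgroup.mul_injective_of_disjoint hbot
    have := Nat.card_le_card_of_injective _ hinj
    rw [Nat.card_prod, hN'card, hScard] at this
    omega
  · rw [Subgroup.subgroupOf_eq_top] at htop
    have heq : MulAction.stabilizer ↥K (0 : Fin 8) = N.subgroupOf K :=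
      Subgroup.eq_of_le_of_card_ge htop (by rw [hN'card, hScard])
    obtain ⟨n, hn⟩ := hNtr.exists_smul_eq (0 : Fin 8) 1
    have hmem : (⟨n.1, hNK n.2⟩ : ↥K) ∈ N.subgroupOf K := by
      rw [Subgroup.mem_subgroupOf]; exact n.2
    rw [← heq, MulAction.mem_stabilizer_iff] at hmem
    have : n • (0 : Fin 8) = 0 := hmem
    rw [hn] at this
    exact absurd this (by decide)

/-- If `K = N` then `K` is simple (minimality of `N`). -/
theorem simple_of_eq {K N : Subgroup (Equiv.Perm (Fin 8))} {Δ : Finset (Fin 8)} (h : Cfg K N Δ)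
    (hKN : N = K) : IsSimpleGroup ↥K := by
  have hmin := h.hmin
  have hN1 := h.hN1
  subst hKN
  haveI : Nontrivial ↥N := (Subgroup.nontrivial_iff_ne_bot N).2 hN1
  refine { toNontrivial := inferInstance, eq_bot_or_eq_top_of_normal := ?_ }
  intro H hH
  have hle : H.map N.subtype ≤ N := by
    rintro _ ⟨x, -, rfl⟩
    exact x.2
  have hnb : NormalizedBy N (H.map N.subtype) := by
    rintro k hk _ ⟨x, hx, rfl⟩
    refine ⟨(⟨k, hk⟩ : ↥N) * x * (⟨k, hk⟩ : ↥N)⁻¹, hH.conj_mem x hx _, rfl⟩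
  rcases hmin _ hle hnb with h0 | h1
  · left
    exact (Subgroup.map_eq_bot_iff_of_injective H N.subtype_injective).1 h0
  · right
    rw [eq_top_iff]
    intro k _
    have : (k : Equiv.Perm (Fin 8)) ∈ H.map N.subtype := by rw [h1]; exact k.2
    obtain ⟨x, hx, hxk⟩ := this
    have : x = k := Subtype.ext hxk
    exact this ▸ hx

/-- L8 `case8` with the three leaves L8a, L8b, L8c as hypotheses. -/
theorem case8_of
    (prim8 : ∀ {K N : Subgroup (Equiv.Perm (Fin 8))} {Δ : Finset (Fin 8)}, Cfg K N Δ → Δ.card = 8 →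
      MulAction.IsPreprimitive ↥N (Fin 8))
    (jordan5 : ∀ (G : Subgroup (Equiv.Perm (Fin 8))), G ≤ alternatingGroup (Fin 8) →
      MulAction.IsPreprimitive ↥G (Fin 8) → 5 ∣ Nat.card ↥G → G = alternatingGroup (Fin 8))
    (order8 : ∀ (G : Subgroup (Equiv.Perm (Fin 8))), G ≤ alternatingGroup (Fin 8) →
      MulAction.IsPretransitive ↥G (Fin 8) → 7 ∣ Nat.card ↥G → ¬ 5 ∣ Nat.card ↥G →
      Nat.card ↥G = 56 ∨ Nat.card ↥G = 168 ∨
        (Nat.card ↥G = 1344 ∧ IsSimpleGroup ↥(MulAction.stabilizer ↥G (0 : Fin 8))))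
    {K N : Subgroup (Equiv.Perm (Fin 8))} {Δ : Finset (Fin 8)} (h : Cfg K N Δ) (h8 : Δ.card = 8) :
    Nonempty (↥K ≃* ↥(alternatingGroup (Fin 8))) ∨ (IsSimpleGroup ↥K ∧ Nat.card ↥K = 168) ∨
      (IsSimpleGroup ↥K ∧ Nat.card ↥K = 1344) := by
  have hNprim := prim8 h h8
  have hKprim := prim_of_le h.hNK hNprim
  by_cases h5 : 5 ∣ Nat.card ↥K
  · left
    have := jordan5 K h.hKA hKprim h5
    exact ⟨MulEquiv.subgroupCongr this⟩
  · right
    have hNK_card : Nat.card ↥N ∣ Nat.card ↥K := Subgroup.card_dvd_of_le h.hNK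
    have h5N : ¬ 5 ∣ Nat.card ↥N := fun hh => h5 (hh.trans hNK_card)
    have hNns : ¬ Group.IsSolvable ↥N := fun hs => h.hN1 (h.hsolv N h.hNK h.hnorm hs)
    have h7N : 7 ∣ Nat.card ↥N := by
      by_contra h7
      exact hNns (solvable_of_not_5_7 N h5N h7)
    have h7K := h7N.trans hNK_card
    have hNA := h.hNK.trans h.hKA
    have hN := order8 N hNA hNprim.toIsPretransitive h7N h5N
    have hK := order8 K h.hKA hKprim.toIsPretransitive h7K h5
    have hN56 : Nat.card ↥N ≠ 56 := fun h56 => hNns (solvable_of_card_56 N h56)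
    have heq_of_card : Nat.card ↥N = Nat.card ↥K → N = K := fun hc =>
      Subgroup.eq_of_le_of_card_ge h.hNK hc.ge
    rcases hN with hN | hN | ⟨hN, -⟩
    · exact absurd hN hN56
    · rcases hK with hK | hK | ⟨hK, hS⟩
      · rw [hN, hK] at hNK_card; omega
      · exact Or.inl ⟨simple_of_eq h (heq_of_card (by rw [hN, hK])), hK⟩
      · exact absurd (no_168_1344 h.hNK h.hnorm hNprim.toIsPretransitive hKprim.toIsPretransitive
          hN hK hS) id
    · rcases hK with hK | hK | ⟨hK, -⟩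
      · rw [hN, hK] at hNK_card; omega
      · rw [hN, hK] at hNK_card; omega
      · exact Or.inr ⟨simple_of_eq h (heq_of_card (by rw [hN, hK])), hK⟩

end Cfsg.Agent.Lib.Helper03.G42
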