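import Mathlib
import Cfsg.Prelude.Def_Solvable
import Cfsg.Agent.Lib.Helper72.G42Defs
import Cfsg.Agent.Lib.Helper03.G42L8
import Cfsg.Agent.Lib.Helper23.G42L8a
import Cfsg.Agent.Lib.Helper25.G42L8b
import Cfsg.Agent.Lib.Helper62.G42L8c

/-!
# K-G42 pack (S2553), leaf 255312 L8 `case8`, exact signature (glue of L8a, L8b, L8c via `case8_of`).
-/

set_option autoImplicit false

namespace Cfsg.Agent.Lib.Helper03.G42

open Cfsg.Agent.Lib.Helper72.G42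

/-- 255312 L8. -/
theorem case8 {K N : Subgroup (Equiv.Perm (Fin 8))} {Δ : Finset (Fin 8)} (h : Cfg K N Δ) (h8 : Δ.card = 8) :
    Nonempty (↥K ≃* ↥(alternatingGroup (Fin 8))) ∨ (IsSimpleGroup ↥K ∧ Nat.card ↥K = 168) ∨
      (IsSimpleGroup ↥K ∧ Nat.card ↥K = 1344) :=
  case8_of (fun h h8 => Cfsg.Agent.Lib.Helper23.G42.prim8 h h8) Cfsg.Agent.Lib.Helper25.G42.jordan5
    Cfsg.Agent.Lib.Helper62.G42.order8 h h8

end Cfsg.Agent.Lib.Helper03.G42
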