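import Mathlib
import Cfsg.Agent.S0678

/-!
# K-G42 pack (S2553), leaf 255311 L8c `order8`

A transitive `G ≤ A_8` whose order is divisible by 7 but not by 5 has order 56, 168 or 1344, and in the last
case the point stabilizer is simple.
-/

set_option autoImplicit false

namespace Cfsg.Agent.Lib.Helper03.G42

open Equiv.Perm MulAction

/-- A nontrivial solvable group has a nontrivial abelian normal subgroup. -/
theorem l8c_exists_abelian_normal (T : Type*) [Group T] [Nontrivial T] (hs : Group.IsSolvable T) :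
    ∃ A : Subgroup T, A.Normal ∧ A ≠ ⊥ ∧ ∀ a ∈ A, ∀ b ∈ A, a * b = b * a := by
  classical
  have hex : ∃ n, derivedSeries T n = ⊥ := hs.solvable
  have hspec := Nat.find_spec hex
  have hn0 : Nat.find hex ≠ 0 := by
    intro h0
    rw [h0, derivedSeries_zero] at hspec
    exact top_ne_bot hspec
  obtain ⟨m, hm⟩ := Nat.exists_eq_succ_of_ne_zero hn0
  refine ⟨derivedSeries T m, derivedSeries_normal T m, ?_, ?_⟩
  · exact Nat.find_min hex (by omega)
  · rw [hm, derivedSeries_succ] at hspec
    have hle := Subgroup.commutator_eq_bot_iff_le_centralizer.1 hspec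
    intro a ha b hb
    exact (Subgroup.mem_centralizer_iff.1 (hle hb)) a ha

section Solv7

variable {α : Type*} [Fintype α] [DecidableEq α]

/-- Solvable transitive subgroups of `A_7` of order prime to 5 have order 7 or 21. -/
theorem l8c_solv7 (hα : Fintype.card α = 7)
    (T : Subgroup (Equiv.Perm α)) [MulAction.IsPretransitive ↥T α]
    (hA : T ≤ alternatingGroup α) (hs : Group.IsSolvable ↥T) (h5 : ¬ 5 ∣ Nat.card ↥T) :
    Nat.card ↥T = 7 ∨ Nat.card ↥T = 21 := by
  classical
  obtain ⟨x₀, y₀, hxy₀⟩ : ∃ x y : α, x ≠ y :=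
    Fintype.exists_pair_of_one_lt_card (by rw [hα]; norm_num)
  have htr : ∀ x y : α, ∃ t : ↥T, (t : Equiv.Perm α) x = y := fun x y =>
    MulAction.exists_smul_eq (↥T) x y
  haveI : Nontrivial ↥T := by
    obtain ⟨t, ht⟩ := htr x₀ y₀
    refine ⟨⟨t, 1, ?_⟩⟩
    rintro rfl
    exact hxy₀ (by simpa using ht)
  obtain ⟨A, hAn, hA1, hAc⟩ := l8c_exists_abelian_normal ↥T hs
  haveI := hAn
  haveI hprim : IsPreprimitive ↥T α :=
    IsPreprimitive.of_prime_card (by rw [Nat.card_eq_fintype_card, hα]; norm_num)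
  -- A is transitive
  have hAfix : fixedPoints ↥A α ≠ Set.univ := by
    intro hfp
    apply hA1
    rw [Subgroup.eq_bot_iff_forall]
    intro a ha
    apply Subtype.ext
    apply Equiv.ext
    intro x
    have hx : x ∈ fixedPoints ↥A α := by rw [hfp]; exact Set.mem_univ x
    exact hx ⟨a, ha⟩
  haveI hAtr : IsPretransitive ↥A α := IsQuasiPreprimitive.isPretransitive_of_normal hAfix
  have A4 : ∀ x y : α, ∃ a ∈ A, (a : Equiv.Perm α) x = y := by
    intro x y
    obtain ⟨a, ha⟩ := MulAction.exists_smul_eq (↥A) x y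
    exact ⟨a.1, a.2, ha⟩
  -- A is regular
  have hreg : ∀ a ∈ A, ∀ x : α, (a : Equiv.Perm α) x = x → a = 1 := by
    intro a ha x hax
    apply Subtype.ext
    apply Equiv.ext
    intro y
    obtain ⟨b, hb, hbx⟩ := A4 x y
    have hc : a * b = b * a := hAc a ha b hb
    have h1 : ((a * b : ↥T) : Equiv.Perm α) x = ((b * a : ↥T) : Equiv.Perm α) x := by rw [hc]
    simp only [Subgroup.coe_mul, Equiv.Perm.mul_apply, hax, hbx] at h1
    simpa using h1
  -- |A| = 7
  have hAcard : Nat.card ↥A = 7 := by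
    rw [← hα, ← Nat.card_eq_fintype_card]
    apply Nat.card_eq_of_bijective (fun a : ↥A => ((a : ↥T) : Equiv.Perm α) x₀)
    constructor
    · intro a b hab
      have h2 : (((a⁻¹ * b : ↥A) : ↥T) : Equiv.Perm α) x₀ = x₀ := by
        simp only [Subgroup.coe_mul, Subgroup.coe_inv, Equiv.Perm.mul_apply]
        rw [Equiv.Perm.inv_eq_iff_eq]
        exact hab.symm
      have h3 := hreg _ (a⁻¹ * b).2 x₀ h2
      have h4 : a⁻¹ * b = 1 := Subtype.ext h3
      exact (inv_mul_eq_one.1 h4)
    · intro y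
      obtain ⟨a, ha, hay⟩ := A4 x₀ y
      exact ⟨⟨a, ha⟩, hay⟩
  -- every element of A is a power of any nontrivial element
  have hpow : ∀ a ∈ A, a ≠ 1 → ∀ b ∈ A, ∃ k : ℤ, a ^ k = b := by
    intro a ha ha1 b hb
    have hle : Subgroup.zpowers a ≤ A := by
      rw [Subgroup.zpowers_le]; exact ha
    have hd := Subgroup.card_dvd_of_le hle
    rw [hAcard, Nat.card_zpowers] at hd
    have ho : orderOf a = 7 := by
      rcases (Nat.dvd_prime (by norm_num)).1 hd with h | h
      · exact absurd (orderOf_eq_one_iff.1 h) ha1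
      · exact h
    have heq : Subgroup.zpowers a = A :=
      Subgroup.eq_of_le_of_card_ge hle (by rw [hAcard, Nat.card_zpowers, ho])
    rw [← heq] at hb
    exact Subgroup.mem_zpowers_iff.1 hb
  -- Frobenius property
  have hF : ∀ t : ↥T, ∀ x y : α, x ≠ y → (t : Equiv.Perm α) x = x → (t : Equiv.Perm α) y = y →
      t = 1 := by
    intro t x y hxy htx hty
    obtain ⟨a, ha, hax⟩ := A4 x y
    have ha1 : a ≠ 1 := by
      rintro rfl
      exact hxy (by simpa using hax)
    have hc : t * a * t⁻¹ ∈ A := hAn.conj_mem a ha t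
    have htinv : ((t⁻¹ : ↥T) : Equiv.Perm α) x = x := by
      rw [Subgroup.coe_inv, Equiv.Perm.inv_eq_iff_eq]; exact htx.symm
    have hcx : ((a⁻¹ * (t * a * t⁻¹) : ↥T) : Equiv.Perm α) x = x := by
      simp only [Subgroup.coe_mul, Equiv.Perm.mul_apply, htinv, hax, hty]
      rw [Subgroup.coe_inv, Equiv.Perm.inv_eq_iff_eq]; exact hax.symm
    have h1 := hreg _ (A.mul_mem (A.inv_mem ha) hc) x hcx
    have hcomm : t * a = a * t := by
      have h2 : t * a * t⁻¹ = a := by
        have := inv_mul_eq_one.1 h1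
        exact this.symm
      calc t * a = (t * a * t⁻¹) * t := by group
        _ = a * t := by rw [h2]
    have hcomm' : Commute t a := hcomm
    apply Subtype.ext
    apply Equiv.ext
    intro z
    obtain ⟨b, hb, hbz⟩ := A4 x z
    obtain ⟨k, rfl⟩ := hpow a ha ha1 b hb
    have hck : t * a ^ k = a ^ k * t := (hcomm'.zpow_right k)
    have h3 : ((t * a ^ k : ↥T) : Equiv.Perm α) x = ((a ^ k * t : ↥T) : Equiv.Perm α) x := by
      rw [hck]
    simp only [Subgroup.coe_mul, Equiv.Perm.mul_apply, htx, hbz] at h3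
    simpa using h3
  -- |T| ≤ 42
  have hle42 : Nat.card ↥T ≤ 42 := by
    have hoff : ((Finset.univ : Finset α).offDiag).card = 42 := by
      rw [Finset.offDiag_card, Finset.card_univ, hα]
    have hinj : Function.Injective
        (fun t : ↥T => (⟨((t : Equiv.Perm α) x₀, (t : Equiv.Perm α) y₀), by
          rw [Finset.mem_offDiag]
          exact ⟨Finset.mem_univ _, Finset.mem_univ _,
            fun h => hxy₀ ((t : Equiv.Perm α).injective h)⟩⟩ :
          {p : α × α // p ∈ (Finset.univ : Finset α).offDiag})) := by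
      intro t t' htt
      have h1 := congrArg (fun p => p.1.1) htt
      have h2 := congrArg (fun p => p.1.2) htt
      simp only at h1 h2
      have hx : ((t'⁻¹ * t : ↥T) : Equiv.Perm α) x₀ = x₀ := by
        simp only [Subgroup.coe_mul, Subgroup.coe_inv, Equiv.Perm.mul_apply]
        rw [Equiv.Perm.inv_eq_iff_eq]; exact h1
      have hy : ((t'⁻¹ * t : ↥T) : Equiv.Perm α) y₀ = y₀ := by
        simp only [Subgroup.coe_mul, Subgroup.coe_inv, Equiv.Perm.mul_apply]
        rw [Equiv.Perm.inv_eq_iff_eq]; exact h2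
      have := hF _ x₀ y₀ hxy₀ hx hy
      exact (inv_mul_eq_one.1 this).symm
    have := Nat.card_le_card_of_injective _ hinj
    rwa [Nat.card_eq_fintype_card (α := {p : α × α // p ∈ (Finset.univ : Finset α).offDiag}),
      Fintype.card_coe, hoff] at this
  have h7 : 7 ∣ Nat.card ↥T := by
    have := Subgroup.card_subgroup_dvd_card A
    rwa [hAcard] at this
  -- no involution
  have hodd : ¬ 2 ∣ Nat.card ↥T := by
    intro h2
    haveI : Fact (Nat.Prime 2) := ⟨Nat.prime_two⟩
    obtain ⟨t, ht⟩ := exists_prime_orderOf_dvd_card' (G := ↥T) 2 h2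
    have hσ : orderOf (t : Equiv.Perm α) = 2 := by rw [Subgroup.orderOf_coe]; exact ht
    have hsign : Equiv.Perm.sign (t : Equiv.Perm α) = 1 :=
      Equiv.Perm.mem_alternatingGroup.1 (hA t.2)
    obtain ⟨n, hn⟩ := Equiv.Perm.cycleType_prime_order (σ := (t : Equiv.Perm α))
      (by rw [hσ]; exact Nat.prime_two)
    rw [hσ] at hn
    have hsum : (t : Equiv.Perm α).support.card = 2 * (n + 1) := by
      rw [← Equiv.Perm.sum_cycleType, hn, Multiset.sum_replicate, smul_eq_mul]; ring
    have hsupp_le : (t : Equiv.Perm α).support.card ≤ 7 := by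
      rw [← hα]; exact Finset.card_le_univ _
    rw [Equiv.Perm.sign_of_cycleType, hn] at hsign
    simp only [Multiset.sum_replicate, Multiset.card_replicate, smul_eq_mul] at hsign
    have hn1 : n = 1 := by
      have hcases : n = 0 ∨ n = 1 ∨ n = 2 := by omega
      rcases hcases with rfl | rfl | rfl
      · exact absurd hsign (by decide)
      · rfl
      · exact absurd hsign (by decide)
    subst hn1
    have hcompl : ((t : Equiv.Perm α).support)ᶜ.card = 3 := by
      rw [Finset.card_compl, hα, hsum]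
    obtain ⟨x, hx, y, hy, hxy⟩ := Finset.one_lt_card.1 (by rw [hcompl]; norm_num :
      1 < ((t : Equiv.Perm α).support)ᶜ.card)
    rw [Finset.mem_compl, Equiv.Perm.notMem_support] at hx hy
    have := hF t x y hxy hx hy
    rw [this, orderOf_one] at ht
    omega
  omega

end Solv7

theorem l8c_card_P7 : Fintype.card {x : Fin 8 // x ≠ 0} = 7 := by decide

instance l8c_nontrivial_P7 : Nontrivial {x : Fin 8 // x ≠ 0} :=
  ⟨⟨⟨1, by decide⟩, ⟨2, by decide⟩, by simp⟩⟩

theorem l8c_five_dvd_alt : 5 ∣ Nat.card ↥(alternatingGroup {x : Fin 8 // x ≠ 0}) := by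
  have h := two_mul_card_alternatingGroup (α := {x : Fin 8 // x ≠ 0})
  rw [Fintype.card_perm, l8c_card_P7] at h
  have e : Nat.factorial 7 = 5040 := by decide
  rw [e] at h
  rw [Nat.card_eq_fintype_card]
  omega

/-- The core: a subgroup of `A_8` fixing the point `0`, of order divisible by 7 and prime to 5. -/
theorem l8c_core7 (H : Subgroup (Equiv.Perm (Fin 8))) (hfix : ∀ h ∈ H, h 0 = 0)
    (hA : H ≤ alternatingGroup (Fin 8)) (h7 : 7 ∣ Nat.card ↥H) (h5 : ¬ 5 ∣ Nat.card ↥H) :
    Nat.card ↥H = 7 ∨ Nat.card ↥H = 21 ∨ (Nat.card ↥H = 168 ∧ IsSimpleGroup ↥H) := by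
  classical
  have hp : ∀ h ∈ H, ∀ x : Fin 8, (h x ≠ 0) ↔ (x ≠ 0) := by
    intro h hh x
    constructor
    · intro hx h0; apply hx; rw [h0]; exact hfix h hh
    · intro hx h0; apply hx
      have : h x = h 0 := by rw [h0, hfix h hh]
      exact h.injective this
  let res : ↥H →* Equiv.Perm {x : Fin 8 // x ≠ 0} :=
    { toFun := fun h => Equiv.Perm.subtypePerm (h : Equiv.Perm (Fin 8)) (hp h.1 h.2)
      map_one' := by ext x; simp
      map_mul' := by intro a b; ext x; rfl }
  have hres : ∀ (h : ↥H) (x : {x : Fin 8 // x ≠ 0}),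
      ((res h) x : Fin 8) = (h : Equiv.Perm (Fin 8)) x := fun h x => rfl
  have hinj : Function.Injective res := by
    rw [injective_iff_map_eq_one]
    intro h hh
    apply Subtype.ext
    apply Equiv.ext
    intro x
    by_cases hx : x = 0
    · subst hx
      simpa using hfix h.1 h.2
    · have := congrArg (fun σ => ((σ ⟨x, hx⟩ : {x : Fin 8 // x ≠ 0}) : Fin 8)) hh
      simpa [hres] using this
  have hcardT : Nat.card ↥res.range = Nat.card ↥H :=
    (Nat.card_congr (MonoidHom.ofInjective hinj).toEquiv).symm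
  -- transitivity
  haveI htr : MulAction.IsPretransitive ↥res.range {x : Fin 8 // x ≠ 0} := by
    haveI : Fact (Nat.Prime 7) := ⟨by norm_num⟩
    obtain ⟨h, ho⟩ := exists_prime_orderOf_dvd_card' (G := ↥H) 7 h7
    have hσ : orderOf (h : Equiv.Perm (Fin 8)) = 7 := by rw [Subgroup.orderOf_coe]; exact ho
    have hcyc : (h : Equiv.Perm (Fin 8)).IsCycle := by
      apply Equiv.Perm.isCycle_of_prime_order (by rw [hσ]; norm_num)
      rw [hσ]
      calc (h : Equiv.Perm (Fin 8)).support.card ≤ Fintype.card (Fin 8) := Finset.card_le_univ _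
        _ < 2 * 7 := by simp
    have hsupp : (h : Equiv.Perm (Fin 8)).support.card = 7 := by rw [← hcyc.orderOf, hσ]
    have h0 : (0 : Fin 8) ∉ (h : Equiv.Perm (Fin 8)).support :=
      Equiv.Perm.notMem_support.2 (hfix h.1 h.2)
    have hsub : (h : Equiv.Perm (Fin 8)).support ⊆ (Finset.univ : Finset (Fin 8)).erase 0 := by
      intro x hx
      rw [Finset.mem_erase]
      exact ⟨fun hx0 => h0 (hx0 ▸ hx), Finset.mem_univ _⟩
    have heq : (h : Equiv.Perm (Fin 8)).support = (Finset.univ : Finset (Fin 8)).erase 0 :=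
      Finset.eq_of_subset_of_card_le hsub (by rw [hsupp]; decide)
    have hall : ∀ x : Fin 8, x ≠ 0 → (h : Equiv.Perm (Fin 8)) x ≠ x := by
      intro x hx
      rw [← Equiv.Perm.mem_support, heq, Finset.mem_erase]
      exact ⟨hx, Finset.mem_univ _⟩
    refine ⟨fun x y => ?_⟩
    obtain ⟨i, hi⟩ := hcyc.sameCycle (hall x.1 x.2) (hall y.1 y.2)
    refine ⟨⟨res (h ^ i), ⟨h ^ i, rfl⟩⟩, ?_⟩
    apply Subtype.ext
    show ((res (h ^ i)) x : Fin 8) = y
    rw [hres, Subgroup.coe_zpow]
    exact hi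
  have hTA : res.range ≤ alternatingGroup {x : Fin 8 // x ≠ 0} := by
    rintro _ ⟨h, rfl⟩
    rw [Equiv.Perm.mem_alternatingGroup]
    show Equiv.Perm.sign (Equiv.Perm.subtypePerm (h : Equiv.Perm (Fin 8)) (hp h.1 h.2)) = 1
    have hsg := Equiv.Perm.sign_subtypePerm (h : Equiv.Perm (Fin 8)) (p := fun x : Fin 8 => x ≠ 0)
      (hp h.1 h.2) (fun x hx h0 => hx (by rw [h0]; exact hfix h.1 h.2))
    rw [hsg]
    exact Equiv.Perm.mem_alternatingGroup.1 (hA h.2)
  have h5T : ¬ 5 ∣ Nat.card ↥res.range := by rw [hcardT]; exact h5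
  by_cases hs : Group.IsSolvable ↥res.range
  · have := l8c_solv7 l8c_card_P7 res.range hTA hs h5T
    rw [hcardT] at this
    rcases this with h | h
    · exact Or.inl h
    · exact Or.inr (Or.inl h)
  · have hnA : ¬ alternatingGroup {x : Fin 8 // x ≠ 0} ≤ res.range := fun hle =>
      h5T (l8c_five_dvd_alt.trans (Subgroup.card_dvd_of_le hle))
    obtain ⟨hc, hsimp⟩ := Cfsg.Agent.S0678.result l8c_card_P7 res.range hs hnA
    rw [hcardT] at hc
    haveI := hsimp
    exact Or.inr (Or.inr ⟨hc, (MonoidHom.ofInjective hinj).isSimpleGroup⟩)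

/-- 255311 L8c. -/
theorem order8 (G : Subgroup (Equiv.Perm (Fin 8))) (hGA : G ≤ alternatingGroup (Fin 8))
    (htr : MulAction.IsPretransitive ↥G (Fin 8)) (h7 : 7 ∣ Nat.card ↥G) (h5 : ¬ 5 ∣ Nat.card ↥G) :
    Nat.card ↥G = 56 ∨ Nat.card ↥G = 168 ∨
      (Nat.card ↥G = 1344 ∧ IsSimpleGroup ↥(MulAction.stabilizer ↥G (0 : Fin 8))) := by
  have hmul : Nat.card ↥(MulAction.stabilizer ↥G (0 : Fin 8)) * 8 = Nat.card ↥G := by
    have h1 := Subgroup.card_mul_index (MulAction.stabilizer ↥G (0 : Fin 8))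
    rw [MulAction.index_stabilizer_of_transitive] at h1
    simpa using h1
  have hcardH : Nat.card ↥((MulAction.stabilizer ↥G (0 : Fin 8)).map G.subtype) =
      Nat.card ↥(MulAction.stabilizer ↥G (0 : Fin 8)) :=
    Subgroup.card_map_of_injective G.subtype_injective
  have hfix : ∀ h ∈ (MulAction.stabilizer ↥G (0 : Fin 8)).map G.subtype, h 0 = 0 := by
    rintro _ ⟨s, hs, rfl⟩
    exact hs
  have hHA : (MulAction.stabilizer ↥G (0 : Fin 8)).map G.subtype ≤ alternatingGroup (Fin 8) := by
    rintro _ ⟨s, -, rfl⟩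
    exact hGA s.2
  have h7H : 7 ∣ Nat.card ↥((MulAction.stabilizer ↥G (0 : Fin 8)).map G.subtype) := by
    rw [hcardH]; omega
  have h5H : ¬ 5 ∣ Nat.card ↥((MulAction.stabilizer ↥G (0 : Fin 8)).map G.subtype) := by
    rw [hcardH]; omega
  rcases l8c_core7 _ hfix hHA h7H h5H with h | h | ⟨h, hsimp⟩
  · left; rw [hcardH] at h; omega
  · right; left; rw [hcardH] at h; omega
  · right; right
    rw [hcardH] at h
    refine ⟨by omega, ?_⟩
    haveI := hsimp
    exact ((MulAction.stabilizer ↥G (0 : Fin 8)).equivMapOfInjective G.subtype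
      G.subtype_injective).isSimpleGroup

end Cfsg.Agent.Lib.Helper03.G42
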