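import Mathlib

set_option autoImplicit false

namespace Cfsg.Agent.Lib.Helper03.GS

universe u

variable {V : Type u} [CommGroup V] [Finite V]

/-- K3: the eigenspace trick. -/
theorem card_eq_sq_of_quaternion_action (hV3 : ∀ v : V, v ^ 3 = 1) (i j : MulAut V)
    (hi : ∀ v : V, i (i v) = v⁻¹) (hj : ∀ v : V, j (j v) = v⁻¹)
    (hij : ∀ v : V, i (j v) = (j (i v))⁻¹)
    (U : Subgroup V) (hU : ∀ v : V, v ∈ U ↔ i v * j v = v) :
    Nat.card V = Nat.card U * Nat.card U := by
  classical
  -- s = i + j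
  set s : V →* V := i.toMonoidHom * j.toMonoidHom with hs
  have hsv : ∀ v, s v = i v * j v := fun v => rfl
  have hji : ∀ w : V, j (i w) = (i (j w))⁻¹ := by
    intro w; rw [hij w, inv_inv]
  have hss : ∀ v, s (s v) = v := by
    intro v
    rw [hsv (s v), hsv v, map_mul, map_mul, hi, hj, hij v]
    have h3 : v * v * v = 1 := by
      have := hV3 v
      rwa [pow_succ, pow_two] at this
    calc v⁻¹ * (j (i v))⁻¹ * (j (i v) * v⁻¹) = v⁻¹ * v⁻¹ := by group
      _ = v := by
        have : v⁻¹ * v⁻¹ = v⁻¹ * v⁻¹ * (v * v * v) := by rw [h3, mul_one]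
        rw [this]; group
  -- k = i ∘ j anticommutes with s
  have hsk : ∀ v, s (i (j v)) = (i (j (s v)))⁻¹ := by
    intro v
    have h1 : s (i (j v)) = (j v)⁻¹ * i v := by
      rw [hsv, hi, hji (j v), hj, map_inv, inv_inv]
    have h2 : i (j (s v)) = j v * (i v)⁻¹ := by
      rw [hsv v, map_mul, map_mul, hij (i v), hi, map_inv, inv_inv, hj, map_inv]
    rw [h1, h2, mul_inv_rev, inv_inv, mul_comm]
  -- ψ v = v * s v
  set ψ : V →* V := MonoidHom.id V * s with hψ
  have hψv : ∀ v, ψ v = v * s v := fun v => rfl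
  have hrange : ψ.range = U := by
    ext a
    constructor
    · rintro ⟨v, rfl⟩
      rw [hU, ← hsv, hψv, map_mul, hss, mul_comm]
    · intro ha
      have hsa : s a = a := by rw [hsv]; exact (hU a).1 ha
      refine ⟨a * a, ?_⟩
      rw [hψv, map_mul, hsa]
      have h3 : a * a * a = 1 := by
        have := hV3 a
        rwa [pow_succ, pow_two] at this
      calc a * a * (a * a) = (a * a * a) * a := by group
        _ = a := by rw [h3, one_mul]
  have hcard1 : Nat.card V = Nat.card ψ.ker * Nat.card U := by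
    rw [← hrange, ← Subgroup.index_ker, Subgroup.card_mul_index]
  have hker : ∀ v, v ∈ ψ.ker ↔ s v = v⁻¹ := by
    intro v
    rw [MonoidHom.mem_ker, hψv]
    constructor
    · intro h; exact (eq_inv_of_mul_eq_one_right h)
    · intro h; rw [h, mul_inv_cancel]
  have hmemU : ∀ v, v ∈ U ↔ s v = v := fun v => hU v
  -- k maps U into ker ψ and ker ψ into U
  have hk1 : ∀ v, v ∈ U → i (j v) ∈ ψ.ker := by
    intro v hv
    rw [hker, hsk, (hmemU v).1 hv]
  have hk2 : ∀ v, v ∈ ψ.ker → i (j v) ∈ U := by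
    intro v hv
    rw [hmemU, hsk, (hker v).1 hv, map_inv, map_inv, inv_inv]
  have hle1 : Nat.card U ≤ Nat.card ψ.ker := by
    apply Nat.card_le_card_of_injective (fun v : U => (⟨i (j (v : V)), hk1 v v.2⟩ : ψ.ker))
    intro a b hab
    have h1 : i (j (a : V)) = i (j (b : V)) := congrArg Subtype.val hab
    exact Subtype.ext (j.injective (i.injective h1))
  have hle2 : Nat.card ψ.ker ≤ Nat.card U := by
    apply Nat.card_le_card_of_injective (fun v : ψ.ker => (⟨i (j (v : V)), hk2 v v.2⟩ : U))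
    intro a b hab
    have h1 : i (j (a : V)) = i (j (b : V)) := congrArg Subtype.val hab
    exact Subtype.ext (j.injective (i.injective h1))
  rw [hcard1, le_antisymm hle2 hle1]

end Cfsg.Agent.Lib.Helper03.GS
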