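import Mathlib
import Cfsg.Agent.Lib.Helper03.GSK3

set_option autoImplicit false

namespace Cfsg.Agent.Lib.Helper03.GS

universe u

variable {Γ V : Type u} [Group Γ] [Finite Γ] [CommGroup V] [Finite V]

open QuaternionGroup in
/-- KILL with the leaves B2, K2, K4 as hypotheses. -/
theorem q8_kill_aux [Nontrivial V] (hV : IsPGroup 3 V) (hV3 : ∀ v : V, v ^ 3 = 1)
    (ρ : Γ →* MulAut V)
    (hB2 : ∃ a : ℕ, Nat.card Γ = (Nat.card V - 1) * 3 ^ a)
    (hK2 : ∀ z : Γ, z * z = 1 → z ≠ 1 → ∀ v : V, ρ z v = v⁻¹)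
    (hK4 : ∀ (C : Subgroup Γ) (U : Subgroup V), U ≠ ⊥ → (∀ c ∈ C, ∀ u ∈ U, ρ c u ∈ U) →
      ∃ m b : ℕ, Nat.card C = m * 3 ^ b ∧ m ≤ Nat.card U - 1)
    (R : Subgroup Γ) [R.Normal] (e : R ≃* QuaternionGroup 2) :
    Nat.card Γ ≠ 24 * Nat.card (Subgroup.centralizer (R : Set Γ)) := by
  classical
  intro hcard
  -- the elements
  set x0 : Γ := ((e.symm (xa 0) : R) : Γ) with hx0
  set x1 : Γ := ((e.symm (xa 1) : R) : Γ) with hx1
  set z : Γ := ((e.symm (a 2) : R) : Γ) with hz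
  have hx0x0 : x0 * x0 = z := by
    rw [hx0, hz, ← Subgroup.coe_mul, ← map_mul]
    congr 2
  have hx1x1 : x1 * x1 = z := by
    rw [hx1, hz, ← Subgroup.coe_mul, ← map_mul]
    congr 2
  have hx0x1 : x0 * x1 = z * (x1 * x0) := by
    rw [hx0, hx1, hz, ← Subgroup.coe_mul, ← Subgroup.coe_mul, ← Subgroup.coe_mul, ← map_mul,
      ← map_mul, ← map_mul]
    congr 2
  have hzz : z * z = 1 := by
    rw [hz, ← Subgroup.coe_mul, ← map_mul]
    have : (a 2 : QuaternionGroup 2) * a 2 = 1 := by decide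
    rw [this, map_one]; rfl
  have hz1 : z ≠ 1 := by
    intro h
    have h1 : (e.symm (a 2) : R) = 1 := Subtype.ext h
    have h2 : (a 2 : QuaternionGroup 2) = 1 := by
      have := congrArg e h1
      simpa using this
    exact absurd h2 (by decide)
  have hzC : z ∈ Subgroup.centralizer (R : Set Γ) := by
    rw [Subgroup.mem_centralizer_iff]
    intro r hr
    have hcomm : ∀ g : QuaternionGroup 2, a 2 * g = g * a 2 := by decide
    have h1 : (⟨r, hr⟩ : R) * e.symm (a 2) = e.symm (a 2) * ⟨r, hr⟩ := by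
      apply e.injective
      rw [map_mul, map_mul, e.apply_symm_apply]
      exact (hcomm _).symm
    exact congrArg Subtype.val h1
  have hzinv : ∀ v : V, ρ z v = v⁻¹ := hK2 z hzz hz1
  -- i, j
  have hi : ∀ v : V, ρ x0 (ρ x0 v) = v⁻¹ := by
    intro v
    rw [← MulAut.mul_apply, ← map_mul, hx0x0, hzinv]
  have hj : ∀ v : V, ρ x1 (ρ x1 v) = v⁻¹ := by
    intro v
    rw [← MulAut.mul_apply, ← map_mul, hx1x1, hzinv]
  have hij : ∀ v : V, ρ x0 (ρ x1 v) = (ρ x1 (ρ x0 v))⁻¹ := by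
    intro v
    rw [← MulAut.mul_apply, ← map_mul, hx0x1, map_mul, MulAut.mul_apply, hzinv, map_mul,
      MulAut.mul_apply]
  -- U
  set f : V →* V := (ρ x0).toMonoidHom * (ρ x1).toMonoidHom * (MonoidHom.id V)⁻¹ with hf
  have hfv : ∀ v, f v = ρ x0 v * ρ x1 v * v⁻¹ := fun v => rfl
  have hU : ∀ v : V, v ∈ f.ker ↔ ρ x0 v * ρ x1 v = v := by
    intro v
    rw [MonoidHom.mem_ker, hfv, mul_inv_eq_one]
  have hK3 := card_eq_sq_of_quaternion_action hV3 (ρ x0) (ρ x1) hi hj hij f.ker hU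
  have hU1 : f.ker ≠ ⊥ := by
    intro h
    rw [h, Subgroup.card_bot] at hK3
    have : 1 < Nat.card V := Finite.one_lt_card
    omega
  -- C preserves U
  have hCU : ∀ c ∈ Subgroup.centralizer (R : Set Γ), ∀ u ∈ f.ker, ρ c u ∈ f.ker := by
    intro c hc u hu
    rw [hU] at hu ⊢
    have hc0 : c * x0 = x0 * c := by
      have := (Subgroup.mem_centralizer_iff.1 hc) x0 (e.symm (xa 0)).2
      exact this.symm
    have hc1 : c * x1 = x1 * c := by
      have := (Subgroup.mem_centralizer_iff.1 hc) x1 (e.symm (xa 1)).2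
      exact this.symm
    have h0 : ρ x0 (ρ c u) = ρ c (ρ x0 u) := by
      rw [← MulAut.mul_apply, ← MulAut.mul_apply, ← map_mul, ← map_mul, hc0]
    have h1 : ρ x1 (ρ c u) = ρ c (ρ x1 u) := by
      rw [← MulAut.mul_apply, ← MulAut.mul_apply, ← map_mul, ← map_mul, hc1]
    rw [h0, h1, ← map_mul, hu]
  obtain ⟨m, b, hCm, hmU⟩ := hK4 (Subgroup.centralizer (R : Set Γ)) f.ker hU1 hCU
  obtain ⟨a', hΓ⟩ := hB2
  obtain ⟨c, hUc⟩ := (hV.to_subgroup f.ker).exists_card_eq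
  -- 2 ∣ |C|
  have h2C : 2 ∣ Nat.card (Subgroup.centralizer (R : Set Γ)) := by
    have hoz : orderOf z = 2 := orderOf_eq_prime (by rw [pow_two]; exact hzz) hz1
    have := Subgroup.orderOf_dvd_natCard (Subgroup.centralizer (R : Set Γ)) hzC
    rwa [hoz] at this
  -- arithmetic
  have hc1 : 1 ≤ c := by
    rcases Nat.eq_zero_or_pos c with h | h
    · exfalso
      rw [h, pow_zero] at hUc
      exact hU1 (Subgroup.card_eq_one.1 hUc)
    · exact h
  clear_value f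
  clear hf hfv hCU hU hK2 hK4 hi hj hij hzinv hzC hz1 hzz hx0x1 hx1x1 hx0x0
  rw [hUc] at hK3 hmU
  rw [hK3] at hΓ
  rw [hΓ, hCm] at hcard
  rw [hCm] at h2C
  -- (3^c * 3^c - 1) * 3^a' = 24 * (m * 3^b), m ≤ 3^c - 1, 2 ∣ m * 3^b
  have hmpos : 1 ≤ m := by
    rcases Nat.eq_zero_or_pos m with h | h
    · exfalso
      rw [h, zero_mul, mul_zero] at hcard
      have h3c : 3 ≤ 3 ^ c := by
        calc 3 = 3 ^ 1 := by norm_num
          _ ≤ 3 ^ c := Nat.pow_le_pow_right (by norm_num) hc1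
      have : 0 < (3 ^ c * 3 ^ c - 1) * 3 ^ a' := by
        apply Nat.mul_pos
        · have : 9 ≤ 3 ^ c * 3 ^ c := by nlinarith
          omega
        · positivity
      omega
    · exact h
  have hcop : Nat.Coprime (3 ^ c * 3 ^ c - 1) 3 := by
    have h3 : 3 ∣ 3 ^ c * 3 ^ c := Dvd.dvd.mul_right (dvd_pow_self 3 (by omega)) _
    have hpos : 1 ≤ 3 ^ c * 3 ^ c := Nat.one_le_iff_ne_zero.2 (by positivity)
    rw [Nat.coprime_comm, Nat.Prime.coprime_iff_not_dvd Nat.prime_three]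
    intro h
    have : 3 ∣ 1 := by
      have h4 := Nat.dvd_sub h3 h
      rwa [Nat.sub_sub_self hpos] at h4
    omega
  have hdvd : (3 ^ c * 3 ^ c - 1) ∣ 8 * m := by
    have h1 : (3 ^ c * 3 ^ c - 1) ∣ 8 * m * 3 ^ (b + 1) := by
      refine ⟨3 ^ a', ?_⟩
      rw [hcard, pow_succ]; ring
    exact (Nat.Coprime.pow_right (b + 1) hcop).dvd_of_dvd_mul_right h1
  have hle : 3 ^ c * 3 ^ c - 1 ≤ 8 * m := Nat.le_of_dvd (by omega) hdvd
  have h3c : 3 ≤ 3 ^ c := by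
    calc 3 = 3 ^ 1 := by norm_num
      _ ≤ 3 ^ c := Nat.pow_le_pow_right (by norm_num) hc1
  have hu7 : 3 ^ c ≤ 7 := by
    by_contra hlt
    have h8 : 8 ≤ 3 ^ c := by omega
    have h1 : 8 * 3 ^ c ≤ 3 ^ c * 3 ^ c := Nat.mul_le_mul_right _ h8
    generalize 3 ^ c * 3 ^ c = w at h1 hle
    generalize 3 ^ c = u' at h1 hmU h8
    omega
  have hceq : c = 1 := by
    by_contra hne
    have : 2 ≤ c := by omega
    have : 9 ≤ 3 ^ c := by
      calc 9 = 3 ^ 2 := by norm_num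
        _ ≤ 3 ^ c := Nat.pow_le_pow_right (by norm_num) this
    omega
  subst hceq
  norm_num at hcard hmU
  -- 8 * 3^a' = 24 * (m * 3^b), m ≤ 2, 2 ∣ m * 3^b
  have hm2 : 2 ∣ m := by
    have hc2 : Nat.Coprime 2 (3 ^ b) := Nat.Coprime.pow_right b (by norm_num)
    exact hc2.dvd_of_dvd_mul_right h2C
  have hmeq : m = 2 := by
    obtain ⟨t, ht⟩ := hm2
    omega
  subst hmeq
  -- 8 * 3^a' = 48 * 3^b : parity contradiction
  have h16 : 3 ^ a' = 6 * 3 ^ b := by omega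
  have : 2 ∣ 3 ^ a' := ⟨3 * 3 ^ b, by rw [h16]; ring⟩
  have h2 : 2 ∣ 3 := Nat.Prime.dvd_of_dvd_pow Nat.prime_two this
  omega

end Cfsg.Agent.Lib.Helper03.GS
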