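import Mathlib
import Cfsg.Agent.Lib.Helper03.GSKill
import Cfsg.Agent.Lib.Helper50.GSB2
import Cfsg.Agent.Lib.Helper96.GSK2
import Cfsg.Agent.Lib.Helper85.GSK4

set_option autoImplicit false

namespace Cfsg.Agent.Lib.Helper03.GS

universe u

variable {Γ V : Type u} [Group Γ] [Finite Γ] [CommGroup V] [Finite V]

/-- KILL: `p = 3`, `R ≅ Q_8` normal: `|Γ| ≠ 24 |C_Γ(R)|`. -/
theorem q8_kill [Nontrivial V] (hV : IsPGroup 3 V) (hV3 : ∀ v : V, v ^ 3 = 1)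
    (ρ : Γ →* MulAut V)
    (htrans : ∀ v w : V, v ≠ 1 → w ≠ 1 → ∃ g : Γ, ρ g v = w)
    (hstab : ∀ (g : Γ) (v : V), v ≠ 1 → ρ g v = v → ∃ k : ℕ, g ^ (3 ^ k) = 1)
    (R : Subgroup Γ) [R.Normal] (e : R ≃* QuaternionGroup 2) :
    Nat.card Γ ≠ 24 * Nat.card (Subgroup.centralizer (R : Set Γ)) := by
  haveI : Fact (Nat.Prime 3) := ⟨Nat.prime_three⟩
  exact q8_kill_aux hV hV3 ρ
    (Cfsg.Agent.Lib.Helper50.GS.card_eq 3 ρ htrans hstab)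
    (fun z hz hz1 v => Cfsg.Agent.Lib.Helper96.GS.involution_inverts 3 (by norm_num) ρ hstab z hz hz1 v)
    (fun C U hU1 hCU => Cfsg.Agent.Lib.Helper85.GS.card_le_of_preserves 3 ρ hstab C U hU1 hCU)
    R e

end Cfsg.Agent.Lib.Helper03.GS
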