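import Mathlib
import Cfsg.Agent.Lib.Helper01.SZConj
import Cfsg.Agent.Lib.Helper04.Alperin
import Cfsg.Agent.Lib.Helper03.CoprimeAbelian
import Cfsg.Agent.Lib.Helper03.ComplementConj

set_option autoImplicit false

namespace Cfsg.Agent.Lib.Helper03

open Subgroup

/-- If `Q₀` is normal in `M`, `X ≤ M` and `X ⊓ Q₀ = ⊥` then `|X|` divides `|M : Q₀|`. -/
theorem card_dvd_relIndex_of_inf_eq_bot {G : Type*} [Group G] [Finite G] (Q₀ M X : Subgroup G)
    (hQM : Q₀ ≤ M) (hMN : M ≤ normalizer (Q₀ : Set G)) (hXM : X ≤ M) (hXQ : X ⊓ Q₀ = ⊥) :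
    Nat.card X ∣ Q₀.relIndex M := by
  have hn : (Q₀.subgroupOf M).Normal := (normal_subgroupOf_iff_le_normalizer hQM).mpr hMN
  have h1 : (Q₀.subgroupOf M).relIndex (X.subgroupOf M ⊔ Q₀.subgroupOf M) =
      (Q₀.subgroupOf M).relIndex (X.subgroupOf M) := relIndex_sup_right _ _
  have h2 : (Q₀.subgroupOf M).relIndex (X.subgroupOf M) = Nat.card X := by
    rw [← inf_relIndex_right]
    have h3 : Q₀.subgroupOf M ⊓ X.subgroupOf M = ⊥ := by
      rw [eq_bot_iff]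
      intro x hx
      rw [mem_inf, mem_subgroupOf, mem_subgroupOf] at hx
      have h4 : (x : G) ∈ X ⊓ Q₀ := mem_inf.mpr ⟨hx.2, hx.1⟩
      rw [hXQ, mem_bot] at h4
      rw [mem_bot]
      exact Subtype.ext h4
    rw [h3, relIndex_bot_left]
    exact card_subgroupOf_of_le hXM
  have h5 : (Q₀.subgroupOf M).relIndex (X.subgroupOf M ⊔ Q₀.subgroupOf M) ∣
      (Q₀.subgroupOf M).index := relIndex_dvd_index_of_normal _ _
  rw [h1, h2] at h5
  exact h5

/-- **Gaschütz-type splitting, core.** Let `K ⊴ G` with `G/K` a `p`-group, `Q₀` an abelian Sylow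
`p`-subgroup of `K` with `Q₀ ≤ (N_K(Q₀))'`. Then `K` has a complement in `G`. -/
theorem exists_complement_of_abelian_sylow_le_commutator {G : Type*} [Group G] [Finite G] {p : ℕ}
    [Fact p.Prime] (K Q₀ : Subgroup G) [K.Normal]
    (hQK : Q₀ ≤ K) (hQp : IsPGroup p Q₀) (hQidx : ¬ p ∣ Q₀.relIndex K)
    (hQab : ∀ a ∈ Q₀, ∀ b ∈ Q₀, a * b = b * a)
    (hKp : ∃ a : ℕ, K.index = p ^ a)
    (hFrat : normalizer (Q₀ : Set G) ⊔ K = ⊤)
    (hcomm : Q₀ ≤ ⁅normalizer (Q₀ : Set G) ⊓ K, normalizer (Q₀ : Set G) ⊓ K⁆) :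
    ∃ H : Subgroup G, H.IsComplement' K := by
  classical
  have hp : p.Prime := Fact.out
  obtain ⟨a, ha⟩ := hKp
  set N : Subgroup G := normalizer (Q₀ : Set G) with hN
  set M : Subgroup G := N ⊓ K with hM
  have hQN : Q₀ ≤ N := le_normalizer
  have hQM : Q₀ ≤ M := le_inf hQN hQK
  have hMN : M ≤ N := inf_le_left
  have hMK : M ≤ K := inf_le_right
  have hQc : IsMulCommutative Q₀ := ⟨⟨fun a b => Subtype.ext (hQab a a.2 b b.2)⟩⟩
  obtain ⟨b, hb⟩ := IsPGroup.iff_card.mp hQp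
  -- coprimality
  have hpr : ¬ p ∣ Q₀.relIndex M := by
    intro hdvd
    apply hQidx
    rw [← relIndex_mul_relIndex Q₀ M K hQM hMK]
    exact Dvd.dvd.mul_right hdvd _
  have hcop : Nat.Coprime (Nat.card Q₀) (Q₀.relIndex M) := by
    rw [hb]
    exact Nat.Coprime.pow_left b ((Nat.Prime.coprime_iff_not_dvd hp).mpr hpr)
  -- `C_{Q₀}(M) = 1`
  have hCQ : centralizer (M : Set G) ⊓ Q₀ = ⊥ := by
    have h1 := commutator_inf_centralizer_inf_eq_bot_of_abelian_hall Q₀ M hQM hQc hcop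
    rw [eq_bot_iff]
    intro x hx
    rw [← h1]
    exact mem_inf.mpr ⟨mem_inf.mpr ⟨hcomm (mem_inf.mp hx).2, (mem_inf.mp hx).1⟩, (mem_inf.mp hx).2⟩
  -- Schur–Zassenhaus complement of `Q₀` in `M`
  have hQmn : (Q₀.subgroupOf M).Normal := (normal_subgroupOf_iff_le_normalizer hQM).mpr hMN
  have hcardQm : Nat.card (Q₀.subgroupOf M) = Nat.card Q₀ := card_subgroupOf_of_le hQM
  have hHallm : Nat.Coprime (Nat.card (Q₀.subgroupOf M)) (Q₀.subgroupOf M).index := by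
    rw [hcardQm]; exact hcop
  obtain ⟨Lm, hLm⟩ := exists_right_complement'_of_coprime hHallm
  set L : Subgroup G := Lm.map M.subtype with hL
  have hLM : L ≤ M := map_subtype_le Lm
  have hcardL : Nat.card L = Q₀.relIndex M := by
    rw [hL, card_map_of_injective M.subtype_injective]
    exact hLm.symm.index_eq_card.symm
  -- `L ⊓ Q₀ = ⊥`
  have hLQ : L ⊓ Q₀ = ⊥ := by
    rw [eq_bot_iff]
    intro x hx
    obtain ⟨hxL, hxQ⟩ := mem_inf.mp hx
    obtain ⟨y, hyL, rfl⟩ := mem_map.mp hxL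
    have h1 : y ∈ Q₀.subgroupOf M ⊓ Lm := mem_inf.mpr ⟨mem_subgroupOf.mpr hxQ, hyL⟩
    rw [disjoint_iff.mp hLm.disjoint, mem_bot] at h1
    rw [h1]; exact one_mem _
  -- `M = Q₀ L`
  have hMdecomp : ∀ m ∈ M, ∃ q ∈ Q₀, ∃ l ∈ L, q * l = m := by
    intro m hm
    obtain ⟨⟨q, l⟩, hql⟩ := hLm.2 ⟨m, hm⟩
    have hql' : (q : M) * (l : M) = ⟨m, hm⟩ := hql
    refine ⟨((q : M) : G), mem_subgroupOf.mp q.2, ((l : M) : G), mem_map_of_mem _ l.2, ?_⟩
    have h1 := congrArg Subtype.val hql'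
    simpa using h1
  set H₀ : Subgroup G := normalizer (L : Set G) ⊓ N with hH₀
  have hH₀Q : H₀ ⊓ Q₀ = ⊥ := by
    rw [eq_bot_iff]
    intro x hx
    obtain ⟨hxH, hxQ⟩ := mem_inf.mp hx
    have hxNL : x ∈ normalizer (L : Set G) := (mem_inf.mp hxH).1
    have hxl : ∀ l ∈ L, l * x = x * l := by
      intro l hl
      have hc1 : x * l * x⁻¹ * l⁻¹ ∈ L :=
        L.mul_mem ((mem_normalizer_iff.mp hxNL l).mp hl) (L.inv_mem hl)
      have hlN : l ∈ normalizer (Q₀ : Set G) := hMN (hLM hl)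
      have hc2 : x * l * x⁻¹ * l⁻¹ ∈ Q₀ := by
        have h1 : l * x⁻¹ * l⁻¹ ∈ Q₀ := (mem_normalizer_iff.mp hlN x⁻¹).mp (Q₀.inv_mem hxQ)
        have h2 : x * l * x⁻¹ * l⁻¹ = x * (l * x⁻¹ * l⁻¹) := by group
        rw [h2]; exact Q₀.mul_mem hxQ h1
      have hc3 : x * l * x⁻¹ * l⁻¹ ∈ L ⊓ Q₀ := mem_inf.mpr ⟨hc1, hc2⟩
      rw [hLQ, mem_bot] at hc3
      have h3 : x * l = (x * l * x⁻¹ * l⁻¹) * (l * x) := by group
      rw [h3, hc3, one_mul]
    have hxM : x ∈ centralizer (M : Set G) := by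
      rw [mem_centralizer_iff]
      intro m hm
      obtain ⟨q, hq, l, hl, rfl⟩ := hMdecomp m hm
      rw [mul_assoc, hxl l hl, ← mul_assoc, hQab q hq x hxQ, mul_assoc]
    have h4 : x ∈ centralizer (M : Set G) ⊓ Q₀ := mem_inf.mpr ⟨hxM, hxQ⟩
    rwa [hCQ] at h4
  have hXM : H₀ ⊓ K ≤ M := le_inf (inf_le_left.trans inf_le_right) inf_le_right
  have hXQ : (H₀ ⊓ K) ⊓ Q₀ = ⊥ := by
    rw [inf_assoc, inf_comm K Q₀, ← inf_assoc, hH₀Q, bot_inf_eq]
  have hXdvd : Nat.card (H₀ ⊓ K : Subgroup G) ∣ Q₀.relIndex M :=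
    card_dvd_relIndex_of_inf_eq_bot Q₀ M _ hQM hMN hXM hXQ
  have hXcop : Nat.Coprime (Nat.card (H₀ ⊓ K : Subgroup G)) p :=
    Nat.Coprime.coprime_dvd_left hXdvd ((Nat.Prime.coprime_iff_not_dvd hp).mpr hpr).symm
  -- Frattini-type argument: `H₀ K = G`
  have hH₀K : H₀ ⊔ K = ⊤ := by
    rw [eq_top_iff]
    intro g _
    have hg : g ∈ N ⊔ K := by rw [hFrat]; trivial
    rw [← SetLike.mem_coe, mul_normal N K] at hg
    obtain ⟨n, hn, k, hk, rfl⟩ := Set.mem_mul.mp hg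
    set L' : Subgroup G := L.map (MulAut.conj n).toMonoidHom with hL'
    have hL'M : L' ≤ M := by
      intro y hy
      rw [hL', mem_map_conj_iff] at hy
      have h1 : n⁻¹ * y * n ∈ M := hLM hy
      have h2 : y = n * (n⁻¹ * y * n) * n⁻¹ := by group
      rw [h2]
      refine mem_inf.mpr ⟨N.mul_mem (N.mul_mem hn (hMN h1)) (N.inv_mem hn), ?_⟩
      exact (inferInstance : K.Normal).conj_mem _ (hMK h1) n
    have hcardL' : Nat.card L' = Nat.card L :=
      card_map_of_injective (MulAut.conj n).injective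
    have hsolv : Group.IsSolvable (Q₀.subgroupOf M) :=
      Group.isSolvable_of_comm (fun a b => Subtype.ext (Subtype.ext
        (hQab _ (mem_subgroupOf.mp a.2) _ (mem_subgroupOf.mp b.2))))
    obtain ⟨m, hm⟩ := Cfsg.Agent.Lib.Helper01.sz_conj_card (Q₀.subgroupOf M) hHallm Lm
      (L'.subgroupOf M) (Or.inl hsolv) hLm.symm.index_eq_card.symm
      (by rw [card_subgroupOf_of_le hL'M, hcardL', hcardL]; rfl)
    have hconj : ∀ l ∈ L, ((m : G)⁻¹ * n) * l * ((m : G)⁻¹ * n)⁻¹ ∈ L := by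
      intro l hl
      have h1 : n * l * n⁻¹ ∈ L' := by
        rw [hL', mem_map_conj_iff]
        have h0 : n⁻¹ * (n * l * n⁻¹) * n = l := by group
        rw [h0]; exact hl
      have h2 : (⟨n * l * n⁻¹, hL'M h1⟩ : M) ∈ L'.subgroupOf M := mem_subgroupOf.mpr h1
      rw [← hm, mem_pointwise_smul_iff_inv_smul_mem] at h2
      have h3 : (((MulAut.conj m)⁻¹ • (⟨n * l * n⁻¹, hL'M h1⟩ : M) : M) : G) ∈ L :=
        mem_map_of_mem M.subtype h2
      have h4 : (((MulAut.conj m)⁻¹ • (⟨n * l * n⁻¹, hL'M h1⟩ : M) : M) : G) =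
          (m : G)⁻¹ * (n * l * n⁻¹) * m := by
        simp [MulAut.smul_def]
      rw [h4] at h3
      have h5 : ((m : G)⁻¹ * n) * l * ((m : G)⁻¹ * n)⁻¹ = (m : G)⁻¹ * (n * l * n⁻¹) * m := by
        group
      rw [h5]; exact h3
    have hh₀ : (m : G)⁻¹ * n ∈ H₀ :=
      mem_inf.mpr ⟨Cfsg.Agent.Lib.Helper04.mem_normalizer_of_conj_le L _ hconj,
        N.mul_mem (N.inv_mem (hMN m.2)) hn⟩
    have hgk : n * k = ((m : G)⁻¹ * n) *
        ((((m : G)⁻¹ * n)⁻¹ * (m : G) * ((m : G)⁻¹ * n)) * k) := by group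
    rw [hgk]
    refine mul_mem_sup hh₀ (K.mul_mem ?_ hk)
    have h6 := (inferInstance : K.Normal).conj_mem _ (hMK m.2) ((m : G)⁻¹ * n)⁻¹
    simpa using h6
  have hrelK : K.relIndex H₀ = p ^ a := by
    rw [← relIndex_sup_right H₀ K, hH₀K, relIndex_top_right, ha]
  have hcardH₀ : Nat.card H₀ = Nat.card (H₀ ⊓ K : Subgroup G) * p ^ a := by
    have h1 := card_mul_index (K.subgroupOf H₀)
    rw [card_subgroupOf_eq_card_inf, inf_comm] at h1
    rw [← hrelK]; exact h1.symm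
  let S : Sylow p H₀ := default
  set H : Subgroup G := (S : Subgroup H₀).map H₀.subtype with hH
  have hHH₀ : H ≤ H₀ := map_subtype_le _
  have hcardH : Nat.card H = Nat.card S := card_map_of_injective H₀.subtype_injective
  obtain ⟨c, hc⟩ := IsPGroup.iff_card.mp S.2
  have hSidx : ¬ p ∣ (S : Subgroup H₀).index := S.not_dvd_index
  have hSmul : Nat.card S * (S : Subgroup H₀).index = Nat.card H₀ := card_mul_index _
  have hcopc : Nat.Coprime (p ^ c) (Nat.card (H₀ ⊓ K : Subgroup G)) :=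
    Nat.Coprime.pow_left c hXcop.symm
  have hca : p ^ c = p ^ a := by
    apply Nat.dvd_antisymm
    · have h1 : p ^ c ∣ Nat.card (H₀ ⊓ K : Subgroup G) * p ^ a := by
        rw [← hcardH₀, ← hSmul, hc]; exact dvd_mul_right _ _
      exact (Nat.Coprime.dvd_mul_left hcopc).mp h1
    · have h1 : p ^ a ∣ p ^ c * (S : Subgroup H₀).index := by
        rw [← hc, hSmul, hcardH₀]; exact dvd_mul_left _ _
      exact (Nat.Coprime.dvd_mul_right
        (Nat.Coprime.pow_left a ((Nat.Prime.coprime_iff_not_dvd hp).mpr hSidx))).mp h1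
  refine ⟨H, isComplement'_of_card_mul_and_disjoint ?_ ?_⟩
  · rw [hcardH, hc, hca, ← ha, mul_comm]; exact card_mul_index K
  · rw [disjoint_iff, eq_bot_iff]
    have h1 : Nat.card (H ⊓ K : Subgroup G) ∣ Nat.card H := card_dvd_of_le inf_le_left
    have h2 : Nat.card (H ⊓ K : Subgroup G) ∣ Nat.card (H₀ ⊓ K : Subgroup G) :=
      card_dvd_of_le (inf_le_inf_right K hHH₀)
    have h3 : Nat.card (H ⊓ K : Subgroup G) = 1 := by
      rw [hcardH, hc] at h1
      have h4 := Nat.dvd_gcd h1 h2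
      rw [hcopc.gcd_eq_one] at h4
      exact Nat.dvd_one.mp h4
    exact (card_eq_one.mp h3).le

end Cfsg.Agent.Lib.Helper03
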