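import Mathlib
import Cfsg.Agent.Lib.Helper06.Hall4.Defs

/-!
# K-H4-A2 (keystone 422111, parallel hand) `card_cent_two_cycles` (S4221 pack, architect helper6)
Orbit-stabilizer for `Cent G t` on `α × α`.
-/

set_option autoImplicit false
open Equiv

namespace Cfsg.Agent.Lib.Helper03.Hall4
open Cfsg.Agent.Lib.Helper06.Hall4

variable {α : Type*} [Fintype α] [DecidableEq α]

theorem card_cent_two_cycles (G : Subgroup (Perm α)) {t : Perm α} (t2 : t * t = 1) {a b : α}
    (ha : t a ≠ a) (hb : t b ≠ b) (hba : b ≠ a) (hbta : b ≠ t a)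
    (htr : ∀ p q : α, t p ≠ p → t q ≠ q → q ≠ p → q ≠ t p → ∃ g ∈ Cent G t, g a = p ∧ g b = q) :
    Nat.card (Cent G t) = (Fintype.card α - nfix t) * (Fintype.card α - nfix t - 2) *
      Nat.card (FS G {a, t a, b, t b} ⊓ Subgroup.centralizer {t} : Subgroup (Perm α)) := by
  classical
  set C : Subgroup (Perm α) := Cent G t with hC
  have htt : ∀ z, t (t z) = z := by
    intro z
    have := congrArg (fun f : Perm α => f z) t2
    simpa [Perm.mul_apply] using this
  have hsmul : ∀ (g : ↥C) (r m : α), g • ((r, m) : α × α) =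
      ((g : Perm α) r, (g : Perm α) m) := fun g r m => rfl
  have hcomm : ∀ g : ↥C, ∀ z : α, t ((g : Perm α) z) = (g : Perm α) (t z) := by
    intro g z
    have h := (mem_Cent.1 g.2).2
    have := congrArg (fun f : Perm α => f z) h
    simpa [Perm.mul_apply] using this
  -- orbit-stabilizer
  have h1 : Nat.card ↥C = Nat.card (MulAction.orbit ↥C ((a, b) : α × α)) *
      Nat.card (MulAction.stabilizer ↥C ((a, b) : α × α)) := by
    rw [← Nat.card_prod]
    exact (Nat.card_congr (MulAction.orbitProdStabilizerEquivGroup ↥C ((a, b) : α × α))).symm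
  -- the stabilizer
  have h2 : Nat.card (MulAction.stabilizer ↥C ((a, b) : α × α)) =
      Nat.card (FS G {a, t a, b, t b} ⊓ Subgroup.centralizer {t} : Subgroup (Perm α)) := by
    refine Nat.card_congr
      { toFun := fun g => ⟨((g : ↥C) : Perm α), ?_⟩
        invFun := fun g => ⟨⟨(g : Perm α), ?_⟩, ?_⟩
        left_inv := fun g => rfl
        right_inv := fun g => rfl }
    · have hg := g.2
      rw [MulAction.mem_stabilizer_iff, hsmul, Prod.mk.injEq] at hg
      obtain ⟨h1, h2⟩ := hg
      rw [Subgroup.mem_inf, mem_FS, mem_centralizer_one]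
      refine ⟨⟨(mem_Cent.1 g.1.2).1, ?_⟩, (mem_Cent.1 g.1.2).2⟩
      intro s hs
      simp only [Set.mem_insert_iff, Set.mem_singleton_iff] at hs
      rcases hs with rfl | rfl | rfl | rfl
      · exact h1
      · rw [← hcomm, h1]
      · exact h2
      · rw [← hcomm, h2]
    · have hg := g.2
      rw [Subgroup.mem_inf, mem_FS, mem_centralizer_one] at hg
      exact mem_Cent.2 ⟨hg.1.1, hg.2⟩
    · have hg := g.2
      rw [Subgroup.mem_inf, mem_FS, mem_centralizer_one] at hg
      rw [MulAction.mem_stabilizer_iff, hsmul]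
      simp only
      rw [hg.1.2 a (by simp), hg.1.2 b (by simp)]
  -- the orbit
  set Fx : Finset α := Finset.univ.filter (fun r => t r = r) with hFx
  set Mv : Finset α := Finset.univ.filter (fun m => t m ≠ m) with hMv
  have hFxcard : Fx.card = nfix t := by
    unfold nfix
    rw [← Set.ncard_coe_finset]
    congr 1
    ext r
    simp [hFx, Function.mem_fixedPoints, Function.IsFixedPt]
  have hMvcard : Mv.card = Fintype.card α - nfix t := by
    rw [← hFxcard, hMv, hFx, Finset.filter_not, Finset.card_sdiff_of_subset (Finset.filter_subset _ _),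
      Finset.card_univ]
  have hMvmem : ∀ z, z ∈ Mv ↔ t z ≠ z := by
    intro z
    rw [hMv, Finset.mem_filter]
    exact ⟨fun h => h.2, fun h => ⟨Finset.mem_univ _, h⟩⟩
  have horb : ∀ r m : α, ((r, m) : α × α) ∈ MulAction.orbit ↥C ((a, b) : α × α) ↔
      t r ≠ r ∧ t m ≠ m ∧ m ≠ r ∧ m ≠ t r := by
    intro r m
    constructor
    · rintro ⟨g, hg⟩
      change g • ((a, b) : α × α) = (r, m) at hg
      rw [hsmul, Prod.mk.injEq] at hg
      obtain ⟨rfl, rfl⟩ := hg
      refine ⟨?_, ?_, fun h => hba ((g : Perm α).injective h), ?_⟩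
      · rw [hcomm]
        exact fun h => ha ((g : Perm α).injective h)
      · rw [hcomm]
        exact fun h => hb ((g : Perm α).injective h)
      · rw [hcomm]
        exact fun h => hbta ((g : Perm α).injective h)
    · rintro ⟨h1, h2, h3, h4⟩
      obtain ⟨g, hg, hg1, hg2⟩ := htr r m h1 h2 h3 h4
      refine ⟨⟨g, hg⟩, ?_⟩
      change (⟨g, hg⟩ : ↥C) • ((a, b) : α × α) = (r, m)
      rw [hsmul]
      simp only
      rw [hg1, hg2]
  have h3 : Nat.card (MulAction.orbit ↥C ((a, b) : α × α)) =
      (Fintype.card α - nfix t) * (Fintype.card α - nfix t - 2) := by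
    have e : ↥(MulAction.orbit ↥C ((a, b) : α × α)) ≃
        ↥(Mv.sigma (fun r => (Mv.erase r).erase (t r))) :=
      { toFun := fun x => ⟨⟨x.1.1, x.1.2⟩, by
          have hx := x.2
          rw [show x.1 = (x.1.1, x.1.2) from rfl, horb] at hx
          simp only [Finset.mem_sigma, Finset.mem_erase, hMvmem]
          exact ⟨hx.1, hx.2.2.2, hx.2.2.1, hx.2.1⟩⟩
        invFun := fun z => ⟨(z.1.1, z.1.2), by
          have hz := z.2
          simp only [Finset.mem_sigma, Finset.mem_erase, hMvmem] at hz
          rw [horb]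
          exact ⟨hz.1, hz.2.2.2, hz.2.2.1, hz.2.1⟩⟩
        left_inv := fun x => rfl
        right_inv := fun z => rfl }
    rw [Nat.card_congr e, Nat.card_eq_fintype_card, Fintype.card_coe, Finset.card_sigma]
    have hterm : ∀ r ∈ Mv, ((Mv.erase r).erase (t r)).card = Fintype.card α - nfix t - 2 := by
      intro r hr
      have hr' := (hMvmem r).1 hr
      have h1 : t r ∈ Mv.erase r := by
        rw [Finset.mem_erase, hMvmem, htt]
        exact ⟨hr', fun h => hr' h.symm⟩
      rw [Finset.card_erase_of_mem h1, Finset.card_erase_of_mem hr, hMvcard]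
      rfl
    rw [Finset.sum_congr rfl hterm, Finset.sum_const, smul_eq_mul, hMvcard]
  rw [h1, h2, h3]

end Cfsg.Agent.Lib.Helper03.Hall4
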