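import Mathlib
import Cfsg.Agent.Lib.Helper06.Hall4.Defs

/-!
# K-H4-B2 (keystone 422113) `card_cent_fix_fix` (S4221 pack, architect helper6)
Orbit-stabilizer for `Cent G t` on `α × α × α`.
-/

set_option autoImplicit false
open Equiv

namespace Cfsg.Agent.Lib.Helper03.Hall4
open Cfsg.Agent.Lib.Helper06.Hall4

variable {α : Type*} [Fintype α] [DecidableEq α]

theorem card_cent_fix_fix (G : Subgroup (Perm α)) {t : Perm α} (t2 : t * t = 1) {p p' a : α}
    (hp : t p = p) (hp' : t p' = p') (hpp' : p ≠ p') (ha : t a ≠ a)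
    (htr : ∀ r r' m : α, t r = r → t r' = r' → r ≠ r' → t m ≠ m →
      ∃ g ∈ Cent G t, g p = r ∧ g p' = r' ∧ g a = m) :
    Nat.card (Cent G t) = nfix t * (nfix t - 1) * (Fintype.card α - nfix t) *
      Nat.card (FS G {p, p', a, t a} ⊓ Subgroup.centralizer {t} : Subgroup (Perm α)) := by
  classical
  set C : Subgroup (Perm α) := Cent G t with hC
  have hsmul : ∀ (g : ↥C) (r r' m : α), g • ((r, r', m) : α × α × α) =
      ((g : Perm α) r, (g : Perm α) r', (g : Perm α) m) := fun g r r' m => rfl
  have hcomm : ∀ g : ↥C, ∀ z : α, t ((g : Perm α) z) = (g : Perm α) (t z) := by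
    intro g z
    have h := (mem_Cent.1 g.2).2
    have := congrArg (fun f : Perm α => f z) h
    simpa [Perm.mul_apply] using this
  -- orbit-stabilizer
  have h1 : Nat.card ↥C = Nat.card (MulAction.orbit ↥C ((p, p', a) : α × α × α)) * Nat.card (MulAction.stabilizer ↥C ((p, p', a) : α × α × α)) := by
    rw [← Nat.card_prod]
    exact (Nat.card_congr (MulAction.orbitProdStabilizerEquivGroup ↥C ((p, p', a) : α × α × α))).symm
  -- the stabilizer
  have h2 : Nat.card (MulAction.stabilizer ↥C ((p, p', a) : α × α × α)) =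
      Nat.card (FS G {p, p', a, t a} ⊓ Subgroup.centralizer {t} : Subgroup (Perm α)) := by
    refine Nat.card_congr
      { toFun := fun g => ⟨((g : ↥C) : Perm α), ?_⟩
        invFun := fun g => ⟨⟨(g : Perm α), ?_⟩, ?_⟩
        left_inv := fun g => rfl
        right_inv := fun g => rfl }
    · have hg := g.2
      rw [MulAction.mem_stabilizer_iff, hsmul, Prod.mk.injEq, Prod.mk.injEq] at hg
      obtain ⟨h1, h2, h3⟩ := hg
      rw [Subgroup.mem_inf, mem_FS, mem_centralizer_one]
      refine ⟨⟨(mem_Cent.1 g.1.2).1, ?_⟩, (mem_Cent.1 g.1.2).2⟩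
      intro s hs
      simp only [Set.mem_insert_iff, Set.mem_singleton_iff] at hs
      rcases hs with rfl | rfl | rfl | rfl
      · exact h1
      · exact h2
      · exact h3
      · rw [← hcomm, h3]
    · have hg := g.2
      rw [Subgroup.mem_inf, mem_FS, mem_centralizer_one] at hg
      exact mem_Cent.2 ⟨hg.1.1, hg.2⟩
    · have hg := g.2
      rw [Subgroup.mem_inf, mem_FS, mem_centralizer_one] at hg
      rw [MulAction.mem_stabilizer_iff, hsmul]
      simp only
      rw [hg.1.2 p (by simp), hg.1.2 p' (by simp), hg.1.2 a (by simp)]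
  -- the orbit
  set Fx : Finset α := Finset.univ.filter (fun r => t r = r) with hFx
  set Mv : Finset α := Finset.univ.filter (fun m => t m ≠ m) with hMv
  have hFxcard : Fx.card = nfix t := by
    unfold nfix
    rw [← Set.ncard_coe_finset]
    congr 1
    ext r
    simp [hFx, Function.mem_fixedPoints, Function.IsFixedPt]
  have hMvcard : Mv.card = Fintype.card α - nfix t := by
    rw [← hFxcard, hMv, hFx, Finset.filter_not, Finset.card_sdiff_of_subset (Finset.filter_subset _ _),
      Finset.card_univ]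
  have horb : ∀ r r' m : α, ((r, r', m) : α × α × α) ∈ MulAction.orbit ↥C ((p, p', a) : α × α × α) ↔
      t r = r ∧ t r' = r' ∧ r ≠ r' ∧ t m ≠ m := by
    intro r r' m
    constructor
    · rintro ⟨g, hg⟩
      change g • ((p, p', a) : α × α × α) = (r, r', m) at hg
      rw [hsmul, Prod.mk.injEq, Prod.mk.injEq] at hg
      obtain ⟨rfl, rfl, rfl⟩ := hg
      refine ⟨by rw [hcomm, hp], by rw [hcomm, hp'], fun h => hpp' ((g : Perm α).injective h), ?_⟩
      rw [hcomm]
      exact fun h => ha ((g : Perm α).injective h)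
    · rintro ⟨h1, h2, h3, h4⟩
      obtain ⟨g, hg, hg1, hg2, hg3⟩ := htr r r' m h1 h2 h3 h4
      refine ⟨⟨g, hg⟩, ?_⟩
      change (⟨g, hg⟩ : ↥C) • ((p, p', a) : α × α × α) = (r, r', m)
      rw [hsmul]
      simp only
      rw [hg1, hg2, hg3]
  have h3 : Nat.card (MulAction.orbit ↥C ((p, p', a) : α × α × α)) = nfix t * (nfix t - 1) * (Fintype.card α - nfix t) := by
    have e : ↥(MulAction.orbit ↥C ((p, p', a) : α × α × α)) ≃ ↥(Fx.offDiag ×ˢ Mv) :=
      { toFun := fun x => ⟨((x.1.1, x.1.2.1), x.1.2.2), by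
          have hx := x.2
          rw [show x.1 = (x.1.1, x.1.2.1, x.1.2.2) from rfl, horb] at hx
          simp only [Finset.mem_product, Finset.mem_offDiag, hFx, hMv, Finset.mem_filter,
            Finset.mem_univ, true_and]
          exact ⟨⟨hx.1, hx.2.1, hx.2.2.1⟩, hx.2.2.2⟩⟩
        invFun := fun z => ⟨(z.1.1.1, z.1.1.2, z.1.2), by
          have hz := z.2
          simp only [Finset.mem_product, Finset.mem_offDiag, hFx, hMv, Finset.mem_filter,
            Finset.mem_univ, true_and] at hz
          rw [horb]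
          exact ⟨hz.1.1, hz.1.2.1, hz.1.2.2, hz.2⟩⟩
        left_inv := fun x => rfl
        right_inv := fun z => rfl }
    rw [Nat.card_congr e, Nat.card_eq_fintype_card, Fintype.card_coe, Finset.card_product,
      Finset.offDiag_card, hFxcard, hMvcard, Nat.mul_sub_one]
  rw [h1, h2, h3]

end Cfsg.Agent.Lib.Helper03.Hall4
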