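import Mathlib

/-!
# K-HA-P3 (keystone 253808, architect helper38), part a: permutation lemmas

`g` of prime order `p` on `p + 1` points is a `p`-cycle with a unique fixed point; its centraliser in the symmetric group
is `⟨g⟩`; an involution inverting `g` is odd when `p ≡ 3 (mod 4)`.
-/

set_option autoImplicit false

namespace Cfsg.Agent.Lib.Helper03.HallAlt

open Equiv Equiv.Perm

variable {α : Type} [Fintype α] [DecidableEq α]

theorem cycle_of_order (g : Perm α) (p : ℕ) (hp : p.Prime)
    (hn : Fintype.card α = p + 1) (hg : orderOf g = p) :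
    g.IsCycle ∧ ∃ x0, ∀ x, g x = x ↔ x = x0 := by
  have hc : g.IsCycle := by
    apply isCycle_of_prime_order' (by rw [hg]; exact hp)
    rw [hn, hg]
    have := hp.two_le
    omega
  refine ⟨hc, ?_⟩
  have hs : g.support.card = p := by rw [← hc.orderOf, hg]
  have hcompl : (g.support)ᶜ.card = 1 := by
    rw [Finset.card_compl, hs, hn]
    omega
  obtain ⟨x0, hx0⟩ := Finset.card_eq_one.mp hcompl
  refine ⟨x0, fun x => ?_⟩
  have : x ∈ (g.support)ᶜ ↔ x = x0 := by rw [hx0, Finset.mem_singleton]
  rw [← this, Finset.mem_compl, Perm.mem_support, not_not]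

theorem mem_zpowers_of_commute (g h : Perm α) (hc : g.IsCycle) (x0 : α)
    (hx0 : ∀ x, g x = x ↔ x = x0) (hcomm : h * g = g * h) : h ∈ Subgroup.zpowers g := by
  have hcomm' : ∀ x, h (g x) = g (h x) := fun x => by
    have := congrArg (fun f : Perm α => f x) hcomm
    simpa using this
  have hh0 : h x0 = x0 := by
    rw [← hx0, ← hcomm', (hx0 x0).mpr rfl]
  obtain ⟨y, hy, -⟩ := id hc
  have hyx0 : y ≠ x0 := fun e => hy ((hx0 y).mpr e)
  have hhy : g (h y) ≠ h y := by
    intro e
    have e' := (hx0 _).mp e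
    rw [← hh0] at e'
    exact hyx0 (h.injective e')
  obtain ⟨i, hi⟩ := hc.exists_pow_eq hy hhy
  refine ⟨(i : ℤ), ?_⟩
  simp only [zpow_natCast]
  -- `k = g^{-i} h` fixes everything
  have hpc : ∀ (j : ℕ) (x : α), h ((g ^ j) x) = (g ^ j) (h x) := by
    intro j
    induction j with
    | zero => intro x; simp
    | succ j ih =>
      intro x
      rw [pow_succ, Perm.mul_apply, ih, hcomm']
      rfl
  ext z
  by_cases hz : z = x0
  · subst hz
    rw [hh0]
    have : ∀ j : ℕ, (g ^ j) z = z := fun j => by
      induction j with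
      | zero => simp
      | succ j ih => rw [pow_succ, Perm.mul_apply, (hx0 z).mpr rfl, ih]
    exact this i
  · have hgz : g z ≠ z := fun e => hz ((hx0 z).mp e)
    obtain ⟨j, hj⟩ := hc.exists_pow_eq hy hgz
    rw [← hj, hpc, ← hi, ← Perm.mul_apply, ← Perm.mul_apply, ← pow_add, ← pow_add, add_comm]

theorem sign_of_inverting (g t : Perm α) (p : ℕ) (hp : p.Prime) (hp4 : p % 4 = 3)
    (hn : Fintype.card α = p + 1) (hg : orderOf g = p) (ht2 : t * t = 1)
    (hinv : t * g * t⁻¹ = g⁻¹) : Perm.sign t = -1 := by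
  obtain ⟨hc, x0, hx0⟩ := cycle_of_order g p hp hn hg
  have hgtg : g * t * g = t := by
    have h1 : t * g = g⁻¹ * t := by
      rw [← hinv]; group
    rw [mul_assoc, h1, ← mul_assoc, mul_inv_cancel, one_mul]
  have hrel : ∀ j : ℕ, g ^ j * t * g ^ j = t := by
    intro j
    induction j with
    | zero => simp
    | succ j ih =>
      calc g ^ (j + 1) * t * g ^ (j + 1) = (g * g ^ j) * t * (g ^ j * g) := by
            rw [← pow_succ', ← pow_succ]
        _ = g * (g ^ j * t * g ^ j) * g := by simp only [mul_assoc]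
        _ = t := by rw [ih, hgtg]
  have hrel' : ∀ (j : ℕ) (x : α), (g ^ j) (t ((g ^ j) x)) = t x := fun j x => by
    have := congrArg (fun f : Perm α => f x) (hrel j)
    simpa using this
  have htt : ∀ x, t (t x) = x := fun x => by
    have := congrArg (fun f : Perm α => f x) ht2
    simpa using this
  have hgpow0 : ∀ j : ℕ, (g ^ j) x0 = x0 := fun j => by
    induction j with
    | zero => simp
    | succ j ih => rw [pow_succ, Perm.mul_apply, (hx0 x0).mpr rfl, ih]
  -- `t` fixes `x0`
  have ht0 : t x0 = x0 := by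
    rw [← hx0]
    have := hrel' 1 x0
    rw [pow_one, (hx0 x0).mpr rfl] at this
    exact this
  have hpodd : p % 2 = 1 := by omega
  obtain ⟨y, hy, -⟩ := id hc
  have hyx0 : y ≠ x0 := fun e => hy ((hx0 y).mpr e)
  have hty : g (t y) ≠ t y := by
    intro e
    have e' := (hx0 _).mp e
    rw [← ht0] at e'
    exact hyx0 (t.injective e')
  obtain ⟨i, hi⟩ := hc.exists_pow_eq hy hty
  -- the fixed point `x` of `t` on the cycle
  obtain ⟨j, hj⟩ : ∃ j : ℕ, j = i * ((p + 1) / 2) := ⟨_, rfl⟩
  have h2j : g ^ (2 * j) = g ^ i := by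
    have : 2 * j = i + p * i := by
      rw [hj]
      have : 2 * ((p + 1) / 2) = p + 1 := by omega
      calc 2 * (i * ((p + 1) / 2)) = i * (2 * ((p + 1) / 2)) := by ring
        _ = i * (p + 1) := by rw [this]
        _ = i + p * i := by ring
    rw [this, pow_add, pow_mul, ← hg, pow_orderOf_eq_one, one_pow, mul_one]
  obtain ⟨x, hx⟩ : ∃ x, x = (g ^ j) y := ⟨_, rfl⟩
  have htx : t x = x := by
    apply (g ^ j).injective
    rw [hx, hrel', ← hi, ← Perm.mul_apply (g ^ j), ← pow_add, ← two_mul, h2j]
  have hxx0 : x ≠ x0 := by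
    intro e
    rw [hx] at e
    have : (g ^ j) y = (g ^ j) x0 := by rw [e, hgpow0]
    exact hyx0 ((g ^ j).injective this)
  have hgx : g x ≠ x := fun e => hxx0 ((hx0 x).mp e)
  have hfix : ∀ z, t z = z ↔ z = x0 ∨ z = x := by
    intro z
    constructor
    · intro hz
      by_cases hz0 : z = x0
      · exact Or.inl hz0
      · right
        have hgz : g z ≠ z := fun e => hz0 ((hx0 z).mp e)
        obtain ⟨k, hk⟩ := hc.exists_pow_eq hgx hgz
        have h1 : (g ^ k) (t z) = (g ^ k) z := by rw [hz]
        rw [← hk, hrel', htx, ← Perm.mul_apply, ← pow_add] at h1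
        have h2 : g ^ (k + k) = 1 := (hc.pow_eq_one_iff' hgx).mpr h1.symm
        have h3 : p ∣ k + k := by rw [← hg]; exact orderOf_dvd_of_pow_eq_one h2
        have h4 : p ∣ k := by
          rw [← two_mul] at h3
          rcases (Nat.Prime.dvd_mul hp).mp h3 with h | h
          · exfalso
            have := Nat.le_of_dvd (by norm_num) h
            have := hp.two_le
            omega
          · exact h
        obtain ⟨m, rfl⟩ := h4
        rw [← hk, pow_mul, ← hg, pow_orderOf_eq_one, one_pow, Perm.one_apply]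
    · rintro (rfl | rfl)
      · exact ht0
      · exact htx
  -- the support of `t`
  have hsupp : t.supportᶜ = {x0, x} := by
    ext z
    rw [Finset.mem_compl, Perm.mem_support, not_not, hfix, Finset.mem_insert, Finset.mem_singleton]
  have hcard : t.support.card = p - 1 := by
    have h1 : (t.support)ᶜ.card = 2 := by
      rw [hsupp, Finset.card_pair (Ne.symm hxx0)]
    rw [Finset.card_compl, hn] at h1
    have := t.support.card_le_univ
    omega
  have ht1 : t ≠ 1 := by
    intro e
    rw [e] at hcard
    simp at hcard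
    have := hp.two_le
    omega
  have hord : orderOf t = 2 := orderOf_eq_prime (by rw [pow_two]; exact ht2) ht1
  obtain ⟨m, hm⟩ := cycleType_prime_order (σ := t) (by rw [hord]; exact Nat.prime_two)
  rw [hord] at hm
  have hsum : 2 * (m + 1) = p - 1 := by
    rw [← hcard, ← sum_cycleType, hm, Multiset.sum_replicate, smul_eq_mul, mul_comm]
  rw [sign_of_cycleType, hm, Multiset.sum_replicate, Multiset.card_replicate, smul_eq_mul]
  have hoddm : Odd ((m + 1) * 2 + (m + 1)) := by
    rw [Nat.odd_iff]
    omega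
  exact hoddm.neg_one_pow

end Cfsg.Agent.Lib.Helper03.HallAlt
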