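import Mathlib
import Cfsg.Agent.Lib.Helper38.HallAlt.Defs
import Cfsg.Agent.Lib.Helper03.HallAltP3a

/-!
# K-HA-P3 (keystone 253808, architect helper38): `false_of_prim_mersenne`
-/

set_option autoImplicit false

namespace Cfsg.Agent.Lib.Helper03.HallAlt

open Cfsg Cfsg.Agent.Lib.Helper38.HallAlt

/-- abstract group-theoretic core: a group of order `2 ^ a * p`, `p ≡ 3 (mod 4)`, with an element `g` of order `p`
whose centraliser is `⟨g⟩` and which is inverted by no involution, has a normal subgroup of order `2 ^ a`. -/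
theorem exists_normal_two_subgroup {K : Type*} [Group K] [Finite K] (p a : ℕ) (hp : p.Prime) (hp4 : p % 4 = 3)
    (hcard : Nat.card K = 2 ^ a * p)
    (hD1 : ∀ g : K, orderOf g = p → ∀ h : K, h * g = g * h → h ∈ Subgroup.zpowers g)
    (hD2 : ∀ g : K, orderOf g = p → ∀ t : K, t * t = 1 → t * g * t⁻¹ = g⁻¹ → False) :
    ∃ Q : Subgroup K, Q.Normal ∧ Nat.card Q = 2 ^ a := by
  classical
  have : Fact p.Prime := ⟨hp⟩
  have hp2 : p ≠ 2 := by rintro rfl; omega
  have hpodd : p % 2 = 1 := by omega
  obtain ⟨P⟩ : Nonempty (Sylow p K) := inferInstance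
  have hPcard : Nat.card P = p := by
    rw [Sylow.card_eq_multiplicity, hcard, Nat.factorization_mul (pow_ne_zero _ two_ne_zero) hp.ne_zero,
      Nat.factorization_pow, Nat.Prime.factorization Nat.prime_two, Nat.Prime.factorization hp]
    simp [hp2]
  -- a generator
  obtain ⟨g0, hg0⟩ := exists_prime_orderOf_dvd_card' (G := ↥(P : Subgroup K)) p (by rw [hPcard])
  obtain ⟨g, hgdef⟩ : ∃ g : K, g = (g0 : K) := ⟨_, rfl⟩
  have hgP : g ∈ (P : Subgroup K) := by rw [hgdef]; exact g0.2
  have hg : orderOf g = p := by rw [hgdef, Subgroup.orderOf_coe]; exact hg0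
  have hPg : (P : Subgroup K) = Subgroup.zpowers g := by
    symm
    apply Subgroup.eq_of_le_of_card_ge
    · rw [Subgroup.zpowers_le]; exact hgP
    · rw [Nat.card_zpowers, hg, hPcard]
  have hg1 : g ≠ 1 := by
    intro e
    rw [e, orderOf_one] at hg
    exact hp.one_lt.ne hg
  -- centraliser of `P`
  have hcomm : ∀ x ∈ (P : Subgroup K), ∀ y ∈ (P : Subgroup K), x * y = y * x := by
    intro x hx y hy
    rw [hPg] at hx hy
    obtain ⟨i, rfl⟩ := hx
    obtain ⟨j, rfl⟩ := hy
    rw [← zpow_add, ← zpow_add, add_comm]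
  have hcent : Subgroup.centralizer ((P : Subgroup K) : Set K) = (P : Subgroup K) := by
    apply le_antisymm
    · intro h hh
      rw [Subgroup.mem_centralizer_iff] at hh
      have := hD1 g hg h (hh g hgP).symm
      rw [hPg]; exact this
    · intro h hh
      rw [Subgroup.mem_centralizer_iff]
      intro y hy
      exact hcomm y hy h hh
  -- index of `P` in its normaliser
  have key := Subgroup.card_dvd_of_injective _ (QuotientGroup.kerLift_injective (P : Subgroup K).normalizerMonoidHom)
  rw [Subgroup.normalizerMonoidHom_ker, ← Subgroup.index, ← Subgroup.relIndex] at key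
  have : IsCyclic ↥(P : Subgroup K) := isCyclic_of_prime_card hPcard
  rw [IsCyclic.card_mulAut, hPcard, Nat.totient_prime hp, hcent] at key
  have key2 : (P : Subgroup K).relIndex (Subgroup.normalizer ((P : Subgroup K) : Set K)) ∣ 2 ^ a := by
    have h1 := Subgroup.relIndex_dvd_index_of_le (Subgroup.le_normalizer (H := (P : Subgroup K)))
    have h2 : (P : Subgroup K).index = 2 ^ a := by
      have := (P : Subgroup K).card_mul_index
      rw [hPcard, hcard, mul_comm] at this
      exact Nat.eq_of_mul_eq_mul_right hp.pos this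
    rwa [h2] at h1
  have hN : Subgroup.normalizer ((P : Subgroup K) : Set K) ≤ (P : Subgroup K) := by
    obtain ⟨b, hb, hbe⟩ := (Nat.dvd_prime_pow Nat.prime_two).mp key2
    have hb1 : b ≤ 1 := by
      by_contra hcon
      rw [not_le] at hcon
      have h4 : 4 ∣ p - 1 := by
        refine Dvd.dvd.trans ?_ key
        rw [hbe]
        exact (pow_dvd_pow 2 hcon : 2 ^ 2 ∣ 2 ^ b)
      omega
    interval_cases b
    · rw [pow_zero] at hbe
      exact Subgroup.relIndex_eq_one.mp hbe
    · exfalso
      rw [pow_one] at hbe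
      have hNcard : Nat.card (Subgroup.normalizer ((P : Subgroup K) : Set K)) = 2 * p := by
        have h1 := Subgroup.relIndex_mul_relIndex (⊥ : Subgroup K) (P : Subgroup K)
          (Subgroup.normalizer ((P : Subgroup K) : Set K)) bot_le Subgroup.le_normalizer
        rw [Subgroup.relIndex_bot_left, Subgroup.relIndex_bot_left, hbe, hPcard] at h1
        rw [← h1, mul_comm]
      obtain ⟨t0, ht0⟩ := exists_prime_orderOf_dvd_card' (G := ↥(Subgroup.normalizer ((P : Subgroup K) : Set K))) 2
        (by rw [hNcard]; exact dvd_mul_right 2 p)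
      obtain ⟨t, htdef⟩ : ∃ t : K, t = (t0 : K) := ⟨_, rfl⟩
      have htN : t ∈ Subgroup.normalizer ((P : Subgroup K) : Set K) := by rw [htdef]; exact t0.2
      have ht : orderOf t = 2 := by rw [htdef, Subgroup.orderOf_coe]; exact ht0
      have ht2 : t * t = 1 := by rw [← pow_two, ← ht, pow_orderOf_eq_one]
      have htinv : t⁻¹ = t := inv_eq_of_mul_eq_one_right ht2
      have hnotcomm : ¬ t * g = g * t := by
        intro e
        have h1 := hD1 g hg t e
        have h2 : orderOf t ∣ p := by
          rw [← hg]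
          exact orderOf_dvd_of_mem_zpowers h1
        rw [ht] at h2
        have := (Nat.prime_dvd_prime_iff_eq Nat.prime_two hp).mp h2
        exact hp2 this.symm
      obtain ⟨w, hw⟩ : ∃ w : K, w = t * g * t⁻¹ := ⟨_, rfl⟩
      have hwP : w ∈ (P : Subgroup K) := by
        rw [hw]
        exact (Subgroup.mem_normalizer_iff.mp htN g).mp hgP
      have htw : t * w * t⁻¹ = g := by
        rw [hw, htinv]
        calc t * (t * g * t) * t = (t * t) * g * (t * t) := by group
          _ = g := by rw [ht2, one_mul, mul_one]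
      by_cases hu : g * w = 1
      · have : w = g⁻¹ := eq_inv_of_mul_eq_one_right hu
        exact hD2 g hg t ht2 (by rw [← hw, this])
      · -- `t` centralises `u = g w ≠ 1`, which generates `P`
        have huP : g * w ∈ (P : Subgroup K) := (P : Subgroup K).mul_mem hgP hwP
        have htu : t * (g * w) * t⁻¹ = g * w := by
          calc t * (g * w) * t⁻¹ = (t * g * t⁻¹) * (t * w * t⁻¹) := by group
            _ = w * g := by rw [← hw, htw]
            _ = g * w := hcomm w hwP g hgP
        have htop := zpowers_eq_top_of_prime_card (G := ↥(P : Subgroup K)) hPcard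
          (g := ⟨g * w, huP⟩) (by intro e; apply hu; exact congrArg Subtype.val e)
        have hmem : (⟨g, hgP⟩ : ↥(P : Subgroup K)) ∈ Subgroup.zpowers (⟨g * w, huP⟩ : ↥(P : Subgroup K)) := by
          rw [htop]; trivial
        obtain ⟨m, hm⟩ := hmem
        have hm' : (g * w) ^ m = g := by
          have := congrArg Subtype.val hm
          simpa using this
        apply hnotcomm
        have h1 : t * (g * w) = (g * w) * t := by
          calc t * (g * w) = (t * (g * w) * t⁻¹) * t := by group
            _ = (g * w) * t := by rw [htu]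
        have h2 : Commute t ((g * w) ^ m) := (Commute.zpow_right h1 m)
        rw [hm'] at h2
        exact h2
  have hNC : Subgroup.normalizer ((P : Subgroup K) : Set K) ≤ Subgroup.centralizer ((P : Subgroup K) : Set K) := by
    rw [hcent]; exact hN
  have hcompl := MonoidHom.ker_transferSylow_isComplement' P hNC
  refine ⟨(MonoidHom.transferSylow P hNC).ker, inferInstance, ?_⟩
  have h1 := hcompl.card_mul_card
  rw [hPcard, hcard] at h1
  exact Nat.eq_of_mul_eq_mul_right hp.pos h1

/-- **K-HA-P3** (253808). -/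
theorem false_of_prim_mersenne {α : Type} [Finite α] (H : Subgroup (Equiv.Perm α)) (hHA : H ≤ altSub α)
    (hprim : MulAction.IsPreprimitive ↥H α) (p a : ℕ) (hp : p.Prime) (hp4 : p % 4 = 3)
    (hn : Nat.card α = p + 1) (hcard : Nat.card H = 2 ^ a * p) (ha : p + 1 < 2 ^ a) : False := by
  classical
  let _ : Fintype α := Fintype.ofFinite α
  have hn' : Fintype.card α = p + 1 := by rw [← Nat.card_eq_fintype_card]; exact hn
  have hD1 : ∀ g : ↥H, orderOf g = p → ∀ h : ↥H, h * g = g * h → h ∈ Subgroup.zpowers g := by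
    intro g hg h hgh
    have hg' : orderOf (g : Equiv.Perm α) = p := by rw [Subgroup.orderOf_coe]; exact hg
    obtain ⟨hc, x0, hx0⟩ := cycle_of_order (g : Equiv.Perm α) p hp hn' hg'
    have hcomm : (h : Equiv.Perm α) * (g : Equiv.Perm α) = (g : Equiv.Perm α) * (h : Equiv.Perm α) := by
      have := congrArg Subtype.val hgh
      simpa using this
    obtain ⟨k, hk⟩ := mem_zpowers_of_commute (g : Equiv.Perm α) (h : Equiv.Perm α) hc x0 hx0 hcomm
    refine ⟨k, ?_⟩
    apply Subtype.ext
    simpa using hk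
  have hD2 : ∀ g : ↥H, orderOf g = p → ∀ t : ↥H, t * t = 1 → t * g * t⁻¹ = g⁻¹ → False := by
    intro g hg t ht2 hinv
    have hg' : orderOf (g : Equiv.Perm α) = p := by rw [Subgroup.orderOf_coe]; exact hg
    have h1 : (t : Equiv.Perm α) * (t : Equiv.Perm α) = 1 := by
      have := congrArg Subtype.val ht2
      simpa using this
    have h2 : (t : Equiv.Perm α) * (g : Equiv.Perm α) * (t : Equiv.Perm α)⁻¹ = (g : Equiv.Perm α)⁻¹ := by
      have := congrArg Subtype.val hinv
      simpa using this
    have hs := sign_of_inverting (g : Equiv.Perm α) (t : Equiv.Perm α) p hp hp4 hn' hg' h1 h2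
    have hmem := hHA t.2
    rw [mem_altSub_iff, hs] at hmem
    exact absurd hmem (by decide)
  obtain ⟨Q, hQn, hQcard⟩ := exists_normal_two_subgroup p a hp hp4 hcard hD1 hD2
  have hQ2 : IsPGroup 2 Q := IsPGroup.of_card hQcard
  have hp2 := hp.two_le
  have : Nontrivial Q := by
    rw [← Finite.one_lt_card_iff_nontrivial, hQcard]; omega
  have : Fact (Nat.Prime 2) := ⟨Nat.prime_two⟩
  have hZnt : Nontrivial (Subgroup.center ↥Q) := hQ2.center_nontrivial
  obtain ⟨Z, hZdef⟩ : ∃ Z : Subgroup ↥H, Z = (Subgroup.center ↥Q).map Q.subtype := ⟨_, rfl⟩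
  have hZn : Z.Normal := by rw [hZdef]; exact ConjAct.normal_of_characteristic_of_normal
  obtain ⟨z0, hz0⟩ := exists_ne (1 : Subgroup.center ↥Q)
  have hz0Z : ((z0 : ↥Q) : ↥H) ∈ Z := by
    rw [hZdef]; exact Subgroup.mem_map_of_mem Q.subtype z0.2
  have hz0ne : ((z0 : ↥Q) : ↥H) ≠ 1 := by
    intro e
    apply hz0
    apply Subtype.ext
    apply Subtype.ext
    exact e
  have hfix : MulAction.fixedPoints Z α ≠ Set.univ := by
    intro e
    apply hz0ne
    apply Subtype.ext
    ext x
    have hx : x ∈ MulAction.fixedPoints Z α := by rw [e]; trivial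
    exact hx ⟨_, hz0Z⟩
  have htr : MulAction.IsPretransitive Z α := MulAction.IsQuasiPreprimitive.isPretransitive_of_normal hfix
  obtain ⟨x1⟩ : Nonempty α := by
    rw [← Finite.card_pos_iff, hn]; omega
  have hreg : ∀ k : ↥H, k ∈ Q → k • x1 = x1 → k = 1 := by
    intro k hkQ hk
    apply Subtype.ext
    ext y
    obtain ⟨z, hz⟩ := MulAction.exists_smul_eq Z x1 y
    have hzZ : (z : ↥H) ∈ (Subgroup.center ↥Q).map Q.subtype := hZdef ▸ z.2
    obtain ⟨c, hc, hcz⟩ := hzZ
    have hcomm : (z : ↥H) * k = k * (z : ↥H) := by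
      have h1 := Subgroup.mem_center_iff.mp hc ⟨k, hkQ⟩
      have h2 := congrArg (fun q : ↥Q => (q : ↥H)) h1
      rw [← hcz]
      simpa using h2.symm
    have hz' : (z : ↥H) • x1 = y := hz
    show k • y = y
    rw [← hz', ← mul_smul, ← hcomm, mul_smul, hk]
  have hinj : Function.Injective (fun q : ↥Q => (q : ↥H) • x1) := by
    intro q1 q2 h12
    have h1 : ((q2⁻¹ * q1 : ↥Q) : ↥H) • x1 = x1 := by
      have h12' : (q1 : ↥H) • x1 = (q2 : ↥H) • x1 := h12
      rw [Subgroup.coe_mul, mul_smul, h12', ← mul_smul, Subgroup.coe_inv, inv_mul_cancel, one_smul]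
    have h2 := hreg _ (q2⁻¹ * q1).2 h1
    have h3 : q2⁻¹ * q1 = 1 := Subtype.ext h2
    exact (inv_mul_eq_one.mp h3).symm
  have hle := Nat.card_le_card_of_injective _ hinj
  rw [hQcard, hn] at hle
  omega

end Cfsg.Agent.Lib.Helper03.HallAlt
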