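import Mathlib
import Cfsg.Prelude.Def_HallClasses
import Cfsg.Agent.Lib.Helper06.HallSym.Keys
import Cfsg.Agent.Lib.Helper38.HallAlt.Main

/-!
# K-HB-U3 (keystone 253823, architect helper38): `typeB8_unique`

`n = 8`, `π ∩ {primes ≤ 8} = {2, 3}`: a Hall `π`-subgroup of `Sym(8)` is the stabiliser of a partition `4 | 4`;
a Hall `π`-subgroup of `Alt(8)` is the intersection of such a stabiliser with `Alt(8)`.
-/

set_option autoImplicit false
open Cfsg
open scoped Pointwise

namespace Cfsg.Agent.Lib.Helper03.HallAlt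
open Cfsg.Agent.Lib.Helper06.HallSym Cfsg.Agent.Lib.Helper38.HallAlt

theorem u3_arith (m h i : ℕ) (hmul : h * i = m * 35) (hc : Nat.Coprime i m) (h5 : ¬ 5 ∣ h) (h7 : ¬ 7 ∣ h) :
    h = m := by
  have hi35 : i ∣ 35 := by
    apply Nat.Coprime.dvd_of_dvd_mul_right hc
    exact ⟨h, by rw [mul_comm 35 m, ← hmul, mul_comm]⟩
  have hle : i ≤ 35 := Nat.le_of_dvd (by norm_num) hi35
  have hpos : 0 < i := Nat.pos_of_dvd_of_pos hi35 (by norm_num)
  interval_cases i <;> omega

theorem u3_coprime (i a b : ℕ) (h2 : ¬ 2 ∣ i) (h3 : ¬ 3 ∣ i) : Nat.Coprime i (2 ^ a * 3 ^ b) := by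
  apply Nat.Coprime.mul_right
  · apply Nat.Coprime.pow_right
    exact ((Nat.Prime.coprime_iff_not_dvd Nat.prime_two).mpr h2).symm
  · apply Nat.Coprime.pow_right
    exact ((Nat.Prime.coprime_iff_not_dvd Nat.prime_three).mpr h3).symm

theorem u3_not_cls_six (π : Set ℕ) (hB : TypeB π 8) : ¬ Cls π 6 := by
  have h2 : 2 ∈ π := (hB.2 2 Nat.prime_two (by norm_num)).mpr (Or.inl rfl)
  have h3 : 3 ∈ π := (hB.2 3 Nat.prime_three (by norm_num)).mpr (Or.inr rfl)
  have h5 : 5 ∉ π := fun h => by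
    have := (hB.2 5 Nat.prime_five (by norm_num)).mp h
    omega
  rintro (hT | hA | hB')
  · rcases hT with hT | hT
    · have := hT 2 3 Nat.prime_two Nat.prime_three (by norm_num) (by norm_num) h2 h3
      omega
    · exact h5 (hT 5 Nat.prime_five (by norm_num))
  · exact absurd hA.1 (by norm_num)
  · have := hB'.1
    omega

theorem u3_not_triv (π : Set ℕ) (hB : TypeB π 8) : ¬ Triv π 8 := by
  have h2 : 2 ∈ π := (hB.2 2 Nat.prime_two (by norm_num)).mpr (Or.inl rfl)
  have h3 : 3 ∈ π := (hB.2 3 Nat.prime_three (by norm_num)).mpr (Or.inr rfl)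
  have h5 : 5 ∉ π := fun h => by
    have := (hB.2 5 Nat.prime_five (by norm_num)).mp h
    omega
  rintro (hT | hT)
  · have := hT 2 3 Nat.prime_two Nat.prime_three (by norm_num) (by norm_num) h2 h3
    omega
  · exact h5 (hT 5 Nat.prime_five (by norm_num))

section geom

variable {α : Type} [Finite α]

/-- a subgroup with a block of size 4 on 8 points stabilises the partition `{B, Bᶜ}` -/
theorem u3_le_stabilizer (h8 : Nat.card α = 8) (H : Subgroup (Equiv.Perm α)) (B : Set α)
    (hB : MulAction.IsBlock ↥H B) (h4 : B.ncard = 4) :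
    H ≤ MulAction.stabilizer (Equiv.Perm α) ({B, Bᶜ} : Set (Set α)) := by
  intro h hh
  rw [MulAction.mem_stabilizer_iff]
  have hc4 : (Bᶜ).ncard = 4 := by
    rw [Set.ncard_compl B (Set.toFinite B), h8, h4]
  have hpair : h • ({B, Bᶜ} : Set (Set α)) = {h • B, (h • B)ᶜ} := by
    rw [← Set.image_smul, Set.image_pair, Set.smul_set_compl]
  rw [hpair]
  rcases hB.smul_eq_or_disjoint ⟨h, hh⟩ with he | hd
  · have he' : h • B = B := he
    rw [he']
  · have hd' : Disjoint (h • B) B := hd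
    have hsub : h • B ⊆ Bᶜ := Set.subset_compl_iff_disjoint_right.mpr hd'
    have heq : h • B = Bᶜ := by
      apply Set.eq_of_subset_of_ncard_le hsub _ (Set.toFinite _)
      rw [hc4, Set.ncard_smul_set, h4]
    rw [heq, compl_compl, Set.pair_comm]

theorem u3_ne_compl (B : Set α) (h4 : B.ncard = 4) : B ≠ Bᶜ := by
  intro e
  have hne : B.Nonempty := by
    rw [← Set.ncard_pos (Set.toFinite B)]; omega
  obtain ⟨x, hx⟩ := hne
  have : x ∈ Bᶜ := e ▸ hx
  exact this hx

/-- the order of the stabiliser of a partition `4 | 4` of 8 points is at most `1152` -/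
theorem u3_card_stabilizer_le (h8 : Nat.card α = 8) (B : Set α) (h4 : B.ncard = 4) :
    Nat.card (MulAction.stabilizer (Equiv.Perm α) ({B, Bᶜ} : Set (Set α))) ≤ 1152 := by
  obtain ⟨K, hK⟩ : ∃ K : Subgroup (Equiv.Perm α),
      K = MulAction.stabilizer (Equiv.Perm α) ({B, Bᶜ} : Set (Set α)) := ⟨_, rfl⟩
  rw [← hK]
  have horb : MulAction.orbit ↥K B ⊆ ({B, Bᶜ} : Set (Set α)) := by
    rintro C ⟨k, rfl⟩
    have hk : (k : Equiv.Perm α) • ({B, Bᶜ} : Set (Set α)) = {B, Bᶜ} := by
      have hk2 : (k : Equiv.Perm α) ∈ MulAction.stabilizer (Equiv.Perm α) ({B, Bᶜ} : Set (Set α)) :=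
        hK ▸ k.2
      exact MulAction.mem_stabilizer_iff.mp hk2
    have : (k : Equiv.Perm α) • B ∈ (k : Equiv.Perm α) • ({B, Bᶜ} : Set (Set α)) :=
      Set.smul_mem_smul_set (Set.mem_insert _ _)
    rw [hk] at this
    exact this
  have h1 : (MulAction.orbit ↥K B).ncard ≤ 2 := by
    have := Set.ncard_le_ncard horb (Set.toFinite _)
    rwa [Set.ncard_pair (u3_ne_compl B h4)] at this
  have h2 : Nat.card (MulAction.stabilizer ↥K B) ≤ 576 := by
    have hinj : Function.Injective
        (fun k : MulAction.stabilizer ↥K B => (⟨((k : ↥K) : Equiv.Perm α), by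
          have := k.2
          rw [MulAction.mem_stabilizer_iff] at this ⊢
          exact this⟩ : MulAction.stabilizer (Equiv.Perm α) B)) := by
      intro k1 k2 h12
      have := congrArg Subtype.val h12
      exact Subtype.ext (Subtype.ext this)
    have := Nat.card_le_card_of_injective _ hinj
    rw [Cfsg.Agent.Lib.Helper20.HallSym.card_stabilizer_set B, h8, h4] at this
    exact this
  have h3 := (MulAction.stabilizer ↥K B).card_mul_index
  rw [MulAction.index_stabilizer] at h3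
  rw [← h3]
  calc Nat.card (MulAction.stabilizer ↥K B) * (MulAction.orbit ↥K B).ncard ≤ 576 * 2 :=
        Nat.mul_le_mul h2 h1
    _ = 1152 := by norm_num

/-- the stabiliser of a partition `4 | 4` contains an odd permutation -/
theorem u3_two_mul_card_inf_le (_h8 : Nat.card α = 8) (B : Set α) (h4 : B.ncard = 4) :
    2 * Nat.card ↥(MulAction.stabilizer (Equiv.Perm α) ({B, Bᶜ} : Set (Set α)) ⊓ altSub α) ≤
      Nat.card (MulAction.stabilizer (Equiv.Perm α) ({B, Bᶜ} : Set (Set α))) := by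
  classical
  let _ := Fintype.ofFinite α
  obtain ⟨K, hK⟩ : ∃ K : Subgroup (Equiv.Perm α),
      K = MulAction.stabilizer (Equiv.Perm α) ({B, Bᶜ} : Set (Set α)) := ⟨_, rfl⟩
  rw [← hK]
  -- a swap inside `B`
  have h1 : 1 < B.ncard := by omega
  rw [Set.one_lt_ncard_iff (Set.toFinite B)] at h1
  obtain ⟨x, y, hx, hy, hxy⟩ := h1
  have hsB : Equiv.swap x y • B = B := by
    ext z
    rw [Set.mem_smul_set_iff_inv_smul_mem, Equiv.swap_inv, Equiv.Perm.smul_def]
    by_cases hzx : z = x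
    · subst hzx; rw [Equiv.swap_apply_left]; exact ⟨fun _ => hx, fun _ => hy⟩
    · by_cases hzy : z = y
      · subst hzy; rw [Equiv.swap_apply_right]; exact ⟨fun _ => hy, fun _ => hx⟩
      · rw [Equiv.swap_apply_of_ne_of_ne hzx hzy]
  have hsK : Equiv.swap x y ∈ K := by
    rw [hK, MulAction.mem_stabilizer_iff, ← Set.image_smul, Set.image_pair, Set.smul_set_compl, hsB]
  have hsA : Equiv.swap x y ∉ altSub α := by
    rw [mem_altSub_iff, Equiv.Perm.sign_swap hxy]
    decide
  have hne1 : (K ⊓ altSub α).relIndex K ≠ 1 := by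
    intro e
    have := Subgroup.relIndex_eq_one.mp e
    exact hsA (this hsK).2
  have h3 := Subgroup.relIndex_mul_relIndex (⊥ : Subgroup (Equiv.Perm α)) (K ⊓ altSub α) K bot_le inf_le_left
  rw [Subgroup.relIndex_bot_left, Subgroup.relIndex_bot_left] at h3
  have hne0 : (K ⊓ altSub α).relIndex K ≠ 0 := by
    intro e
    rw [e, mul_zero] at h3
    exact (Nat.card_pos (α := ↥K)).ne h3
  rw [← h3, mul_comm]
  apply Nat.mul_le_mul_left
  omega

theorem u3_exists_block (H : Subgroup (Equiv.Perm α)) (htr : MulAction.IsPretransitive ↥H α)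
    (hprim : ¬ MulAction.IsPreprimitive ↥H α) :
    ∃ B : Set α, MulAction.IsBlock ↥H B ∧ 1 < B.ncard ∧ B.ncard < Nat.card α := by
  have hex : ∃ B : Set α, MulAction.IsBlock ↥H B ∧ ¬ MulAction.IsTrivialBlock B := by
    by_contra hcon
    apply hprim
    refine { toIsPretransitive := htr, isTrivialBlock_of_isBlock := ?_ }
    intro B hB
    by_contra hnt
    exact hcon ⟨B, hB, hnt⟩
  obtain ⟨B, hB, hBnt⟩ := hex
  have hBns : ¬ B.Subsingleton := fun h => hBnt (Or.inl h)
  have hBnu : B ≠ Set.univ := fun h => hBnt (Or.inr h)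
  refine ⟨B, hB, ?_, ?_⟩
  · rw [Set.one_lt_ncard_iff (Set.toFinite B)]
    rw [Set.not_subsingleton_iff] at hBns
    obtain ⟨a, ha, b, hb, hab⟩ := hBns
    exact ⟨a, b, ha, hb, hab⟩
  · rw [← Set.ncard_univ]
    apply Set.ncard_lt_ncard _ (Set.toFinite _)
    exact Set.ssubset_univ_iff.mpr hBnu

theorem u3_orbit_facts (H : Subgroup (Equiv.Perm α)) (hntr : ¬ MulAction.IsPretransitive ↥H α) (x : α) :
    MulAction.orbit ↥H x ≠ Set.univ ∧ 1 ≤ (MulAction.orbit ↥H x).ncard ∧
      (MulAction.orbit ↥H x).ncard < Nat.card α := by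
  have hΔu : MulAction.orbit ↥H x ≠ Set.univ := by
    intro h
    apply hntr
    refine ⟨fun y z => ?_⟩
    have hy : y ∈ MulAction.orbit ↥H x := h ▸ Set.mem_univ y
    have hz : z ∈ MulAction.orbit ↥H x := h ▸ Set.mem_univ z
    obtain ⟨g1, hg1⟩ := hy
    obtain ⟨g2, hg2⟩ := hz
    refine ⟨g2 * g1⁻¹, ?_⟩
    rw [← hg1, ← hg2, mul_smul, inv_smul_smul]
  refine ⟨hΔu, ?_, ?_⟩
  · rw [Nat.one_le_iff_ne_zero, Ne, Set.ncard_eq_zero (Set.toFinite _)]
    exact Set.nonempty_iff_ne_empty.mp ⟨x, MulAction.mem_orbit_self x⟩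
  · rw [← Set.ncard_univ]
    exact Set.ncard_lt_ncard (Set.ssubset_univ_iff.mpr hΔu) (Set.toFinite _)

theorem u3_choose_even (a : ℕ) (h1 : 1 ≤ a) (h7 : a < 8) : 2 ∣ Nat.choose 8 a := by
  interval_cases a <;> decide

theorem u3_block_size (π : Set ℕ) (hB : TypeB π 8) (h8 : Nat.card α = 8) (B : Set α) (h1 : 1 < B.ncard)
    (b : ℕ) (hb2 : 2 ≤ b) (hab : B.ncard * b = Nat.card α)
    (hEc : IsEPiGroup π (Equiv.Perm ↥(Bᶜ : Set α))) : B.ncard = 4 := by
  rw [h8] at hab
  have hcl := cls_of_hall π hEc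
  rw [Nat.card_coe_set_eq, Set.ncard_compl B (Set.toFinite B), h8] at hcl
  obtain ⟨n, hn⟩ : ∃ n, n = B.ncard := ⟨_, rfl⟩
  rw [← hn] at hab h1 hcl ⊢
  have hle : n ≤ 4 := by nlinarith
  interval_cases n
  · exact absurd hcl (u3_not_cls_six π hB)
  · omega
  · rfl

end geom

/-- **K-HB-U3** (253823). -/
theorem typeB8_unique (A : AKeys) (π : Set ℕ) {α : Type} [Finite α] (h8 : Nat.card α = 8) (hB : TypeB π 8)
    (H : Subgroup (Equiv.Perm α)) :
    (IsPiHall π H → ∃ B : Set α, B.ncard = 4 ∧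
      H = MulAction.stabilizer (Equiv.Perm α) ({B, Bᶜ} : Set (Set α))) ∧
    (AltHall π H → ∃ B : Set α, B.ncard = 4 ∧
      H = MulAction.stabilizer (Equiv.Perm α) ({B, Bᶜ} : Set (Set α)) ⊓ altSub α) := by
  classical
  let _ := Fintype.ofFinite α
  have h2 : 2 ∈ π := (hB.2 2 Nat.prime_two (by norm_num)).mpr (Or.inl rfl)
  have h3 : 3 ∈ π := (hB.2 3 Nat.prime_three (by norm_num)).mpr (Or.inr rfl)
  have h5 : 5 ∉ π := fun h => by
    have := (hB.2 5 Nat.prime_five (by norm_num)).mp h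
    omega
  have h7 : 7 ∉ π := fun h => by
    have := (hB.2 7 (by norm_num) (by norm_num)).mp h
    omega
  have hne : Nonempty α := by
    rw [← Finite.card_pos_iff, h8]; norm_num
  have hnt : Nontrivial α := by
    rw [← Finite.one_lt_card_iff_nontrivial, h8]; norm_num
  have hcardS : Nat.card (Equiv.Perm α) = 1152 * 35 := by
    rw [Nat.card_perm, h8]; decide
  constructor
  · intro hH
    have hcard : Nat.card H = 1152 := by
      apply u3_arith 1152 (Nat.card H) H.index
      · rw [H.card_mul_index, hcardS]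
      · have := u3_coprime H.index 7 2 (hH.2 2 Nat.prime_two h2) (hH.2 3 Nat.prime_three h3)
        norm_num at this ⊢
        exact this
      · intro h; exact h5 (hH.1 5 Nat.prime_five h)
      · intro h; exact h7 (hH.1 7 (by norm_num) h)
    have htr : MulAction.IsPretransitive ↥H α := by
      by_contra hntr
      obtain ⟨x⟩ := hne
      obtain ⟨-, ha1, ha8⟩ := u3_orbit_facts H hntr x
      obtain ⟨-, -, hch, -⟩ := keys.intrans π H hH x
      rw [h8] at ha8 hch
      exact hch 2 Nat.prime_two h2 (u3_choose_even _ ha1 ha8)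
    have hnprim : ¬ MulAction.IsPreprimitive ↥H α := by
      intro hprim
      exact h5 (keys.prim π H hH hprim 2 3 Nat.prime_two Nat.prime_three (by norm_num) h2 h3
        (by omega) (by omega) 5 Nat.prime_five (by omega))
    obtain ⟨B, hBb, h1, h2'⟩ := u3_exists_block H htr hnprim
    obtain ⟨b, hb2, hab, hEc, -, -⟩ := keys.block π H hH htr B hBb h1 h2'
    have h4 : B.ncard = 4 := u3_block_size π hB h8 B h1 b hb2 hab hEc
    refine ⟨B, h4, ?_⟩
    apply Subgroup.eq_of_le_of_card_ge (u3_le_stabilizer h8 H B hBb h4)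
    rw [hcard]
    exact u3_card_stabilizer_le h8 B h4
  · intro hH
    have hcardA : Nat.card (altSub α) = 576 * 35 := by
      have h1 : 2 * Nat.card (altSub α) = 1152 * 35 := by
        rw [altSub_eq, two_mul_nat_card_alternatingGroup, hcardS]
      omega
    have hcard : Nat.card H = 576 := by
      apply u3_arith 576 (Nat.card H) (H.relIndex (altSub α))
      · have h3' := Subgroup.relIndex_mul_relIndex (⊥ : Subgroup (Equiv.Perm α)) H (altSub α) bot_le hH.1
        rw [Subgroup.relIndex_bot_left, Subgroup.relIndex_bot_left] at h3'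
        rw [h3', hcardA]
      · have := u3_coprime (H.relIndex (altSub α)) 6 2 (hH.2.2 2 Nat.prime_two h2)
          (hH.2.2 3 Nat.prime_three h3)
        norm_num at this ⊢
        exact this
      · intro h; exact h5 (hH.2.1 5 Nat.prime_five h)
      · intro h; exact h7 (hH.2.1 7 (by norm_num) h)
    have htr : MulAction.IsPretransitive ↥H α := by
      by_contra hntr
      obtain ⟨x⟩ := hne
      obtain ⟨hΔ, ha1, ha8⟩ := u3_orbit_facts H hntr x
      obtain ⟨-, -, -, -, hch, -⟩ := A.intrans π h2 H hH x hΔ (by omega)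
      rw [h8] at ha8 hch
      exact hch 2 Nat.prime_two h2 (u3_choose_even _ ha1 ha8)
    have hnprim : ¬ MulAction.IsPreprimitive ↥H α := by
      intro hprim
      exact false_of_prim A π h2 H hH hprim (by omega) (h8 ▸ u3_not_triv π hB)
    obtain ⟨B, hBb, h1, h2'⟩ := u3_exists_block H htr hnprim
    obtain ⟨b, hb2, hab, hEc, -, -⟩ := A.block π h2 H hH htr B hBb h1 h2'
    have h4 : B.ncard = 4 := u3_block_size π hB h8 B h1 b hb2 hab hEc
    refine ⟨B, h4, ?_⟩
    apply Subgroup.eq_of_le_of_card_ge (le_inf (u3_le_stabilizer h8 H B hBb h4) hH.1)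
    rw [hcard]
    have e1 := u3_two_mul_card_inf_le h8 B h4
    have e2 := u3_card_stabilizer_le h8 B h4
    omega

end Cfsg.Agent.Lib.Helper03.HallAlt
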