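import Mathlib.GroupTheory.FiniteAbelian.Duality
import Mathlib.RingTheory.RootsOfUnity.AlgebraicallyClosed
import Mathlib.Analysis.Complex.Polynomial.Basic
import Mathlib.GroupTheory.Abelianization.Defs
import Mathlib.GroupTheory.Abelianization.Finite
import Mathlib.GroupTheory.SpecificGroups.Cyclic

set_option autoImplicit false

namespace Cfsg.Agent.Lib.Helper03

/-- A finite cyclic group embeds in `ℂˣ`. -/
theorem exists_injective_monoidHom_units_complex (Z : Type*) [CommGroup Z] [Finite Z] [IsCyclic Z] :
    ∃ ι : Z →* ℂˣ, Function.Injective ι := by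
  have hn : NeZero (Nat.card Z) := ⟨Nat.card_pos.ne'⟩
  have hcard := HasEnoughRootsOfUnity.natCard_rootsOfUnity ℂ (Nat.card Z)
  let e : Z ≃* rootsOfUnity (Nat.card Z) ℂ := mulEquivOfCyclicCardEq hcard.symm
  exact ⟨(rootsOfUnity (Nat.card Z) ℂ).subtype.comp e.toMonoidHom,
    (Subgroup.subtype_injective _).comp e.injective⟩

/-- The number of homomorphisms from a finite group into a finite cyclic group is at most the
index of the derived subgroup. -/
theorem card_monoidHom_le_index_commutator (E Z : Type*) [Group E] [Finite E] [CommGroup Z]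
    [Finite Z] [IsCyclic Z] : Nat.card (E →* Z) ≤ (commutator E).index := by
  obtain ⟨ι, hι⟩ := exists_injective_monoidHom_units_complex Z
  have hne : NeZero (Monoid.exponent (Abelianization E)) :=
    ⟨Monoid.exponent_ne_zero_of_finite⟩
  have h1 : Nat.card (Abelianization E →* ℂˣ) = Nat.card (Abelianization E) :=
    CommGroup.card_monoidHom_of_hasEnoughRootsOfUnity (Abelianization E) ℂ
  have h2 : Nat.card (Abelianization E) = (commutator E).index := rfl
  let f : (E →* Z) → (Abelianization E →* ℂˣ) := fun φ => Abelianization.lift (ι.comp φ)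
  have hf : Function.Injective f := by
    intro φ ψ h
    have h' : ι.comp φ = ι.comp ψ := Abelianization.lift.injective h
    ext x
    apply hι
    exact DFunLike.congr_fun h' x
  calc Nat.card (E →* Z) ≤ Nat.card (Abelianization E →* ℂˣ) :=
        Nat.card_le_card_of_injective f hf
    _ = (commutator E).index := by rw [h1, h2]

end Cfsg.Agent.Lib.Helper03
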