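import Mathlib

set_option autoImplicit false

/-!
Counting lemmas for an endomorphism `κ` of a finite (abelian) group: kernel, image, iterated kernels.
-/

namespace Cfsg.Agent.Lib.Helper03.KappaEnd

variable {A : Type*} [Group A]

theorem relIndex_mul_card {H K : Subgroup A} (hHK : H ≤ K) :
    H.relIndex K * Nat.card H = Nat.card K := by
  have h1 := Subgroup.card_mul_index (H.subgroupOf K)
  have h2 : Nat.card (H.subgroupOf K) = Nat.card H :=
    Nat.card_congr (Subgroup.subgroupOfEquivOfLe hHK).toEquiv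
  rw [h2, mul_comm] at h1
  exact h1

/-- (K-a) `|ker κ ∩ im κ| = |κ⁻¹(ker κ) : ker κ|`. -/
theorem card_ker_inf_range (κ : A →* A) :
    Nat.card ↥(κ.ker ⊓ κ.range) = κ.ker.relIndex (κ.ker.comap κ) := by
  set K₂ := κ.ker.comap κ with hK₂
  have h1 : (κ.comp K₂.subtype).ker = κ.ker.subgroupOf K₂ := rfl
  have h2 : (κ.comp K₂.subtype).range = κ.ker ⊓ κ.range := by
    rw [MonoidHom.range_comp, Subgroup.range_subtype, hK₂, Subgroup.map_comap_eq, inf_comm]
  have h3 := Subgroup.index_ker (κ.comp K₂.subtype)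
  rw [h1, h2] at h3
  exact h3.symm

/-- (K-b) `|A : ker κ · im κ| = |ker κ ∩ im κ|`. -/
theorem index_ker_sup_range [Finite A] (κ : A →* A) :
    (κ.ker ⊔ κ.range).index = Nat.card ↥(κ.ker ⊓ κ.range) := by
  have e1 : κ.ker.relIndex (κ.ker ⊔ κ.range) = (κ.ker ⊓ κ.range).relIndex κ.range := by
    rw [Subgroup.relIndex_sup_left, Subgroup.inf_relIndex_right]
  have e2 : κ.ker.relIndex (κ.ker ⊔ κ.range) * (κ.ker ⊔ κ.range).index = Nat.card κ.range := by
    rw [Subgroup.relIndex_mul_index le_sup_left, Subgroup.index_ker]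
  have e3 : (κ.ker ⊓ κ.range).relIndex κ.range * Nat.card ↥(κ.ker ⊓ κ.range) = Nat.card κ.range :=
    relIndex_mul_card inf_le_right
  rw [e1, ← e3] at e2
  have hne : (κ.ker ⊓ κ.range).relIndex κ.range ≠ 0 := by
    intro h0
    rw [h0, zero_mul] at e3
    exact Nat.card_pos.ne' e3.symm
  exact Nat.eq_of_mul_eq_mul_left (Nat.pos_of_ne_zero hne) e2

/-- (K-c) -/
theorem relIndex_comap_dvd (hcomm : ∀ a b : A, a * b = b * a) (κ : A →* A) (H L : Subgroup A)
    (hHL : H ≤ L) : (H.comap κ).relIndex (L.comap κ) ∣ H.relIndex L := by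
  have hn : H.Normal := ⟨fun n hn g => by rw [hcomm g n, mul_inv_cancel_right]; exact hn⟩
  rw [Subgroup.relIndex_comap, Subgroup.map_comap_eq]
  rw [← Subgroup.relIndex_sup_right (κ.range ⊓ L) H]
  have h1 : H ≤ κ.range ⊓ L ⊔ H := le_sup_right
  have h2 : κ.range ⊓ L ⊔ H ≤ L := sup_le inf_le_right hHL
  exact Dvd.intro _ (Subgroup.relIndex_mul_relIndex H _ L h1 h2)

/-- The iterated kernels `K j = ker (κ ^ j)`. -/
def iterKer (κ : A →* A) : ℕ → Subgroup A
  | 0 => ⊥
  | j + 1 => (iterKer κ j).comap κ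

theorem iterKer_one (κ : A →* A) : iterKer κ 1 = κ.ker := MonoidHom.comap_bot κ

theorem iterKer_two (κ : A →* A) : iterKer κ 2 = κ.ker.comap κ := by
  show (iterKer κ 1).comap κ = _
  rw [iterKer_one]

theorem iterKer_le_succ (κ : A →* A) (j : ℕ) : iterKer κ j ≤ iterKer κ (j + 1) := by
  induction j with
  | zero => exact bot_le
  | succ j ih => exact Subgroup.comap_mono ih

theorem iterKer_mono (κ : A →* A) : Monotone (iterKer κ) :=
  monotone_nat_of_le_succ (iterKer_le_succ κ)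

theorem mem_iterKer_succ (κ : A →* A) (j : ℕ) (a : A) :
    a ∈ iterKer κ (j + 1) ↔ κ^[j] a ∈ κ.ker := by
  induction j generalizing a with
  | zero => rw [iterKer_one]; rfl
  | succ j ih =>
    show κ a ∈ iterKer κ (j + 1) ↔ _
    rw [ih, Function.iterate_succ_apply]

theorem relIndex_iterKer_dvd (hcomm : ∀ a b : A, a * b = b * a) (κ : A →* A) {p : ℕ}
    (h : κ.ker.relIndex (κ.ker.comap κ) ∣ p) (j : ℕ) :
    (iterKer κ (j + 1)).relIndex (iterKer κ (j + 2)) ∣ p := by
  induction j with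
  | zero => rw [iterKer_one, iterKer_two]; exact h
  | succ j ih =>
    exact (relIndex_comap_dvd hcomm κ _ _ (iterKer_le_succ κ (j + 1))).trans ih

theorem relIndex_iterKer_dvd_pow (hcomm : ∀ a b : A, a * b = b * a) (κ : A →* A) {p : ℕ}
    (h : κ.ker.relIndex (κ.ker.comap κ) ∣ p) (n : ℕ) :
    κ.ker.relIndex (iterKer κ (n + 1)) ∣ p ^ n := by
  induction n with
  | zero => rw [iterKer_one, Subgroup.relIndex_self, pow_zero]
  | succ n ih =>
    have h1 : κ.ker ≤ iterKer κ (n + 1) := by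
      rw [← iterKer_one]; exact iterKer_mono κ (by omega)
    rw [← Subgroup.relIndex_mul_relIndex _ _ _ h1 (iterKer_le_succ κ (n + 1)), pow_succ]
    exact Nat.mul_dvd_mul ih (relIndex_iterKer_dvd hcomm κ h n)

/-- (K-d) if `|K₂ : K₁| ∣ p` and `κ^(n+1) = 1` then `|A : ker κ| ∣ p ^ n`. -/
theorem index_ker_dvd_pow (hcomm : ∀ a b : A, a * b = b * a) (κ : A →* A) {p : ℕ}
    (h : κ.ker.relIndex (κ.ker.comap κ) ∣ p) (n : ℕ) (hn : ∀ a : A, κ^[n] a ∈ κ.ker) :
    κ.ker.index ∣ p ^ n := by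
  have htop : iterKer κ (n + 1) = ⊤ := by
    rw [eq_top_iff]
    intro a _
    rw [mem_iterKer_succ]
    exact hn a
  have := relIndex_iterKer_dvd_pow hcomm κ h n
  rwa [htop, Subgroup.relIndex_top_right] at this

end Cfsg.Agent.Lib.Helper03.KappaEnd
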