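import Mathlib

/-!
# Pack K-3806 (S3806), leaf B (keystone 380602): the norm identity.

`T` abelian normal, `s ∈ G`, `δ y = s⁻¹ y s y⁻¹` nilpotent of index `< p` on `T`; if `(s x)^p = s^p` then `x^p = 1`.
-/

set_option autoImplicit false

namespace Cfsg.Agent.Lib.Helper03.MC3806

open Finset

/-- `∑_{i<k} (1+d)^i = ∑_{l<k} d^l C(k,l+1)` in any ring -/
theorem b_geom_sum {R : Type*} [Ring R] (d : R) (k : ℕ) :
    ∑ i ∈ range k, (d + 1) ^ i = ∑ l ∈ range k, d ^ l * ((Nat.choose k (l + 1) : ℕ) : R) := by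
  induction k with
  | zero => simp
  | succ k ih =>
    rw [Finset.sum_range_succ, ih]
    have h1 : ∑ l ∈ range (k + 1), d ^ l * ((Nat.choose (k + 1) (l + 1) : ℕ) : R) =
        ∑ l ∈ range (k + 1), d ^ l * ((Nat.choose k l : ℕ) : R) +
          ∑ l ∈ range (k + 1), d ^ l * ((Nat.choose k (l + 1) : ℕ) : R) := by
      rw [← Finset.sum_add_distrib]
      apply Finset.sum_congr rfl
      intro l _
      rw [Nat.choose_succ_succ, Nat.cast_add, mul_add]
    have h2 : ∑ l ∈ range (k + 1), d ^ l * ((Nat.choose k (l + 1) : ℕ) : R) =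
        ∑ l ∈ range k, d ^ l * ((Nat.choose k (l + 1) : ℕ) : R) := by
      rw [Finset.sum_range_succ, Nat.choose_succ_self, Nat.cast_zero, mul_zero, add_zero]
    have h3 : (d + 1) ^ k = ∑ l ∈ range (k + 1), d ^ l * ((Nat.choose k l : ℕ) : R) := by
      rw [(Commute.one_right d).add_pow]
      apply Finset.sum_congr rfl
      intro l _
      rw [one_pow, mul_one]
    rw [h1, h2, h3, add_comm]

/-- the additive core -/
theorem b_core {A : Type*} [AddCommGroup A] (p : ℕ) (hp : p.Prime) (δ : AddMonoid.End A)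
    (hδ : δ ^ (p - 1) = 0) (y : A) (hN : (∑ i ∈ range p, (δ + 1) ^ i) y = 0) : p • y = 0 := by
  have hp1 : 1 ≤ p := hp.one_lt.le
  -- high powers kill everything
  have hz : ∀ j, p - 1 ≤ j → ∀ a : A, (δ ^ j) a = 0 := by
    intro j hj a
    have : δ ^ j = δ ^ (j - (p - 1)) * δ ^ (p - 1) := by
      rw [← pow_add]; congr 1; omega
    rw [this, hδ, mul_zero]
    rfl
  -- the expanded relation, hit with `δ^j`
  have hrel : ∀ j, ∑ l ∈ range p, (Nat.choose p (l + 1)) • ((δ ^ (j + l)) y) = 0 := by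
    intro j
    have h1 : (δ ^ j * ∑ i ∈ range p, (δ + 1) ^ i) y = 0 := by
      show (δ ^ j) ((∑ i ∈ range p, (δ + 1) ^ i) y) = 0
      rw [hN, map_zero]
    rw [b_geom_sum, Finset.mul_sum] at h1
    have h2 : (∑ l ∈ range p, δ ^ j * (δ ^ l * ((Nat.choose p (l + 1) : ℕ) : AddMonoid.End A))) y =
        ∑ l ∈ range p, (δ ^ j * (δ ^ l * ((Nat.choose p (l + 1) : ℕ) : AddMonoid.End A))) y :=
      AddMonoidHom.finsetSum_apply _ _ _
    rw [h2] at h1
    rw [← h1]
    apply Finset.sum_congr rfl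
    intro l _
    rw [← mul_assoc, ← pow_add]
    show (Nat.choose p (l + 1)) • ((δ ^ (j + l)) y) =
      (δ ^ (j + l)) ((((Nat.choose p (l + 1) : ℕ) : AddMonoid.End A)) y)
    rw [AddMonoid.End.natCast_apply, map_nsmul]
  -- downward induction
  have key : ∀ n j, p - 1 ≤ j + n → p • ((δ ^ j) y) = 0 := by
    intro n
    induction n with
    | zero =>
      intro j hj
      rw [hz j (by omega), smul_zero]
    | succ n ih =>
      intro j hj
      have h := hrel j
      obtain ⟨p', rfl⟩ : ∃ p', p = p' + 1 := ⟨p - 1, by omega⟩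
      rw [Finset.sum_range_succ'] at h
      have hrest : ∑ l ∈ range p', (Nat.choose (p' + 1) (l + 1 + 1)) • ((δ ^ (j + (l + 1))) y) = 0 := by
        apply Finset.sum_eq_zero
        intro l hl
        have hl' : l < p' := Finset.mem_range.mp hl
        by_cases hlast : l + 1 + 1 < p' + 1
        · obtain ⟨c, hc⟩ := hp.dvd_choose_self (k := l + 1 + 1) (by omega) hlast
          rw [hc, mul_comm, mul_smul, ih (j + (l + 1)) (by omega), smul_zero]
        · rw [hz (j + (l + 1)) (by omega), smul_zero]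
      rw [hrest, zero_add, add_zero] at h
      simpa using h
  have := key (p - 1) 0 (by omega)
  simpa using this

/-- multiplicative wrapper -/
theorem b_coreM {M : Type*} [CommGroup M] (p : ℕ) (hp : p.Prime) (σ : M →* M)
    (hδ : ∀ t : M, (fun y : M => σ y * y⁻¹)^[p - 1] t = 1)
    (X : M) (hN : ∏ i ∈ range p, (σ^[i]) X = 1) : X ^ p = 1 := by
  let σa : AddMonoid.End (Additive M) := MonoidHom.toAdditive σ
  have hσa : ∀ t : M, σa (Additive.ofMul t) = Additive.ofMul (σ t) := fun t => rfl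
  let δ : AddMonoid.End (Additive M) := σa - 1
  have hδa : ∀ t : M, δ (Additive.ofMul t) = Additive.ofMul (σ t * t⁻¹) := by
    intro t
    show σa (Additive.ofMul t) - Additive.ofMul t = _
    rw [hσa, ← ofMul_div, div_eq_mul_inv]
  have hiter : ∀ (k : ℕ) (t : M), (δ ^ k) (Additive.ofMul t) =
      Additive.ofMul ((fun y : M => σ y * y⁻¹)^[k] t) := by
    intro k
    induction k with
    | zero => intro t; rfl
    | succ k ih =>
      intro t
      rw [pow_succ', Function.iterate_succ_apply']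
      show δ ((δ ^ k) (Additive.ofMul t)) = _
      rw [ih, hδa]
  have hσiter : ∀ (k : ℕ) (t : M), (σa ^ k) (Additive.ofMul t) = Additive.ofMul ((σ^[k]) t) := by
    intro k
    induction k with
    | zero => intro t; rfl
    | succ k ih =>
      intro t
      rw [pow_succ', Function.iterate_succ_apply']
      show σa ((σa ^ k) (Additive.ofMul t)) = _
      rw [ih, hσa]
  have h1 : δ ^ (p - 1) = 0 := by
    refine DFunLike.ext _ _ (fun z => ?_)
    obtain ⟨t, rfl⟩ : ∃ t : M, Additive.ofMul t = z := ⟨Additive.toMul z, rfl⟩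
    rw [hiter, hδ]
    rfl
  have h2 : (∑ i ∈ range p, (δ + 1) ^ i) (Additive.ofMul X) = 0 := by
    have hd1 : δ + 1 = σa := sub_add_cancel σa 1
    rw [hd1]
    have : (∑ i ∈ range p, σa ^ i) (Additive.ofMul X) = ∑ i ∈ range p, (σa ^ i) (Additive.ofMul X) :=
      AddMonoidHom.finsetSum_apply _ _ _
    rw [this]
    have h3 : ∑ i ∈ range p, (σa ^ i) (Additive.ofMul X) = ∑ i ∈ range p, Additive.ofMul ((σ^[i]) X) :=
      Finset.sum_congr rfl (fun i _ => hσiter i X)
    rw [h3, ← ofMul_prod, hN]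
    rfl
  have h4 := b_core p hp δ h1 (Additive.ofMul X) h2
  have h5 : Additive.ofMul (X ^ p) = 0 := by
    rw [ofMul_pow]; exact h4
  exact h5

/-- LEAF B (norm identity) -/
theorem pow_eq_one_of_mul_pow_eq {G : Type*} [Group G] (p : ℕ) (hp : p.Prime) (T : Subgroup G) [T.Normal]
    (hT : ∀ a ∈ T, ∀ b ∈ T, a * b = b * a) (s : G)
    (hd : ∀ x ∈ T, (fun y : G => s⁻¹ * y * s * y⁻¹)^[p - 1] x = 1)
    (x : G) (hx : x ∈ T) (h : (s * x) ^ p = s ^ p) : x ^ p = 1 := by
  have hnorm : ∀ y ∈ T, s⁻¹ * y * s ∈ T := by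
    intro y hy
    have := (inferInstance : T.Normal).conj_mem y hy s⁻¹
    rwa [inv_inv] at this
  let _inst : CommGroup ↥T :=
    { (inferInstance : Group ↥T) with
      mul_comm := fun a b => Subtype.ext (hT a a.2 b b.2) }
  let σ : ↥T →* ↥T :=
    { toFun := fun y => ⟨s⁻¹ * y * s, hnorm y y.2⟩
      map_one' := by
        apply Subtype.ext
        simp
      map_mul' := by
        intro a b
        apply Subtype.ext
        simp only [Subgroup.coe_mul]
        group }
  have hσ : ∀ t : ↥T, ((σ t : ↥T) : G) = s⁻¹ * t * s := fun t => rfl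
  -- iterates of the commutator map
  have hit : ∀ (k : ℕ) (t : ↥T),
      (((fun y : ↥T => σ y * y⁻¹)^[k] t : ↥T) : G) = (fun y : G => s⁻¹ * y * s * y⁻¹)^[k] (t : G) := by
    intro k
    induction k with
    | zero => intro t; rfl
    | succ k ih =>
      intro t
      rw [Function.iterate_succ_apply', Function.iterate_succ_apply', ← ih]
      rfl
  have h1 : ∀ t : ↥T, (fun y : ↥T => σ y * y⁻¹)^[p - 1] t = 1 := by
    intro t
    apply Subtype.ext
    rw [hit, hd _ t.2]
    rfl
  -- the norm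
  have hpow : ∀ k : ℕ, (s * x) ^ k = s ^ k * ((∏ i ∈ range k, (σ^[i]) ⟨x, hx⟩ : ↥T) : G) := by
    intro k
    induction k with
    | zero => simp
    | succ k ih =>
      have hprod : ∏ i ∈ range (k + 1), (σ^[i]) (⟨x, hx⟩ : ↥T) =
          σ (∏ i ∈ range k, (σ^[i]) (⟨x, hx⟩ : ↥T)) * ⟨x, hx⟩ := by
        rw [Finset.prod_range_succ', map_prod]
        congr 1
        apply Finset.prod_congr rfl
        intro i _
        rw [Function.iterate_succ_apply']
      rw [pow_succ, ih, hprod, Subgroup.coe_mul, hσ, pow_succ]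
      simp only [mul_assoc]
      congr 1
      simp only [← mul_assoc]
      rw [mul_inv_cancel, one_mul]
  have h2 : ∏ i ∈ range p, (σ^[i]) (⟨x, hx⟩ : ↥T) = 1 := by
    apply Subtype.ext
    have := hpow p
    rw [h] at this
    have h3 : s ^ p * 1 = s ^ p * ((∏ i ∈ range p, (σ^[i]) ⟨x, hx⟩ : ↥T) : G) := by
      rw [mul_one]; exact this
    exact (mul_left_cancel h3).symm
  have h3 := b_coreM p hp σ h1 ⟨x, hx⟩ h2
  have := congrArg (fun t : ↥T => (t : G)) h3
  simpa using this

end Cfsg.Agent.Lib.Helper03.MC3806
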