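import Mathlib.GroupTheory.Sylow
import Mathlib.GroupTheory.Nilpotent
import Mathlib.GroupTheory.PGroup
import Mathlib.Data.Nat.Factorization.Basic

set_option autoImplicit false

namespace Cfsg.Agent.Lib.Helper03

open scoped commutatorElement

/-- In a finite nilpotent group, a Sylow subgroup together with its centralizer generates the
whole group. -/
theorem sylow_sup_centralizer_eq_top_of_isNilpotent {G : Type*} [Group G] [Finite G]
    [Group.IsNilpotent G] {p : ℕ} [Fact p.Prime] (Q : Sylow p G) :
    (Q : Subgroup G) ⊔ Subgroup.centralizer ((Q : Subgroup G) : Set G) = ⊤ := by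
  have hQn : (Q : Subgroup G).Normal := inferInstance
  set L := (Q : Subgroup G) ⊔ Subgroup.centralizer ((Q : Subgroup G) : Set G) with hL
  have key : ∀ (q : ℕ) [Fact q.Prime] (S : Sylow q G), (S : Subgroup G) ≤ L := by
    intro q _ S
    by_cases hqp : q = p
    · subst hqp
      obtain ⟨g, rfl⟩ := MulAction.exists_smul_eq G Q S
      rw [Sylow.smul_eq_of_normal]
      exact le_sup_left
    · have hSn : (S : Subgroup G).Normal := inferInstance
      have hdisj : Disjoint (S : Subgroup G) (Q : Subgroup G) :=
        IsPGroup.disjoint_of_ne q p hqp _ _ S.2 Q.2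
      refine le_trans ?_ le_sup_right
      intro s hs
      rw [Subgroup.mem_centralizer_iff]
      intro x hx
      have h1 : ⁅s, x⁆ ∈ (S : Subgroup G) := by
        have : ⁅s, x⁆ = s * (x * s⁻¹ * x⁻¹) := by rw [commutatorElement_def]; group
        rw [this]
        exact mul_mem hs (hSn.conj_mem _ (inv_mem hs) x)
      have h2 : ⁅s, x⁆ ∈ (Q : Subgroup G) := by
        have : ⁅s, x⁆ = (s * x * s⁻¹) * x⁻¹ := by rw [commutatorElement_def]
        rw [this]
        exact mul_mem (hQn.conj_mem _ hx s) (inv_mem hx)
      have h3 : ⁅s, x⁆ = 1 := by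
        have := Subgroup.disjoint_def.mp hdisj h1 h2
        exact this
      exact (commutatorElement_eq_one_iff_mul_comm.mp h3).symm
  apply Subgroup.eq_top_of_le_card
  apply Nat.le_of_dvd Nat.card_pos
  rw [Nat.dvd_iff_prime_pow_dvd_dvd]
  intro q k hq hqk
  have : Fact q.Prime := ⟨hq⟩
  let S : Sylow q G := default
  exact dvd_trans (S.pow_dvd_card_of_pow_dvd_card hqk) (Subgroup.card_dvd_of_le (key q S))

end Cfsg.Agent.Lib.Helper03
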