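import Mathlib
import Cfsg.Agent.Lib.Helper41.Conj
import Cfsg.Agent.Lib.Helper41.Alperin
import Cfsg.Agent.Lib.Helper41.Control
import Cfsg.Agent.Lib.Helper40.OmegaLemma
import Cfsg.Agent.Lib.Helper03.BadPair

set_option autoImplicit false

/-!
# Control of strong fusion and normal subgroups

* `CtrlN N Q U`: `N ∩ N_G(U)` controls strong `N`-fusion in `Q`.
* `ctrlN_sup`, `ctrlN_lc`, `ctrlN_closure_conj`: this property passes to joins and conjugates.
* `controls_of_normal`: if `N ⊴ G`, `P` Sylow in `G`, `Q = P ∩ N`, `N_G(Q) ≤ H` and `H ∩ N` controls strong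
  `N`-fusion in `Q`, then `H` controls strong `G`-fusion in `P`.
-/

namespace Cfsg.Agent.Lib.Helper03

open Cfsg.Agent.Lib.Helper41
open scoped Pointwise

variable {G : Type*} [Group G]

/-- an element normalizing `A` and `B` normalizes `A ⊔ B`. -/
theorem mem_normalizer_sup' {A B : Subgroup G} {n : G}
    (hA : n ∈ Subgroup.normalizer (A : Set G)) (hB : n ∈ Subgroup.normalizer (B : Set G)) :
    n ∈ Subgroup.normalizer ((A ⊔ B : Subgroup G) : Set G) := by
  rw [mem_normalizer_iff_lc] at hA hB ⊢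
  have : lc n (A ⊔ B) = lc n A ⊔ lc n B := Subgroup.map_sup _ _ _
  rw [this, hA, hB]

/-- conjugating a centralizing element. -/
theorem conj_mem_centralizer_lc {A : Subgroup G} {y c : G}
    (hc : c ∈ Subgroup.centralizer (A : Set G)) :
    y * c * y⁻¹ ∈ Subgroup.centralizer ((lc y A : Subgroup G) : Set G) := by
  rw [Subgroup.mem_centralizer_iff] at hc ⊢
  intro a ha
  have ha' : y⁻¹ * a * y ∈ A := mem_lc.mp ha
  have := hc _ ha'
  calc a * (y * c * y⁻¹) = y * ((y⁻¹ * a * y) * c) * y⁻¹ := by group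
    _ = y * (c * (y⁻¹ * a * y)) * y⁻¹ := by rw [this]
    _ = y * c * y⁻¹ * a := by group

/-- `N ∩ N_G(U)` controls strong `N`-fusion in `Q`. -/
def CtrlN (N Q U : Subgroup G) : Prop :=
  ∀ A : Subgroup G, A ≤ Q → ∀ n ∈ N, lc n A ≤ Q →
    ∃ h ∈ N ⊓ Subgroup.normalizer (U : Set G), ∃ c ∈ N ⊓ Subgroup.centralizer (A : Set G), n = h * c

theorem ctrlN_bot (N Q : Subgroup G) : CtrlN N Q ⊥ := by
  intro A _ n hn _
  refine ⟨n, Subgroup.mem_inf.mpr ⟨hn, ?_⟩, 1, one_mem _, (mul_one n).symm⟩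
  rw [mem_normalizer_iff_lc]
  exact Subgroup.map_bot _

theorem ctrlN_sup {N Q U₁ U₂ : Subgroup G} (hU₁ : U₁ ≤ Q) (h₁ : CtrlN N Q U₁) (h₂ : CtrlN N Q U₂) :
    CtrlN N Q (U₁ ⊔ U₂) := by
  intro A hA n hn hnA
  obtain ⟨a, ha, c₁, hc₁, rfl⟩ := h₁ A hA n hn hnA
  obtain ⟨haN, haU⟩ := Subgroup.mem_inf.mp ha
  obtain ⟨hc₁N, hc₁A⟩ := Subgroup.mem_inf.mp hc₁
  -- `a` conjugates `A` as `a * c₁` does
  have hlc : lc a A = lc (a * c₁) A := by
    rw [lc_mul]
    congr 1
    symm
    rw [← mem_normalizer_iff_lc]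
    exact Subgroup.centralizer_le_normalizer _ hc₁A
  have haA : lc a (A ⊔ U₁) ≤ Q := by
    have : lc a (A ⊔ U₁) = lc a A ⊔ lc a U₁ := Subgroup.map_sup _ _ _
    rw [this, mem_normalizer_iff_lc.mp haU, hlc]
    exact sup_le hnA hU₁
  obtain ⟨b, hb, c₂, hc₂, hab⟩ := h₂ (A ⊔ U₁) (sup_le hA hU₁) a haN haA
  obtain ⟨hbN, hbU⟩ := Subgroup.mem_inf.mp hb
  obtain ⟨hc₂N, hc₂A⟩ := Subgroup.mem_inf.mp hc₂
  have hc₂A' : c₂ ∈ Subgroup.centralizer (A : Set G) :=
    Subgroup.centralizer_le (show (A : Set G) ⊆ ((A ⊔ U₁ : Subgroup G) : Set G) from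
      (le_sup_left : A ≤ A ⊔ U₁)) hc₂A
  have hc₂U : c₂ ∈ Subgroup.normalizer (U₁ : Set G) :=
    Subgroup.centralizer_le_normalizer _ (Subgroup.centralizer_le
      (show (U₁ : Set G) ⊆ ((A ⊔ U₁ : Subgroup G) : Set G) from (le_sup_right : U₁ ≤ A ⊔ U₁)) hc₂A)
  have hbU₁ : b ∈ Subgroup.normalizer (U₁ : Set G) := by
    have : b = a * c₂⁻¹ := by rw [hab]; group
    rw [this]
    exact mul_mem haU (inv_mem hc₂U)
  refine ⟨b, Subgroup.mem_inf.mpr ⟨hbN, mem_normalizer_sup' hbU₁ hbU⟩, c₂ * c₁,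
    Subgroup.mem_inf.mpr ⟨mul_mem hc₂N hc₁N, mul_mem hc₂A' hc₁A⟩, ?_⟩
  rw [hab]; group

theorem ctrlN_lc {N Q V : Subgroup G} [N.Normal] (h : CtrlN N Q V) {y : G}
    (hy : y ∈ Subgroup.normalizer (Q : Set G)) : CtrlN N Q (lc y V) := by
  intro A hA n hn hnA
  have hyQ : lc y⁻¹ Q = Q := mem_normalizer_iff_lc.mp (inv_mem hy)
  have hA' : lc y⁻¹ A ≤ Q := by rw [← hyQ]; exact lc_mono hA
  have hn' : y⁻¹ * n * y ∈ N := by
    have := ‹N.Normal›.conj_mem n hn y⁻¹
    simpa using this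
  have hnA' : lc (y⁻¹ * n * y) (lc y⁻¹ A) ≤ Q := by
    rw [← lc_mul]
    have e : y⁻¹ * n * y * y⁻¹ = y⁻¹ * n := by group
    rw [e, lc_mul, ← hyQ]
    exact lc_mono hnA
  obtain ⟨a, ha, c, hc, hac⟩ := h _ hA' _ hn' hnA'
  obtain ⟨haN, haV⟩ := Subgroup.mem_inf.mp ha
  obtain ⟨hcN, hcA⟩ := Subgroup.mem_inf.mp hc
  refine ⟨y * a * y⁻¹, Subgroup.mem_inf.mpr ⟨‹N.Normal›.conj_mem a haN y, ?_⟩, y * c * y⁻¹,
    Subgroup.mem_inf.mpr ⟨‹N.Normal›.conj_mem c hcN y, ?_⟩, ?_⟩
  · rw [normalizer_lc]; exact conj_mem_lc haV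
  · have := conj_mem_centralizer_lc (y := y) hcA
    rw [← lc_mul] at this
    simpa using this
  · have : n = y * (y⁻¹ * n * y) * y⁻¹ := by group
    rw [this, hac]; group

/-- `N`-control passes to the subgroup generated by the `N_G(Q)`-conjugates of `V`. -/
theorem ctrlN_closure_conj [Finite G] {N Q V : Subgroup G} [N.Normal] (hVQ : V ≤ Q) (h : CtrlN N Q V) :
    CtrlN N Q (Subgroup.closure (⋃ x ∈ Subgroup.normalizer (Q : Set G), ((lc x V : Subgroup G) : Set G))) := by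
  set W := Subgroup.closure (⋃ x ∈ Subgroup.normalizer (Q : Set G), ((lc x V : Subgroup G) : Set G)) with hW
  -- take a subgroup `U ≤ W`, `U ≤ Q` with `CtrlN` of largest order
  let 𝒰 := {U : Subgroup G // U ≤ W ∧ U ≤ Q ∧ CtrlN N Q U}
  haveI : Nonempty 𝒰 := ⟨⟨⊥, bot_le, bot_le, ctrlN_bot N Q⟩⟩
  obtain ⟨⟨U, hUW, hUQ, hU⟩, hmax⟩ := Finite.exists_max (fun U : 𝒰 => Nat.card U.1)
  have hle : W ≤ U := by
    rw [hW, Subgroup.closure_le]
    intro z hz
    simp only [Set.mem_iUnion] at hz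
    obtain ⟨x, hx, hz⟩ := hz
    have hxV : lc x V ≤ U := by
      by_contra hcon
      have hxQ : lc x V ≤ Q := by
        rw [← mem_normalizer_iff_lc.mp hx]; exact lc_mono hVQ
      have hxW : lc x V ≤ W := by
        rw [hW]
        intro v hv
        apply Subgroup.subset_closure
        simp only [Set.mem_iUnion]
        exact ⟨x, hx, hv⟩
      have hlt : U < U ⊔ lc x V := left_lt_sup.mpr hcon
      have := hmax ⟨U ⊔ lc x V, sup_le hUW hxW, sup_le hUQ hxQ, ctrlN_sup hUQ hU (ctrlN_lc h hx)⟩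
      exact absurd (card_lt_card_of_lt' hlt) (not_lt.mpr this)
    exact hxV hz
  have : U = W := le_antisymm hUW hle
  rw [← this]
  exact hU

/-! ### Control of a single conjugation -/

/-- `x` acts on `T` by (right) conjugation as some element of `H` does. -/
def Ctl (H T : Subgroup G) (x : G) : Prop :=
  ∃ y ∈ H, ∀ t ∈ T, y⁻¹ * t * y = x⁻¹ * t * x

theorem conj_inv_mem_of_mem_normalizer {T : Subgroup G} {x t : G}
    (hx : x ∈ Subgroup.normalizer (T : Set G)) (ht : t ∈ T) : x⁻¹ * t * x ∈ T := by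
  have := (Subgroup.mem_normalizer_iff.mp (inv_mem hx) t).mp ht
  simpa using this

theorem conj_mem_of_mem_normalizer {T : Subgroup G} {x t : G}
    (hx : x ∈ Subgroup.normalizer (T : Set G)) (ht : t ∈ T) : x * t * x⁻¹ ∈ T :=
  (Subgroup.mem_normalizer_iff.mp hx t).mp ht

/-- the elements of `N_G(T)` whose action on `T` is induced by `H`. -/
def ctlSub (H T : Subgroup G) : Subgroup G where
  carrier := {x | x ∈ Subgroup.normalizer (T : Set G) ∧ Ctl H T x}
  one_mem' := ⟨one_mem _, 1, one_mem _, fun t _ => rfl⟩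
  mul_mem' := by
    rintro a b ⟨haN, y₁, hy₁, h₁⟩ ⟨hbN, y₂, hy₂, h₂⟩
    refine ⟨mul_mem haN hbN, y₁ * y₂, mul_mem hy₁ hy₂, fun t ht => ?_⟩
    have ht' : a⁻¹ * t * a ∈ T := conj_inv_mem_of_mem_normalizer haN ht
    calc (y₁ * y₂)⁻¹ * t * (y₁ * y₂) = y₂⁻¹ * (y₁⁻¹ * t * y₁) * y₂ := by group
      _ = y₂⁻¹ * (a⁻¹ * t * a) * y₂ := by rw [h₁ t ht]
      _ = b⁻¹ * (a⁻¹ * t * a) * b := h₂ _ ht'
      _ = (a * b)⁻¹ * t * (a * b) := by group
  inv_mem' := by
    rintro a ⟨haN, y, hy, h⟩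
    refine ⟨inv_mem haN, y⁻¹, inv_mem hy, fun t ht => ?_⟩
    have ht' : a * t * a⁻¹ ∈ T := conj_mem_of_mem_normalizer haN ht
    have := h _ ht'
    have e : a⁻¹ * (a * t * a⁻¹) * a = t := by group
    rw [e] at this
    calc y⁻¹⁻¹ * t * y⁻¹ = y * (y⁻¹ * (a * t * a⁻¹) * y) * y⁻¹ := by rw [this]; group
      _ = a⁻¹⁻¹ * t * a⁻¹ := by group

theorem mem_ctlSub {H T : Subgroup G} {x : G} :
    x ∈ ctlSub H T ↔ x ∈ Subgroup.normalizer (T : Set G) ∧ Ctl H T x := Iff.rfl

theorem mem_ctlSub_of_mem {H T : Subgroup G} {x : G} (hxH : x ∈ H)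
    (hxN : x ∈ Subgroup.normalizer (T : Set G)) : x ∈ ctlSub H T :=
  ⟨hxN, x, hxH, fun _ _ => rfl⟩

theorem mem_ctlSub_of_centralizer {H T : Subgroup G} {x : G}
    (hx : x ∈ Subgroup.centralizer (T : Set G)) : x ∈ ctlSub H T := by
  refine ⟨Subgroup.centralizer_le_normalizer _ hx, 1, one_mem _, fun t ht => ?_⟩
  have := Subgroup.mem_centralizer_iff.mp hx t ht
  calc (1 : G)⁻¹ * t * 1 = x⁻¹ * (x * t) := by group
    _ = x⁻¹ * t * x := by rw [← this]; group

theorem Ctl.mono {H T T' : Subgroup G} {x : G} (h : Ctl H T' x) (hTT' : T ≤ T') : Ctl H T x := by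
  obtain ⟨y, hy, hyt⟩ := h
  exact ⟨y, hy, fun t ht => hyt t (hTT' ht)⟩

/-- the intersection of a Sylow `p`-subgroup of `M` with a subgroup `X` normalized by `M` is a Sylow
`p`-subgroup of `X` (`relIndex` form). -/
theorem not_dvd_relIndex_inf_of_normalized [Finite G] {p : ℕ} [Fact p.Prime] {S₁ M X : Subgroup G}
    (hS₁M : S₁ ≤ M) (hS₁ : IsPGroup p S₁) (hS₁s : ¬ p ∣ S₁.relIndex M) (hXM : X ≤ M)
    (hXn : M ≤ Subgroup.normalizer (X : Set G)) : ¬ p ∣ (S₁ ⊓ X).relIndex X := by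
  obtain ⟨R, hR1, hRX, hRp, hRs⟩ := exists_sylowIn_ge (p := p) (H := X) (Q := S₁ ⊓ X)
    (hS₁.to_le inf_le_left) inf_le_right
  obtain ⟨m, hm, hmR⟩ := exists_lc_le_of_relIndex hS₁M hS₁ hS₁s hRp (hRX.trans hXM)
  have hmX : lc m R ≤ X := by
    rw [← mem_normalizer_iff_lc.mp (hXn hm)]
    exact lc_mono hRX
  have h1 : lc m R ≤ S₁ ⊓ X := le_inf hmR hmX
  have h2 : Nat.card R ≤ Nat.card (S₁ ⊓ X : Subgroup G) := by
    rw [← card_lc m R]; exact Subgroup.card_le_of_le h1
  have : S₁ ⊓ X = R := Subgroup.eq_of_le_of_card_ge hR1 h2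
  rw [this]; exact hRs

/-- Frattini argument in `relIndex` form. -/
theorem exists_mul_mem_normalizer_of_sylow [Finite G] {p : ℕ} [Fact p.Prime] {S₁ M X : Subgroup G}
    (hS₁X : S₁ ≤ X) (hS₁ : IsPGroup p S₁) (hS₁s : ¬ p ∣ S₁.relIndex X)
    (hXn : M ≤ Subgroup.normalizer (X : Set G)) {m : G} (hm : m ∈ M) :
    ∃ y ∈ X, y * m ∈ Subgroup.normalizer (S₁ : Set G) := by
  have h1 : lc m S₁ ≤ X := by
    rw [← mem_normalizer_iff_lc.mp (hXn hm)]
    exact lc_mono hS₁X
  obtain ⟨y, hy, hyS⟩ := exists_lc_le_of_relIndex hS₁X hS₁ hS₁s (isPGroup_lc (g := m) hS₁) h1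
  rw [← lc_mul] at hyS
  exact ⟨y, hy, mem_normalizer_of_lc_le hyS⟩

theorem mem_normalizer_inf' {A B : Subgroup G} {n : G}
    (hA : n ∈ Subgroup.normalizer (A : Set G)) (hB : n ∈ Subgroup.normalizer (B : Set G)) :
    n ∈ Subgroup.normalizer ((A ⊓ B : Subgroup G) : Set G) := by
  rw [mem_normalizer_iff_lc] at hA hB ⊢
  rw [lc_inf, hA, hB]

theorem mem_normalizer_centralizer {A : Subgroup G} {n : G}
    (hA : n ∈ Subgroup.normalizer (A : Set G)) :
    n ∈ Subgroup.normalizer ((Subgroup.centralizer (A : Set G) : Subgroup G) : Set G) := by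
  rw [Subgroup.mem_normalizer_iff]
  intro c
  constructor
  · intro hc
    have := conj_mem_centralizer_lc (y := n) hc
    rwa [mem_normalizer_iff_lc.mp hA] at this
  · intro hc
    have := conj_mem_centralizer_lc (y := n⁻¹) hc
    rw [mem_normalizer_iff_lc.mp (inv_mem hA)] at this
    have e : n⁻¹ * (n * c * n⁻¹) * n⁻¹⁻¹ = c := by group
    rwa [e] at this

/-- `p'`-elements of `N ∩ N_G(T) ∩ C_G(T ∩ N)` centralize the `p`-group `T`. -/
theorem mem_centralizer_of_stab [Finite G] {p : ℕ} [Fact p.Prime] {N T : Subgroup G} [N.Normal]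
    (hTp : IsPGroup p T) {y : G} (hyN : y ∈ N) (hyM : y ∈ Subgroup.normalizer (T : Set G))
    (hyC : y ∈ Subgroup.centralizer ((T ⊓ N : Subgroup G) : Set G)) (hyo : (orderOf y).Coprime p) :
    y ∈ Subgroup.centralizer (T : Set G) := by
  rw [Subgroup.mem_centralizer_iff]
  intro t ht
  have hzT : t⁻¹ * (y * t * y⁻¹) ∈ T := mul_mem (inv_mem ht) (conj_mem_of_mem_normalizer hyM ht)
  have hzN : t⁻¹ * (y * t * y⁻¹) ∈ N := by
    have : t⁻¹ * (y * t * y⁻¹) = (t⁻¹ * y * t⁻¹⁻¹) * y⁻¹ := by group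
    rw [this]
    exact mul_mem (‹N.Normal›.conj_mem y hyN t⁻¹) (inv_mem hyN)
  have hzT₀ : t⁻¹ * (y * t * y⁻¹) ∈ T ⊓ N := Subgroup.mem_inf.mpr ⟨hzT, hzN⟩
  have hzc : y * (t⁻¹ * (y * t * y⁻¹)) = (t⁻¹ * (y * t * y⁻¹)) * y :=
    (Subgroup.mem_centralizer_iff.mp hyC _ hzT₀).symm
  have hzo : (orderOf (t⁻¹ * (y * t * y⁻¹))).Coprime (orderOf y) := by
    obtain ⟨j, hj⟩ := hTp ⟨_, hzT⟩
    have hj' : (t⁻¹ * (y * t * y⁻¹)) ^ p ^ j = 1 := by
      have := congrArg Subtype.val hj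
      simpa using this
    have : orderOf (t⁻¹ * (y * t * y⁻¹)) ∣ p ^ j := orderOf_dvd_of_pow_eq_one hj'
    exact Nat.Coprime.coprime_dvd_left this (Nat.Coprime.pow_left j hyo.symm)
  have hz1 := Cfsg.Agent.Lib.Helper40.eq_one_of_conj_pow y t (t⁻¹ * (y * t * y⁻¹)) (orderOf y)
    (pow_orderOf_eq_one y) (by group) hzc hzo
  have : y * t * y⁻¹ = t := by
    calc y * t * y⁻¹ = t * (t⁻¹ * (y * t * y⁻¹)) := by group
      _ = t := by rw [hz1, mul_one]
  calc t * y = (y * t * y⁻¹) * y := by rw [this]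
    _ = y * t := by group

/-- **The tame step.**  `T ≤ P` fully normalized; all conjugations normalizing a bigger subgroup of `P` are
controlled by `H`; then so are those normalizing `T`. -/
theorem ctl_step [Finite G] {p : ℕ} [Fact p.Prime] {N H : Subgroup G} [N.Normal] (P : Sylow p G)
    (hQH : Subgroup.normalizer (((P : Subgroup G) ⊓ N : Subgroup G) : Set G) ≤ H)
    (hctl : ∀ A : Subgroup G, A ≤ (P : Subgroup G) ⊓ N → ∀ n ∈ N, lc n A ≤ (P : Subgroup G) ⊓ N →
      ∃ h ∈ N ⊓ H, ∃ c ∈ N ⊓ Subgroup.centralizer (A : Set G), n = h * c)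
    {T : Subgroup G} (hTP : T ≤ (P : Subgroup G))
    (hT : ¬ p ∣ ((P : Subgroup G) ⊓ Subgroup.normalizer (T : Set G)).relIndex
      (Subgroup.normalizer (T : Set G)))
    (hΦ : ∀ T' : Subgroup G, T' ≤ (P : Subgroup G) → T < T' →
      ∀ x ∈ Subgroup.normalizer (T' : Set G), Ctl H T' x) :
    Subgroup.normalizer (T : Set G) ≤ ctlSub H T := by
  set Q : Subgroup G := (P : Subgroup G) ⊓ N with hQ
  set M : Subgroup G := Subgroup.normalizer (T : Set G) with hM
  have hNn : ∀ g : G, g ∈ Subgroup.normalizer (N : Set G) := fun g => by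
    rw [Subgroup.normalizer_eq_top]; exact Subgroup.mem_top g
  have hPQ : (P : Subgroup G) ≤ Subgroup.normalizer (Q : Set G) := fun s hs =>
    mem_normalizer_inf' (Subgroup.le_normalizer hs) (hNn s)
  have hPH : (P : Subgroup G) ≤ H := hPQ.trans hQH
  have hPp : IsPGroup p (P : Subgroup G) := P.2
  have hTp : IsPGroup p T := hPp.to_le hTP
  have hQp : IsPGroup p Q := hPp.to_le inf_le_left
  have hQN : Q ≤ N := inf_le_right
  have hQP : Q ≤ (P : Subgroup G) := inf_le_left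
  -- an element normalizing `T` and a subgroup `S' ≤ P` not inside `T` is controlled
  have hup : ∀ S' : Subgroup G, S' ≤ (P : Subgroup G) → ¬ S' ≤ T →
      ∀ x ∈ M, x ∈ Subgroup.normalizer (S' : Set G) → x ∈ ctlSub H T := by
    intro S' hS'P hS'T x hxM hxS'
    have hlt : T < T ⊔ S' := left_lt_sup.mpr hS'T
    have := hΦ (T ⊔ S') (sup_le hTP hS'P) hlt x (mem_normalizer_sup' hxM hxS')
    exact ⟨hxM, this.mono le_sup_left⟩
  by_cases hQT : Q ≤ T
  · intro x hx
    have hTN : T ⊓ N = Q := le_antisymm (inf_le_inf_right N hTP) (le_inf hQT inf_le_right)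
    have : x ∈ Subgroup.normalizer (Q : Set G) := by
      rw [← hTN]; exact mem_normalizer_inf' hx (hNn x)
    exact mem_ctlSub_of_mem (hQH this) hx
  · have hQM : ¬ Q ⊓ M ≤ T := by
      intro hcon
      have hTQn : T ≤ Subgroup.normalizer (Q : Set G) := hTP.trans hPQ
      have hTQp : IsPGroup p (T ⊔ Q : Subgroup G) := IsPGroup.to_sup_of_normal_right' hTp hQp hTQn
      have hne : T ≠ T ⊔ Q := fun h => hQT (h ▸ le_sup_right)
      have hlt := lt_inf_normalizer_of_ne hTQp le_sup_left hne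
      obtain ⟨z, hz1, hz2⟩ := SetLike.exists_of_lt hlt
      obtain ⟨hzK, hzN⟩ := Subgroup.mem_inf.mp hz1
      have hzK' : z ∈ ((T ⊔ Q : Subgroup G) : Set G) := hzK
      rw [Subgroup.coe_mul_of_left_le_normalizer_right T Q hTQn] at hzK'
      obtain ⟨t, ht, q, hq, rfl⟩ := Set.mem_mul.mp hzK'
      have hqM : q ∈ M := by
        have : q = t⁻¹ * (t * q) := by group
        rw [this]
        exact mul_mem (inv_mem (Subgroup.le_normalizer ht)) hzN
      exact hz2 (mul_mem ht (hcon (Subgroup.mem_inf.mpr ⟨hq, hqM⟩)))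
    set X : Subgroup G := N ⊓ M with hX
    have hXM : X ≤ M := inf_le_right
    have hXN : X ≤ N := inf_le_left
    have hMX : M ≤ Subgroup.normalizer (X : Set G) := fun m hm =>
      mem_normalizer_inf' (hNn m) (Subgroup.le_normalizer hm)
    have hPM : (P : Subgroup G) ⊓ M ≤ M := inf_le_right
    have hQMX : Q ⊓ M ≤ X := le_inf (inf_le_left.trans hQN) inf_le_right
    have hQMs : ¬ p ∣ (Q ⊓ M).relIndex X := by
      have := not_dvd_relIndex_inf_of_normalized hPM (hPp.to_le inf_le_left) hT hXM hMX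
      have e : (P : Subgroup G) ⊓ M ⊓ X = Q ⊓ M := by
        apply le_antisymm
        · exact le_inf (le_inf (inf_le_left.trans inf_le_left) (inf_le_right.trans hXN))
            (inf_le_left.trans inf_le_right)
        · exact le_inf (le_inf (inf_le_left.trans hQP) inf_le_right) hQMX
      rwa [e] at this
    have hQMp : IsPGroup p (Q ⊓ M : Subgroup G) := hQp.to_le inf_le_left
    -- `X ≤ ctlSub`
    have hXc : X ≤ ctlSub H T := by
      set T₀ : Subgroup G := T ⊓ N with hT₀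
      have hT₀Q : T₀ ≤ Q := inf_le_inf_right N hTP
      have hT₀T : T₀ ≤ T := inf_le_left
      have hXT₀ : X ≤ Subgroup.normalizer (T₀ : Set G) := fun x hx =>
        mem_normalizer_inf' (hXM hx) (hNn x)
      have hTT₀ : T ≤ Subgroup.normalizer (T₀ : Set G) := fun t ht =>
        mem_normalizer_inf' (Subgroup.le_normalizer ht) (hNn t)
      set C₀ : Subgroup G := N ⊓ Subgroup.centralizer (T₀ : Set G) with hC₀
      have hC₀n : ∀ g ∈ Subgroup.normalizer (T₀ : Set G), g ∈ Subgroup.normalizer (C₀ : Set G) :=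
        fun g hg => mem_normalizer_inf' (hNn g) (mem_normalizer_centralizer hg)
      set Y : Subgroup G := X ⊓ Subgroup.centralizer (T₀ : Set G) with hY
      have hYX : Y ≤ X := inf_le_left
      have hXY : X ≤ Subgroup.normalizer (Y : Set G) := fun x hx =>
        mem_normalizer_inf' (hMX (hXM hx)) (mem_normalizer_centralizer (hXT₀ hx))
      set SY : Subgroup G := Q ⊓ M ⊓ Subgroup.centralizer (T₀ : Set G) with hSY
      have hSYY : SY ≤ Y := le_inf (inf_le_left.trans hQMX) inf_le_right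
      have hSYQ : SY ≤ Q := inf_le_left.trans inf_le_left
      have hSYM : SY ≤ M := inf_le_left.trans inf_le_right
      have hSYp : IsPGroup p SY := hQp.to_le hSYQ
      have hSYs : ¬ p ∣ SY.relIndex Y := by
        have := not_dvd_relIndex_inf_of_normalized hQMX hQMp hQMs hYX hXY
        have e : Q ⊓ M ⊓ Y = SY := by
          apply le_antisymm
          · exact le_inf inf_le_left (inf_le_right.trans inf_le_right)
          · exact le_inf inf_le_left hSYY
        rwa [e] at this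
      -- (b1) `Y ≤ ctlSub`
      have hYc : Y ≤ ctlSub H T := by
        have hle := le_sup_of_sylow_of_pprime (C := Y ⊓ Subgroup.centralizer (T : Set G)) hSYY hSYs
          inf_le_left (by
            intro y hy hyo
            refine Subgroup.mem_inf.mpr ⟨hy, ?_⟩
            obtain ⟨hyX, hyC⟩ := Subgroup.mem_inf.mp hy
            exact mem_centralizer_of_stab hTp (hXN hyX) (hXM hyX) hyC hyo)
        refine hle.trans (sup_le ?_ ?_)
        · intro s hs
          exact mem_ctlSub_of_mem (hPH (hQP (hSYQ hs))) (hSYM hs)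
        · intro c hc
          exact mem_ctlSub_of_centralizer (Subgroup.mem_inf.mp hc).2
      by_cases hSYT : SY ≤ T
      · -- (b3)
        intro x hx
        obtain ⟨hxN, hxM⟩ := Subgroup.mem_inf.mp hx
        have hxT₀ : lc x T₀ = T₀ := mem_normalizer_iff_lc.mp (hXT₀ hx)
        obtain ⟨h, hh, c, hc, hxhc⟩ := hctl T₀ hT₀Q x hxN (by rw [hxT₀]; exact hT₀Q)
        obtain ⟨hhN, hhH⟩ := Subgroup.mem_inf.mp hh
        obtain ⟨hcN, hcC⟩ := Subgroup.mem_inf.mp hc
        have hh_eq : h = x * c⁻¹ := by rw [hxhc]; group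
        have hhT₀ : h ∈ Subgroup.normalizer (T₀ : Set G) := by
          rw [hh_eq]
          exact mul_mem (hXT₀ hx) (inv_mem (Subgroup.centralizer_le_normalizer _ hcC))
        set CH : Subgroup G := H ⊓ C₀ with hCH
        have hTCH : T ≤ Subgroup.normalizer (CH : Set G) := fun t ht =>
          mem_normalizer_inf' (Subgroup.le_normalizer (hPH (hTP ht))) (hC₀n t (hTT₀ ht))
        set LH : Subgroup G := T ⊔ CH with hLH
        have hLHcoe : ((LH : Subgroup G) : Set G) = (T : Set G) * (CH : Set G) :=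
          Subgroup.coe_mul_of_left_le_normalizer_right T CH hTCH
        have hhT : lc h T ≤ LH := by
          intro z hz
          obtain ⟨t, ht, rfl⟩ : ∃ t ∈ T, z = h * t * h⁻¹ := ⟨h⁻¹ * z * h, mem_lc.mp hz, by group⟩
          have hd : t⁻¹ * c⁻¹ * t * c ∈ C₀ := by
            have : t⁻¹ * c⁻¹ * t * c = (t⁻¹ * c⁻¹ * t⁻¹⁻¹) * c := by group
            rw [this]
            exact mul_mem (conj_mem_of_mem_normalizer (hC₀n _ (inv_mem (hTT₀ ht))) (inv_mem hc)) hc
          have hd' : x * (t⁻¹ * c⁻¹ * t * c) * x⁻¹ ∈ C₀ :=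
            conj_mem_of_mem_normalizer (hC₀n x (hXT₀ hx)) hd
          have ht' : x * t * x⁻¹ ∈ T := conj_mem_of_mem_normalizer hxM ht
          have hz_eq : h * t * h⁻¹ = (x * t * x⁻¹) * (x * (t⁻¹ * c⁻¹ * t * c) * x⁻¹) := by
            rw [hh_eq]; group
          have hzH : h * t * h⁻¹ ∈ H := mul_mem (mul_mem hhH (hPH (hTP ht))) (inv_mem hhH)
          have hd'H : x * (t⁻¹ * c⁻¹ * t * c) * x⁻¹ ∈ H := by
            have : x * (t⁻¹ * c⁻¹ * t * c) * x⁻¹ = (x * t * x⁻¹)⁻¹ * (h * t * h⁻¹) := by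
              rw [hz_eq]; group
            rw [this]
            exact mul_mem (inv_mem (hPH (hTP ht'))) hzH
          rw [hz_eq]
          exact mul_mem ((le_sup_left : T ≤ LH) ht')
            ((le_sup_right : CH ≤ LH) (Subgroup.mem_inf.mpr ⟨hd'H, hd'⟩))
        have hTs : ¬ p ∣ T.relIndex LH := by
          obtain ⟨S₁, hTS₁, hS₁L, hS₁p, hS₁s⟩ := exists_sylowIn_ge (p := p) (H := LH) (Q := T) hTp
            le_sup_left
          have hTS : T = S₁ := by
            by_contra hne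
            have hlt := lt_inf_normalizer_of_ne hS₁p hTS₁ hne
            obtain ⟨z, hz1, hz2⟩ := SetLike.exists_of_lt hlt
            obtain ⟨hzS, hzM⟩ := Subgroup.mem_inf.mp hz1
            have hzL : z ∈ ((LH : Subgroup G) : Set G) := hS₁L hzS
            rw [hLHcoe] at hzL
            obtain ⟨t, ht, c', hc', rfl⟩ := Set.mem_mul.mp hzL
            have hc'S : c' ∈ S₁ := by
              have : c' = t⁻¹ * (t * c') := by group
              rw [this]; exact mul_mem (inv_mem (hTS₁ ht)) hzS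
            have hc'M : c' ∈ M := by
              have : c' = t⁻¹ * (t * c') := by group
              rw [this]; exact mul_mem (inv_mem (Subgroup.le_normalizer ht)) hzM
            obtain ⟨hc'H, hc'C₀⟩ := Subgroup.mem_inf.mp hc'
            obtain ⟨hc'N, hc'C⟩ := Subgroup.mem_inf.mp hc'C₀
            have hc'Y : c' ∈ Y :=
              Subgroup.mem_inf.mpr ⟨Subgroup.mem_inf.mpr ⟨hc'N, hc'M⟩, hc'C⟩
            have hzp : IsPGroup p (Subgroup.zpowers c') :=
              hS₁p.to_le ((Subgroup.zpowers_le).mpr hc'S)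
            obtain ⟨y, hy, hyc⟩ := exists_lc_le_of_relIndex hSYY hSYp hSYs hzp
              ((Subgroup.zpowers_le).mpr hc'Y)
            have hs : y * c' * y⁻¹ ∈ SY := hyc (conj_mem_lc (Subgroup.mem_zpowers c'))
            have hsT₀ : y * c' * y⁻¹ ∈ T₀ := Subgroup.mem_inf.mpr ⟨hSYT hs, hQN (hSYQ hs)⟩
            have hyC : y ∈ Subgroup.centralizer (T₀ : Set G) := (Subgroup.mem_inf.mp hy).2
            have hcomm := Subgroup.mem_centralizer_iff.mp hyC _ hsT₀
            have hc'eq : c' = y * c' * y⁻¹ := by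
              have h3 : y * c' = y * (y * c' * y⁻¹) := by
                calc y * c' = (y * c' * y⁻¹) * y := by group
                  _ = y * (y * c' * y⁻¹) := hcomm
              exact mul_left_cancel h3
            apply hz2
            refine mul_mem ht (hSYT ?_)
            rw [hc'eq]; exact hs
          rw [← hTS] at hS₁s
          exact hS₁s
        obtain ⟨k, hk, hkT⟩ := exists_lc_le_of_relIndex (le_sup_left : T ≤ LH) hTp hTs
          (isPGroup_lc (g := h) hTp) hhT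
        rw [← lc_mul] at hkT
        have hkhM : k * h ∈ M := mem_normalizer_of_lc_le hkT
        have hkL : k ∈ ((LH : Subgroup G) : Set G) := hk
        rw [hLHcoe] at hkL
        obtain ⟨t, ht, k', hk', rfl⟩ := Set.mem_mul.mp hkL
        have hh₂M : k' * h ∈ M := by
          have : k' * h = t⁻¹ * (t * k' * h) := by group
          rw [this]; exact mul_mem (inv_mem (Subgroup.le_normalizer ht)) hkhM
        obtain ⟨hk'H, hk'C₀⟩ := Subgroup.mem_inf.mp hk'
        obtain ⟨hk'N, hk'C⟩ := Subgroup.mem_inf.mp hk'C₀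
        have hh₂c : k' * h ∈ ctlSub H T := mem_ctlSub_of_mem (mul_mem hk'H hhH) hh₂M
        have hxy : x * (k' * h)⁻¹ ∈ Y := by
          refine Subgroup.mem_inf.mpr ⟨Subgroup.mem_inf.mpr ⟨?_, ?_⟩, ?_⟩
          · exact mul_mem hxN (inv_mem (mul_mem hk'N hhN))
          · exact mul_mem hxM (inv_mem hh₂M)
          · have : x * (k' * h)⁻¹ = (h * c * h⁻¹) * k'⁻¹ := by rw [hxhc]; group
            rw [this]
            refine mul_mem ?_ (inv_mem hk'C)
            have := conj_mem_centralizer_lc (y := h) hcC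
            rwa [mem_normalizer_iff_lc.mp hhT₀] at this
        have : x = (x * (k' * h)⁻¹) * (k' * h) := by group
        rw [this]
        exact mul_mem (hYc hxy) hh₂c
      · -- (b2)
        intro x hx
        obtain ⟨y, hy, hyx⟩ := exists_mul_mem_normalizer_of_sylow hSYY hSYp hSYs hXY hx
        have h1 : y * x ∈ ctlSub H T :=
          hup SY (hSYQ.trans hQP) hSYT _ (hXM (mul_mem (hYX hy) hx)) hyx
        have h2 := hYc hy
        have : x = y⁻¹ * (y * x) := by group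
        rw [this]
        exact mul_mem (inv_mem h2) h1
    intro m hm
    obtain ⟨y, hy, hym⟩ := exists_mul_mem_normalizer_of_sylow hQMX hQMp hQMs hMX hm
    have hymM : y * m ∈ M := mul_mem (hXM hy) hm
    have h1 : y * m ∈ ctlSub H T := hup (Q ⊓ M) (inf_le_left.trans hQP) hQM _ hymM hym
    have h2 : y ∈ ctlSub H T := hXc hy
    have : m = y⁻¹ * (y * m) := by group
    rw [this]
    exact mul_mem (inv_mem h2) h1

/-- every subgroup of `P` has a fully normalized conjugate in `P`. -/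
theorem exists_fullyNormalized_lc [Finite G] {p : ℕ} [Fact p.Prime] (P : Sylow p G) {T : Subgroup G}
    (hT : T ≤ (P : Subgroup G)) :
    ∃ g : G, lc g T ≤ (P : Subgroup G) ∧
      ¬ p ∣ ((P : Subgroup G) ⊓ Subgroup.normalizer ((lc g T : Subgroup G) : Set G)).relIndex
        (Subgroup.normalizer ((lc g T : Subgroup G) : Set G)) := by
  have hPp : IsPGroup p (P : Subgroup G) := P.2
  obtain ⟨R, hR1, hRN, hRp, hRs⟩ := exists_sylowIn_ge (p := p)
    (H := Subgroup.normalizer (T : Set G)) (Q := (P : Subgroup G) ⊓ Subgroup.normalizer (T : Set G))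
    (hPp.to_le inf_le_left) inf_le_right
  obtain ⟨g, hg⟩ := exists_lc_le_sylow P hRp
  have hTR : T ≤ R := (le_inf hT Subgroup.le_normalizer).trans hR1
  refine ⟨g, (lc_mono hTR).trans hg, ?_⟩
  rw [normalizer_lc]
  have h1 : lc g R ≤ (P : Subgroup G) ⊓ lc g (Subgroup.normalizer (T : Set G)) :=
    le_inf hg (lc_mono hRN)
  intro hdvd
  apply hRs
  rw [← relIndex_lc g]
  exact hdvd.trans (Subgroup.relIndex_dvd_of_le_left _ h1)

/-- restrict a chain starting at a conjugate of `T` to the members of order at least `|T|`. -/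
theorem chain_restrict [Finite G] {𝓕 𝓕' : Set (Subgroup G)} {T : Subgroup G}
    (hmono : ∀ U ∈ 𝓕, Nat.card T ≤ Nat.card U → U ∈ 𝓕') :
    ∀ {L : List (Subgroup G × G)} {A : Set G}, (∃ g, A = rconj g (T : Set G)) → Chain 𝓕 A L →
      Chain 𝓕' A L := by
  intro L
  induction L with
  | nil => intro A _ _; trivial
  | cons b L ih =>
    intro A hA hL
    obtain ⟨U, x⟩ := b
    obtain ⟨h1, h2, h3, h4⟩ := hL
    obtain ⟨g, rfl⟩ := hA
    refine ⟨hmono U h1 ?_, h2, h3, ih ⟨g * x, (rconj_mul g x _).symm⟩ h4⟩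
    rw [rconj_coe] at h3
    have h3' : lc g⁻¹ T ≤ U := h3
    rw [← card_lc g⁻¹ T]
    exact Subgroup.card_le_of_le h3'

/-- **Control of strong fusion via a normal subgroup.**  Let `N ⊴ G`, `P` a Sylow `p`-subgroup of `G` and
`Q = P ∩ N`.  If `H` contains `N_G(Q)` and `H ∩ N` controls strong `N`-fusion in `Q`, then `H` controls strong
`G`-fusion in `P`. -/
theorem controls_of_normal [Finite G] {p : ℕ} [Fact p.Prime] {N H : Subgroup G} [N.Normal] (P : Sylow p G)
    (hQH : Subgroup.normalizer (((P : Subgroup G) ⊓ N : Subgroup G) : Set G) ≤ H)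
    (hctl : ∀ A : Subgroup G, A ≤ (P : Subgroup G) ⊓ N → ∀ n ∈ N, lc n A ≤ (P : Subgroup G) ⊓ N →
      ∃ h ∈ N ⊓ H, ∃ c ∈ N ⊓ Subgroup.centralizer (A : Set G), n = h * c) :
    ∀ A : Subgroup G, A ≤ (P : Subgroup G) → ∀ g : G, lc g A ≤ (P : Subgroup G) →
      ∃ h ∈ H, ∃ c ∈ Subgroup.centralizer (A : Set G), g = h * c := by
  set 𝓕 : Set (Subgroup G) := {U | U ≤ (P : Subgroup G) ∧
    ¬ p ∣ ((P : Subgroup G) ⊓ Subgroup.normalizer (U : Set G)).relIndex
      (Subgroup.normalizer (U : Set G))} with h𝓕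
  have hreach := alperin_reach P 𝓕 (fun U hU => hU.1) (by
    intro T hT
    obtain ⟨g, hg1, hg2⟩ := exists_fullyNormalized_lc P hT
    exact ⟨lc g T, ⟨hg1, hg2⟩, ⟨g, rfl⟩, hg2⟩)
  have hNn : ∀ g : G, g ∈ Subgroup.normalizer (N : Set G) := fun g => by
    rw [Subgroup.normalizer_eq_top]; exact Subgroup.mem_top g
  have key : ∀ n : ℕ, ∀ U ∈ 𝓕, Nat.card (P : Subgroup G) ≤ Nat.card U + n →
      Subgroup.normalizer (U : Set G) ≤ ctlSub H U := by
    intro n
    induction n with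
    | zero =>
      intro U hU hcard
      have hUP : U = P := Subgroup.eq_of_le_of_card_ge hU.1 (by simpa using hcard)
      intro x hx
      refine mem_ctlSub_of_mem (hQH ?_) hx
      rw [hUP] at hx
      exact mem_normalizer_inf' hx (hNn x)
    | succ n ih =>
      intro U hU hcard
      apply ctl_step P hQH hctl hU.1 hU.2
      intro T' hT'P hlt x hx
      have hcard' : Nat.card (P : Subgroup G) ≤ Nat.card T' + n := by
        have := card_lt_card_of_lt' hlt
        omega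
      have hxT' : lc x⁻¹ T' ≤ (P : Subgroup G) := by
        rw [mem_normalizer_iff_lc.mp (inv_mem hx)]; exact hT'P
      obtain ⟨L, hL, hprod⟩ := hreach T' hT'P x hxT'
      have hL' : Chain {U | U ∈ 𝓕 ∧ Nat.card (P : Subgroup G) ≤ Nat.card U + n} (T' : Set G) L :=
        chain_restrict (𝓕 := 𝓕) (𝓕' := {U | U ∈ 𝓕 ∧ Nat.card (P : Subgroup G) ≤ Nat.card U + n})
          (T := T') (fun U hU hc => And.intro hU (by omega)) ⟨1, (rconj_one _).symm⟩ hL
      obtain ⟨y, hy, hya⟩ := chain_control (K := H)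
        (fun U hU x hx => (ih U hU.1 hU.2 hx).2) hL'
      rw [hprod] at hya
      exact ⟨y, hy, fun t ht => hya t ht⟩
  intro A hA g hg
  have hgA : lc (g⁻¹)⁻¹ A ≤ (P : Subgroup G) := by rwa [inv_inv]
  obtain ⟨L, hL, hprod⟩ := hreach A hA g⁻¹ hgA
  obtain ⟨y, hy, hya⟩ := chain_control (K := H)
    (fun U hU x hx => (key (Nat.card (P : Subgroup G)) U hU (by omega) hx).2) hL
  rw [hprod] at hya
  refine ⟨y⁻¹, inv_mem hy, y * g, ?_, by group⟩
  rw [Subgroup.mem_centralizer_iff]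
  intro a ha
  have := hya a ha
  have e : y⁻¹ * a * y = g * a * g⁻¹ := by rw [this]; group
  calc a * (y * g) = y * (y⁻¹ * a * y) * g := by group
    _ = y * (g * a * g⁻¹) * g := by rw [e]
    _ = y * g * a := by group

end Cfsg.Agent.Lib.Helper03
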