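import Mathlib
import Cfsg.Agent.Lib.Helper22.NseDefs

/-!
# K-NSE pack (S3431), leaf 343112 C6d `a6_final` (pure arithmetic)
-/

set_option autoImplicit false
set_option maxRecDepth 4000

namespace Cfsg.Agent.Lib.Helper03.Nse

open Cfsg.Agent.Lib.Helper22.Nse

theorem c6d_dvd_3240 {N : ℕ} (hN : 0 < N)
    (hp : ∀ p, p.Prime → p ∣ N → p = 2 ∨ p = 3 ∨ p = 5 ∨ p = 7) (h7 : ¬ 7 ∣ N)
    (h16 : ¬ 16 ∣ N) (h243 : ¬ 243 ∣ N) (h25 : ¬ 25 ∣ N) : N ∣ 3240 := by
  rw [← Nat.factorization_prime_le_iff_dvd hN.ne' (by norm_num)]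
  intro p pp
  by_cases hpN : p ∣ N
  · have key : ∀ k : ℕ, ¬ p ^ (k + 1) ∣ N → p ^ k ∣ 3240 →
        N.factorization p ≤ (3240).factorization p := by
      intro k h1 h2
      have a1 : N.factorization p ≤ k := by
        by_contra hcon
        push_neg at hcon
        exact h1 ((pp.pow_dvd_iff_le_factorization hN.ne').2 hcon)
      have a2 : k ≤ (3240).factorization p :=
        (pp.pow_dvd_iff_le_factorization (by norm_num)).1 h2
      omega
    rcases hp p pp hpN with rfl | rfl | rfl | rfl
    · exact key 3 (by norm_num; exact h16) (by norm_num)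
    · exact key 4 (by norm_num; exact h243) (by norm_num)
    · exact key 1 (by norm_num; exact h25) (by norm_num)
    · exact absurd hpN h7
  · rw [Nat.factorization_eq_zero_of_not_dvd hpN]; exact Nat.zero_le _

theorem c6d_N180 {S : ℕ → ℕ} (H : NseHyp 180 S {1, 45, 80, 90, 144}) (B : A6Basic 180 S)
    (P : A6Parts 180 S) : False := by
  have t := H.total
  rw [show Nat.divisors 180 = {1, 2, 3, 4, 5, 6, 9, 10, 12, 15, 18, 20, 30, 36, 45, 60, 90, 180} by
    simp [Nat.divisors_ofNat]] at t
  repeat rw [Finset.sum_insert (by simp)] at t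
  rw [Finset.sum_singleton] at t
  have hS1 := H.one
  have hS2 := B.two
  have hS3 := B.three (by norm_num)
  have hS4 := P.four (by norm_num)
  have hS5 := B.five (by norm_num)
  omega

theorem c6d_N360 {S : ℕ → ℕ} (H : NseHyp 360 S {1, 45, 80, 90, 144}) (B : A6Basic 360 S)
    (P : A6Parts 360 S) : ∀ m, S m ≠ 0 → m ≤ 5 := by
  have t := H.total
  rw [show Nat.divisors 360 = {1, 2, 3, 4, 5, 6, 8, 9, 10, 12, 15, 18, 20, 24, 30, 36, 40, 45, 60, 72, 90, 120, 180, 360} by
    simp [Nat.divisors_ofNat]] at t
  repeat rw [Finset.sum_insert (by simp)] at t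
  rw [Finset.sum_singleton] at t
  have hS1 := H.one
  have hS2 := B.two
  have hS3 := B.three (by norm_num)
  have hS4 := P.four (by norm_num)
  have hS5 := B.five (by norm_num)
  intro m hm
  have hd := H.dvd m hm
  have hmem : m ∈ Nat.divisors 360 := Nat.mem_divisors.2 ⟨hd, by norm_num⟩
  rw [show Nat.divisors 360 = {1, 2, 3, 4, 5, 6, 8, 9, 10, 12, 15, 18, 20, 24, 30, 36, 40, 45, 60, 72, 90, 120, 180, 360} by
    simp [Nat.divisors_ofNat]] at hmem
  simp only [Finset.mem_insert, Finset.mem_singleton] at hmem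
  clear hd H B P
  rcases hmem with rfl | rfl | rfl | rfl | rfl | rfl | rfl | rfl | rfl | rfl | rfl | rfl | rfl | rfl | rfl | rfl | rfl | rfl | rfl | rfl | rfl | rfl | rfl | rfl
  all_goals omega

theorem c6d_N540 {S : ℕ → ℕ} (H : NseHyp 540 S {1, 45, 80, 90, 144}) (B : A6Basic 540 S)
    (P : A6Parts 540 S) : False := by
  have t := H.total
  rw [show Nat.divisors 540 = {1, 2, 3, 4, 5, 6, 9, 10, 12, 15, 18, 20, 27, 30, 36, 45, 54, 60, 90, 108, 135, 180, 270, 540} by
    simp [Nat.divisors_ofNat]] at t
  repeat rw [Finset.sum_insert (by simp)] at t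
  rw [Finset.sum_singleton] at t
  have hS1 := H.one
  have hS2 := B.two
  have hS3 := B.three (by norm_num)
  have hS4 := P.four (by norm_num)
  have hS5 := B.five (by norm_num)
  have h9 : ∀ d, 9 ∣ d → S d = 0 := by
    intro d hd
    by_contra h
    exact H.closed d 9 h hd (P.nine (by norm_num))
  have e9 := h9 9 (by norm_num)
  have e18 := h9 18 (by norm_num)
  have e27 := h9 27 (by norm_num)
  have e36 := h9 36 (by norm_num)
  have e45 := h9 45 (by norm_num)
  have e54 := h9 54 (by norm_num)
  have e90 := h9 90 (by norm_num)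
  have e108 := h9 108 (by norm_num)
  have e135 := h9 135 (by norm_num)
  have e180 := h9 180 (by norm_num)
  have e270 := h9 270 (by norm_num)
  have e540 := h9 540 (by norm_num)
  clear h9
  have v6 := B.val 6 (by norm_num)
  have v10 := B.val 10 (by norm_num)
  have p10 := H.phi 10
  rw [show Nat.totient 10 = 4 by decide] at p10
  have m10 : S 10 % 16 = 0 := by
    clear * - v10 p10
    omega
  have v12 := B.val 12 (by norm_num)
  have p12 := H.phi 12
  rw [show Nat.totient 12 = 4 by decide] at p12
  have m12 : S 12 % 16 = 0 := by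
    clear * - v12 p12
    omega
  have v15 := B.val 15 (by norm_num)
  have p15 := H.phi 15
  rw [show Nat.totient 15 = 8 by decide] at p15
  have m15 : S 15 % 16 = 0 := by
    clear * - v15 p15
    omega
  have v20 := B.val 20 (by norm_num)
  have p20 := H.phi 20
  rw [show Nat.totient 20 = 8 by decide] at p20
  have m20 : S 20 % 16 = 0 := by
    clear * - v20 p20
    omega
  have v30 := B.val 30 (by norm_num)
  have p30 := H.phi 30
  rw [show Nat.totient 30 = 8 by decide] at p30
  have m30 : S 30 % 16 = 0 := by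
    clear * - v30 p30
    omega
  have v60 := B.val 60 (by norm_num)
  have p60 := H.phi 60
  rw [show Nat.totient 60 = 16 by decide] at p60
  have m60 : S 60 % 16 = 0 := by
    clear * - v60 p60
    omega
  have m6 : S 6 % 16 = 0 ∨ S 6 % 16 = 10 := by
    clear * - v6
    omega
  clear v6 v10 v12 v15 v20 v30 v60 p10 p12 p15 p20 p30 p60
  omega

theorem c6d_N1620 {S : ℕ → ℕ} (H : NseHyp 1620 S {1, 45, 80, 90, 144}) (B : A6Basic 1620 S)
    (P : A6Parts 1620 S) : False := by
  have t := H.total
  rw [show Nat.divisors 1620 = {1, 2, 3, 4, 5, 6, 9, 10, 12, 15, 18, 20, 27, 30, 36, 45, 54, 60, 81, 90, 108, 135, 162, 180, 270, 324, 405, 540, 810, 1620} by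
    simp [Nat.divisors_ofNat]] at t
  repeat rw [Finset.sum_insert (by simp)] at t
  rw [Finset.sum_singleton] at t
  have hS1 := H.one
  have hS2 := B.two
  have hS3 := B.three (by norm_num)
  have hS4 := P.four (by norm_num)
  have hS5 := B.five (by norm_num)
  have h9 : ∀ d, 9 ∣ d → S d = 0 := by
    intro d hd
    by_contra h
    exact H.closed d 9 h hd (P.nine (by norm_num))
  have e9 := h9 9 (by norm_num)
  have e18 := h9 18 (by norm_num)
  have e27 := h9 27 (by norm_num)
  have e36 := h9 36 (by norm_num)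
  have e45 := h9 45 (by norm_num)
  have e54 := h9 54 (by norm_num)
  have e81 := h9 81 (by norm_num)
  have e90 := h9 90 (by norm_num)
  have e108 := h9 108 (by norm_num)
  have e135 := h9 135 (by norm_num)
  have e162 := h9 162 (by norm_num)
  have e180 := h9 180 (by norm_num)
  have e270 := h9 270 (by norm_num)
  have e324 := h9 324 (by norm_num)
  have e405 := h9 405 (by norm_num)
  have e540 := h9 540 (by norm_num)
  have e810 := h9 810 (by norm_num)
  have e1620 := h9 1620 (by norm_num)
  clear h9
  have v6 : S 6 ≤ 144 := by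
    have h := B.val 6 (by norm_num)
    clear * - h
    omega
  have v10 : S 10 ≤ 144 := by
    have h := B.val 10 (by norm_num)
    clear * - h
    omega
  have v12 : S 12 ≤ 144 := by
    have h := B.val 12 (by norm_num)
    clear * - h
    omega
  have v15 : S 15 ≤ 144 := by
    have h := B.val 15 (by norm_num)
    clear * - h
    omega
  have v20 : S 20 ≤ 144 := by
    have h := B.val 20 (by norm_num)
    clear * - h
    omega
  have v30 : S 30 ≤ 144 := by
    have h := B.val 30 (by norm_num)
    clear * - h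
    omega
  have v60 : S 60 ≤ 144 := by
    have h := B.val 60 (by norm_num)
    clear * - h
    omega
  omega

theorem c6d_N3240 {S : ℕ → ℕ} (H : NseHyp 3240 S {1, 45, 80, 90, 144}) (B : A6Basic 3240 S)
    (P : A6Parts 3240 S) : False := by
  have t := H.total
  rw [show Nat.divisors 3240 = {1, 2, 3, 4, 5, 6, 8, 9, 10, 12, 15, 18, 20, 24, 27, 30, 36, 40, 45, 54, 60, 72, 81, 90, 108, 120, 135, 162, 180, 216, 270, 324, 360, 405, 540, 648, 810, 1080, 1620, 3240} by
    simp [Nat.divisors_ofNat]] at t
  repeat rw [Finset.sum_insert (by simp)] at t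
  rw [Finset.sum_singleton] at t
  have hS1 := H.one
  have hS2 := B.two
  have hS3 := B.three (by norm_num)
  have hS4 := P.four (by norm_num)
  have hS5 := B.five (by norm_num)
  have h9 : ∀ d, 9 ∣ d → S d = 0 := by
    intro d hd
    by_contra h
    exact H.closed d 9 h hd (P.nine (by norm_num))
  have e9 := h9 9 (by norm_num)
  have e18 := h9 18 (by norm_num)
  have e27 := h9 27 (by norm_num)
  have e36 := h9 36 (by norm_num)
  have e45 := h9 45 (by norm_num)
  have e54 := h9 54 (by norm_num)
  have e72 := h9 72 (by norm_num)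
  have e81 := h9 81 (by norm_num)
  have e90 := h9 90 (by norm_num)
  have e108 := h9 108 (by norm_num)
  have e135 := h9 135 (by norm_num)
  have e162 := h9 162 (by norm_num)
  have e180 := h9 180 (by norm_num)
  have e216 := h9 216 (by norm_num)
  have e270 := h9 270 (by norm_num)
  have e324 := h9 324 (by norm_num)
  have e360 := h9 360 (by norm_num)
  have e405 := h9 405 (by norm_num)
  have e540 := h9 540 (by norm_num)
  have e648 := h9 648 (by norm_num)
  have e810 := h9 810 (by norm_num)
  have e1080 := h9 1080 (by norm_num)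
  have e1620 := h9 1620 (by norm_num)
  have e3240 := h9 3240 (by norm_num)
  clear h9
  have v6 : S 6 ≤ 144 := by
    have h := B.val 6 (by norm_num)
    clear * - h
    omega
  have v8 : S 8 ≤ 144 := by
    have h := B.val 8 (by norm_num)
    clear * - h
    omega
  have v10 : S 10 ≤ 144 := by
    have h := B.val 10 (by norm_num)
    clear * - h
    omega
  have v12 : S 12 ≤ 144 := by
    have h := B.val 12 (by norm_num)
    clear * - h
    omega
  have v15 : S 15 ≤ 144 := by
    have h := B.val 15 (by norm_num)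
    clear * - h
    omega
  have v20 : S 20 ≤ 144 := by
    have h := B.val 20 (by norm_num)
    clear * - h
    omega
  have v24 : S 24 ≤ 144 := by
    have h := B.val 24 (by norm_num)
    clear * - h
    omega
  have v30 : S 30 ≤ 144 := by
    have h := B.val 30 (by norm_num)
    clear * - h
    omega
  have v40 : S 40 ≤ 144 := by
    have h := B.val 40 (by norm_num)
    clear * - h
    omega
  have v60 : S 60 ≤ 144 := by
    have h := B.val 60 (by norm_num)
    clear * - h
    omega
  have v120 : S 120 ≤ 144 := by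
    have h := B.val 120 (by norm_num)
    clear * - h
    omega
  omega

theorem c6d_N1080 {S : ℕ → ℕ} (H : NseHyp 1080 S {1, 45, 80, 90, 144}) (B : A6Basic 1080 S)
    (P : A6Parts 1080 S) : False := by
  have t := H.total
  rw [show Nat.divisors 1080 = {1, 2, 3, 4, 5, 6, 8, 9, 10, 12, 15, 18, 20, 24, 27, 30, 36, 40, 45, 54, 60, 72, 90, 108, 120, 135, 180, 216, 270, 360, 540, 1080} by
    simp [Nat.divisors_ofNat]] at t
  repeat rw [Finset.sum_insert (by simp)] at t
  rw [Finset.sum_singleton] at t
  have hS1 := H.one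
  have hS2 := B.two
  have hS3 := B.three (by norm_num)
  have hS4 := P.four (by norm_num)
  have hS5 := B.five (by norm_num)
  have h9 : ∀ d, 9 ∣ d → S d = 0 := by
    intro d hd
    by_contra h
    exact H.closed d 9 h hd (P.nine (by norm_num))
  have e9 := h9 9 (by norm_num)
  have e18 := h9 18 (by norm_num)
  have e27 := h9 27 (by norm_num)
  have e36 := h9 36 (by norm_num)
  have e45 := h9 45 (by norm_num)
  have e54 := h9 54 (by norm_num)
  have e72 := h9 72 (by norm_num)
  have e90 := h9 90 (by norm_num)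
  have e108 := h9 108 (by norm_num)
  have e135 := h9 135 (by norm_num)
  have e180 := h9 180 (by norm_num)
  have e216 := h9 216 (by norm_num)
  have e270 := h9 270 (by norm_num)
  have e360 := h9 360 (by norm_num)
  have e540 := h9 540 (by norm_num)
  have e1080 := h9 1080 (by norm_num)
  clear h9
  have v6 := B.val 6 (by norm_num)
  have p6 := H.phi 6
  rw [show Nat.totient 6 = 2 by decide] at p6
  have v8 := B.val 8 (by norm_num)
  have p8 := H.phi 8
  rw [show Nat.totient 8 = 4 by decide] at p8
  have v10 := B.val 10 (by norm_num)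
  have p10 := H.phi 10
  rw [show Nat.totient 10 = 4 by decide] at p10
  have v12 := B.val 12 (by norm_num)
  have p12 := H.phi 12
  rw [show Nat.totient 12 = 4 by decide] at p12
  have v15 := B.val 15 (by norm_num)
  have p15 := H.phi 15
  rw [show Nat.totient 15 = 8 by decide] at p15
  have v20 := B.val 20 (by norm_num)
  have p20 := H.phi 20
  rw [show Nat.totient 20 = 8 by decide] at p20
  have v24 := B.val 24 (by norm_num)
  have p24 := H.phi 24
  rw [show Nat.totient 24 = 8 by decide] at p24
  have v30 := B.val 30 (by norm_num)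
  have p30 := H.phi 30
  rw [show Nat.totient 30 = 8 by decide] at p30
  have v40 := B.val 40 (by norm_num)
  have p40 := H.phi 40
  rw [show Nat.totient 40 = 16 by decide] at p40
  have v60 := B.val 60 (by norm_num)
  have p60 := H.phi 60
  rw [show Nat.totient 60 = 16 by decide] at p60
  have v120 := B.val 120 (by norm_num)
  have p120 := H.phi 120
  rw [show Nat.totient 120 = 32 by decide] at p120
  have f15 := H.frob 15 (by norm_num)
  rw [show Nat.divisors 15 = {1, 3, 5, 15} by
    simp [Nat.divisors_ofNat]] at f15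
  repeat rw [Finset.sum_insert (by simp)] at f15
  rw [Finset.sum_singleton] at f15
  have z15 : S 15 = 0 := by
    clear * - f15 v15 p15 hS1 hS3 hS5
    omega
  have z30 : S 30 = 0 := by
    by_contra h
    exact H.closed 30 15 h (by norm_num) z15
  have z60 : S 60 = 0 := by
    by_contra h
    exact H.closed 60 15 h (by norm_num) z15
  have z120 : S 120 = 0 := by
    by_contra h
    exact H.closed 120 15 h (by norm_num) z15
  have f10 := H.frob 10 (by norm_num)
  rw [show Nat.divisors 10 = {1, 2, 5, 10} by
    simp [Nat.divisors_ofNat]] at f10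
  repeat rw [Finset.sum_insert (by simp)] at f10
  rw [Finset.sum_singleton] at f10
  have w10 : S 10 = 0 ∨ S 10 = 80 := by
    clear * - f10 v10 p10 hS1 hS2 hS5
    omega
  have f20 := H.frob 20 (by norm_num)
  rw [show Nat.divisors 20 = {1, 2, 4, 5, 10, 20} by
    simp [Nat.divisors_ofNat]] at f20
  repeat rw [Finset.sum_insert (by simp)] at f20
  rw [Finset.sum_singleton] at f20
  have w20 : S 20 = 0 ∨ S 20 = 80 := by
    clear * - f20 w10 v20 p20 hS1 hS2 hS4 hS5
    omega
  have f40 := H.frob 40 (by norm_num)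
  rw [show Nat.divisors 40 = {1, 2, 4, 5, 8, 10, 20, 40} by
    simp [Nat.divisors_ofNat]] at f40
  repeat rw [Finset.sum_insert (by simp)] at f40
  rw [Finset.sum_singleton] at f40
  have w8 : S 8 = 0 ∨ S 8 = 80 := by
    clear * - f40 w10 w20 v8 p8 v40 p40 hS1 hS2 hS4 hS5
    omega
  have f6 := H.frob 6 (by norm_num)
  rw [show Nat.divisors 6 = {1, 2, 3, 6} by
    simp [Nat.divisors_ofNat]] at f6
  repeat rw [Finset.sum_insert (by simp)] at f6
  rw [Finset.sum_singleton] at f6
  have f12 := H.frob 12 (by norm_num)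
  rw [show Nat.divisors 12 = {1, 2, 3, 4, 6, 12} by
    simp [Nat.divisors_ofNat]] at f12
  repeat rw [Finset.sum_insert (by simp)] at f12
  rw [Finset.sum_singleton] at f12
  have w6 : S 6 = 0 ∨ S 6 = 144 := by
    clear * - f6 f12 v6 v12 p12 hS1 hS2 hS3 hS4
    omega
  have w12 : S 12 = 0 ∨ S 12 = 144 := by
    clear * - f12 w6 v12 p12 hS1 hS2 hS3 hS4
    omega
  have f24 := H.frob 24 (by norm_num)
  rw [show Nat.divisors 24 = {1, 2, 3, 4, 6, 8, 12, 24} by
    simp [Nat.divisors_ofNat]] at f24
  repeat rw [Finset.sum_insert (by simp)] at f24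
  rw [Finset.sum_singleton] at f24
  have z8 : S 8 = 0 := by
    clear * - f24 w6 w12 w8 v24 p24 hS1 hS2 hS3 hS4
    omega
  have z24 : S 24 = 0 := by
    by_contra h
    exact H.closed 24 8 h (by norm_num) z8
  have z40 : S 40 = 0 := by
    by_contra h
    exact H.closed 40 8 h (by norm_num) z8
  clear v6 p6 v8 p8 v10 p10 v12 p12 v15 p15 v20 p20 v24 p24 v30 p30 v40 p40 v60 p60 v120 p120 f15 f10 f20 f40 f6 f12 f24 w8
  omega

/-- 343112 C6d. -/
theorem a6_final {N : ℕ} {S : ℕ → ℕ} (H : NseHyp N S {1, 45, 80, 90, 144}) (hs : SylowHyp N S) (B : A6Basic N S)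
    (P : A6Parts N S) (h5 : 5 ∣ N) : N = 360 ∧ ∀ m, S m ≠ 0 → m ≤ 5 := by
  have hN3240 := c6d_dvd_3240 H.pos B.primes P.not7 P.not16 P.not243 P.not25
  have hS5 := B.five h5
  obtain ⟨n, hn1, hn2, hn3⟩ := hs 5 1 (by norm_num) (by norm_num) (by simpa using h5)
    (by norm_num; exact P.not25) (by rw [pow_one, hS5]; norm_num)
  rw [show Nat.totient (5 ^ 1) = 4 by decide, pow_one, hS5] at hn1
  have hn36 : n = 36 := by omega
  subst hn36
  have h180 : 180 ∣ N := by
    have := Nat.Coprime.mul_dvd_of_dvd_of_dvd (by norm_num : Nat.Coprime 36 5) hn3 h5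
    simpa using this
  obtain ⟨k, hk⟩ := h180
  have hk18 : k ∣ 18 := by
    apply Nat.dvd_of_mul_dvd_mul_left (by norm_num : 0 < 180)
    rw [← hk]; exact hN3240
  have hkle : k ≤ 18 := Nat.le_of_dvd (by norm_num) hk18
  have hk0 : 0 < k := Nat.pos_of_dvd_of_pos hk18 (by norm_num)
  interval_cases k
  all_goals first
    | (exfalso; revert hk18; norm_num; done)
    | skip
  · norm_num at hk; subst hk; exact (c6d_N180 H B P).elim
  · norm_num at hk; subst hk; exact ⟨rfl, c6d_N360 H B P⟩
  · norm_num at hk; subst hk; exact (c6d_N540 H B P).elim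
  · norm_num at hk; subst hk; exact (c6d_N1080 H B P).elim
  · norm_num at hk; subst hk; exact (c6d_N1620 H B P).elim
  · norm_num at hk; subst hk; exact (c6d_N3240 H B P).elim

end Cfsg.Agent.Lib.Helper03.Nse
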