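import Mathlib
import Cfsg.Prelude.Def_GeometricClasses
import Cfsg.Agent.Lib.Helper22.OOddMaxXB
import Cfsg.Agent.Lib.Helper43.OmegaNonsingGeo

/-!
# K-O12-X33 (keystone 587107, architect helper9): `three_spaces_card_three`

`|F| = 3`, general non-degenerate `Q` on `Fin n → F`: an isometric orthogonal decomposition into 3-spaces refines
canonically into `3 t` isometric lines.  This is `Helper22.OOddMax.three_spaces_le_lines_gen` applied to the bundled
form `Helper43.geoQF Q hQ`, re-indexed along `Fin (t * 3) ≃ Fin (3 * t)`.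
-/

set_option autoImplicit false
set_option linter.unusedSectionVars false

namespace Cfsg.Agent.Lib.Helper03.O12

open Cfsg Cfsg.Geo
open scoped Matrix

variable {F : Type*} [Field F] [Fintype F] {ι : Type} [Fintype ι] [DecidableEq ι]

/-- re-indexing an isometric orthogonal decomposition along an equality of the number of pieces -/
theorem isOrthogonalMDecomposition_cast (Q : (ι → F) → F) {s t : ℕ} (h : s = t) (m : ℕ)
    (D : Fin s → Submodule F (ι → F)) (hD : IsOrthogonalMDecomposition Q m D) :
    IsOrthogonalMDecomposition Q m (fun k : Fin t => D (Fin.cast h.symm k)) := by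
  subst h
  exact hD

theorem decompositionStabilizer_cast {s t : ℕ} (h : s = t) (D : Fin s → Submodule F (ι → F)) :
    decompositionStabilizer D = decompositionStabilizer (fun k : Fin t => D (Fin.cast h.symm k)) := by
  subst h
  rfl

/-- K-O12-X33, for an arbitrary index type. -/
theorem three_spaces_card_three_gen (Q : (ι → F) → F) (hQ : IsNondegenerateQuadraticForm Q)
    (hq : Fintype.card F = 3) {t : ℕ} (D : Fin t → Submodule F (ι → F))
    (hD : IsOrthogonalMDecomposition Q 3 D) :
    ∃ D' : Fin (3 * t) → Submodule F (ι → F), IsOrthogonalMDecomposition Q 1 D' ∧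
      decompositionStabilizer D ⊓ isometryGroup F Q ≤ decompositionStabilizer D' := by
  obtain ⟨D', hD', hle⟩ :=
    Cfsg.Agent.Lib.Helper22.OOddMax.three_spaces_le_lines_gen hq (Cfsg.Agent.Lib.Helper43.geoQF Q hQ) D hD
  have h : t * 3 = 3 * t := Nat.mul_comm t 3
  refine ⟨fun k : Fin (3 * t) => D' (Fin.cast h.symm k), isOrthogonalMDecomposition_cast Q h 1 D' hD', ?_⟩
  rw [← decompositionStabilizer_cast h D']
  exact hle

end Cfsg.Agent.Lib.Helper03.O12

namespace Cfsg.Agent.Lib.Helper03.O12

open Cfsg Cfsg.Geo
open scoped Matrix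

variable {F : Type*} [Field F] [Fintype F] {n : ℕ}

/-- K-O12-X33 (587107). -/
theorem three_spaces_card_three (Q : (Fin n → F) → F) (hQ : IsNondegenerateQuadraticForm Q)
    (hq : Fintype.card F = 3) {t : ℕ} (D : Fin t → Submodule F (Fin n → F))
    (hD : IsOrthogonalMDecomposition Q 3 D) :
    ∃ D' : Fin (3 * t) → Submodule F (Fin n → F), IsOrthogonalMDecomposition Q 1 D' ∧
      decompositionStabilizer D ⊓ isometryGroup F Q ≤ decompositionStabilizer D' :=
  three_spaces_card_three_gen Q hQ hq D hD

end Cfsg.Agent.Lib.Helper03.O12
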