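import Mathlib
import Cfsg.Prelude.Def_Solvable
import Cfsg.Agent.S0034
import Cfsg.Agent.S0035

/-!
# K-OTF pack (S3999), leaf 399904 F4 `frob_card_order_eq`

In a Frobenius group `L` with complement `H`, for `m ∣ |H|`, `m ≠ 1`, the elements of order `m` of `L` are in
bijection with `(L ⧸ H) × {y : H // orderOf y = m}`.
-/

set_option autoImplicit false
open Cfsg
open scoped Pointwise

namespace Cfsg.Agent.Lib.Helper03.OTF

theorem f4_orderOf_conj {L : Type*} [Group L] (g x : L) : orderOf (g * x * g⁻¹) = orderOf x := by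
  have := MulEquiv.orderOf_eq (MulAut.conj g) x
  simpa [MulAut.conj_apply] using this

/-- index and order of a Frobenius complement are coprime -/
theorem f4_coprime {L : Type*} [Group L] [Finite L] (H : Subgroup L)
    (hH : Cfsg.IsFrobeniusComplement H) : Nat.Coprime H.index (Nat.card H) := by
  have h := (Cfsg.Agent.S0034.result H hH).2
  have hmod : H.index ≡ 1 [MOD Nat.card H] := h
  have := Nat.ModEq.gcd_eq hmod
  rw [Nat.Coprime, this]
  exact Nat.gcd_one_left _

/-- an element whose order divides `|H|` and is not `1` lies in a conjugate of `H` -/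
theorem f4_mem_conj {L : Type*} [Group L] [Finite L] (H : Subgroup L)
    (hH : Cfsg.IsFrobeniusComplement H) (x : L) (hx : orderOf x ∣ Nat.card H) (hx1 : x ≠ 1) :
    ∃ g : L, g⁻¹ * x * g ∈ H := by
  by_contra hcon
  push_neg at hcon
  obtain ⟨N, hNset, hNn, hNc⟩ := Cfsg.Agent.S0035.result H hH
  have hxK : x ∈ Cfsg.frobeniusKernel H := by
    right
    intro g hg
    rw [Subgroup.mem_pointwise_smul_iff_inv_smul_mem] at hg
    apply hcon g
    simpa [MulAut.smul_def, MulAut.conj_apply] using hg
  have hxN : x ∈ N := by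
    have : x ∈ (N : Set L) := by rw [hNset]; exact hxK
    exact this
  have hNcard : Nat.card N = H.index := by
    have h1 := hNc.card_mul_card
    have h2 := Subgroup.index_mul_card H
    have hpos : 0 < Nat.card H := Nat.card_pos
    have : Nat.card N * Nat.card H = H.index * Nat.card H := by rw [h1, h2]
    exact Nat.eq_of_mul_eq_mul_right hpos this
  have hd1 : orderOf x ∣ H.index := by
    rw [← hNcard]
    have := orderOf_dvd_natCard (⟨x, hxN⟩ : N)
    rwa [Subgroup.orderOf_mk] at this
  have hcop := f4_coprime H hH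
  have h1 : orderOf x = 1 := Nat.eq_one_of_dvd_coprimes hcop hd1 hx
  exact hx1 (orderOf_eq_one_iff.1 h1)

/-- 399904 F4. -/
theorem frob_card_order_eq {L : Type*} [Group L] [Finite L] (H : Subgroup L)
    (hH : Cfsg.IsFrobeniusComplement H) (m : ℕ) (hm : m ∣ Nat.card H) (hm1 : m ≠ 1) :
    Nat.card {x : L // orderOf x = m} = H.index * Nat.card {x : H // orderOf x = m} := by
  classical
  have hTI : ∀ g : L, g ∉ H → ∀ y : L, y ∈ H → g * y * g⁻¹ ∈ H → y = 1 := by
    intro g hg y hy hgy
    have h := hH.2.2 g⁻¹ (fun h => hg (by simpa using H.inv_mem h))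
    have hmem : y ∈ H ⊓ (MulAut.conj g⁻¹ • H) := by
      refine Subgroup.mem_inf.2 ⟨hy, ?_⟩
      rw [Subgroup.mem_pointwise_smul_iff_inv_smul_mem]
      simpa [MulAut.smul_def, MulAut.conj_apply] using hgy
    rw [h] at hmem
    exact Subgroup.mem_bot.1 hmem
  have hout : ∀ q : L ⧸ H, ∀ g : L, (QuotientGroup.mk g : L ⧸ H) = q → g⁻¹ * Quotient.out q ∈ H := by
    intro q g hg
    rw [← QuotientGroup.eq, hg]
    exact (Quotient.out_eq q).symm
  rw [Subgroup.index, ← Nat.card_prod]
  symm
  apply Nat.card_eq_of_bijective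
    (fun z : (L ⧸ H) × {y : H // orderOf y = m} =>
      (⟨Quotient.out z.1 * (z.2.1 : L) * (Quotient.out z.1)⁻¹, by
        rw [f4_orderOf_conj, Subgroup.orderOf_coe]; exact z.2.2⟩ : {x : L // orderOf x = m}))
  constructor
  · rintro ⟨q, ⟨y, hy⟩⟩ ⟨q', ⟨y', hy'⟩⟩ hzz
    have h0 : Quotient.out q * (y : L) * (Quotient.out q)⁻¹ =
        Quotient.out q' * (y' : L) * (Quotient.out q')⁻¹ := congrArg Subtype.val hzz
    have hy1 : (y : L) ≠ 1 := by
      intro h1
      have : y = 1 := Subtype.ext h1
      rw [this, orderOf_one] at hy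
      exact hm1 hy.symm
    have hconj : ((Quotient.out q')⁻¹ * Quotient.out q) * (y : L) *
        ((Quotient.out q')⁻¹ * Quotient.out q)⁻¹ = (y' : L) := by
      have : (y' : L) = (Quotient.out q')⁻¹ * (Quotient.out q' * (y' : L) * (Quotient.out q')⁻¹) *
          Quotient.out q' := by group
      rw [this, ← h0]; group
    have hmemH : (Quotient.out q')⁻¹ * Quotient.out q ∈ H := by
      by_contra hnot
      exact hy1 (hTI _ hnot (y : L) y.2 (by rw [hconj]; exact y'.2))
    have hqq : q' = q := by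
      have h1 : (QuotientGroup.mk (Quotient.out q') : L ⧸ H) = QuotientGroup.mk (Quotient.out q) :=
        QuotientGroup.eq.2 hmemH
      have e1 : (QuotientGroup.mk (Quotient.out q') : L ⧸ H) = q' := Quotient.out_eq q'
      have e2 : (QuotientGroup.mk (Quotient.out q) : L ⧸ H) = q := Quotient.out_eq q
      rw [e1, e2] at h1
      exact h1
    subst hqq
    have hyy : (y : L) = (y' : L) := by
      have := hconj
      simpa using this
    have : y = y' := Subtype.ext hyy
    subst this
    rfl
  · rintro ⟨x, hx⟩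
    have hx1 : x ≠ 1 := by
      rintro rfl
      rw [orderOf_one] at hx
      exact hm1 hx.symm
    obtain ⟨g, hg⟩ := f4_mem_conj H hH x (by rw [hx]; exact hm) hx1
    have hmem := hout (QuotientGroup.mk g) g rfl
    set r := Quotient.out (QuotientGroup.mk g : L ⧸ H) with hr
    have hyH : r⁻¹ * x * r ∈ H := by
      have e : r⁻¹ * x * r = (g⁻¹ * r)⁻¹ * (g⁻¹ * x * g) * (g⁻¹ * r) := by group
      rw [e]
      exact H.mul_mem (H.mul_mem (H.inv_mem hmem) hg) hmem
    refine ⟨⟨QuotientGroup.mk g, ⟨⟨r⁻¹ * x * r, hyH⟩, ?_⟩⟩, ?_⟩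
    · rw [← Subgroup.orderOf_coe]
      show orderOf (r⁻¹ * x * r) = m
      have : r⁻¹ * x * r = r⁻¹ * x * r⁻¹⁻¹ := by rw [inv_inv]
      rw [this, f4_orderOf_conj]
      exact hx
    · apply Subtype.ext
      show r * (r⁻¹ * x * r) * r⁻¹ = x
      group

end Cfsg.Agent.Lib.Helper03.OTF
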