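import Mathlib
import Cfsg.Agent.Lib.Helper27.FusGenTrick
import Cfsg.Agent.Lib.Helper27.FusGenAlp

set_option autoImplicit false

/-!
The subsystem of the maps of `F` which act on an `Aut_F(S)`-invariant subgroup `W` like elements of
`Aut_F(S)`, and Alperin's theorem as an induction principle with a threshold.
-/

namespace Cfsg.Agent.Lib.Helper03.Oliver24

open Cfsg Cfsg.FusionSystem Cfsg.Agent.Lib.Helper87

variable {Ω : Type*} [Group Ω] {S : Subgroup Ω}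

/-- `W ≤ S` is invariant under `Aut_F(S)`. -/
structure AutInv (F : FusionSystem S) (W : Subgroup Ω) : Prop where
  le : W ≤ S
  inv : ∀ σ ∈ F.autGroup S, ∀ w : ↥S, (w : Ω) ∈ W → ((σ w : ↥S) : Ω) ∈ W

/-- `φ` is defined on `W` and acts on it like an element of `Aut_F(S)`. -/
def ActsLike (F : FusionSystem S) (W : Subgroup Ω) (hWS : W ≤ S) {P : Subgroup Ω} (φ : P →* Ω) :
    Prop :=
  W ≤ P ∧ ∃ σ ∈ F.autGroup S, ∀ (w : Ω) (hw : w ∈ W) (hwP : w ∈ P),
    φ ⟨w, hwP⟩ = ((σ ⟨w, hWS hw⟩ : ↥S) : Ω)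

theorem AutInv.symm_mem {F : FusionSystem S} {W : Subgroup Ω} (h : AutInv F W)
    {σ : MulAut ↥S} (hσ : σ ∈ F.autGroup S) {w : Ω} (hw : w ∈ W) :
    ((σ⁻¹ ⟨w, h.le hw⟩ : ↥S) : Ω) ∈ W :=
  h.inv σ⁻¹ ((F.autGroup S).inv_mem hσ) ⟨w, h.le hw⟩ hw

theorem AutInv.conj_mem {F : FusionSystem S} {W : Subgroup Ω} (h : AutInv F W)
    {g : Ω} (hg : g ∈ S) {w : Ω} (hw : w ∈ W) : g * w * g⁻¹ ∈ W := by
  have hgN : g ∈ Subgroup.normalizer (S : Set Ω) := Subgroup.le_normalizer hg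
  have h1 := h.inv _ (Cfsg.Agent.Lib.Helper27.FusGen.conjAut_mem_autGroup F le_rfl hg hgN)
    ⟨w, h.le hw⟩ hw
  rwa [conjAut_apply] at h1

/-- The maps of `F` which, if `W` lies in their source or in their image, act on `W` like an element
of `Aut_F(S)`. -/
def resSystem (F : FusionSystem S) (W : Subgroup Ω) (h : AutInv F W) : FusionSystem S where
  Hom P := {φ | φ ∈ F.Hom P ∧ ((W ≤ P ∨ W ≤ φ.range) → ActsLike F W h.le φ)}
  le_of_mem h' := F.le_of_mem h'.1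
  injective_of_mem h' := F.injective_of_mem h'.1
  conj_mem := by
    intro P g hP hg
    refine ⟨F.conj_mem hP hg, fun hor => ?_⟩
    have hgN : g ∈ Subgroup.normalizer (S : Set Ω) := Subgroup.le_normalizer hg
    have hWP : W ≤ P := by
      rcases hor with h1 | h1
      · exact h1
      · intro w hw
        have h2 : g * w * g⁻¹ ∈ (conjHom P g).range := h1 (h.conj_mem hg hw)
        obtain ⟨u, hu⟩ := h2
        have h3 : g * (u : Ω) * g⁻¹ = g * w * g⁻¹ := hu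
        have h4 : (u : Ω) = w := mul_left_cancel (mul_right_cancel h3)
        rw [← h4]; exact u.2
    refine ⟨hWP, Cfsg.Agent.Lib.Helper87.conjAut S g hgN,
      Cfsg.Agent.Lib.Helper27.FusGen.conjAut_mem_autGroup F le_rfl hg hgN, fun w hw hwP => ?_⟩
    rw [conjAut_apply]
    rfl
  comp_mem := by
    rintro P Q φ ψ ⟨hφ, hφc⟩ ⟨hψ, hψc⟩ hval
    refine ⟨F.comp_mem hφ hψ hval, fun hor => ?_⟩
    -- first: from `ActsLike φ` we get everything
    have key : ActsLike F W h.le φ → ActsLike F W h.le (ψ.comp (φ.codRestrict Q hval)) := by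
      rintro ⟨hWP, σ, hσ, hσw⟩
      have hWQ : W ≤ Q := by
        intro w hw
        have hw' := h.symm_mem hσ hw
        have e := hσw _ hw' (hWP hw')
        have e2 : ((σ ⟨((σ⁻¹ ⟨w, h.le hw⟩ : ↥S) : Ω), h.le hw'⟩ : ↥S) : Ω) = w := by
          have : (⟨((σ⁻¹ ⟨w, h.le hw⟩ : ↥S) : Ω), h.le hw'⟩ : ↥S) = σ⁻¹ ⟨w, h.le hw⟩ :=
            Subtype.ext rfl
          rw [this, ← MulAut.mul_apply, mul_inv_cancel, MulAut.one_apply]
        rw [e2] at e
        rw [← e]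
        exact hval _
      obtain ⟨-, τ, hτ, hτw⟩ := hψc (Or.inl hWQ)
      refine ⟨hWP, τ * σ, (F.autGroup S).mul_mem hτ hσ, fun w hw hwP => ?_⟩
      have hσW : ((σ ⟨w, h.le hw⟩ : ↥S) : Ω) ∈ W := h.inv σ hσ ⟨w, h.le hw⟩ hw
      have e1 : (φ.codRestrict Q hval) ⟨w, hwP⟩ = ⟨((σ ⟨w, h.le hw⟩ : ↥S) : Ω), hWQ hσW⟩ :=
        Subtype.ext (hσw w hw hwP)
      rw [MonoidHom.comp_apply, e1, hτw _ hσW (hWQ hσW), MulAut.mul_apply]
    rcases hor with h1 | h1
    · exact key (hφc (Or.inl h1))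
    · have hrange : (ψ.comp (φ.codRestrict Q hval)).range ≤ ψ.range := by
        rintro _ ⟨u, rfl⟩
        exact ⟨_, rfl⟩
      obtain ⟨hWQ, τ, hτ, hτw⟩ := hψc (Or.inr (h1.trans hrange))
      apply key
      apply hφc
      right
      intro w'' hw''
      have hw : ((τ ⟨w'', h.le hw''⟩ : ↥S) : Ω) ∈ W := h.inv τ hτ ⟨w'', h.le hw''⟩ hw''
      obtain ⟨u, hu⟩ := h1 hw
      have e1 : ψ ⟨w'', hWQ hw''⟩ = ((τ ⟨w'', h.le hw''⟩ : ↥S) : Ω) := hτw w'' hw'' (hWQ hw'')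
      have e2 : ψ ((φ.codRestrict Q hval) u) = ψ ⟨w'', hWQ hw''⟩ := by
        rw [e1]; exact hu
      have e3 := F.injective_of_mem hψ e2
      exact ⟨u, congrArg Subtype.val e3⟩
  inv_mem := by
    rintro P φ ⟨hφ, hφc⟩
    obtain ⟨ψ, hψ, hψx⟩ := F.inv_mem hφ
    refine ⟨ψ, ⟨hψ, fun hor => ?_⟩, hψx⟩
    have hψr : ψ.range ≤ P := by
      rintro _ ⟨⟨_, x, rfl⟩, rfl⟩
      rw [hψx]; exact x.2
    have hor' : W ≤ P ∨ W ≤ φ.range := by
      rcases hor with h1 | h1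
      · exact Or.inr h1
      · exact Or.inl (h1.trans hψr)
    obtain ⟨hWP, σ, hσ, hσw⟩ := hφc hor'
    have hpre : ∀ (w : Ω) (hw : w ∈ W),
        φ ⟨((σ⁻¹ ⟨w, h.le hw⟩ : ↥S) : Ω), hWP (h.symm_mem hσ hw)⟩ = w := by
      intro w hw
      have hw' := h.symm_mem hσ hw
      rw [hσw _ hw' (hWP hw')]
      have : (⟨((σ⁻¹ ⟨w, h.le hw⟩ : ↥S) : Ω), h.le hw'⟩ : ↥S) = σ⁻¹ ⟨w, h.le hw⟩ :=
        Subtype.ext rfl
      rw [this, ← MulAut.mul_apply, mul_inv_cancel, MulAut.one_apply]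
    have hWr : W ≤ φ.range := fun w hw => ⟨_, hpre w hw⟩
    refine ⟨hWr, σ⁻¹, (F.autGroup S).inv_mem hσ, fun w hw hwr => ?_⟩
    have e : (⟨w, hwr⟩ : φ.range) =
        ⟨φ ⟨((σ⁻¹ ⟨w, h.le hw⟩ : ↥S) : Ω), hWP (h.symm_mem hσ hw)⟩, ⟨_, rfl⟩⟩ :=
      Subtype.ext (hpre w hw).symm
    rw [e, hψx]

theorem resSystem_le (F : FusionSystem S) (W : Subgroup Ω) (h : AutInv F W) :
    resSystem F W h ≤ F := fun _ _ hφ => hφ.1

theorem mem_resSystem_iff (F : FusionSystem S) (W : Subgroup Ω) (h : AutInv F W)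
    {P : Subgroup Ω} (φ : P →* Ω) :
    φ ∈ (resSystem F W h).Hom P ↔
      φ ∈ F.Hom P ∧ ((W ≤ P ∨ W ≤ φ.range) → ActsLike F W h.le φ) := Iff.rfl

/-- **Alperin's theorem as an induction principle, with a threshold.** -/
theorem alp_ind_thr [Finite S] (p : ℕ) [Fact p.Prime] (hS : IsPGroup p S)
    (F : FusionSystem S) (hF : F.IsSaturated p) (E : FusionSystem S) (m : ℕ)
    (h : ∀ U : Subgroup Ω, F.IsFullyNormalized U → F.IsCentric U → m < Nat.card U →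
      Cfsg.Agent.Lib.Helper89.AlpIH F E U → ∀ φ ∈ F.Hom U, φ.range = U → φ ∈ E.Hom U) :
    ∀ A : Subgroup Ω, m < Nat.card A → F.Hom A ⊆ E.Hom A := by
  have key : ∀ j : ℕ, ∀ A : Subgroup Ω, m < Nat.card A → Nat.card S - j < Nat.card A →
      F.Hom A ⊆ E.Hom A := by
    intro j
    induction j with
    | zero =>
      intro A _ hA φ hφ
      exfalso
      have := card_le_of_le (hom_le F hφ)
      omega
    | succ j ih =>
      have h' := Cfsg.Agent.Lib.Helper27.FusGen.alp_thr p hS F hF E (max m (Nat.card S - (j + 1))) ?_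
      · intro A hmA hA
        exact h' A (max_lt hmA hA)
      intro U hUfn hUc hU φ hφ hr
      have hU1 : m < Nat.card U := lt_of_le_of_lt (le_max_left _ _) hU
      have hU2 : Nat.card S - (j + 1) < Nat.card U := lt_of_le_of_lt (le_max_right _ _) hU
      apply h U hUfn hUc hU1 ?_ φ hφ hr
      intro R _ hlt
      apply ih R
      · omega
      · omega
  intro A hmA φ hφ
  have hAS : A ≤ S := hom_le F hφ
  have : Finite A := finite_of_le hAS
  have hpos : 0 < Nat.card A := Nat.card_pos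
  exact key (Nat.card S) A hmA (by omega) hφ

end Cfsg.Agent.Lib.Helper03.Oliver24
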