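import Mathlib
import Cfsg.Agent.Lib.Helper03.IdxPrime

set_option autoImplicit false
set_option linter.deprecated false

/-!
A group `S = A⟨x⟩` with `A` an abelian normal subgroup: the commutator map `κ(a) = [a, x]` on `A`,
its kernel `Z(S)`, its image `[S, S]`, the second centre, and the lower central series.
-/

namespace Cfsg.Agent.Lib.Helper03.UAI

open Cfsg.Agent.Lib.Helper03.IdxPrime
open scoped commutatorElement

variable {Ω : Type*} [Group Ω]

/-- Commutativity of a set of elements `b * x ^ i`. -/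
theorem comm_of_eq_mul_pow (x : Ω) (B : Set Ω) (hB : ∀ b ∈ B, ∀ b' ∈ B, b * b' = b' * b)
    (hBx : ∀ b ∈ B, b * x = x * b) {u v : Ω} (hu : ∃ b ∈ B, ∃ i : ℕ, u = b * x ^ i)
    (hv : ∃ b ∈ B, ∃ i : ℕ, v = b * x ^ i) : u * v = v * u := by
  obtain ⟨b, hb, i, rfl⟩ := hu
  obtain ⟨b', hb', j, rfl⟩ := hv
  have h1 : Commute b b' := hB b hb b' hb'
  have h2 : Commute b x := hBx b hb
  have h3 : Commute b' x := hBx b' hb'
  have h4 : Commute (b * x ^ i) (b' * x ^ j) :=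
    Commute.mul_left (Commute.mul_right h1 (h2.pow_right j))
      (Commute.mul_right (h3.pow_right i).symm (Commute.pow_pow (Commute.refl x) i j))
  exact h4.eq

/-- The setting: `S = A⟨x⟩`, `A` abelian and normal in `S`, `Z(S) ≤ A`. -/
structure Setting (S A : Subgroup Ω) (x : Ω) : Prop where
  hAS : A ≤ S
  comm : ∀ a ∈ A, ∀ b ∈ A, a * b = b * a
  norm : ∀ s ∈ S, ∀ a ∈ A, s * a * s⁻¹ ∈ A
  hxS : x ∈ S
  gen : ∀ s ∈ S, ∃ a ∈ A, ∃ i : ℕ, s = a * x ^ i
  hZA : S ⊓ Subgroup.centralizer (S : Set Ω) ≤ A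

/-- `A` of prime index in the `p`-group `S` is normal. -/
theorem normal_of_index_prime {S A : Subgroup Ω} [Finite S] {p : ℕ} [Fact p.Prime]
    (hS : IsPGroup p S) (hidx : (A.subgroupOf S).index = p) : (A.subgroupOf S).Normal := by
  have hp : p.Prime := Fact.out
  apply Subgroup.normal_of_index_eq_minFac_card
  rw [hidx]
  obtain ⟨n, hn⟩ := IsPGroup.iff_card.mp hS
  have hn0 : n ≠ 0 := by
    rintro rfl
    rw [pow_zero] at hn
    have h1 := Subgroup.card_mul_index (A.subgroupOf S)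
    rw [hn, hidx] at h1
    have : p ∣ 1 := Dvd.intro_left _ h1
    exact hp.one_lt.ne' (Nat.dvd_one.mp this)
  rw [hn, hp.pow_minFac hn0]

theorem conj_mem_of_normal {S A : Subgroup Ω} (hn : (A.subgroupOf S).Normal) (hAS : A ≤ S)
    {s a : Ω} (hs : s ∈ S) (ha : a ∈ A) : s * a * s⁻¹ ∈ A := by
  have := hn.conj_mem ⟨a, hAS ha⟩ (Subgroup.mem_subgroupOf.mpr ha) ⟨s, hs⟩
  exact Subgroup.mem_subgroupOf.mp this

theorem gen_of_index_prime {S A : Subgroup Ω} {p : ℕ} (hp : p.Prime)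
    (hn : (A.subgroupOf S).Normal) (hidx : (A.subgroupOf S).index = p) {x : Ω} (hxS : x ∈ S)
    (hxA : x ∉ A) {s : Ω} (hs : s ∈ S) : ∃ a ∈ A, ∃ i : ℕ, s = a * x ^ i := by
  obtain ⟨h, hh, i, hi⟩ := exists_eq_mul_pow (A.subgroupOf S) hp hidx (x := ⟨x, hxS⟩)
    (fun h => hxA (Subgroup.mem_subgroupOf.mp h)) ⟨s, hs⟩
  refine ⟨h, Subgroup.mem_subgroupOf.mp hh, i, ?_⟩
  have := congrArg (Subtype.val) hi
  simpa using this

/-- The centre of a nonabelian `S` lies in the abelian subgroup `A` of prime index. -/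
theorem center_le_of_index_prime {S A : Subgroup Ω} {p : ℕ} (hp : p.Prime)
    (hn : (A.subgroupOf S).Normal) (hidx : (A.subgroupOf S).index = p) (hAS : A ≤ S)
    (hcomm : ∀ a ∈ A, ∀ b ∈ A, a * b = b * a) (hna : ¬ ∀ s ∈ S, ∀ t ∈ S, s * t = t * s) :
    S ⊓ Subgroup.centralizer (S : Set Ω) ≤ A := by
  intro z hz
  by_contra hzA
  apply hna
  intro s hs t ht
  have hzc := Subgroup.mem_centralizer_iff.mp hz.2
  exact comm_of_eq_mul_pow z (A : Set Ω) hcomm (fun b hb => hzc b (hAS hb))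
    (gen_of_index_prime hp hn hidx hz.1 hzA hs) (gen_of_index_prime hp hn hidx hz.1 hzA ht)

theorem setting_of_index_prime {S A : Subgroup Ω} [Finite S] {p : ℕ} [Fact p.Prime]
    (hS : IsPGroup p S) (hAS : A ≤ S) (hcomm : ∀ a ∈ A, ∀ b ∈ A, a * b = b * a)
    (hidx : (A.subgroupOf S).index = p) (hna : ¬ ∀ s ∈ S, ∀ t ∈ S, s * t = t * s)
    {x : Ω} (hxS : x ∈ S) (hxA : x ∉ A) : Setting S A x := by
  have hp : p.Prime := Fact.out
  have hn := normal_of_index_prime hS hidx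
  exact ⟨hAS, hcomm, fun s hs a ha => conj_mem_of_normal hn hAS hs ha, hxS,
    fun s hs => gen_of_index_prime hp hn hidx hxS hxA hs,
    center_le_of_index_prime hp hn hidx hAS hcomm hna⟩

/-! ### General facts on the centre and second centre of a subgroup -/

theorem center_eq_subgroupOf (S : Subgroup Ω) :
    Subgroup.center ↥S = (S ⊓ Subgroup.centralizer (S : Set Ω)).subgroupOf S := by
  ext z
  rw [Subgroup.mem_center_iff, Subgroup.mem_subgroupOf, Subgroup.mem_inf,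
    Subgroup.mem_centralizer_iff]
  constructor
  · intro h
    refine ⟨z.2, fun t ht => ?_⟩
    have := congrArg Subtype.val (h ⟨t, ht⟩)
    simpa using this
  · rintro ⟨-, h⟩ t
    apply Subtype.ext
    simpa using h t t.2

theorem mem_Z2map_iff (S : Subgroup Ω) (g : Ω) :
    g ∈ (upperCentralSeries ↥S 2).map S.subtype ↔
      g ∈ S ∧ ∀ t ∈ S, g * t * g⁻¹ * t⁻¹ ∈ S ⊓ Subgroup.centralizer (S : Set Ω) := by
  constructor
  · rintro ⟨g', hg', rfl⟩
    refine ⟨g'.2, fun t ht => ?_⟩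
    have h1 : g' ∈ Subgroup.upperCentralSeries ↥S (1 + 1) := hg'
    rw [Subgroup.mem_upperCentralSeries_succ_iff, Subgroup.upperCentralSeries_one,
      center_eq_subgroupOf] at h1
    have h2 := h1 ⟨t, ht⟩
    rw [Subgroup.mem_subgroupOf] at h2
    exact h2
  · rintro ⟨hgS, hg⟩
    refine ⟨⟨g, hgS⟩, ?_, rfl⟩
    show (⟨g, hgS⟩ : S) ∈ Subgroup.upperCentralSeries ↥S (1 + 1)
    rw [Subgroup.mem_upperCentralSeries_succ_iff, Subgroup.upperCentralSeries_one,
      center_eq_subgroupOf]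
    intro t
    rw [Subgroup.mem_subgroupOf]
    exact hg t t.2

namespace Setting

variable {S A : Subgroup Ω} {x : Ω}

/-- An element of `A` commuting with `x` is central in `S`. -/
theorem mem_Z_of_comm (h : Setting S A x) {a : Ω} (ha : a ∈ A) (hax : a * x = x * a) :
    a ∈ S ⊓ Subgroup.centralizer (S : Set Ω) := by
  refine Subgroup.mem_inf.mpr ⟨h.hAS ha, ?_⟩
  rw [Subgroup.mem_centralizer_iff]
  intro s hs
  obtain ⟨b, hb, i, rfl⟩ := h.gen s hs
  have h1 : Commute a b := h.comm a ha b hb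
  have h2 : Commute a x := hax
  exact ((Commute.mul_right h1 (h2.pow_right i)).eq).symm

/-- If `[a, x] = z` is central then `a s a⁻¹ ∈ Z s` for all `s ∈ S`. -/
theorem conj_eq (h : Setting S A x) {a : Ω} (ha : a ∈ A)
    (hz : a * x * a⁻¹ * x⁻¹ ∈ S ⊓ Subgroup.centralizer (S : Set Ω)) {s : Ω} (hs : s ∈ S) :
    ∃ z' ∈ S ⊓ Subgroup.centralizer (S : Set Ω), a * s * a⁻¹ = z' * s := by
  obtain ⟨b, hb, i, rfl⟩ := h.gen s hs
  set z := a * x * a⁻¹ * x⁻¹ with hzdef
  have hzc := Subgroup.mem_centralizer_iff.mp hz.2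
  refine ⟨z ^ i, Subgroup.pow_mem _ hz i, ?_⟩
  have h1 : a * x * a⁻¹ = z * x := by rw [hzdef]; group
  have h2 : a * x ^ i * a⁻¹ = (z * x) ^ i := by
    rw [← h1]
    exact (conj_pow (a := a) (b := x) (i := i)).symm
  have h3 : (z * x) ^ i = z ^ i * x ^ i :=
    (show Commute z x from (hzc x h.hxS).symm).mul_pow i
  have h4 : a * b = b * a := h.comm a ha b hb
  have h5 : z ^ i * b = b * z ^ i := by
    have : Commute z b := (hzc b (h.hAS hb)).symm
    exact (this.pow_left i).eq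
  calc a * (b * x ^ i) * a⁻¹ = (a * b) * x ^ i * a⁻¹ := by group
    _ = b * (a * x ^ i * a⁻¹) := by rw [h4]; group
    _ = b * (z ^ i * x ^ i) := by rw [h2, h3]
    _ = (b * z ^ i) * x ^ i := by group
    _ = z ^ i * (b * x ^ i) := by rw [← h5]; group

theorem mem_Z2_of_comm_mem (h : Setting S A x) {a : Ω} (ha : a ∈ A)
    (hz : a * x * a⁻¹ * x⁻¹ ∈ S ⊓ Subgroup.centralizer (S : Set Ω)) :
    a ∈ (upperCentralSeries ↥S 2).map S.subtype := by
  rw [mem_Z2map_iff]
  refine ⟨h.hAS ha, fun t ht => ?_⟩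
  obtain ⟨z', hz', e⟩ := h.conj_eq ha hz ht
  rw [e]
  simpa using hz'

theorem comm_mem_of_mem_Z2 (h : Setting S A x) {a : Ω}
    (ha : a ∈ (upperCentralSeries ↥S 2).map S.subtype) :
    a * x * a⁻¹ * x⁻¹ ∈ S ⊓ Subgroup.centralizer (S : Set Ω) :=
  ((mem_Z2map_iff S a).mp ha).2 x h.hxS

/-- The commutator map `a ↦ [a, x]` on `A`. -/
def kappa (h : Setting S A x) : ↥A →* ↥A :=
  MonoidHom.mk' (fun a => ⟨a * x * (a : Ω)⁻¹ * x⁻¹, by
    have h1 : x * (a : Ω)⁻¹ * x⁻¹ ∈ A := h.norm x h.hxS _ (A.inv_mem a.2)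
    have h2 : (a : Ω) * x * (a : Ω)⁻¹ * x⁻¹ = a * (x * (a : Ω)⁻¹ * x⁻¹) := by group
    rw [h2]
    exact A.mul_mem a.2 h1⟩) (by
    intro a b
    apply Subtype.ext
    have hu : x * (a : Ω)⁻¹ * x⁻¹ ∈ A := h.norm x h.hxS _ (A.inv_mem a.2)
    have hv : x * (b : Ω)⁻¹ * x⁻¹ ∈ A := h.norm x h.hxS _ (A.inv_mem b.2)
    have hc := h.comm _ (A.mul_mem b.2 hv) _ hu
    show ((a * b : A) : Ω) * x * ((a * b : A) : Ω)⁻¹ * x⁻¹ =
      ((a : Ω) * x * (a : Ω)⁻¹ * x⁻¹) * ((b : Ω) * x * (b : Ω)⁻¹ * x⁻¹)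
    rw [Subgroup.coe_mul]
    calc (a : Ω) * b * x * ((a : Ω) * b)⁻¹ * x⁻¹
        = a * (((b : Ω) * (x * (b : Ω)⁻¹ * x⁻¹)) * (x * (a : Ω)⁻¹ * x⁻¹)) := by group
      _ = a * ((x * (a : Ω)⁻¹ * x⁻¹) * ((b : Ω) * (x * (b : Ω)⁻¹ * x⁻¹))) := by rw [hc]
      _ = _ := by group)

theorem kappa_coe (h : Setting S A x) (a : A) :
    ((h.kappa a : A) : Ω) = a * x * (a : Ω)⁻¹ * x⁻¹ := rfl

theorem kappa_ker (h : Setting S A x) :
    h.kappa.ker = (S ⊓ Subgroup.centralizer (S : Set Ω)).subgroupOf A := by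
  ext a
  rw [MonoidHom.mem_ker, Subgroup.mem_subgroupOf]
  constructor
  · intro h1
    have h2 := congrArg Subtype.val h1
    rw [kappa_coe] at h2
    apply h.mem_Z_of_comm a.2
    have h3 : (a : Ω) * x = ((a : Ω) * x * (a : Ω)⁻¹ * x⁻¹) * x * a := by group
    rw [h3, h2]; simp
  · intro h1
    apply Subtype.ext
    rw [kappa_coe]
    have hzc := Subgroup.mem_centralizer_iff.mp h1.2 x h.hxS
    show (a : Ω) * x * (a : Ω)⁻¹ * x⁻¹ = 1
    rw [← hzc]; group

theorem Z2_comap (h : Setting S A x) :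
    ((upperCentralSeries ↥S 2).map S.subtype).subgroupOf A = h.kappa.ker.comap h.kappa := by
  ext a
  rw [Subgroup.mem_subgroupOf, Subgroup.mem_comap, h.kappa_ker, Subgroup.mem_subgroupOf, kappa_coe]
  exact ⟨fun ha => h.comm_mem_of_mem_Z2 ha, fun hz => h.mem_Z2_of_comm_mem a.2 hz⟩

/-- `κ^j(a) ∈ L_j(S)`. -/
theorem iterate_mem_lcs (h : Setting S A x) (j : ℕ) (a : A) :
    (((h.kappa)^[j] a : A) : Ω) ∈ Subgroup.lowerCentralSeries S j := by
  induction j with
  | zero => exact h.hAS a.2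
  | succ j ih =>
    rw [Function.iterate_succ_apply', kappa_coe, Subgroup.lowerCentralSeries_succ]
    have := Subgroup.commutator_mem_commutator ih h.hxS
    rw [commutatorElement_def] at this
    exact this

/-- `[S, S] = κ(A)`. -/
theorem commutator_map_eq (h : Setting S A x) :
    (commutator ↥S).map S.subtype = h.kappa.range.map A.subtype := by
  apply le_antisymm
  · -- `C = κ(A)` is normal in `S` with abelian quotient
    set C : Subgroup Ω := h.kappa.range.map A.subtype with hC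
    have hCA : C ≤ A := Subgroup.map_subtype_le _
    have hCmem : ∀ a ∈ A, a * x * a⁻¹ * x⁻¹ ∈ C := by
      intro a ha
      exact ⟨h.kappa ⟨a, ha⟩, ⟨⟨a, ha⟩, rfl⟩, rfl⟩
    have hCx : ∀ c ∈ C, x * c * x⁻¹ ∈ C := by
      rintro _ ⟨_, ⟨a, rfl⟩, rfl⟩
      have ha' : x * (a : Ω) * x⁻¹ ∈ A := h.norm x h.hxS _ a.2
      have := hCmem _ ha'
      have e : x * (A.subtype (h.kappa a)) * x⁻¹ =
          (x * (a : Ω) * x⁻¹) * x * (x * (a : Ω) * x⁻¹)⁻¹ * x⁻¹ := by
        rw [Subgroup.coe_subtype, kappa_coe]; group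
      rw [e]; exact this
    have hCxi : ∀ i : ℕ, ∀ c ∈ C, x ^ i * c * (x ^ i)⁻¹ ∈ C := by
      intro i
      induction i with
      | zero => intro c hc; simpa using hc
      | succ i ih =>
        intro c hc
        have := hCx _ (ih c hc)
        have e : x ^ (i + 1) * c * (x ^ (i + 1))⁻¹ = x * (x ^ i * c * (x ^ i)⁻¹) * x⁻¹ := by
          rw [pow_succ']; group
        rw [e]; exact this
    have hCn : (C.subgroupOf S).Normal := by
      constructor
      intro c hc s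
      rw [Subgroup.mem_subgroupOf] at hc ⊢
      obtain ⟨b, hb, i, hs⟩ := h.gen s s.2
      have h1 := hCxi i _ hc
      have h2 : ((s * c * s⁻¹ : S) : Ω) = b * (x ^ i * c * (x ^ i)⁻¹) * b⁻¹ := by
        rw [Subgroup.coe_mul, Subgroup.coe_mul, Subgroup.coe_inv, hs]; group
      rw [h2, h.comm b hb _ (hCA h1)]
      simpa using h1
    -- the quotient is commutative
    have hquot : ∀ u v : ↥S ⧸ C.subgroupOf S, u * v = v * u := by
      intro u v
      obtain ⟨s, rfl⟩ := QuotientGroup.mk_surjective u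
      obtain ⟨t, rfl⟩ := QuotientGroup.mk_surjective v
      let π := QuotientGroup.mk' (C.subgroupOf S)
      let x' : S := ⟨x, h.hxS⟩
      have hB : ∀ b ∈ (π '' {s : S | (s : Ω) ∈ A}), ∀ b' ∈ (π '' {s : S | (s : Ω) ∈ A}),
          b * b' = b' * b := by
        rintro _ ⟨b, hb, rfl⟩ _ ⟨b', hb', rfl⟩
        rw [← map_mul, ← map_mul]
        congr 1
        exact Subtype.ext (h.comm _ hb _ hb')
      have hBx : ∀ b ∈ (π '' {s : S | (s : Ω) ∈ A}), b * π x' = π x' * b := by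
        rintro _ ⟨b, hb, rfl⟩
        have h1 : b * x' * b⁻¹ * x'⁻¹ ∈ C.subgroupOf S := by
          rw [Subgroup.mem_subgroupOf]
          exact hCmem _ hb
        have h2 : π (b * x' * b⁻¹ * x'⁻¹) = 1 := (QuotientGroup.eq_one_iff _).mpr h1
        rw [map_mul, map_mul, map_mul, map_inv, map_inv] at h2
        have h3 : π b * π x' = (π b * π x' * (π b)⁻¹ * (π x')⁻¹) * π x' * π b := by group
        rw [h3, h2]; group
      have hrep : ∀ s : S, ∃ b ∈ (π '' {s : S | (s : Ω) ∈ A}), ∃ i : ℕ, π s = b * π x' ^ i := by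
        intro s
        obtain ⟨b, hb, i, hs⟩ := h.gen s s.2
        refine ⟨π ⟨b, h.hAS hb⟩, ⟨⟨b, h.hAS hb⟩, hb, rfl⟩, i, ?_⟩
        rw [← map_pow, ← map_mul]
        congr 1
        apply Subtype.ext
        rw [Subgroup.coe_mul, Subgroup.coe_pow]
        exact hs
      exact comm_of_eq_mul_pow (π x') _ hB hBx (hrep s) (hrep t)
    have hle : commutator ↥S ≤ C.subgroupOf S := by
      rw [commutator_def, Subgroup.commutator_le]
      intro s _ t _
      rw [← QuotientGroup.eq_one_iff, commutatorElement_def]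
      rw [QuotientGroup.mk_mul, QuotientGroup.mk_mul, QuotientGroup.mk_mul, QuotientGroup.mk_inv,
        QuotientGroup.mk_inv, hquot (s : ↥S ⧸ C.subgroupOf S)]
      group
    rintro _ ⟨s, hs, rfl⟩
    exact Subgroup.mem_subgroupOf.mp (hle hs)
  · rintro _ ⟨_, ⟨a, rfl⟩, rfl⟩
    refine ⟨⁅(⟨a, h.hAS a.2⟩ : S), ⟨x, h.hxS⟩⁆, ?_, ?_⟩
    · rw [commutator_def]
      exact Subgroup.commutator_mem_commutator (Subgroup.mem_top _) (Subgroup.mem_top _)
    · rw [commutatorElement_def]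
      rfl

end Setting

end Cfsg.Agent.Lib.Helper03.UAI
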