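import Mathlib
import Cfsg.Prelude.Def_FusionSystem
import Cfsg.Agent.Lib.Helper03.FusEss2
import Cfsg.Agent.Lib.Helper03.UniqueAbIdx
import Cfsg.Agent.Lib.Helper03.KappaEnd

set_option autoImplicit false
set_option linter.deprecated false

/-!
Oliver's lemma on essential subgroups of saturated fusion systems over a `p`-group with a unique
abelian subgroup of index `p`.
-/

namespace Cfsg.Agent.Lib.Helper03.OliverLemma

open Cfsg Cfsg.FusionSystem Cfsg.Agent.Lib.Helper03.FusEss Cfsg.Agent.Lib.Helper03.UAI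
  Cfsg.Agent.Lib.Helper03.IdxPrime Cfsg.Agent.Lib.Helper03.KappaEnd

variable {Ω : Type*} [Group Ω] {S : Subgroup Ω}

/-- `Z(S)` inside `Ω`. -/
abbrev ZZ (S : Subgroup Ω) : Subgroup Ω := S ⊓ Subgroup.centralizer (S : Set Ω)

/-- `Z₂(S)` inside `Ω`. -/
abbrev ZZ2 (S : Subgroup Ω) : Subgroup Ω := (upperCentralSeries ↥S 2).map S.subtype

theorem ZZ_comm {z s : Ω} (hz : z ∈ ZZ S) (hs : s ∈ S) : s * z = z * s :=
  Subgroup.mem_centralizer_iff.mp hz.2 s hs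

theorem relIndex_eq_prime {A P : Subgroup Ω} {p : ℕ} (hp : p.Prime)
    (hn : (A.subgroupOf S).Normal) (hidx : (A.subgroupOf S).index = p) (hPS : P ≤ S)
    (hPA : ¬ P ≤ A) : A.relIndex P = p := by
  have h1 : (A.subgroupOf S).relIndex (P.subgroupOf S) ∣ (A.subgroupOf S).index :=
    Subgroup.relIndex_dvd_index_of_normal _ _
  rw [Subgroup.relIndex_subgroupOf hPS, hidx] at h1
  rcases (Nat.dvd_prime hp).mp h1 with h2 | h2
  · exact absurd (Subgroup.relIndex_eq_one.mp h2) hPA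
  · exact h2

section setting

variable {A P : Subgroup Ω} {x : Ω}

theorem dec (h : Setting S A x) (hPS : P ≤ S) (hxP : x ∈ P) {u : Ω} (hu : u ∈ P) :
    ∃ b, (b ∈ P ∧ b ∈ A) ∧ ∃ i : ℕ, u = b * x ^ i := by
  obtain ⟨b, hb, i, rfl⟩ := h.gen u (hPS hu)
  refine ⟨b, ⟨?_, hb⟩, i, rfl⟩
  have : b = b * x ^ i * (x ^ i)⁻¹ := by group
  rw [this]
  exact P.mul_mem hu (P.inv_mem (P.pow_mem hxP i))

/-- Elements of `A ∩ Z₂(S)` normalize any `P` with `Z(S) ≤ P ≤ S`. -/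
theorem mem_normalizer_of_mem_Z2 (h : Setting S A x) (hPS : P ≤ S) (hZP : ZZ S ≤ P) {a : Ω}
    (ha : a ∈ A) (ha2 : a ∈ ZZ2 S) : a ∈ Subgroup.normalizer (P : Set Ω) := by
  have key : ∀ a ∈ A, a ∈ ZZ2 S → ∀ u ∈ P, a * u * a⁻¹ ∈ P := by
    intro a ha ha2 u hu
    obtain ⟨z', hz', e⟩ := h.conj_eq ha (h.comm_mem_of_mem_Z2 ha2) (hPS hu)
    rw [e]
    exact P.mul_mem (hZP hz') hu
  rw [Subgroup.mem_normalizer_iff]
  intro u
  constructor
  · exact key a ha ha2 u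
  · intro hu
    have := key a⁻¹ (A.inv_mem ha) ((ZZ2 S).inv_mem ha2) _ hu
    have e : a⁻¹ * (a * u * a⁻¹) * a⁻¹⁻¹ = u := by group
    rwa [e] at this

/-- If `Z₂(S) ≰ A` then `A ≤ Z₂(S)`. -/
theorem le_Z2_of_not_le {p : ℕ} (hp : p.Prime) (h : Setting S A x)
    (hn : (A.subgroupOf S).Normal) (hidx : (A.subgroupOf S).index = p) {w : Ω} (hw : w ∈ ZZ2 S)
    (hwA : w ∉ A) : A ≤ ZZ2 S := by
  have hwS : w ∈ S := ((mem_Z2map_iff S w).mp hw).1
  have hW : Setting S A w :=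
    ⟨h.hAS, h.comm, h.norm, hwS, fun s hs => gen_of_index_prime hp hn hidx hwS hwA hs, h.hZA⟩
  intro a ha
  apply hW.mem_Z2_of_comm_mem ha
  have h1 := ((mem_Z2map_iff S w).mp hw).2 a (h.hAS ha)
  have e : a * w * a⁻¹ * w⁻¹ = (w * a * w⁻¹ * a⁻¹)⁻¹ := by group
  rw [e]
  exact (ZZ S).inv_mem h1

end setting

section fusion

variable {A P : Subgroup Ω} {x : Ω}

theorem ZZ_le_of_isEssential (F : FusionSystem S) {p : ℕ} (hP : F.IsEssential p P) : ZZ S ≤ P := by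
  intro z hz
  apply centralizerIn_le_of_isEssential F hP
  rw [Helper87.mem_centralizerIn]
  exact ⟨hz.1, fun u hu => ZZ_comm hz (hP.1.1 hu)⟩

/-- Stage 1: some `F`-automorphism of `P` moves `P ∩ A` out of `A`. -/
theorem exists_aut_moving [Finite S] {p : ℕ} [Fact p.Prime] (hS : IsPGroup p S)
    (F : FusionSystem S) (hP : F.IsEssential p P) (h : Setting S A x) (hxP : x ∈ P)
    (hPne : P ≠ S) :
    ∃ α ∈ F.autGroup P, ∃ y : P, (y : Ω) ∈ A ∧ ((α y : P) : Ω) ∉ A := by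
  have hPS : P ≤ S := hP.1.1
  by_contra hcon
  push Not at hcon
  obtain ⟨g, hgN, hgP⟩ := Helper89.exists_mem_normalizerIn_not_mem hS hPS hPne
  have hgS : g ∈ S := (Subgroup.mem_inf.mp hgN).1
  have hgN' : g ∈ Subgroup.normalizer (P : Set Ω) := (Subgroup.mem_inf.mp hgN).2
  obtain ⟨a, ha, i, hg⟩ := h.gen g hgS
  have hxi : x ^ i ∈ P := P.pow_mem hxP i
  have haN : a ∈ Subgroup.normalizer (P : Set Ω) := by
    have e : a = g * (x ^ i)⁻¹ := by rw [hg]; group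
    rw [e]
    exact Subgroup.mul_mem _ hgN' (Subgroup.inv_mem _ (Subgroup.le_normalizer hxi))
  apply hgP
  rw [hg]
  refine P.mul_mem ?_ hxi
  refine mem_of_stab_two hS F hP A hcon (h.hAS ha) haN ?_ ?_
  · intro y hy _
    rw [h.comm a ha y hy]; group
  · intro u hu
    have h1 : u⁻¹ * a * u⁻¹⁻¹ ∈ A := h.norm u⁻¹ (S.inv_mem (hPS hu)) a ha
    have e : u⁻¹ * (a * u * a⁻¹) = (u⁻¹ * a * u⁻¹⁻¹) * a⁻¹ := by group
    rw [e]
    exact A.mul_mem h1 (A.inv_mem ha)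

theorem normalizer_dec (h : Setting S A x) (hxP : x ∈ P) {g : Ω}
    (hg : g ∈ S ⊓ Subgroup.normalizer (P : Set Ω)) :
    ∃ a, (a ∈ A ∧ a ∈ Subgroup.normalizer (P : Set Ω)) ∧ ∃ i : ℕ, g = a * x ^ i := by
  obtain ⟨a, ha, i, hgi⟩ := h.gen g hg.1
  refine ⟨a, ⟨ha, ?_⟩, i, hgi⟩
  have e : a = g * (x ^ i)⁻¹ := by rw [hgi]; group
  rw [e]
  exact Subgroup.mul_mem _ hg.2 (Subgroup.inv_mem _ (Subgroup.le_normalizer (P.pow_mem hxP i)))

theorem abelian_case [Finite S] {p : ℕ} [Fact p.Prime] (hS : IsPGroup p S) (F : FusionSystem S)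
    (hF : F.IsSaturated p) (hP : F.IsEssential p P) (h : Setting S A x) (hxP : x ∈ P)
    (hn : (A.subgroupOf S).Normal) (hidxAS : (A.subgroupOf S).index = p)
    (hidxAP : A.relIndex P = p)
    (huniq : ∀ B : Subgroup Ω, B ≤ S → IsMulCommutative ↥B → (B.subgroupOf S).index = p → B = A)
    (hPA : P ≠ A) (hPc : ∀ u ∈ P, ∀ v ∈ P, u * v = v * u) :
    P = ZZ S ⊔ Subgroup.zpowers x ∧ P.relIndex (S ⊓ Subgroup.normalizer (P : Set Ω)) = p ∧
      ZZ2 S ≤ A ∧ (ZZ S).relIndex (ZZ2 S) = p := by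
  have hp : p.Prime := Fact.out
  have hPS : P ≤ S := hP.1.1
  have hZP : ZZ S ≤ P := ZZ_le_of_isEssential F hP
  have hPAZ : ∀ b ∈ P, b ∈ A → b ∈ ZZ S := fun b hb hbA => h.mem_Z_of_comm hbA (hPc b hb x hxP)
  have hshape : P = ZZ S ⊔ Subgroup.zpowers x := by
    apply le_antisymm
    · intro u hu
      obtain ⟨b, ⟨hbP, hbA⟩, i, rfl⟩ := dec h hPS hxP hu
      exact Subgroup.mul_mem _ (Subgroup.mem_sup_left (hPAZ b hbP hbA))
        (Subgroup.mem_sup_right (Subgroup.pow_mem _ (Subgroup.mem_zpowers x) i))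
    · exact sup_le hZP (by rw [Subgroup.zpowers_le]; exact hxP)
  have hidx : P.relIndex (S ⊓ Subgroup.normalizer (P : Set Ω)) = p := by
    refine relIndex_normalizerIn_eq_prime_of_comm hS F hF hP hPc A hidxAP ?_ ?_
    · intro g hg w hwA hwP
      have := ZZ_comm (hPAZ w hwP hwA) (Subgroup.mem_inf.mp hg).1
      rw [this]; group
    · intro g hg u hu
      obtain ⟨a, ⟨ha, -⟩, i, hgi⟩ := normalizer_dec h hxP hg
      have hc : x ^ i * u = u * x ^ i := hPc _ (P.pow_mem hxP i) u hu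
      have e : u⁻¹ * (g * u * g⁻¹) = (u⁻¹ * a * u⁻¹⁻¹) * a⁻¹ := by
        rw [hgi]
        calc u⁻¹ * (a * x ^ i * u * (a * x ^ i)⁻¹)
            = u⁻¹ * (a * (x ^ i * u) * (x ^ i)⁻¹ * a⁻¹) := by group
          _ = u⁻¹ * (a * (u * x ^ i) * (x ^ i)⁻¹ * a⁻¹) := by rw [hc]
          _ = _ := by group
      rw [e]
      exact A.mul_mem (h.norm u⁻¹ (S.inv_mem (hPS hu)) a ha) (A.inv_mem ha)
  have hNA : ∀ a ∈ A, a ∈ Subgroup.normalizer (P : Set Ω) → a ∈ ZZ2 S := by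
    intro a ha haN
    apply h.mem_Z2_of_comm_mem ha
    have h1 : a * x * a⁻¹ ∈ P := (Subgroup.mem_normalizer_iff.mp haN x).mp hxP
    have h2 : a * x * a⁻¹ * x⁻¹ ∈ P := P.mul_mem h1 (P.inv_mem hxP)
    have h3 : a * x * a⁻¹ * x⁻¹ ∈ A := by
      have e : a * x * a⁻¹ * x⁻¹ = a * (x * a⁻¹ * x⁻¹) := by group
      rw [e]
      exact A.mul_mem ha (h.norm x h.hxS _ (A.inv_mem ha))
    exact hPAZ _ h2 h3
  have hZ2A : ZZ2 S ≤ A := by
    by_contra hle
    obtain ⟨w, hw, hwA⟩ := SetLike.not_le_iff_exists.mp hle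
    have hAZ2 := le_Z2_of_not_le hp h hn hidxAS hw hwA
    have hSN : S ≤ Subgroup.normalizer (P : Set Ω) := by
      intro s hs
      obtain ⟨a, ha, i, rfl⟩ := h.gen s hs
      exact Subgroup.mul_mem _ (mem_normalizer_of_mem_Z2 h hPS hZP ha (hAZ2 ha))
        (Subgroup.le_normalizer (P.pow_mem hxP i))
    have hSN' : S ⊓ Subgroup.normalizer (P : Set Ω) = S := inf_eq_left.mpr hSN
    rw [hSN'] at hidx
    exact hPA (huniq P hPS ⟨⟨fun a b => Subtype.ext (hPc a a.2 b b.2)⟩⟩ hidx)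
  refine ⟨hshape, hidx, hZ2A, ?_⟩
  have hprod := relIndex_eq_of_prod P (A ⊓ Subgroup.normalizer (P : Set Ω))
    (S ⊓ Subgroup.normalizer (P : Set Ω))
    (le_inf hPS Subgroup.le_normalizer) (inf_le_inf_right _ h.hAS) inf_le_right
    (by
      intro g hg
      obtain ⟨a, ha, i, hgi⟩ := normalizer_dec h hxP hg
      exact ⟨a, ha, x ^ i, P.pow_mem hxP i, hgi⟩)
  have e1 : P ⊓ (A ⊓ Subgroup.normalizer (P : Set Ω)) = ZZ S := by
    apply le_antisymm
    · intro u hu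
      exact hPAZ u hu.1 hu.2.1
    · intro z hz
      exact ⟨hZP hz, h.hZA hz, Subgroup.le_normalizer (hZP hz)⟩
  have e2 : A ⊓ Subgroup.normalizer (P : Set Ω) = ZZ2 S := by
    apply le_antisymm
    · intro a ha
      exact hNA a ha.1 ha.2
    · intro a ha
      exact ⟨hZ2A ha, mem_normalizer_of_mem_Z2 h hPS hZP (hZ2A ha) ha⟩
  rw [e1, e2, hidx] at hprod
  exact hprod.symm

theorem nonabelian_case [Finite S] {p : ℕ} [Fact p.Prime] (hS : IsPGroup p S)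
    (F : FusionSystem S) (hP : F.IsEssential p P) (h : Setting S A x)
    (hn : (A.subgroupOf S).Normal) (hidxAS : (A.subgroupOf S).index = p)
    (hidxAP : A.relIndex P = p)
    (α : MulAut P) (y : P) (hyA : (y : Ω) ∈ A)
    (hxy : x = ((α y : P) : Ω))
    (hPnc : ¬ ∀ u ∈ P, ∀ v ∈ P, u * v = v * u) (hPne : P ≠ S) :
    ZZ2 S ≤ A ∧ P = ZZ2 S ⊔ Subgroup.zpowers x ∧
      P.relIndex (S ⊓ Subgroup.normalizer (P : Set Ω)) = p ∧ (ZZ S).relIndex (ZZ2 S) = p := by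
  have hp : p.Prime := Fact.out
  have hPS : P ≤ S := hP.1.1
  have hZP : ZZ S ≤ P := ZZ_le_of_isEssential F hP
  have hxP : x ∈ P := by rw [hxy]; exact (α y).2
  -- the centre of P
  have hcenter : ∀ u ∈ P, (∀ v ∈ P, u * v = v * u) → u ∈ ZZ S := by
    intro u hu huc
    by_cases huA : u ∈ A
    · exact h.mem_Z_of_comm huA (huc x hxP)
    · exfalso
      apply hPnc
      intro v hv v' hv'
      have hgen : ∀ v ∈ P, ∃ b ∈ {b : Ω | b ∈ A ∧ b ∈ P}, ∃ i : ℕ, v = b * u ^ i := by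
        intro v hv
        obtain ⟨b, hb, i, hvi⟩ := gen_of_index_prime hp hn hidxAS (hPS hu) huA (hPS hv)
        refine ⟨b, ⟨hb, ?_⟩, i, hvi⟩
        have e : b = v * (u ^ i)⁻¹ := by rw [hvi]; group
        rw [e]
        exact P.mul_mem hv (P.inv_mem (P.pow_mem hu i))
      exact comm_of_eq_mul_pow u _ (fun b hb b' hb' => h.comm b hb.1 b' hb'.1)
        (fun b hb => (huc b hb.2).symm) (hgen v hv) (hgen v' hv')
  have hZc : ∀ w : P, (w : Ω) ∈ ZZ S → ∀ t : P, w * t = t * w := by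
    intro w hw t
    apply Subtype.ext
    exact (ZZ_comm hw (hPS t.2)).symm
  have hinvZ : ∀ β ∈ F.autGroup P, ∀ w : P, (w : Ω) ∈ ZZ S → ((β w : P) : Ω) ∈ ZZ S := by
    intro β _ w hw
    apply hcenter _ (β w).2
    intro v hv
    have e : (⟨v, hv⟩ : P) = β (β.symm ⟨v, hv⟩) := (β.apply_symm_apply _).symm
    have h1 : β w * ⟨v, hv⟩ = ⟨v, hv⟩ * β w := by
      rw [e, ← map_mul, ← map_mul, hZc w hw]
    exact congrArg Subtype.val h1
  -- κ(P ∩ A) ≤ Z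
  have hκ : ∀ b ∈ P, b ∈ A → b * x * b⁻¹ * x⁻¹ ∈ ZZ S := by
    intro b hb hbA
    set b' : P := ⟨b, hb⟩ with hb'
    set w : P := (α.symm b') * y * (α.symm b')⁻¹ * y⁻¹ with hw
    have hwA : (w : Ω) ∈ A := by
      have h1 := h.norm _ (hPS (α.symm b').2) _ hyA
      exact A.mul_mem h1 (A.inv_mem hyA)
    have hwy : w * y = y * w := Subtype.ext (h.comm _ hwA _ hyA)
    have hαw : ((α w : P) : Ω) = b * x * b⁻¹ * x⁻¹ := by
      rw [hw, map_mul, map_mul, map_mul, map_inv, map_inv, α.apply_symm_apply, hxy]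
      rfl
    have hcA : b * x * b⁻¹ * x⁻¹ ∈ A := by
      have e : b * x * b⁻¹ * x⁻¹ = b * (x * b⁻¹ * x⁻¹) := by group
      rw [e]
      exact A.mul_mem hbA (h.norm x h.hxS _ (A.inv_mem hbA))
    apply h.mem_Z_of_comm hcA
    have h2 : α w * α y = α y * α w := by rw [← map_mul, ← map_mul, hwy]
    have h3 := congrArg Subtype.val h2
    rw [Subgroup.coe_mul, Subgroup.coe_mul, hαw, ← hxy] at h3
    exact h3
  have hPA2 : ∀ b ∈ P, b ∈ A → b ∈ ZZ2 S :=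
    fun b hb hbA => h.mem_Z2_of_comm_mem hbA (hκ b hb hbA)
  have hA2P : ∀ a ∈ A, a ∈ ZZ2 S → a ∈ P := by
    intro a ha ha2
    have haN := mem_normalizer_of_mem_Z2 h hPS hZP ha ha2
    refine mem_of_stab_two hS F hP (ZZ S) hinvZ (h.hAS ha) haN ?_ ?_
    · intro w hw _
      rw [ZZ_comm hw (h.hAS ha)]; group
    · intro u hu
      obtain ⟨z', hz', e⟩ := h.conj_eq ha (h.comm_mem_of_mem_Z2 ha2) (hPS hu)
      rw [e, ← ZZ_comm hz' (hPS hu)]
      simpa using hz'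
  have hZ2A : ZZ2 S ≤ A := by
    by_contra hle
    obtain ⟨w, hw, hwA⟩ := SetLike.not_le_iff_exists.mp hle
    have hAZ2 := le_Z2_of_not_le hp h hn hidxAS hw hwA
    apply hPne
    apply le_antisymm hPS
    intro s hs
    obtain ⟨a, ha, i, rfl⟩ := h.gen s hs
    exact P.mul_mem (hA2P a ha (hAZ2 ha)) (P.pow_mem hxP i)
  have hP0 : P ⊓ A = ZZ2 S := by
    apply le_antisymm
    · intro b hb; exact hPA2 b hb.1 hb.2
    · intro a ha; exact ⟨hA2P a (hZ2A ha) ha, hZ2A ha⟩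
  have hshape : P = ZZ2 S ⊔ Subgroup.zpowers x := by
    apply le_antisymm
    · intro u hu
      obtain ⟨b, hb, i, rfl⟩ := dec h hPS hxP hu
      exact Subgroup.mul_mem _ (Subgroup.mem_sup_left (hPA2 b hb.1 hb.2))
        (Subgroup.mem_sup_right (Subgroup.pow_mem _ (Subgroup.mem_zpowers x) i))
    · refine sup_le ?_ (by rw [Subgroup.zpowers_le]; exact hxP)
      intro a ha; exact hA2P a (hZ2A ha) ha
  -- |Z₂ : Z| ∣ p
  have hrelZ : (ZZ S).relIndex (ZZ2 S) ∣ p := by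
    set AP : Subgroup P := A.subgroupOf P with hAP
    set Q : Subgroup P := AP.map α.toMonoidHom with hQ
    have hAPn : AP.Normal := by
      constructor
      intro n hn' g
      rw [hAP, Subgroup.mem_subgroupOf] at hn' ⊢
      exact h.norm _ (hPS g.2) _ hn'
    have hQn : Q.Normal := hAPn.map α.toMonoidHom α.surjective
    have hQidx : Q.index = p := (Subgroup.index_map_equiv AP α).trans hidxAP
    have hle : AP ⊓ Q ≤ (ZZ S).subgroupOf P := by
      rintro u ⟨huA, b, hbA, rfl⟩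
      rw [Subgroup.mem_subgroupOf]
      apply h.mem_Z_of_comm (Subgroup.mem_subgroupOf.mp huA)
      have hby : b * y = y * b := Subtype.ext (h.comm _ (Subgroup.mem_subgroupOf.mp hbA) _ hyA)
      have h2 : α b * α y = α y * α b := by rw [← map_mul, ← map_mul, hby]
      have h3 := congrArg Subtype.val h2
      rw [Subgroup.coe_mul, Subgroup.coe_mul, ← hxy] at h3
      exact h3
    have h1 : Q.relIndex AP ∣ p := hQidx ▸ Subgroup.relIndex_dvd_index_of_normal Q AP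
    have h2 : (AP ⊓ Q).relIndex AP = Q.relIndex AP := Subgroup.inf_relIndex_left AP Q
    have h3 : ((ZZ S).subgroupOf P).relIndex AP ∣ (AP ⊓ Q).relIndex AP :=
      Subgroup.relIndex_dvd_of_le_left AP hle
    have h4 : ((ZZ S).subgroupOf P).relIndex AP = (ZZ S).relIndex (ZZ2 S) := by
      rw [hAP, ← Subgroup.inf_subgroupOf_right A P, Subgroup.relIndex_subgroupOf inf_le_right,
        inf_comm, hP0]
    rw [← h4]
    exact h3.trans (h2 ▸ h1)
  have hrelZ1 : (ZZ S).relIndex (ZZ2 S) ≠ 1 := by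
    intro h1
    rw [Subgroup.relIndex_eq_one] at h1
    apply hPnc
    intro u hu v hv
    have hgen : ∀ v ∈ P, ∃ b ∈ ((ZZ S : Subgroup Ω) : Set Ω), ∃ i : ℕ, v = b * x ^ i := by
      intro v hv
      obtain ⟨b, hb, i, hvi⟩ := dec h hPS hxP hv
      exact ⟨b, h1 (hPA2 b hb.1 hb.2), i, hvi⟩
    exact comm_of_eq_mul_pow x _ (fun b hb b' hb' => (ZZ_comm hb' hb.1))
      (fun b hb => (ZZ_comm hb h.hxS).symm) (hgen u hu) (hgen v hv)
  have hrelZp : (ZZ S).relIndex (ZZ2 S) = p := by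
    rcases (Nat.dvd_prime hp).mp hrelZ with h1 | h1
    · exact absurd h1 hrelZ1
    · exact h1
  refine ⟨hZ2A, hshape, ?_, hrelZp⟩
  -- the index
  have hprod := relIndex_eq_of_prod P (A ⊓ Subgroup.normalizer (P : Set Ω))
    (S ⊓ Subgroup.normalizer (P : Set Ω))
    (le_inf hPS Subgroup.le_normalizer) (inf_le_inf_right _ h.hAS) inf_le_right
    (by
      intro g hg
      obtain ⟨a, ha, i, hgi⟩ := normalizer_dec h hxP hg
      exact ⟨a, ha, x ^ i, P.pow_mem hxP i, hgi⟩)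
  have e1 : P ⊓ (A ⊓ Subgroup.normalizer (P : Set Ω)) = ZZ2 S := by
    rw [← hP0]
    apply le_antisymm
    · intro u hu; exact ⟨hu.1, hu.2.1⟩
    · intro u hu; exact ⟨hu.1, hu.2, Subgroup.le_normalizer hu.1⟩
  rw [e1] at hprod
  set NA := A ⊓ Subgroup.normalizer (P : Set Ω) with hNA
  have hNAA : NA ≤ A := inf_le_left
  have hZ2NA : ZZ2 S ≤ NA := by rw [← e1]; exact inf_le_right
  have hAcomm : ∀ a b : A, a * b = b * a := fun a b => Subtype.ext (h.comm a a.2 b b.2)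
  have hZ2' : (ZZ2 S).subgroupOf A = h.kappa.ker.comap h.kappa := h.Z2_comap
  have hNA' : NA.subgroupOf A ≤ ((ZZ2 S).subgroupOf A).comap h.kappa := by
    intro a ha
    rw [Subgroup.mem_subgroupOf] at ha
    rw [Subgroup.mem_comap, Subgroup.mem_subgroupOf, Setting.kappa_coe, ← hP0]
    have h1 : (a : Ω) * x * (a : Ω)⁻¹ ∈ P := (Subgroup.mem_normalizer_iff.mp ha.2 x).mp hxP
    refine ⟨P.mul_mem h1 (P.inv_mem hxP), ?_⟩
    have e : (a : Ω) * x * (a : Ω)⁻¹ * x⁻¹ = a * (x * (a : Ω)⁻¹ * x⁻¹) := by group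
    rw [e]
    exact A.mul_mem a.2 (h.norm x h.hxS _ (A.inv_mem a.2))
  have hle1 : (ZZ2 S).subgroupOf A ≤ NA.subgroupOf A := by
    intro a ha
    rw [Subgroup.mem_subgroupOf] at ha ⊢
    exact hZ2NA ha
  have hd1 : ((ZZ2 S).subgroupOf A).relIndex (NA.subgroupOf A) ∣
      ((ZZ2 S).subgroupOf A).relIndex (((ZZ2 S).subgroupOf A).comap h.kappa) :=
    Dvd.intro _ (Subgroup.relIndex_mul_relIndex _ _ _ hle1 hNA')
  have hkerle : h.kappa.ker ≤ h.kappa.ker.comap h.kappa := by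
    intro a ha
    rw [Subgroup.mem_comap, MonoidHom.mem_ker.mp ha]
    exact Subgroup.one_mem _
  have hd2 : ((ZZ2 S).subgroupOf A).relIndex (((ZZ2 S).subgroupOf A).comap h.kappa) ∣
      h.kappa.ker.relIndex ((ZZ2 S).subgroupOf A) := by
    rw [hZ2']
    exact relIndex_comap_dvd hAcomm h.kappa _ _ hkerle
  have hd3 : h.kappa.ker.relIndex ((ZZ2 S).subgroupOf A) = p := by
    rw [h.kappa_ker, Subgroup.relIndex_subgroupOf hZ2A]
    exact hrelZp
  have hd4 : ((ZZ2 S).subgroupOf A).relIndex (NA.subgroupOf A) = (ZZ2 S).relIndex NA :=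
    Subgroup.relIndex_subgroupOf hNAA
  have hdvd : P.relIndex (S ⊓ Subgroup.normalizer (P : Set Ω)) ∣ p := by
    rw [hprod, ← hd4, ← hd3]
    exact hd1.trans hd2
  rcases (Nat.dvd_prime hp).mp hdvd with h1 | h1
  · exfalso
    rw [Subgroup.relIndex_eq_one] at h1
    obtain ⟨g, hgN, hgP⟩ := Helper89.exists_mem_normalizerIn_not_mem hS hPS hPne
    exact hgP (h1 hgN)
  · exact h1

/-- Oliver's lemma, core form (`P ≠ A`). -/
theorem core [Finite S] (p : ℕ) [Fact p.Prime] (hS : IsPGroup p S) (F : FusionSystem S)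
    (hF : F.IsSaturated p) (hna : ¬ IsMulCommutative ↥S) (A : Subgroup Ω)
    (hA : A ≤ S ∧ IsMulCommutative ↥A ∧ (A.subgroupOf S).index = p)
    (huniq : ∀ B : Subgroup Ω, B ≤ S → IsMulCommutative ↥B → (B.subgroupOf S).index = p → B = A)
    (P : Subgroup Ω) (hP : F.IsEssential p P) (hPA : P ≠ A) :
    ∃ x, x ∈ P ∧ x ∉ A ∧ Setting S A x ∧ ZZ2 S ≤ A ∧
      (P = ZZ S ⊔ Subgroup.zpowers x ∨ P = ZZ2 S ⊔ Subgroup.zpowers x) ∧
      P.relIndex (S ⊓ Subgroup.normalizer (P : Set Ω)) = p ∧ (ZZ S).relIndex (ZZ2 S) = p := by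
  have hp : p.Prime := Fact.out
  have hPS : P ≤ S := hP.1.1
  have hAS : A ≤ S := hA.1
  have hAc : ∀ a ∈ A, ∀ b ∈ A, a * b = b * a := fun a ha b hb =>
    congrArg Subtype.val (hA.2.1.is_comm.comm ⟨a, ha⟩ ⟨b, hb⟩)
  have hna' : ¬ ∀ s ∈ S, ∀ t ∈ S, s * t = t * s :=
    fun h => hna ⟨⟨fun a b => Subtype.ext (h a a.2 b b.2)⟩⟩
  have hn := normal_of_index_prime hS hA.2.2
  have hPne : P ≠ S := Helper91.ne_top_of_isEssential p F hF hP
  have hPA' : ¬ P ≤ A := by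
    intro hle
    apply hPA
    apply le_antisymm hle
    intro a ha
    apply centralizerIn_le_of_isEssential F hP
    rw [Helper87.mem_centralizerIn]
    exact ⟨hAS ha, fun u hu => hAc u (hle hu) a ha⟩
  obtain ⟨x₀, hx₀P, hx₀A⟩ := SetLike.not_le_iff_exists.mp hPA'
  have h₀ := setting_of_index_prime hS hAS hAc hA.2.2 hna' (hPS hx₀P) hx₀A
  obtain ⟨α, -, y, hyA, hαy⟩ := exists_aut_moving hS F hP h₀ hx₀P hPne
  have hxP : ((α y : P) : Ω) ∈ P := (α y).2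
  have h := setting_of_index_prime hS hAS hAc hA.2.2 hna' (hPS hxP) hαy
  have hidxAP := relIndex_eq_prime hp hn hA.2.2 hPS hPA'
  by_cases hPc : ∀ u ∈ P, ∀ v ∈ P, u * v = v * u
  · obtain ⟨h1, h2, h3, h4⟩ := abelian_case hS F hF hP h hxP hn hA.2.2 hidxAP huniq hPA hPc
    exact ⟨_, hxP, hαy, h, h3, Or.inl h1, h2, h4⟩
  · obtain ⟨h1, h2, h3, h4⟩ :=
      nonabelian_case hS F hP h hn hA.2.2 hidxAP α y hyA rfl hPc hPne
    exact ⟨_, hxP, hαy, h, h1, Or.inr h2, h3, h4⟩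

end fusion

end Cfsg.Agent.Lib.Helper03.OliverLemma
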