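import Mathlib
import Cfsg.Agent.Lib.Helper03.UniqueAbIdx
import Cfsg.Agent.Lib.Helper03.KappaEnd

set_option autoImplicit false
set_option linter.deprecated false

/-!
Oliver's lemma, part (b): consequences of `|Z₂(S) : Z(S)| = p` in a group `S = A⟨x⟩`.
-/

namespace Cfsg.Agent.Lib.Helper03.OliverLemma2

open Cfsg.Agent.Lib.Helper03.UAI Cfsg.Agent.Lib.Helper03.KappaEnd

variable {Ω : Type*} [Group Ω] {S A : Subgroup Ω} {x : Ω}

theorem partB [Finite S] {p : ℕ} (hp : p.Prime) (h : Setting S A x)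
    (hidxAS : (A.subgroupOf S).index = p)
    (hZ2A : (upperCentralSeries ↥S 2).map S.subtype ≤ A)
    (hrel : (S ⊓ Subgroup.centralizer (S : Set Ω)).relIndex
      ((upperCentralSeries ↥S 2).map S.subtype) = p) :
    Nat.card ↥((S ⊓ Subgroup.centralizer (S : Set Ω)) ⊓ ((commutator ↥S).map S.subtype)) = p ∧
    (((S ⊓ Subgroup.centralizer (S : Set Ω)) ⊔ ((commutator ↥S).map S.subtype)).subgroupOf
      A).index = p ∧
    ∀ m : ℕ, ((S ⊓ Subgroup.centralizer (S : Set Ω)).subgroupOf S).index = p ^ m → 3 ≤ m →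
      ¬ Subgroup.lowerCentralSeries S (m - 2) ≤ (S ⊓ Subgroup.centralizer (S : Set Ω)) := by
  have : Finite A := Finite.of_injective (Subgroup.inclusion h.hAS)
    (Subgroup.inclusion_injective h.hAS)
  have hAcomm : ∀ a b : A, a * b = b * a := fun a b => Subtype.ext (h.comm a a.2 b b.2)
  have hker := h.kappa_ker
  have hZ2' := h.Z2_comap
  have hrel' : h.kappa.ker.relIndex (h.kappa.ker.comap h.kappa) = p := by
    rw [← hZ2', hker, Subgroup.relIndex_subgroupOf hZ2A]
    exact hrel
  have hinj : Function.Injective A.subtype := Subgroup.subtype_injective A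
  have hZmap : S ⊓ Subgroup.centralizer (S : Set Ω) = h.kappa.ker.map A.subtype := by
    rw [hker, Subgroup.map_subgroupOf_eq_of_le h.hZA]
  have hCmap := h.commutator_map_eq
  refine ⟨?_, ?_, ?_⟩
  · rw [hZmap, hCmap, ← Subgroup.map_inf _ _ _ hinj, Subgroup.card_map_of_injective hinj,
      card_ker_inf_range, hrel']
  · rw [hZmap, hCmap, ← Subgroup.map_sup]
    have e : ((h.kappa.ker ⊔ h.kappa.range).map A.subtype).subgroupOf A =
        h.kappa.ker ⊔ h.kappa.range := Subgroup.comap_map_eq_self_of_injective hinj _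
    rw [e, index_ker_sup_range, card_ker_inf_range, hrel']
  · intro m hm hm3 hle
    have hiter : ∀ a : A, (h.kappa)^[m - 2] a ∈ h.kappa.ker := by
      intro a
      rw [hker, Subgroup.mem_subgroupOf]
      exact hle (h.iterate_mem_lcs (m - 2) a)
    have h1 := index_ker_dvd_pow hAcomm h.kappa (dvd_of_eq hrel') (m - 2) hiter
    have h2 : h.kappa.ker.index = (S ⊓ Subgroup.centralizer (S : Set Ω)).relIndex A := by
      rw [hker]; rfl
    have h3 : (S ⊓ Subgroup.centralizer (S : Set Ω)).relIndex A * A.relIndex S =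
        (S ⊓ Subgroup.centralizer (S : Set Ω)).relIndex S :=
      Subgroup.relIndex_mul_relIndex _ _ _ h.hZA h.hAS
    have h4 : A.relIndex S = p := hidxAS
    have h5 : (S ⊓ Subgroup.centralizer (S : Set Ω)).relIndex S = p ^ m := hm
    rw [h4, h5] at h3
    have h6 : (S ⊓ Subgroup.centralizer (S : Set Ω)).relIndex A = p ^ (m - 1) := by
      have e : p ^ m = p ^ (m - 1) * p := by
        rw [← pow_succ]; congr 1; omega
      rw [e] at h3
      exact Nat.eq_of_mul_eq_mul_right hp.pos h3
    rw [h2, h6] at h1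
    have h7 := (Nat.pow_dvd_pow_iff_le_right hp.one_lt).mp h1
    omega

end Cfsg.Agent.Lib.Helper03.OliverLemma2
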