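import Mathlib
import Cfsg.Prelude.Def_FusionSystem
import Cfsg.Agent.Lib.Helper03.OliverLemma
import Cfsg.Agent.Lib.Helper03.OliverLemma2

set_option autoImplicit false
set_option linter.deprecated false

/-!
Oliver's lemma: refined form of the core statement (extra information in the two cases).
-/

namespace Cfsg.Agent.Lib.Helper03.OliverLemma

open Cfsg Cfsg.FusionSystem Cfsg.Agent.Lib.Helper03.FusEss Cfsg.Agent.Lib.Helper03.UAI
  Cfsg.Agent.Lib.Helper03.IdxPrime Cfsg.Agent.Lib.Helper03.KappaEnd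

variable {Ω : Type*} [Group Ω] {S : Subgroup Ω}

section fusion

variable {A P : Subgroup Ω} {x : Ω}

theorem nonabelian_case2 [Finite S] {p : ℕ} [Fact p.Prime] (hS : IsPGroup p S)
    (F : FusionSystem S) (hP : F.IsEssential p P) (h : Setting S A x)
    (hn : (A.subgroupOf S).Normal) (hidxAS : (A.subgroupOf S).index = p)
    (α : MulAut P) (y : P) (hyA : (y : Ω) ∈ A)
    (hxy : x = ((α y : P) : Ω))
    (hPnc : ¬ ∀ u ∈ P, ∀ v ∈ P, u * v = v * u) (hPne : P ≠ S) :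
    (∀ β ∈ F.autGroup P, ∀ w : P, (w : Ω) ∈ ZZ S → ((β w : P) : Ω) ∈ ZZ S) ∧ P ⊓ A = ZZ2 S := by
  have hp : p.Prime := Fact.out
  have hPS : P ≤ S := hP.1.1
  have hZP : ZZ S ≤ P := ZZ_le_of_isEssential F hP
  have hxP : x ∈ P := by rw [hxy]; exact (α y).2
  -- the centre of P
  have hcenter : ∀ u ∈ P, (∀ v ∈ P, u * v = v * u) → u ∈ ZZ S := by
    intro u hu huc
    by_cases huA : u ∈ A
    · exact h.mem_Z_of_comm huA (huc x hxP)
    · exfalso
      apply hPnc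
      intro v hv v' hv'
      have hgen : ∀ v ∈ P, ∃ b ∈ {b : Ω | b ∈ A ∧ b ∈ P}, ∃ i : ℕ, v = b * u ^ i := by
        intro v hv
        obtain ⟨b, hb, i, hvi⟩ := gen_of_index_prime hp hn hidxAS (hPS hu) huA (hPS hv)
        refine ⟨b, ⟨hb, ?_⟩, i, hvi⟩
        have e : b = v * (u ^ i)⁻¹ := by rw [hvi]; group
        rw [e]
        exact P.mul_mem hv (P.inv_mem (P.pow_mem hu i))
      exact comm_of_eq_mul_pow u _ (fun b hb b' hb' => h.comm b hb.1 b' hb'.1)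
        (fun b hb => (huc b hb.2).symm) (hgen v hv) (hgen v' hv')
  have hZc : ∀ w : P, (w : Ω) ∈ ZZ S → ∀ t : P, w * t = t * w := by
    intro w hw t
    apply Subtype.ext
    exact (ZZ_comm hw (hPS t.2)).symm
  have hinvZ : ∀ β ∈ F.autGroup P, ∀ w : P, (w : Ω) ∈ ZZ S → ((β w : P) : Ω) ∈ ZZ S := by
    intro β _ w hw
    apply hcenter _ (β w).2
    intro v hv
    have e : (⟨v, hv⟩ : P) = β (β.symm ⟨v, hv⟩) := (β.apply_symm_apply _).symm
    have h1 : β w * ⟨v, hv⟩ = ⟨v, hv⟩ * β w := by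
      rw [e, ← map_mul, ← map_mul, hZc w hw]
    exact congrArg Subtype.val h1
  -- κ(P ∩ A) ≤ Z
  have hκ : ∀ b ∈ P, b ∈ A → b * x * b⁻¹ * x⁻¹ ∈ ZZ S := by
    intro b hb hbA
    set b' : P := ⟨b, hb⟩ with hb'
    set w : P := (α.symm b') * y * (α.symm b')⁻¹ * y⁻¹ with hw
    have hwA : (w : Ω) ∈ A := by
      have h1 := h.norm _ (hPS (α.symm b').2) _ hyA
      exact A.mul_mem h1 (A.inv_mem hyA)
    have hwy : w * y = y * w := Subtype.ext (h.comm _ hwA _ hyA)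
    have hαw : ((α w : P) : Ω) = b * x * b⁻¹ * x⁻¹ := by
      rw [hw, map_mul, map_mul, map_mul, map_inv, map_inv, α.apply_symm_apply, hxy]
      rfl
    have hcA : b * x * b⁻¹ * x⁻¹ ∈ A := by
      have e : b * x * b⁻¹ * x⁻¹ = b * (x * b⁻¹ * x⁻¹) := by group
      rw [e]
      exact A.mul_mem hbA (h.norm x h.hxS _ (A.inv_mem hbA))
    apply h.mem_Z_of_comm hcA
    have h2 : α w * α y = α y * α w := by rw [← map_mul, ← map_mul, hwy]
    have h3 := congrArg Subtype.val h2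
    rw [Subgroup.coe_mul, Subgroup.coe_mul, hαw, ← hxy] at h3
    exact h3
  have hPA2 : ∀ b ∈ P, b ∈ A → b ∈ ZZ2 S :=
    fun b hb hbA => h.mem_Z2_of_comm_mem hbA (hκ b hb hbA)
  have hA2P : ∀ a ∈ A, a ∈ ZZ2 S → a ∈ P := by
    intro a ha ha2
    have haN := mem_normalizer_of_mem_Z2 h hPS hZP ha ha2
    refine mem_of_stab_two hS F hP (ZZ S) hinvZ (h.hAS ha) haN ?_ ?_
    · intro w hw _
      rw [ZZ_comm hw (h.hAS ha)]; group
    · intro u hu
      obtain ⟨z', hz', e⟩ := h.conj_eq ha (h.comm_mem_of_mem_Z2 ha2) (hPS hu)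
      rw [e, ← ZZ_comm hz' (hPS hu)]
      simpa using hz'
  have hZ2A : ZZ2 S ≤ A := by
    by_contra hle
    obtain ⟨w, hw, hwA⟩ := SetLike.not_le_iff_exists.mp hle
    have hAZ2 := le_Z2_of_not_le hp h hn hidxAS hw hwA
    apply hPne
    apply le_antisymm hPS
    intro s hs
    obtain ⟨a, ha, i, rfl⟩ := h.gen s hs
    exact P.mul_mem (hA2P a ha (hAZ2 ha)) (P.pow_mem hxP i)
  have hP0 : P ⊓ A = ZZ2 S := by
    apply le_antisymm
    · intro b hb; exact hPA2 b hb.1 hb.2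
    · intro a ha; exact ⟨hA2P a (hZ2A ha) ha, hZ2A ha⟩
  exact ⟨hinvZ, hP0⟩

/-- Refined core: the two cases with their extra information. -/
theorem core2 [Finite S] (p : ℕ) [Fact p.Prime] (hS : IsPGroup p S) (F : FusionSystem S)
    (hF : F.IsSaturated p) (hna : ¬ IsMulCommutative ↥S) (A : Subgroup Ω)
    (hA : A ≤ S ∧ IsMulCommutative ↥A ∧ (A.subgroupOf S).index = p)
    (huniq : ∀ B : Subgroup Ω, B ≤ S → IsMulCommutative ↥B → (B.subgroupOf S).index = p → B = A)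
    (P : Subgroup Ω) (hP : F.IsEssential p P) (hPA : P ≠ A) :
    ∃ x, x ∈ P ∧ x ∉ A ∧ Setting S A x ∧ ZZ2 S ≤ A ∧
      P.relIndex (S ⊓ Subgroup.normalizer (P : Set Ω)) = p ∧ (ZZ S).relIndex (ZZ2 S) = p ∧
      A.relIndex P = p ∧
      ((P = ZZ S ⊔ Subgroup.zpowers x ∧ (∀ u ∈ P, ∀ v ∈ P, u * v = v * u) ∧ P ⊓ A = ZZ S) ∨
       (P = ZZ2 S ⊔ Subgroup.zpowers x ∧
        (∀ β ∈ F.autGroup P, ∀ w : P, (w : Ω) ∈ ZZ S → ((β w : P) : Ω) ∈ ZZ S) ∧
        P ⊓ A = ZZ2 S)) := by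
  have hp : p.Prime := Fact.out
  have hPS : P ≤ S := hP.1.1
  have hAS : A ≤ S := hA.1
  have hAc : ∀ a ∈ A, ∀ b ∈ A, a * b = b * a := fun a ha b hb =>
    congrArg Subtype.val (hA.2.1.is_comm.comm ⟨a, ha⟩ ⟨b, hb⟩)
  have hna' : ¬ ∀ s ∈ S, ∀ t ∈ S, s * t = t * s :=
    fun h => hna ⟨⟨fun a b => Subtype.ext (h a a.2 b b.2)⟩⟩
  have hn := normal_of_index_prime hS hA.2.2
  have hPne : P ≠ S := Helper91.ne_top_of_isEssential p F hF hP
  have hPA' : ¬ P ≤ A := by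
    intro hle
    apply hPA
    apply le_antisymm hle
    intro a ha
    apply centralizerIn_le_of_isEssential F hP
    rw [Helper87.mem_centralizerIn]
    exact ⟨hAS ha, fun u hu => hAc u (hle hu) a ha⟩
  obtain ⟨x₀, hx₀P, hx₀A⟩ := SetLike.not_le_iff_exists.mp hPA'
  have h₀ := setting_of_index_prime hS hAS hAc hA.2.2 hna' (hPS hx₀P) hx₀A
  obtain ⟨α, -, y, hyA, hαy⟩ := exists_aut_moving hS F hP h₀ hx₀P hPne
  have hxP : ((α y : P) : Ω) ∈ P := (α y).2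
  have h := setting_of_index_prime hS hAS hAc hA.2.2 hna' (hPS hxP) hαy
  have hidxAP := relIndex_eq_prime hp hn hA.2.2 hPS hPA'
  have hZP : ZZ S ≤ P := ZZ_le_of_isEssential F hP
  by_cases hPc : ∀ u ∈ P, ∀ v ∈ P, u * v = v * u
  · obtain ⟨h1, h2, h3, h4⟩ := abelian_case hS F hF hP h hxP hn hA.2.2 hidxAP huniq hPA hPc
    refine ⟨_, hxP, hαy, h, h3, h2, h4, hidxAP, Or.inl ⟨h1, hPc, ?_⟩⟩
    apply le_antisymm
    · intro b hb
      exact h.mem_Z_of_comm hb.2 (hPc b hb.1 _ hxP)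
    · intro z hz
      exact ⟨hZP hz, h.hZA hz⟩
  · obtain ⟨h1, h2, h3, h4⟩ :=
      nonabelian_case hS F hP h hn hA.2.2 hidxAP α y hyA rfl hPc hPne
    obtain ⟨h5, h6⟩ := nonabelian_case2 hS F hP h hn hA.2.2 α y hyA rfl hPc hPne
    exact ⟨_, hxP, hαy, h, h1, h3, h4, hidxAP, Or.inr ⟨h2, h5, h6⟩⟩

end fusion

end Cfsg.Agent.Lib.Helper03.OliverLemma
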