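import Mathlib
import Cfsg.Agent.S5087
import Cfsg.Agent.S5077
import Cfsg.Agent.Lib.Helper03.Oliver24A
import Cfsg.Agent.Lib.Helper03.OliverLemma3

set_option autoImplicit false
set_option linter.deprecated false

/-!
Oliver's Lemma 2.4, first parts: the context, existence of an essential subgroup `Z(S)⟨x⟩`, and
"all maps defined on subgroups of order `> p |Z(S)|` act on `Z(S)` like elements of `Aut_F(S)`".
-/

namespace Cfsg.Agent.Lib.Helper03.Oliver24

open Cfsg Cfsg.FusionSystem Cfsg.Agent.Lib.Helper87 Cfsg.Agent.Lib.Helper03.OliverLemma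
  Cfsg.Agent.Lib.Helper03.UAI Cfsg.Agent.Lib.Helper03.KappaEnd

variable {Ω : Type*} [Group Ω] {S : Subgroup Ω}

/-- The hypotheses of the lemma. -/
structure Ctx (p : ℕ) [Fact p.Prime] (F : FusionSystem S) (A : Subgroup Ω) : Prop where
  hS : IsPGroup p S
  hF : F.IsSaturated p
  hp : p ≠ 2
  hna : ¬ IsMulCommutative ↥S
  hA : A ≤ S ∧ IsMulCommutative ↥A ∧ (A.subgroupOf S).index = p
  huniq : ∀ B : Subgroup Ω, B ≤ S → IsMulCommutative ↥B → (B.subgroupOf S).index = p → B = A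
  hcore : F.core = ⊥
  hAe : ¬ F.IsEssential p A

theorem autInv_ZZ (F : FusionSystem S) : AutInv F (ZZ S) where
  le := inf_le_left
  inv := by
    intro σ _ w hw
    refine Subgroup.mem_inf.mpr ⟨(σ w).2, ?_⟩
    rw [Subgroup.mem_centralizer_iff]
    intro s hs
    have e : (⟨s, hs⟩ : ↥S) = σ (σ.symm ⟨s, hs⟩) := (σ.apply_symm_apply _).symm
    have hc : σ.symm ⟨s, hs⟩ * w = w * σ.symm ⟨s, hs⟩ :=
      Subtype.ext (ZZ_comm hw (σ.symm ⟨s, hs⟩).2)
    have h1 : (⟨s, hs⟩ : ↥S) * σ w = σ w * ⟨s, hs⟩ := by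
      rw [e, ← map_mul, ← map_mul, hc]
    exact congrArg Subtype.val h1

section

variable {p : ℕ} [Fact p.Prime] {F : FusionSystem S} {A : Subgroup Ω}

/-- A subgroup contained in `S` and in all essential subgroups and invariant under their
`F`-automorphisms is trivial. -/
theorem eq_bot_of_invariant [Finite S] (c : Ctx p F A) (Q : Subgroup Ω)
    (hQ : ∀ P : Subgroup Ω, (P = S ∨ F.IsEssential p P) →
      (Q ≤ P ∧ ∀ α ∈ F.autGroup P, ∀ w : P, (w : Ω) ∈ Q → ((α w : P) : Ω) ∈ Q)) : Q = ⊥ := by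
  have hn : F.IsNormal Q := by
    rw [Cfsg.Agent.S5087.result p c.hS F c.hF Q]
    intro P hP
    obtain ⟨hQP, hinv⟩ := hQ P hP
    refine ⟨hQP, fun α hα => ?_⟩
    apply le_antisymm
    · rintro _ ⟨w, hw, rfl⟩
      exact Subgroup.mem_subgroupOf.mpr (hinv α hα w (Subgroup.mem_subgroupOf.mp hw))
    · intro w hw
      refine ⟨α⁻¹ w, ?_, ?_⟩
      · exact Subgroup.mem_subgroupOf.mpr
          (hinv α⁻¹ ((F.autGroup P).inv_mem hα) w (Subgroup.mem_subgroupOf.mp hw))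
      · show α (α⁻¹ w) = w
        rw [← MulAut.mul_apply, mul_inv_cancel, MulAut.one_apply]
  have h1 : Q ≤ F.core := le_sSup hn
  rw [c.hcore] at h1
  exact le_bot_iff.mp h1

theorem Ctx.ne_A (c : Ctx p F A) {P : Subgroup Ω} (hP : F.IsEssential p P) : P ≠ A := by
  rintro rfl
  exact c.hAe hP

theorem ZZ_ne_bot [Finite S] (c : Ctx p F A) : ZZ S ≠ ⊥ := by
  intro h
  have : Nontrivial ↥S := by
    by_contra hnt
    rw [not_nontrivial_iff_subsingleton] at hnt
    exact c.hna ⟨⟨fun a b => Subsingleton.elim _ _⟩⟩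
  have h1 : Subgroup.center ↥S ≠ ⊥ := by
    have := c.hS.center_nontrivial
    exact Subgroup.nontrivial_iff_ne_bot _ |>.mp this
  apply h1
  rw [center_eq_subgroupOf]
  have h' : S ⊓ Subgroup.centralizer (S : Set Ω) = ⊥ := h
  rw [h']
  simp

/-- Step 1: some essential subgroup is of the form `Z(S)⟨x⟩`. -/
theorem exists_essential_ZZ [Finite S] (c : Ctx p F A) :
    ∃ P : Subgroup Ω, F.IsEssential p P ∧ ∃ x, x ∈ P ∧ x ∉ A ∧ Setting S A x ∧ ZZ2 S ≤ A ∧
      P.relIndex (S ⊓ Subgroup.normalizer (P : Set Ω)) = p ∧ (ZZ S).relIndex (ZZ2 S) = p ∧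
      A.relIndex P = p ∧
      P = ZZ S ⊔ Subgroup.zpowers x ∧ (∀ u ∈ P, ∀ v ∈ P, u * v = v * u) ∧ P ⊓ A = ZZ S := by
  by_contra hcon
  apply ZZ_ne_bot c
  apply eq_bot_of_invariant c
  intro P hP
  rcases hP with rfl | hP
  · exact ⟨inf_le_left, fun α hα w hw => (autInv_ZZ F).inv α hα w hw⟩
  · obtain ⟨x, hxP, hxA, hset, hZ2A, hrelN, hrelZ, hrelA, hcase⟩ :=
      core2 p c.hS F c.hF c.hna A c.hA c.huniq P hP (c.ne_A hP)
    rcases hcase with h1 | h2
    · exact absurd ⟨P, hP, x, hxP, hxA, hset, hZ2A, hrelN, hrelZ, hrelA, h1⟩ hcon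
    · exact ⟨ZZ_le_of_isEssential F hP, h2.2.1⟩

/-- The elements of `Aut_F(U)` fixing `W ∩ U` pointwise. -/
def fixK (F : FusionSystem S) (U W : Subgroup Ω) : Subgroup (F.autGroup U) where
  carrier := {ν | ∀ w : U, (w : Ω) ∈ W → (ν : MulAut U) w = w}
  one_mem' := fun _ _ => rfl
  mul_mem' := by
    intro a b ha hb w hw
    show (a : MulAut U) ((b : MulAut U) w) = w
    rw [hb w hw, ha w hw]
  inv_mem' := by
    intro a ha w hw
    have h1 := ha w hw
    show (a : MulAut U)⁻¹ w = w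
    conv_lhs => rw [← h1]
    rw [← MulAut.mul_apply, inv_mul_cancel, MulAut.one_apply]

theorem fixK_normal (F : FusionSystem S) (U W : Subgroup Ω)
    (hinv : ∀ β ∈ F.autGroup U, ∀ w : U, (w : Ω) ∈ W → ((β w : U) : Ω) ∈ W) :
    (fixK F U W).Normal := by
  constructor
  intro ν hν a w hw
  show (a : MulAut U) ((ν : MulAut U) ((a : MulAut U)⁻¹ w)) = w
  have h1 : (((a : MulAut U)⁻¹ w : U) : Ω) ∈ W :=
    hinv _ ((F.autGroup U).inv_mem a.2) w hw
  rw [hν _ h1, ← MulAut.mul_apply, mul_inv_cancel, MulAut.one_apply]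

/-- Part B: every map of `F` defined on a subgroup of order `> p |Z(S)|` belongs to the subsystem
of the maps acting on `Z(S)` like elements of `Aut_F(S)`. -/
theorem hom_subset_res [Finite S] (c : Ctx p F A) :
    ∀ P : Subgroup Ω, p * Nat.card (ZZ S) < Nat.card P →
      F.Hom P ⊆ (resSystem F (ZZ S) (autInv_ZZ F)).Hom P := by
  have hp : p.Prime := Fact.out
  obtain ⟨h1, h2⟩ := (Cfsg.Agent.S5077.result p c.hS F).mp c.hF
  set E := resSystem F (ZZ S) (autInv_ZZ F) with hE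
  apply alp_ind_thr p c.hS F c.hF E
  intro U hUfn hUc hUcard hIH φ hφ hr
  have hUS : U ≤ S := hUfn.1
  obtain ⟨α, hα, hαφ⟩ := Cfsg.Agent.Lib.Helper89.exists_aut_of_range_eq F hφ hr
  suffices hle : F.autGroup U ≤ E.autGroup U by
    have h3 := (mem_autGroup_iff E hUS).mp (hle hα)
    exact hom_congr E h3 (fun x => (hαφ x).symm)
  by_cases hUeq : U = S
  · subst hUeq
    intro β hβ
    rw [mem_autGroup_iff E le_rfl]
    refine ⟨(mem_autGroup_iff F le_rfl).mp hβ, fun _ => ⟨inf_le_left, β, hβ, fun w hw hwP => rfl⟩⟩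
  by_cases hess : F.IsEssential p U
  · obtain ⟨x, hxP, hxA, hset, hZ2A, hrelN, hrelZ, hrelA, hcase⟩ :=
      core2 p c.hS F c.hF c.hna A c.hA c.huniq U hess (c.ne_A hess)
    rcases hcase with ⟨-, -, hUA⟩ | ⟨-, hinv, -⟩
    · exfalso
      have h3 : A.relIndex U = (U ⊓ A).relIndex U := by
        rw [inf_comm, Subgroup.inf_relIndex_right]
      have h4 := relIndex_mul_card (inf_le_left : U ⊓ A ≤ U)
      rw [← h3, hrelA, hUA] at h4
      omega
    · have : (fixK F U (ZZ S)).Normal := fixK_normal F U (ZZ S) hinv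
      have hZU : ZZ S ≤ U := ZZ_le_of_isEssential F hess
      have hKE : ∀ ν ∈ fixK F U (ZZ S), (ν : MulAut U) ∈ E.autGroup U := by
        intro ν hν
        rw [mem_autGroup_iff E hUS]
        refine ⟨(mem_autGroup_iff F hUS).mp ν.2, fun _ => ⟨hZU, 1, Subgroup.one_mem _,
          fun w hw hwP => ?_⟩⟩
        have := hν ⟨w, hwP⟩ hw
        show (((ν : MulAut U) ⟨w, hwP⟩ : U) : Ω) = w
        rw [this]
      obtain ⟨g, hgN, hgU⟩ :=
        Cfsg.Agent.Lib.Helper89.exists_mem_normalizerIn_not_mem c.hS hUS hUeq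
      have hgS : g ∈ S := (Subgroup.mem_inf.mp hgN).1
      have hgNU : g ∈ Subgroup.normalizer (U : Set Ω) := (Subgroup.mem_inf.mp hgN).2
      have hgK : (⟨Cfsg.Agent.Lib.Helper87.conjAut U g hgNU,
          Cfsg.Agent.Lib.Helper27.FusGen.conjAut_mem_autGroup F hUS hgS hgNU⟩ : F.autGroup U) ∈
          fixK F U (ZZ S) := by
        intro w hw
        apply Subtype.ext
        show ((Cfsg.Agent.Lib.Helper87.conjAut U g hgNU w : U) : Ω) = w
        rw [conjAut_apply, ZZ_comm hw hgS]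
        group
      exact Cfsg.Agent.Lib.Helper27.FusGen.aut_le_of_normal_subgroup c.hS F c.hF E hUfn
        (fixK F U (ZZ S)) hKE hIH hgS hgNU hgU hgK
  · exact hIH.aut_le_of_centric_not_essential c.hS h1 h2 hUfn hUc hUeq hess

/-- Consequence of Part B in a usable form. -/
theorem exists_aut_eq_on_ZZ [Finite S] (c : Ctx p F A) {P : Subgroup Ω} {φ : P →* Ω}
    (hφ : φ ∈ F.Hom P) (hcard : p * Nat.card (ZZ S) < Nat.card P) (hZP : ZZ S ≤ P) :
    ∃ σ ∈ F.autGroup S, ∀ (w : Ω) (hw : w ∈ ZZ S),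
      φ ⟨w, hZP hw⟩ = ((σ ⟨w, hw.1⟩ : ↥S) : Ω) := by
  obtain ⟨-, hc⟩ := hom_subset_res c P hcard hφ
  obtain ⟨-, σ, hσ, hσw⟩ := hc (Or.inl hZP)
  exact ⟨σ, hσ, fun w hw => hσw w hw (hZP hw)⟩

end

end Cfsg.Agent.Lib.Helper03.Oliver24
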