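import Mathlib
import Cfsg.Agent.Lib.Helper90.StabChain

set_option autoImplicit false

/-!
Two non-commuting "transvections" `t`, `t'` of a finite abelian `p`-group `V` (`p` odd) generate a
group containing an element `z` (the image of `-1 ∈ SL₂(p)`) which commutes with `t`, centralizes
`C_V(t) ∩ C_V(t')` and inverts `[V, t]`; moreover `C_V(t) = (C_V(t) ∩ C_V(t')) [V, t]`.
-/

namespace Cfsg.Agent.Lib.Helper03.SL2Inv

open Cfsg.Agent.Lib.Helper90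

variable {V : Type*} [Group V]

/-- The displacement `v ↦ v⁻¹ t(v)` of an automorphism of an abelian group, as a homomorphism. -/
def dsp (hcomm : ∀ a b : V, a * b = b * a) (t : MulAut V) : V →* V :=
  MonoidHom.mk' (fun v => v⁻¹ * t v) (by
    intro a b
    rw [map_mul]
    calc (a * b)⁻¹ * (t a * t b) = b⁻¹ * (a⁻¹ * t a) * t b := by group
      _ = (a⁻¹ * t a) * b⁻¹ * t b := by rw [hcomm b⁻¹]
      _ = _ := by group)

theorem dsp_apply (hcomm : ∀ a b : V, a * b = b * a) (t : MulAut V) (v : V) :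
    dsp hcomm t v = v⁻¹ * t v := rfl

theorem apply_eq (hcomm : ∀ a b : V, a * b = b * a) (t : MulAut V) (v : V) :
    t v = v * dsp hcomm t v := by rw [dsp_apply]; group

/-- `dsp (t ^ k) v = (dsp t v) ^ k` when `t` fixes its displacements. -/
theorem dsp_pow (hcomm : ∀ a b : V, a * b = b * a) (t : MulAut V)
    (h1 : ∀ v, dsp hcomm t (dsp hcomm t v) = 1) (k : ℕ) (v : V) :
    dsp hcomm (t ^ k) v = (dsp hcomm t v) ^ k := by
  have hfix : ∀ r ∈ (dsp hcomm t).range, t r = r := by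
    rintro _ ⟨u, rfl⟩
    have := h1 u
    rw [dsp_apply hcomm t (dsp hcomm t u)] at this
    exact (inv_mul_eq_one.mp this).symm
  have := stab_pow_apply t (dsp hcomm t).range hfix v ⟨v, rfl⟩ k
  rw [dsp_apply, this]
  rw [dsp_apply]; group

/-- The core computation. -/
theorem core_mul (hcomm : ∀ a b : V, a * b = b * a) (t₁ t' : MulAut V)
    (r1 : ∀ v, dsp hcomm t₁ (dsp hcomm t₁ v) = 1)
    (r3 : ∀ v, dsp hcomm t₁ (dsp hcomm t' (dsp hcomm t₁ v)) = (dsp hcomm t₁ v)⁻¹)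
    (r2 : ∀ v, dsp hcomm t' (dsp hcomm t' v) = 1)
    (r4 : ∀ v, dsp hcomm t' (dsp hcomm t₁ (dsp hcomm t' v)) = (dsp hcomm t' v)⁻¹) (v : V) :
    (t₁ * t' * t₁) ((t₁ * t' * t₁) v) =
      v * (dsp hcomm t' (dsp hcomm t₁ v)) ^ 2 * (dsp hcomm t₁ (dsp hcomm t' v)) ^ 2 := by
  let _i : AddCommGroup (Additive V) :=
    { (inferInstance : AddGroup (Additive V)) with add_comm := fun x y => hcomm x y }
  set σ := dsp hcomm t₁ with hσ
  set τ := dsp hcomm t' with hτ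
  have hn : ∀ v, (t₁ * t' * t₁) v = v * σ v * τ v * τ (σ v) * σ (τ v) := by
    intro v
    rw [MulAut.mul_apply, MulAut.mul_apply]
    have e1 : t₁ v = v * σ v := apply_eq hcomm t₁ v
    have e2 : t' (t₁ v) = v * σ v * (τ v * τ (σ v)) := by
      rw [e1, apply_eq hcomm t' (v * σ v), ← hτ, map_mul]
    rw [e2, apply_eq hcomm t₁ (v * σ v * (τ v * τ (σ v))), ← hσ, map_mul, map_mul, map_mul, r1, r3]
    have key : ∀ a b c d e : Additive V,
        a + b + (c + d) + (b + 0 + (e + -b)) = a + b + c + d + e := by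
      intro a b c d e; abel
    exact key (Additive.ofMul v) (Additive.ofMul (σ v)) (Additive.ofMul (τ v))
      (Additive.ofMul (τ (σ v))) (Additive.ofMul (σ (τ v)))
  rw [hn v, hn (v * σ v * τ v * τ (σ v) * σ (τ v))]
  simp only [map_mul, r1, r2, r3, r4, map_inv, map_one]
  have key : ∀ a b c d e : Additive V,
      a + b + c + d + e + (b + 0 + e + -b + 0) + (c + d + 0 + 0 + -c) + (d + 0 + -c + -d + 0) +
        (e + -b + 0 + 0 + -e) = a + 2 • d + 2 • e := by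
    intro a b c d e; abel
  exact key (Additive.ofMul v) (Additive.ofMul (σ v)) (Additive.ofMul (τ v))
    (Additive.ofMul (τ (σ v))) (Additive.ofMul (σ (τ v)))

/-- The main statement. -/
theorem exists_inv (hcomm : ∀ a b : V, a * b = b * a) {p : ℕ} (hp : p.Prime) (t t' : MulAut V)
    (h1 : ∀ v, dsp hcomm t (dsp hcomm t v) = 1) (h2 : ∀ v, dsp hcomm t' (dsp hcomm t' v) = 1)
    (z₀ z₀' : V) (hz₀ : z₀ ^ p = 1) (hz₀' : z₀' ^ p = 1)
    (hr : ∀ v, ∃ k : ℕ, dsp hcomm t v = z₀ ^ k) (hr' : ∀ v, ∃ k : ℕ, dsp hcomm t' v = z₀' ^ k)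
    (he : dsp hcomm t' z₀ ≠ 1) (he' : dsp hcomm t z₀' ≠ 1) :
    ∃ α : ℕ,
      ((t ^ α * t' * t ^ α) ^ 2) * t = t * ((t ^ α * t' * t ^ α) ^ 2) ∧
      (∀ v, dsp hcomm t v = 1 → dsp hcomm t' v = 1 → ((t ^ α * t' * t ^ α) ^ 2) v = v) ∧
      (∀ v, ((t ^ α * t' * t ^ α) ^ 2) (dsp hcomm t v) = (dsp hcomm t v)⁻¹) ∧
      (∀ w, dsp hcomm t w = 1 → ∃ c y, dsp hcomm t c = 1 ∧ dsp hcomm t' c = 1 ∧
        (∃ v, y = dsp hcomm t v) ∧ w = c * y) := by
  set τ := dsp hcomm t with hτ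
  set τ' := dsp hcomm t' with hτ'
  obtain ⟨e, he_eq⟩ := hr' z₀
  obtain ⟨e', he'_eq⟩ := hr z₀'
  have hpe : ¬ p ∣ e := by
    intro hd
    apply he
    obtain ⟨m, rfl⟩ := hd
    rw [he_eq, pow_mul, hz₀', one_pow]
  have hpe' : ¬ p ∣ e' := by
    intro hd
    apply he'
    obtain ⟨m, rfl⟩ := hd
    rw [he'_eq, pow_mul, hz₀, one_pow]
  set c := e * e' with hc
  have hpc : ¬ p ∣ c := by
    intro hd
    rcases (hp.dvd_mul).mp hd with h | h
    · exact hpe h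
    · exact hpe' h
  have R3 : ∀ v, τ (τ' (τ v)) = (τ v) ^ c := by
    intro v
    obtain ⟨k, hk⟩ := hr v
    rw [hk, map_pow, he_eq, ← pow_mul, map_pow, he'_eq, ← pow_mul, ← pow_mul]
    congr 1
    rw [hc]; ring
  have R4 : ∀ v, τ' (τ (τ' v)) = (τ' v) ^ c := by
    intro v
    obtain ⟨k, hk⟩ := hr' v
    rw [hk, map_pow, he'_eq, ← pow_mul, map_pow, he_eq, ← pow_mul, ← pow_mul]
    congr 1
    rw [hc]; ring
  have hcop : Nat.Coprime c p := ((Nat.Prime.coprime_iff_not_dvd hp).mpr hpc).symm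
  obtain ⟨m, -, hm⟩ := Nat.exists_mul_mod_eq_one_of_coprime hcop hp.one_lt
  set α := m * (p - 1) with hα
  have hdvd : p ∣ c * α + 1 := by
    have h1' : c * m ≡ 1 [MOD p] := by
      rw [Nat.ModEq, hm, Nat.mod_eq_of_lt hp.one_lt]
    have h2' : c * m * (p - 1) + 1 ≡ 1 * (p - 1) + 1 [MOD p] :=
      Nat.ModEq.add_right 1 (Nat.ModEq.mul_right (p - 1) h1')
    have h3' : 1 * (p - 1) + 1 = p := by
      have := hp.one_lt
      omega
    rw [h3'] at h2'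
    have h4' : c * α + 1 = c * m * (p - 1) + 1 := by rw [hα]; ring
    rw [h4']
    exact (Nat.modEq_zero_iff_dvd).mp (h2'.trans (by simp [Nat.ModEq]))
  have hinvpow : ∀ y : V, y ^ p = 1 → y ^ (c * α) = y⁻¹ := by
    intro y hy
    obtain ⟨q, hq⟩ := hdvd
    have h3' : y ^ (c * α + 1) = 1 := by rw [hq, pow_mul, hy, one_pow]
    rw [pow_succ] at h3'
    exact eq_inv_of_mul_eq_one_left h3'
  have hτp : ∀ v, (τ v) ^ p = 1 := by
    intro v
    obtain ⟨k, hk⟩ := hr v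
    rw [hk, ← pow_mul, mul_comm, pow_mul, hz₀, one_pow]
  have hτ'p : ∀ v, (τ' v) ^ p = 1 := by
    intro v
    obtain ⟨k, hk⟩ := hr' v
    rw [hk, ← pow_mul, mul_comm, pow_mul, hz₀', one_pow]
  set t₁ := t ^ α with ht₁
  have hσ : ∀ v, dsp hcomm t₁ v = (τ v) ^ α := dsp_pow hcomm t h1 α
  have hτσ : ∀ u, τ (dsp hcomm t₁ u) = 1 := by
    intro u
    rw [hσ, map_pow, h1, one_pow]
  have hττ'σ : ∀ v, τ (τ' (dsp hcomm t₁ v)) = (τ v)⁻¹ := by
    intro v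
    rw [hσ, map_pow, map_pow, R3, ← pow_mul, hinvpow _ (hτp v)]
  have r1 : ∀ v, dsp hcomm t₁ (dsp hcomm t₁ v) = 1 := by
    intro v
    rw [hσ (dsp hcomm t₁ v), hτσ, one_pow]
  have r3 : ∀ v, dsp hcomm t₁ (dsp hcomm t' (dsp hcomm t₁ v)) = (dsp hcomm t₁ v)⁻¹ := by
    intro v
    rw [hσ (dsp hcomm t' (dsp hcomm t₁ v)), ← hτ', hττ'σ, hσ v, inv_pow]
  have r4 : ∀ v, dsp hcomm t' (dsp hcomm t₁ (dsp hcomm t' v)) = (dsp hcomm t' v)⁻¹ := by
    intro v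
    rw [hσ, ← hτ', map_pow, R4, ← pow_mul, hinvpow _ (hτ'p v)]
  have hz : ∀ v, ((t₁ * t' * t₁) ^ 2) v =
      v * (τ' (dsp hcomm t₁ v)) ^ 2 * (dsp hcomm t₁ (τ' v)) ^ 2 := by
    intro v
    rw [pow_two, MulAut.mul_apply]
    exact core_mul hcomm t₁ t' r1 r3 h2 r4 v
  have hστ'τ : ∀ v, dsp hcomm t₁ (τ' (τ v)) = (τ v)⁻¹ := by
    intro v
    rw [hσ, R3, ← pow_mul, hinvpow _ (hτp v)]
  have hZ3 : ∀ v, ((t₁ * t' * t₁) ^ 2) (τ v) = (τ v)⁻¹ := by
    intro v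
    rw [hz (τ v), hσ (τ v), h1, one_pow, map_one, one_pow, hστ'τ]
    group
  refine ⟨α, ?_, ?_, hZ3, ?_⟩
  · ext v
    rw [MulAut.mul_apply, MulAut.mul_apply]
    have e1 : t v = v * τ v := apply_eq hcomm t v
    have e2 : t (((t₁ * t' * t₁) ^ 2) v) =
        ((t₁ * t' * t₁) ^ 2) v * τ (((t₁ * t' * t₁) ^ 2) v) := apply_eq hcomm t _
    have e3 : τ (((t₁ * t' * t₁) ^ 2) v) = (τ v)⁻¹ := by
      rw [hz v, map_mul, map_mul, map_pow, map_pow, hττ'σ, hτσ, one_pow]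
      group
    rw [e1, map_mul, hZ3, e2, e3]
  · intro v hv hv'
    rw [hz v, hσ v, hv, one_pow, map_one, hv', map_one]
    group
  · intro w hw
    refine ⟨w * dsp hcomm t₁ (τ' w), (dsp hcomm t₁ (τ' w))⁻¹, ?_, ?_, ?_, by group⟩
    · rw [map_mul, hw, hτσ, one_mul]
    · rw [map_mul, r4, mul_inv_cancel]
    · refine ⟨((τ' w) ^ α)⁻¹, ?_⟩
      rw [hσ, map_inv, map_pow]

end Cfsg.Agent.Lib.Helper03.SL2Inv
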