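import Mathlib
import Cfsg.Agent.Lib.Helper90.StabChain
import Cfsg.Agent.Lib.Helper03.SL2Inv

set_option autoImplicit false

/-!
Abstract part of the `SL₂(p)`-argument: for a "transvection" `t` of a finite abelian `p`-group `V` and an
automorphism `g` such that `g t g⁻¹ ∉ ⟨t⟩`, if the `p`-subgroups containing `t` are as small as possible,
then `⟨t, g t g⁻¹⟩` contains an element inverting `[V, t]`, centralizing `C_V(t) ∩ g C_V(t)`, and commuting
with `t`.
-/

namespace Cfsg.Agent.Lib.Helper03.SL2Inv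

open Cfsg.Agent.Lib.Helper90

section chain
variable {P : Type*} [Group P]

/-- In a finite group the forward condition suffices for membership in the stability group. -/
theorem mem_stabChain_of_forward [Finite P] (c : ℕ → Subgroup P) (hmono : Monotone c) (β : MulAut P)
    (hβ : ∀ i, ∀ x ∈ c (i + 1), x⁻¹ * β x ∈ c i) : β ∈ stabChain c hmono := by
  have hfin : IsOfFinOrder β := isOfFinOrder_of_finite β
  have hpos : 0 < orderOf β := hfin.orderOf_pos
  have hinv : β⁻¹ = β ^ (orderOf β - 1) := by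
    apply inv_eq_of_mul_eq_one_right
    rw [← pow_succ', Nat.sub_add_cancel hpos, pow_orderOf_eq_one]
  rw [mem_stabChain]
  intro i x hx
  refine ⟨hβ i x hx, ?_⟩
  rw [hinv]
  exact stab_chain_pow_mem c hmono β hβ _ i x hx

/-- The chain `⊥ ≤ K ≤ L ≤ ⊤ ≤ ⊤ ≤ …`. -/
def threeChain (K L : Subgroup P) : ℕ → Subgroup P
  | 0 => ⊥
  | 1 => K
  | 2 => L
  | _ + 3 => ⊤

theorem threeChain_mono {K L : Subgroup P} (hKL : K ≤ L) : Monotone (threeChain K L) := by
  apply monotone_nat_of_le_succ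
  intro n
  match n with
  | 0 => exact bot_le
  | 1 => exact hKL
  | 2 => exact le_top
  | _ + 3 => exact le_rfl

/-- Normalizing a finite cyclic subgroup is symmetric. -/
theorem conj_mem_zpowers_symm {G : Type*} [Group G] (t h : G) [Finite (Subgroup.zpowers t)]
    (hh : h * t * h⁻¹ ∈ Subgroup.zpowers t) : h⁻¹ * t * h ∈ Subgroup.zpowers t := by
  have hmem : ∀ u ∈ Subgroup.zpowers t, h * u * h⁻¹ ∈ Subgroup.zpowers t := by
    intro u hu
    obtain ⟨k, rfl⟩ := hu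
    have e : h * t ^ k * h⁻¹ = (h * t * h⁻¹) ^ k := by
      rw [conj_zpow]
    rw [e]
    exact Subgroup.zpow_mem _ hh k
  let f : Subgroup.zpowers t → Subgroup.zpowers t := fun u => ⟨h * u * h⁻¹, hmem u u.2⟩
  have hf : Function.Injective f := by
    intro u v huv
    have h1 : h * (u : G) * h⁻¹ = h * (v : G) * h⁻¹ := congrArg Subtype.val huv
    exact Subtype.ext (mul_left_cancel (mul_right_cancel h1))
  have hs : Function.Surjective f := Finite.injective_iff_surjective.mp hf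
  obtain ⟨u, hu⟩ := hs ⟨t, Subgroup.mem_zpowers t⟩
  have h1 : h * (u : G) * h⁻¹ = t := congrArg Subtype.val hu
  have h2 : h⁻¹ * t * h = u := by
    calc h⁻¹ * t * h = h⁻¹ * (h * (u : G) * h⁻¹) * h := by rw [h1]
      _ = u := by group
  rw [h2]; exact u.2

end chain

variable {V : Type*} [Group V]

theorem dsp_conj (hcomm : ∀ a b : V, a * b = b * a) (t g : MulAut V) (v : V) :
    dsp hcomm (g * t * g⁻¹) v = g (dsp hcomm t (g⁻¹ v)) := by
  rw [dsp_apply, dsp_apply, MulAut.mul_apply, MulAut.mul_apply, map_mul, map_inv,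
    MulAut.apply_inv_self]

theorem dsp_pow_base (hcomm : ∀ a b : V, a * b = b * a) (t : MulAut V) (z₀ : V)
    (hz : dsp hcomm t z₀ = 1) (k : ℕ) : dsp hcomm t (z₀ ^ k) = 1 := by
  rw [map_pow, hz, one_pow]

/-- If `t` fixes `g z₀`, then `t` and `g t g⁻¹` stabilize a common chain. -/
theorem conj_mem_zpowers_of_fix [Finite V] {p : ℕ} [Fact p.Prime] (hV : IsPGroup p V)
    (hcomm : ∀ a b : V, a * b = b * a) (t g : MulAut V) (z₀ : V)
    (hr : ∀ v, ∃ k : ℕ, dsp hcomm t v = z₀ ^ k) (hz : dsp hcomm t z₀ = 1)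
    (hfix : dsp hcomm t (g z₀) = 1)
    (hSg : ∀ Sg : Subgroup (MulAut V), IsPGroup p Sg → t ∈ Sg → g * t * g⁻¹ ∈ Sg →
      g * t * g⁻¹ ∈ Subgroup.zpowers t) :
    g * t * g⁻¹ ∈ Subgroup.zpowers t := by
  set t' := g * t * g⁻¹ with ht'
  set τ := dsp hcomm t with hτ
  set τ' := dsp hcomm t' with hτ'
  have hτ'eq : ∀ v, τ' v = g (τ (g⁻¹ v)) := fun v => dsp_conj hcomm t g v
  have hr' : ∀ v, ∃ k : ℕ, τ' v = (g z₀) ^ k := by
    intro v
    obtain ⟨k, hk⟩ := hr (g⁻¹ v)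
    exact ⟨k, by rw [hτ'eq, hk, map_pow]⟩
  have hz' : τ' (g z₀) = 1 := by
    rw [hτ'eq, MulAut.inv_apply_self, hz, map_one]
  set K : Subgroup V := τ.ker ⊓ τ'.ker with hK
  set L : Subgroup V := τ.ker with hL
  have hKL : K ≤ L := inf_le_left
  have hmono := threeChain_mono hKL
  have htmem : t ∈ stabChain (threeChain K L) hmono := by
    apply mem_stabChain_of_forward
    intro i x hx
    have e : x⁻¹ * t x = τ x := rfl
    rw [e]
    match i with
    | 0 =>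
      have hx' : x ∈ K := hx
      show τ x ∈ (⊥ : Subgroup V)
      rw [Subgroup.mem_bot]
      exact MonoidHom.mem_ker.mp hx'.1
    | 1 =>
      have hx' : x ∈ L := hx
      show τ x ∈ K
      rw [MonoidHom.mem_ker.mp hx']
      exact Subgroup.one_mem _
    | 2 =>
      show τ x ∈ L
      obtain ⟨k, hk⟩ := hr x
      rw [hk, hL, MonoidHom.mem_ker]
      exact dsp_pow_base hcomm t z₀ hz k
    | _ + 3 => exact Subgroup.mem_top _
  have ht'mem : t' ∈ stabChain (threeChain K L) hmono := by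
    apply mem_stabChain_of_forward
    intro i x hx
    have e : x⁻¹ * t' x = τ' x := rfl
    rw [e]
    match i with
    | 0 =>
      have hx' : x ∈ K := hx
      show τ' x ∈ (⊥ : Subgroup V)
      rw [Subgroup.mem_bot]
      exact MonoidHom.mem_ker.mp hx'.2
    | 1 =>
      show τ' x ∈ K
      obtain ⟨k, hk⟩ := hr' x
      rw [hk]
      refine Subgroup.pow_mem _ (Subgroup.mem_inf.mpr ⟨?_, ?_⟩) k
      · exact MonoidHom.mem_ker.mpr hfix
      · exact MonoidHom.mem_ker.mpr hz'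
    | 2 =>
      show τ' x ∈ L
      obtain ⟨k, hk⟩ := hr' x
      rw [hk]
      exact Subgroup.pow_mem _ (MonoidHom.mem_ker.mpr hfix) k
    | _ + 3 => exact Subgroup.mem_top _
  exact hSg _ (stabChain_isPGroup hV _ rfl hmono 3 rfl) htmem ht'mem

/-- The abstract statement. -/
theorem exists_inv_of_bad [Finite V] {p : ℕ} [Fact p.Prime] (hV : IsPGroup p V)
    (hcomm : ∀ a b : V, a * b = b * a) (t g : MulAut V) (z₀ : V)
    (hr : ∀ v, ∃ k : ℕ, dsp hcomm t v = z₀ ^ k) (hz₀ : z₀ ^ p = 1) (hz : dsp hcomm t z₀ = 1)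
    (hSg : ∀ s : MulAut V, (s = g * t * g⁻¹ ∨ s = g⁻¹ * t * g⁻¹⁻¹) →
      ∀ Sg : Subgroup (MulAut V), IsPGroup p Sg → t ∈ Sg → s ∈ Sg → s ∈ Subgroup.zpowers t)
    (hbad : g * t * g⁻¹ ∉ Subgroup.zpowers t) :
    ∃ α : ℕ,
      ((t ^ α * (g * t * g⁻¹) * t ^ α) ^ 2) * t = t * ((t ^ α * (g * t * g⁻¹) * t ^ α) ^ 2) ∧
      (∀ v, dsp hcomm t v = 1 → dsp hcomm t (g⁻¹ v) = 1 →
        ((t ^ α * (g * t * g⁻¹) * t ^ α) ^ 2) v = v) ∧
      (∀ v, ((t ^ α * (g * t * g⁻¹) * t ^ α) ^ 2) (dsp hcomm t v) = (dsp hcomm t v)⁻¹) ∧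
      (∀ w, dsp hcomm t w = 1 → ∃ c y, dsp hcomm t c = 1 ∧ dsp hcomm t (g⁻¹ c) = 1 ∧
        (∃ k : ℕ, y = z₀ ^ k) ∧ w = c * y) := by
  have hp : p.Prime := Fact.out
  set t' := g * t * g⁻¹ with ht'
  have hτ'eq : ∀ v, dsp hcomm t' v = g (dsp hcomm t (g⁻¹ v)) := fun v => dsp_conj hcomm t g v
  have hker : ∀ v, dsp hcomm t' v = 1 ↔ dsp hcomm t (g⁻¹ v) = 1 := by
    intro v
    rw [hτ'eq]
    constructor
    · intro h
      have := congrArg (g⁻¹ : MulAut V) h
      rwa [MulAut.inv_apply_self, map_one] at this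
    · intro h
      rw [h, map_one]
  have h1 : ∀ v, dsp hcomm t (dsp hcomm t v) = 1 := by
    intro v
    obtain ⟨k, hk⟩ := hr v
    rw [hk]
    exact dsp_pow_base hcomm t z₀ hz k
  have h2 : ∀ v, dsp hcomm t' (dsp hcomm t' v) = 1 := by
    intro v
    rw [hτ'eq (dsp hcomm t' v), hτ'eq v, MulAut.inv_apply_self, h1, map_one]
  have hz₀' : (g z₀) ^ p = 1 := by rw [← map_pow, hz₀, map_one]
  have hr' : ∀ v, ∃ k : ℕ, dsp hcomm t' v = (g z₀) ^ k := by
    intro v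
    obtain ⟨k, hk⟩ := hr (g⁻¹ v)
    exact ⟨k, by rw [hτ'eq, hk, map_pow]⟩
  have : Finite (Subgroup.zpowers t) := inferInstance
  have he' : dsp hcomm t (g z₀) ≠ 1 := by
    intro hfix
    exact hbad (conj_mem_zpowers_of_fix hV hcomm t g z₀ hr hz hfix (hSg _ (Or.inl rfl)))
  have he : dsp hcomm t' z₀ ≠ 1 := by
    intro hfix
    rw [hker] at hfix
    have h3 := conj_mem_zpowers_of_fix hV hcomm t g⁻¹ z₀ hr hz hfix (hSg _ (Or.inr rfl))
    have h4 := conj_mem_zpowers_symm t g⁻¹ h3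
    rw [inv_inv] at h4
    exact hbad h4
  obtain ⟨α, hc, hfixed, hinvt, hdec⟩ :=
    exists_inv hcomm hp t t' h1 h2 z₀ (g z₀) hz₀ hz₀' hr hr' he he'
  refine ⟨α, hc, fun v hv hv' => hfixed v hv ((hker v).mpr hv'), hinvt, fun w hw => ?_⟩
  obtain ⟨c, y, hc1, hc2, ⟨v, hv⟩, hwy⟩ := hdec w hw
  obtain ⟨k, hk⟩ := hr v
  exact ⟨c, y, hc1, (hker c).mp hc2, ⟨k, by rw [hv, hk]⟩, hwy⟩

end Cfsg.Agent.Lib.Helper03.SL2Inv
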