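import Mathlib
import Cfsg.Agent.Lib.Helper03.Oliver24B
import Cfsg.Agent.Lib.Helper03.Oliver24C

set_option autoImplicit false
set_option linter.deprecated false
set_option linter.unusedSectionVars false

/-!
Oliver's Lemma 2.4, concrete part of the `SL₂(p)`-argument for an abelian essential subgroup
`P = Z(S)⟨x⟩`.
-/

namespace Cfsg.Agent.Lib.Helper03.Oliver24

open Cfsg Cfsg.FusionSystem Cfsg.Agent.Lib.Helper87 Cfsg.Agent.Lib.Helper03.OliverLemma
  Cfsg.Agent.Lib.Helper03.UAI Cfsg.Agent.Lib.Helper03.KappaEnd Cfsg.Agent.Lib.Helper03.FusEss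
  Cfsg.Agent.Lib.Helper03.SL2Inv

open scoped commutatorElement

variable {Ω : Type*} [Group Ω] {S : Subgroup Ω}

/-- `Z₀ = Z(S) ∩ S'`. -/
def Z0 (S : Subgroup Ω) : Subgroup Ω := ZZ S ⊓ (commutator ↥S).map S.subtype

/-- An abelian essential subgroup `P = Z(S)⟨x⟩` with the data of `core2`. -/
structure AbEss (p : ℕ) (F : FusionSystem S) (A P : Subgroup Ω) (x : Ω) : Prop where
  ess : F.IsEssential p P
  hxP : x ∈ P
  hxA : x ∉ A
  set : Setting S A x
  hZ2A : ZZ2 S ≤ A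
  relN : P.relIndex (S ⊓ Subgroup.normalizer (P : Set Ω)) = p
  relZ : (ZZ S).relIndex (ZZ2 S) = p
  relA : A.relIndex P = p
  comm : ∀ u ∈ P, ∀ v ∈ P, u * v = v * u
  inf : P ⊓ A = ZZ S

/-- An element of `Z₂(S) ∖ Z(S)`. -/
structure AData (S : Subgroup Ω) (a : Ω) : Prop where
  h2 : a ∈ ZZ2 S
  hZ : a ∉ ZZ S

theorem comm_mem_commutator_map {a b : Ω} (ha : a ∈ S) (hb : b ∈ S) :
    a * b * a⁻¹ * b⁻¹ ∈ (commutator ↥S).map S.subtype := by
  refine ⟨⁅(⟨a, ha⟩ : ↥S), ⟨b, hb⟩⁆, ?_, ?_⟩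
  · rw [commutator_def]
    exact Subgroup.commutator_mem_commutator (Subgroup.mem_top _) (Subgroup.mem_top _)
  · rw [commutatorElement_def]
    rfl

section

variable {p : ℕ} [Fact p.Prime] {F : FusionSystem S} {A P : Subgroup Ω} {x a : Ω}

theorem AbEss.hPS (e : AbEss p F A P x) : P ≤ S := e.ess.1.1

theorem AbEss.hZP (e : AbEss p F A P x) : ZZ S ≤ P := ZZ_le_of_isEssential F e.ess

theorem AbEss.card_eq [Finite S] (e : AbEss p F A P x) : p * Nat.card (ZZ S) = Nat.card P := by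
  have h3 : A.relIndex P = (P ⊓ A).relIndex P := by
    rw [inf_comm, Subgroup.inf_relIndex_right]
  have h4 := relIndex_mul_card (inf_le_left : P ⊓ A ≤ P)
  rw [← h3, e.relA, e.inf] at h4
  exact h4

theorem AbEss.mem_ZZ_of_mem_A (e : AbEss p F A P x) {u : Ω} (hu : u ∈ P) (huA : u ∈ A) :
    u ∈ ZZ S := by
  rw [← e.inf]; exact ⟨hu, huA⟩

theorem AbEss.exists_a (e : AbEss p F A P x) : ∃ a, AData S a := by
  have hp : p.Prime := Fact.out
  have h1 : ¬ ZZ2 S ≤ ZZ S := by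
    intro hle
    have := Subgroup.relIndex_eq_one.mpr hle
    rw [e.relZ] at this
    exact hp.one_lt.ne' this
  obtain ⟨a, ha2, haZ⟩ := SetLike.not_le_iff_exists.mp h1
  exact ⟨a, ha2, haZ⟩

theorem AbEss.haA (e : AbEss p F A P x) (d : AData S a) : a ∈ A := e.hZ2A d.h2

theorem AbEss.haS (e : AbEss p F A P x) (d : AData S a) : a ∈ S := e.set.hAS (e.haA d)

theorem AbEss.haN (e : AbEss p F A P x) (d : AData S a) :
    a ∈ Subgroup.normalizer (P : Set Ω) :=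
  mem_normalizer_of_mem_Z2 e.set e.hPS e.hZP (e.haA d) d.h2

theorem AbEss.haP (e : AbEss p F A P x) (d : AData S a) : a ∉ P :=
  fun h => d.hZ (e.mem_ZZ_of_mem_A h (e.haA d))

theorem AbEss.hz₀Z (e : AbEss p F A P x) (d : AData S a) : a * x * a⁻¹ * x⁻¹ ∈ ZZ S :=
  e.set.comm_mem_of_mem_Z2 d.h2

theorem AbEss.hz₀ne (e : AbEss p F A P x) (d : AData S a) : a * x * a⁻¹ * x⁻¹ ≠ 1 := by
  intro h
  apply d.hZ
  apply e.set.mem_Z_of_comm (e.haA d)
  calc a * x = (a * x * a⁻¹ * x⁻¹) * x * a := by group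
    _ = x * a := by rw [h, one_mul]

theorem AbEss.hz₀Z0 (e : AbEss p F A P x) (d : AData S a) : a * x * a⁻¹ * x⁻¹ ∈ Z0 S :=
  Subgroup.mem_inf.mpr ⟨e.hz₀Z d, comm_mem_commutator_map (e.haS d) e.set.hxS⟩

theorem card_Z0 [Finite S] (c : Ctx p F A) (e : AbEss p F A P x) : Nat.card (Z0 S) = p :=
  (Cfsg.Agent.Lib.Helper03.OliverLemma2.partB (Fact.out : p.Prime) e.set c.hA.2.2 e.hZ2A
    e.relZ).1

theorem pow_eq_one_of_mem_Z0 [Finite S] (c : Ctx p F A) (e : AbEss p F A P x) {y : Ω}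
    (hy : y ∈ Z0 S) : y ^ p = 1 := by
  have h1 : (⟨y, hy⟩ : Z0 S) ^ Nat.card (Z0 S) = 1 := pow_card_eq_one'
  rw [card_Z0 c e] at h1
  exact congrArg Subtype.val h1

/-- Every element of `Z₀` is a power of `z₀`. -/
theorem exists_zpow_eq_of_mem_Z0 [Finite S] (c : Ctx p F A) (e : AbEss p F A P x) (d : AData S a)
    {y : Ω} (hy : y ∈ Z0 S) : ∃ k : ℤ, (a * x * a⁻¹ * x⁻¹) ^ k = y := by
  have hne : (⟨a * x * a⁻¹ * x⁻¹, e.hz₀Z0 d⟩ : Z0 S) ≠ 1 := by
    intro h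
    exact e.hz₀ne d (congrArg Subtype.val h)
  have htop := zpowers_eq_top_of_prime_card (card_Z0 c e) hne
  have hmem : (⟨y, hy⟩ : Z0 S) ∈ Subgroup.zpowers (⟨a * x * a⁻¹ * x⁻¹, e.hz₀Z0 d⟩ : Z0 S) := by
    rw [htop]; exact Subgroup.mem_top _
  obtain ⟨k, hk⟩ := hmem
  refine ⟨k, ?_⟩
  have := congrArg Subtype.val hk
  simpa using this

/-- (L1) conjugation by `a` on `b x^i`, `b` central. -/
theorem AbEss.conj_eq_pow (e : AbEss p F A P x) (d : AData S a) {b : Ω} (hb : b ∈ ZZ S) (i : ℕ) :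
    a * (b * x ^ i) * a⁻¹ = (a * x * a⁻¹ * x⁻¹) ^ i * (b * x ^ i) := by
  set z₀ := a * x * a⁻¹ * x⁻¹ with hz₀
  have hzx : Commute z₀ x := (ZZ_comm (e.hz₀Z d) e.set.hxS).symm
  have hab : a * b = b * a := ZZ_comm hb (e.haS d)
  have hzb : Commute (z₀ ^ i) b := by
    have : Commute z₀ b := (ZZ_comm (e.hz₀Z d) hb.1).symm
    exact this.pow_left i
  have e1 : a * x * a⁻¹ = z₀ * x := by rw [hz₀]; group
  have e2 : a * x ^ i * a⁻¹ = z₀ ^ i * x ^ i := by
    rw [← conj_pow, e1, hzx.mul_pow]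
  calc a * (b * x ^ i) * a⁻¹ = (a * b) * x ^ i * a⁻¹ := by group
    _ = b * (a * x ^ i * a⁻¹) := by rw [hab]; group
    _ = b * (z₀ ^ i * x ^ i) := by rw [e2]
    _ = (b * z₀ ^ i) * x ^ i := by group
    _ = (z₀ ^ i * b) * x ^ i := by rw [hzb.eq]
    _ = z₀ ^ i * (b * x ^ i) := by group

/-- `a` as an element of `N_S(P)`. -/
def AbEss.aN (e : AbEss p F A P x) (d : AData S a) : ↥(normalizerIn S P) :=
  ⟨a, Subgroup.mem_inf.mpr ⟨e.haS d, e.haN d⟩⟩

/-- The automorphism `c_a` of `P`, as an element of `Aut_F(P)`. -/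
def AbEss.tG (e : AbEss p F A P x) (d : AData S a) : ↥(F.autGroup P) :=
  normHom F e.hPS (e.aN d)

/-- The automorphism `c_a` of `P`. -/
def AbEss.t (e : AbEss p F A P x) (d : AData S a) : MulAut P :=
  ((e.tG d : ↥(F.autGroup P)) : MulAut P)

theorem AbEss.t_mem (e : AbEss p F A P x) (d : AData S a) : e.t d ∈ F.autGroup P := (e.tG d).2

theorem AbEss.t_apply (e : AbEss p F A P x) (d : AData S a) (v : P) :
    ((e.t d v : P) : Ω) = a * v * a⁻¹ := rfl

theorem AbEss.hcomm (e : AbEss p F A P x) : ∀ u v : P, u * v = v * u :=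
  fun u v => Subtype.ext (e.comm u u.2 v v.2)

/-- `z₀ = [a, x]` as an element of `P`. -/
def AbEss.z₀P (e : AbEss p F A P x) (d : AData S a) : P :=
  ⟨a * x * a⁻¹ * x⁻¹, e.hZP (e.hz₀Z d)⟩

theorem AbEss.dsp_eq (e : AbEss p F A P x) (d : AData S a) (v : P) {b : Ω} (hb : b ∈ ZZ S)
    (i : ℕ) (hv : (v : Ω) = b * x ^ i) : dsp e.hcomm (e.t d) v = (e.z₀P d) ^ i := by
  apply Subtype.ext
  rw [dsp_apply, Subgroup.coe_mul, Subgroup.coe_inv, e.t_apply d, Subgroup.coe_pow, hv,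
    e.conj_eq_pow d hb i]
  show (b * x ^ i)⁻¹ * ((a * x * a⁻¹ * x⁻¹) ^ i * (b * x ^ i)) = (a * x * a⁻¹ * x⁻¹) ^ i
  have hS' : b * x ^ i ∈ S := S.mul_mem hb.1 (S.pow_mem e.set.hxS i)
  have hc : (b * x ^ i) * (a * x * a⁻¹ * x⁻¹) ^ i = (a * x * a⁻¹ * x⁻¹) ^ i * (b * x ^ i) :=
    ZZ_comm (Subgroup.pow_mem _ (e.hz₀Z d) i) hS'
  rw [← hc]; group

theorem AbEss.hr (e : AbEss p F A P x) (d : AData S a) (v : P) :
    ∃ k : ℕ, dsp e.hcomm (e.t d) v = (e.z₀P d) ^ k := by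
  obtain ⟨b, ⟨hbP, hbA⟩, i, hv⟩ := dec e.set e.hPS e.hxP v.2
  exact ⟨i, e.dsp_eq d v (e.mem_ZZ_of_mem_A hbP hbA) i hv⟩

theorem AbEss.dsp_eq_one_iff [Finite S] (c : Ctx p F A) (e : AbEss p F A P x) (d : AData S a)
    (v : P) : dsp e.hcomm (e.t d) v = 1 ↔ (v : Ω) ∈ ZZ S := by
  have hp : p.Prime := Fact.out
  constructor
  · intro h
    have h1 := congrArg Subtype.val h
    rw [dsp_apply, Subgroup.coe_mul, Subgroup.coe_inv, e.t_apply d] at h1
    have h2 : a * (v : Ω) = v * a := by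
      have h3 : (v : Ω)⁻¹ * (a * v * a⁻¹) = 1 := h1
      calc a * (v : Ω) = v * ((v : Ω)⁻¹ * (a * v * a⁻¹)) * a := by group
        _ = v * a := by rw [h3, mul_one]
    by_cases hvA : (v : Ω) ∈ A
    · exact e.mem_ZZ_of_mem_A v.2 hvA
    · exfalso
      have hn := normal_of_index_prime c.hS c.hA.2.2
      have hvS : (v : Ω) ∈ S := e.hPS v.2
      have hV : Setting S A (v : Ω) :=
        ⟨e.set.hAS, e.set.comm, e.set.norm, hvS,
          fun s hs => gen_of_index_prime hp hn c.hA.2.2 hvS hvA hs, e.set.hZA⟩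
      exact d.hZ (hV.mem_Z_of_comm (e.haA d) h2)
  · intro h
    have := e.dsp_eq d v h 0 (by simp)
    rw [this, pow_zero]

theorem AbEss.dsp_x (e : AbEss p F A P x) (d : AData S a) :
    dsp e.hcomm (e.t d) ⟨x, e.hxP⟩ = e.z₀P d := by
  have := e.dsp_eq d ⟨x, e.hxP⟩ (Subgroup.one_mem _) 1 (by simp)
  rw [this, pow_one]

theorem AbEss.hz (e : AbEss p F A P x) (d : AData S a) :
    dsp e.hcomm (e.t d) (e.z₀P d) = 1 := by
  have := e.dsp_eq d (e.z₀P d) (e.hz₀Z d) 0 (by simp [AbEss.z₀P])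
  rw [this, pow_zero]

theorem AbEss.z₀P_pow [Finite S] (c : Ctx p F A) (e : AbEss p F A P x) (d : AData S a) :
    (e.z₀P d) ^ p = 1 := by
  apply Subtype.ext
  rw [Subgroup.coe_pow]
  exact pow_eq_one_of_mem_Z0 c e (e.hz₀Z0 d)

theorem AbEss.tG_ne_one [Finite S] (c : Ctx p F A) (e : AbEss p F A P x) (d : AData S a) :
    e.tG d ≠ 1 := by
  intro h
  have h1 : e.t d = 1 := by
    show ((e.tG d : ↥(F.autGroup P)) : MulAut P) = 1
    rw [h]; rfl
  have h2 : dsp e.hcomm (e.t d) ⟨x, e.hxP⟩ = 1 := by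
    rw [dsp_apply, h1, MulAut.one_apply, inv_mul_cancel]
  rw [e.dsp_eq_one_iff c d] at h2
  exact e.hxA (e.set.hZA h2)

/-- (L5) `p`-subgroups of `Aut_F(P)` have order dividing `p`. -/
theorem AbEss.card_dvd_of_isPGroup [Finite S] (c : Ctx p F A) (e : AbEss p F A P x)
    (H : Subgroup (F.autGroup P)) (hH : IsPGroup p H) : Nat.card H ∣ p := by
  have hPS := e.hPS
  have : Finite P := finite_of_le hPS
  have : Finite (F.autGroup P) := finite_autGroup F hPS
  obtain ⟨-, -, R, hR⟩ := fullyNormalized_props p c.hS F c.hF P e.ess.2.1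
  have hker : (normHom F hPS).ker = P.subgroupOf (normalizerIn S P) := by
    ext g
    rw [MonoidHom.mem_ker, Subgroup.mem_subgroupOf, normHom_eq_one_iff]
    constructor
    · intro h
      exact e.ess.1.2 P (Helper87.isConj_refl F hPS) h
    · intro h
      rw [Helper87.mem_centralizerIn]
      exact ⟨hPS h, fun u hu => e.comm u hu _ h⟩
  have hcardR : Nat.card (R : Subgroup (F.autGroup P)) = p := by
    rw [hR, ← normHom_range F hPS]
    calc Nat.card (normHom F hPS).range = (normHom F hPS).ker.index :=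
          (Subgroup.index_ker _).symm
      _ = (P.subgroupOf (normalizerIn S P)).index := by rw [hker]
      _ = p := e.relN
  obtain ⟨Q, hHQ⟩ := hH.exists_le_sylow
  have hcardQ : Nat.card (Q : Subgroup (F.autGroup P)) = p := by
    have h1 := Sylow.card_eq_multiplicity Q
    have h2 := Sylow.card_eq_multiplicity R
    rw [h1, ← h2]
    exact hcardR
  rw [← hcardQ]
  exact Subgroup.card_dvd_of_le hHQ

/-- (L6) A `p`-subgroup of `Aut(P)` containing `t` meets `Aut_F(P)` in `⟨t⟩`. -/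
theorem AbEss.mem_zpowers_of_isPGroup [Finite S] (c : Ctx p F A) (e : AbEss p F A P x)
    (d : AData S a) {s : MulAut P} (hs : s ∈ F.autGroup P) (Sg : Subgroup (MulAut P))
    (hSg : IsPGroup p Sg) (htSg : e.t d ∈ Sg) (hsSg : s ∈ Sg) :
    s ∈ Subgroup.zpowers (e.t d) := by
  have hp : p.Prime := Fact.out
  have hPS := e.hPS
  have : Finite P := finite_of_le hPS
  have : Finite (F.autGroup P) := finite_autGroup F hPS
  set H : Subgroup (F.autGroup P) := Sg.subgroupOf (F.autGroup P) with hHdef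
  have hH : IsPGroup p H := hSg.comap_subtype
  have hdvd := e.card_dvd_of_isPGroup c H hH
  have htH : e.tG d ∈ H := Subgroup.mem_subgroupOf.mpr htSg
  have hsH : (⟨s, hs⟩ : ↥(F.autGroup P)) ∈ H := Subgroup.mem_subgroupOf.mpr hsSg
  have hle : Subgroup.zpowers (e.tG d) ≤ H := Subgroup.zpowers_le.mpr htH
  have hord : orderOf (e.tG d) ∣ Nat.card H := by
    rw [← Nat.card_zpowers]
    exact Subgroup.card_dvd_of_le hle
  have hordp : orderOf (e.tG d) = p := by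
    rcases (Nat.dvd_prime hp).mp (hord.trans hdvd) with h1 | h1
    · exact absurd (orderOf_eq_one_iff.mp h1) (e.tG_ne_one c d)
    · exact h1
  have hcardH : Nat.card H = p := by
    apply Nat.dvd_antisymm hdvd
    rw [← hordp]; exact hord
  have heq : Subgroup.zpowers (e.tG d) = H := by
    apply Subgroup.eq_of_le_of_card_ge hle
    rw [Nat.card_zpowers, hordp, hcardH]
  rw [← heq] at hsH
  obtain ⟨k, hk⟩ := hsH
  refine ⟨k, ?_⟩
  have h1 : ((e.tG d : ↥(F.autGroup P)) : MulAut P) ^ k = s := by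
    have := congrArg Subtype.val hk
    simpa using this
  exact h1

end

end Cfsg.Agent.Lib.Helper03.Oliver24
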