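import Mathlib
import Cfsg.Agent.Lib.Helper03.Oliver24D

set_option autoImplicit false
set_option linter.deprecated false
set_option linter.unusedSectionVars false

/-!
Oliver's Lemma 2.4: the automorphisms of `S` obtained from an abelian essential subgroup.
-/

namespace Cfsg.Agent.Lib.Helper03.Oliver24

open Cfsg Cfsg.FusionSystem Cfsg.Agent.Lib.Helper87 Cfsg.Agent.Lib.Helper03.OliverLemma
  Cfsg.Agent.Lib.Helper03.UAI Cfsg.Agent.Lib.Helper03.KappaEnd Cfsg.Agent.Lib.Helper03.FusEss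
  Cfsg.Agent.Lib.Helper03.SL2Inv

variable {Ω : Type*} [Group Ω] {S : Subgroup Ω}

variable {p : ℕ} [Fact p.Prime] {F : FusionSystem S} {A P : Subgroup Ω} {x a : Ω}

/-- (β) An `F`-automorphism of `P` normalizing `⟨c_a⟩` acts on `Z(S)` like an element of `Aut_F(S)`. -/
theorem AbEss.exists_sigma_of_good [Finite S] (c : Ctx p F A) (e : AbEss p F A P x)
    (d : AData S a) {g : MulAut P} (hg : g ∈ F.autGroup P)
    (hgood : g * e.t d * g⁻¹ ∈ Subgroup.zpowers (e.t d)) :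
    ∃ σ ∈ F.autGroup S, ∀ (w : P) (hw : (w : Ω) ∈ ZZ S),
      ((g w : P) : Ω) = ((σ ⟨w, hw.1⟩ : ↥S) : Ω) := by
  have hPS := e.hPS
  obtain ⟨k, hk⟩ := hgood
  have hk' : e.t d ^ k = g * e.t d * g⁻¹ := hk
  set hN : ↥(normalizerIn S P) := (e.aN d) ^ k with hNdef
  have hpow : e.t d ^ k = ((normHom F hPS hN : ↥(F.autGroup P)) : MulAut P) := by
    show ((e.tG d : ↥(F.autGroup P)) : MulAut P) ^ k = _
    rw [hNdef, map_zpow, Subgroup.coe_zpow]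
    rfl
  have happ : ∀ y : P, (((e.t d ^ k) y : P) : Ω) = (hN : Ω) * y * (hN : Ω)⁻¹ := by
    intro y
    rw [hpow]
    exact normHom_apply F hPS hN y
  set φ : P →* Ω := P.subtype.comp g.toMonoidHom with hφdef
  have hφ : φ ∈ F.Hom P := (mem_autGroup_iff F hPS).mp hg
  have hrange : φ.range = P := by
    ext y
    constructor
    · rintro ⟨u, rfl⟩
      exact (g u).2
    · intro hy
      exact ⟨g.symm ⟨y, hy⟩, by simp [hφdef]⟩
  have haext : a ∈ extender S P φ := by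
    rw [mem_extender_iff]
    refine ⟨e.haS d, e.haN d, (hN : Ω), (Subgroup.mem_inf.mp hN.2).1, fun y hy => ?_⟩
    have e1 : (⟨a * (y : Ω) * a⁻¹, hy⟩ : P) = e.t d y := Subtype.ext rfl
    have e2 : g (e.t d y) = (e.t d ^ k) (g y) := by
      rw [hk', MulAut.mul_apply, MulAut.mul_apply, MulAut.inv_apply_self]
    show ((g ⟨a * (y : Ω) * a⁻¹, hy⟩ : P) : Ω) = (hN : Ω) * ((g y : P) : Ω) * (hN : Ω)⁻¹
    rw [e1, e2, happ]
  obtain ⟨hfc, -⟩ := fullyNormalized_props p c.hS F c.hF P e.ess.2.1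
  have hrec := isReceptive_of_isFullyCentralized p c.hS F c.hF P hfc
  obtain ⟨ψ, hψ, hψext⟩ := hrec.2 P φ hφ hrange
  have hPN : P ≤ extender S P φ := le_extender hPS (fun y => hPS (g y).2)
  have : Finite (extender S P φ) :=
    finite_of_le ((extender_le S P φ).trans (normalizerIn_le S P))
  have hcard : p * Nat.card (ZZ S) < Nat.card (extender S P φ) := by
    rw [e.card_eq]
    exact Cfsg.Agent.Lib.Helper89.card_lt_of_mem_not_mem hPN haext (e.haP d)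
  obtain ⟨σ, hσ, hσw⟩ := exists_aut_eq_on_ZZ c hψ hcard (e.hZP.trans hPN)
  refine ⟨σ, hσ, fun w hw => ?_⟩
  rw [← hσw w hw, hψext w w.2 (hPN w.2)]
  rfl

/-- (γ) Some `F`-automorphism of `P` does not normalize `⟨c_a⟩`. -/
theorem AbEss.exists_bad [Finite S] (c : Ctx p F A) (e : AbEss p F A P x) (d : AData S a) :
    ∃ g ∈ F.autGroup P, g * e.t d * g⁻¹ ∉ Subgroup.zpowers (e.t d) := by
  have hPne : P ≠ S := Cfsg.Agent.Lib.Helper91.ne_top_of_isEssential p F c.hF e.ess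
  obtain ⟨α, hα, y, hyA, hαy⟩ := exists_aut_moving c.hS F e.ess e.set e.hxP hPne
  refine ⟨α, hα, fun hgood => ?_⟩
  obtain ⟨σ, hσ, hσw⟩ := e.exists_sigma_of_good c d hα hgood
  have hyZ := e.mem_ZZ_of_mem_A y.2 hyA
  apply hαy
  rw [hσw y hyZ]
  exact e.set.hZA ((autInv_ZZ F).inv σ hσ ⟨y, hyZ.1⟩ hyZ)

/-- (α) From an `F`-automorphism `g` of `P` not normalizing `⟨c_a⟩` we get an element of `Aut_F(S)`
centralizing `Z ∩ gZ` and inverting `Z₀`, and `Z = (Z ∩ gZ) Z₀`. -/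
theorem AbEss.exists_sigma_of_bad [Finite S] (c : Ctx p F A) (e : AbEss p F A P x)
    (d : AData S a) {g : MulAut P} (hg : g ∈ F.autGroup P)
    (hbad : g * e.t d * g⁻¹ ∉ Subgroup.zpowers (e.t d)) :
    ∃ σ ∈ F.autGroup S,
      (∀ (w : P) (hw : (w : Ω) ∈ ZZ S), ((g⁻¹ w : P) : Ω) ∈ ZZ S →
        ((σ ⟨w, hw.1⟩ : ↥S) : Ω) = w) ∧
      (∀ (y : Ω) (hy : y ∈ Z0 S), ((σ ⟨y, hy.1.1⟩ : ↥S) : Ω) = y⁻¹) ∧
      (∀ (w : P), (w : Ω) ∈ ZZ S → ∃ (c' : P) (y : Ω), (c' : Ω) ∈ ZZ S ∧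
        ((g⁻¹ c' : P) : Ω) ∈ ZZ S ∧ y ∈ Z0 S ∧ (w : Ω) = c' * y) := by
  have hPS := e.hPS
  have : Finite P := finite_of_le hPS
  have hV : IsPGroup p P :=
    c.hS.of_injective (Subgroup.inclusion hPS) (Subgroup.inclusion_injective hPS)
  have htΓ := e.t_mem d
  have hSg : ∀ s : MulAut P, (s = g * e.t d * g⁻¹ ∨ s = g⁻¹ * e.t d * g⁻¹⁻¹) →
      ∀ Sg : Subgroup (MulAut P), IsPGroup p Sg → e.t d ∈ Sg → s ∈ Sg →
        s ∈ Subgroup.zpowers (e.t d) := by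
    intro s hs Sg hSgp ht hsSg
    have hsΓ : s ∈ F.autGroup P := by
      rcases hs with rfl | rfl
      · exact Subgroup.mul_mem _ (Subgroup.mul_mem _ hg htΓ) (Subgroup.inv_mem _ hg)
      · exact Subgroup.mul_mem _ (Subgroup.mul_mem _ (Subgroup.inv_mem _ hg) htΓ)
          (Subgroup.inv_mem _ (Subgroup.inv_mem _ hg))
    exact e.mem_zpowers_of_isPGroup c d hsΓ Sg hSgp ht hsSg
  obtain ⟨α, hc, hfixed, hinvt, hdec⟩ :=
    exists_inv_of_bad hV e.hcomm (e.t d) g (e.z₀P d) (e.hr d) (e.z₀P_pow c d) (e.hz d) hSg hbad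
  set z : MulAut P := (e.t d ^ α * (g * e.t d * g⁻¹) * e.t d ^ α) ^ 2 with hzdef
  have hzΓ : z ∈ F.autGroup P := by
    have h1 : e.t d ^ α ∈ F.autGroup P := Subgroup.pow_mem _ htΓ α
    have h2 : g * e.t d * g⁻¹ ∈ F.autGroup P :=
      Subgroup.mul_mem _ (Subgroup.mul_mem _ hg htΓ) (Subgroup.inv_mem _ hg)
    exact Subgroup.pow_mem _ (Subgroup.mul_mem _ (Subgroup.mul_mem _ h1 h2) h1) 2
  have hzgood : z * e.t d * z⁻¹ ∈ Subgroup.zpowers (e.t d) := by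
    rw [hc, mul_inv_cancel_right]
    exact Subgroup.mem_zpowers _
  obtain ⟨σ, hσ, hσw⟩ := e.exists_sigma_of_good c d hzΓ hzgood
  refine ⟨σ, hσ, ?_, ?_, ?_⟩
  · intro w hw hgw
    rw [← hσw w hw]
    have h1 := (e.dsp_eq_one_iff c d w).mpr hw
    have h2 := (e.dsp_eq_one_iff c d (g⁻¹ w)).mpr hgw
    rw [hfixed w h1 h2]
  · intro y hy
    obtain ⟨k, hk⟩ := exists_zpow_eq_of_mem_Z0 c e d hy
    set xP : P := ⟨x, e.hxP⟩ with hxP
    have h1 : dsp e.hcomm (e.t d) (xP ^ k) = (e.z₀P d) ^ k := by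
      rw [map_zpow, e.dsp_x d]
    have h2 : (((e.z₀P d) ^ k : P) : Ω) = y := by
      rw [Subgroup.coe_zpow]
      exact hk
    have h3 := hinvt (xP ^ k)
    rw [h1] at h3
    have h4 : (⟨y, e.hZP hy.1⟩ : P) = (e.z₀P d) ^ k := Subtype.ext h2.symm
    have h5 := hσw ⟨y, e.hZP hy.1⟩ hy.1
    rw [← h5, h4, h3, Subgroup.coe_inv, h2]
  · intro w hw
    have h1 := (e.dsp_eq_one_iff c d w).mpr hw
    obtain ⟨c', y', hc1, hc2, ⟨k, hk⟩, hwy⟩ := hdec w h1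
    refine ⟨c', (y' : Ω), (e.dsp_eq_one_iff c d c').mp hc1,
      (e.dsp_eq_one_iff c d (g⁻¹ c')).mp hc2, ?_, ?_⟩
    · rw [hk, Subgroup.coe_pow]
      exact Subgroup.pow_mem _ (e.hz₀Z0 d) k
    · rw [hwy, Subgroup.coe_mul]

end Cfsg.Agent.Lib.Helper03.Oliver24
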