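import Mathlib
import Cfsg.Agent.Lib.Helper03.Oliver24E
import Cfsg.Agent.Lib.Helper88.FusionRS1

set_option autoImplicit false
set_option linter.deprecated false
set_option linter.unusedSectionVars false

/-!
Oliver's Lemma 2.4: uniqueness of the "inverting" automorphism on `Z(S)`.
-/

namespace Cfsg.Agent.Lib.Helper03.Oliver24

open Cfsg Cfsg.FusionSystem Cfsg.Agent.Lib.Helper87 Cfsg.Agent.Lib.Helper03.OliverLemma
  Cfsg.Agent.Lib.Helper03.UAI Cfsg.Agent.Lib.Helper03.KappaEnd Cfsg.Agent.Lib.Helper03.FusEss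
  Cfsg.Agent.Lib.Helper03.SL2Inv Cfsg.Agent.Lib.Helper90

variable {Ω : Type*} [Group Ω] {S : Subgroup Ω}

theorem ZZ_aut_mem (σ : MulAut ↥S) (w : ↥S) (hw : (w : Ω) ∈ ZZ S) : ((σ w : ↥S) : Ω) ∈ ZZ S := by
  refine Subgroup.mem_inf.mpr ⟨(σ w).2, ?_⟩
  rw [Subgroup.mem_centralizer_iff]
  intro s hs
  have e : (⟨s, hs⟩ : ↥S) = σ (σ.symm ⟨s, hs⟩) := (σ.apply_symm_apply _).symm
  have hc : σ.symm ⟨s, hs⟩ * w = w * σ.symm ⟨s, hs⟩ :=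
    Subtype.ext (ZZ_comm hw (σ.symm ⟨s, hs⟩).2)
  have h1 : (⟨s, hs⟩ : ↥S) * σ w = σ w * ⟨s, hs⟩ := by
    rw [e, ← map_mul, ← map_mul, hc]
  exact congrArg Subtype.val h1

theorem Z0_aut_mem (σ : MulAut ↥S) (w : ↥S) (hw : (w : Ω) ∈ Z0 S) : ((σ w : ↥S) : Ω) ∈ Z0 S := by
  refine Subgroup.mem_inf.mpr ⟨ZZ_aut_mem σ w hw.1, ?_⟩
  have h2 : w ∈ commutator ↥S := by
    obtain ⟨u, hu, huw⟩ := hw.2
    have : u = w := Subtype.ext huw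
    rw [← this]; exact hu
  have hchar : (commutator ↥S).Characteristic := inferInstance
  have h3 : σ w ∈ commutator ↥S := by
    have := hchar.fixed σ
    have h4 : w ∈ (commutator ↥S).comap σ.toMonoidHom := by rw [this]; exact h2
    exact h4
  exact ⟨σ w, h3, rfl⟩

/-- `σ ∈ Aut_F(S)` inverts `Z₀` and acts trivially on `Z(S)/Z₀`. -/
structure IsInv (F : FusionSystem S) (σ : MulAut ↥S) : Prop where
  mem : σ ∈ F.autGroup S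
  inv : ∀ (y : Ω) (hy : y ∈ Z0 S), ((σ ⟨y, hy.1.1⟩ : ↥S) : Ω) = y⁻¹
  mod : ∀ (w : Ω) (hw : w ∈ ZZ S), ∃ y ∈ Z0 S, ((σ ⟨w, hw.1⟩ : ↥S) : Ω) = w * y

variable {p : ℕ} [Fact p.Prime] {F : FusionSystem S} {A P : Subgroup Ω} {x a : Ω}

/-- Part D: two such automorphisms agree on `Z(S)`. -/
theorem IsInv.eq_on_ZZ [Finite S] (c : Ctx p F A) (e : AbEss p F A P x) {σ₁ σ₂ : MulAut ↥S}
    (h₁ : IsInv F σ₁) (h₂ : IsInv F σ₂) (w : Ω) (hw : w ∈ ZZ S) :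
    σ₁ ⟨w, hw.1⟩ = σ₂ ⟨w, hw.1⟩ := by
  have hp : p.Prime := Fact.out
  set L : Subgroup ↥S := (Z0 S).subgroupOf S with hL
  have inv₁ : ∀ r ∈ L, σ₁ r = r⁻¹ :=
    fun r hr => Subtype.ext (h₁.inv r (Subgroup.mem_subgroupOf.mp hr))
  have inv₂ : ∀ r ∈ L, σ₂ r = r⁻¹ :=
    fun r hr => Subtype.ext (h₂.inv r (Subgroup.mem_subgroupOf.mp hr))
  have inv₁' : ∀ r ∈ L, σ₁⁻¹ r = r⁻¹ := by
    intro r hr
    have h := inv₁ r⁻¹ (L.inv_mem hr)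
    rw [inv_inv] at h
    conv_lhs => rw [← h]
    rw [MulAut.inv_apply_self]
  have mod₁ : ∀ w' : ↥S, (w' : Ω) ∈ ZZ S → ∃ y ∈ L, σ₁ w' = w' * y := by
    intro w' hw'
    obtain ⟨y, hy, hσ⟩ := h₁.mod w' hw'
    exact ⟨⟨y, hy.1.1⟩, Subgroup.mem_subgroupOf.mpr hy, Subtype.ext hσ⟩
  have mod₂ : ∀ w' : ↥S, (w' : Ω) ∈ ZZ S → ∃ y ∈ L, σ₂ w' = w' * y := by
    intro w' hw'
    obtain ⟨y, hy, hσ⟩ := h₂.mod w' hw'
    exact ⟨⟨y, hy.1.1⟩, Subgroup.mem_subgroupOf.mpr hy, Subtype.ext hσ⟩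
  set ρ : MulAut ↥S := σ₁⁻¹ * σ₂ with hρ
  have hρL : ∀ r ∈ L, ρ r = r := by
    intro r hr
    show σ₁⁻¹ (σ₂ r) = r
    rw [inv₂ r hr, inv₁' r⁻¹ (L.inv_mem hr), inv_inv]
  set w' : ↥S := ⟨w, hw.1⟩ with hw'
  obtain ⟨y₁, hy₁, e₁⟩ := mod₁ w' hw
  obtain ⟨y₂, hy₂, e₂⟩ := mod₂ w' hw
  have e₁' : σ₁⁻¹ w' = w' * y₁ := by
    have h : σ₁ (w' * y₁) = w' := by rw [map_mul, e₁, inv₁ y₁ hy₁, mul_inv_cancel_right]
    conv_lhs => rw [← h]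
    rw [MulAut.inv_apply_self]
  have hρw : w'⁻¹ * ρ w' = y₁ * y₂⁻¹ := by
    show w'⁻¹ * σ₁⁻¹ (σ₂ w') = _
    rw [e₂, map_mul, e₁', inv₁' y₂ hy₂]; group
  have hη : w'⁻¹ * ρ w' ∈ L := by rw [hρw]; exact L.mul_mem hy₁ (L.inv_mem hy₂)
  have hpow := fun k => stab_pow_apply ρ L hρL w' hη k
  -- the Sylow subgroup `Inn(S)` of `Aut_F(S)`
  have : Finite (F.autGroup S) := finite_autGroup F le_rfl
  obtain ⟨-, R, hR⟩ := Cfsg.Agent.Lib.Helper88.isFullyAutomized_top_of_isSaturated F c.hF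
  have hnormal : (R : Subgroup (F.autGroup S)).Normal := by
    rw [hR, Cfsg.Agent.Lib.Helper91.autInducedBy_self]
    infer_instance
  have hρΓ : ρ ∈ F.autGroup S :=
    Subgroup.mul_mem _ (Subgroup.inv_mem _ h₁.mem) h₂.mem
  obtain ⟨m, hm⟩ : ∃ m, m = (R : Subgroup (F.autGroup S)).index := ⟨_, rfl⟩
  have hmem : (⟨ρ, hρΓ⟩ : F.autGroup S) ^ m ∈ (R : Subgroup (F.autGroup S)) := by
    rw [hm]
    exact Subgroup.pow_index_mem (R : Subgroup (F.autGroup S)) (⟨ρ, hρΓ⟩ : F.autGroup S)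
  rw [hR, Subgroup.mem_subgroupOf, Subgroup.coe_pow] at hmem
  obtain ⟨s, hs, hsρ⟩ := (Cfsg.Agent.Lib.Helper89.mem_autInducedBy_iff S S _).mp hmem
  have hfixm : (ρ ^ m) w' = w' := by
    apply Subtype.ext
    have := hsρ w'
    rw [this]
    show s * w * s⁻¹ = w
    rw [ZZ_comm hw hs]; group
  have h1 : (w'⁻¹ * ρ w') ^ m = 1 := by
    have := hpow m
    rw [hfixm] at this
    have h' : w' * 1 = w' * (w'⁻¹ * ρ w') ^ m := by rw [mul_one]; exact this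
    exact (mul_left_cancel h').symm
  have h2 : (w'⁻¹ * ρ w') ^ p = 1 := by
    apply Subtype.ext
    rw [Subgroup.coe_pow]
    exact pow_eq_one_of_mem_Z0 c e (Subgroup.mem_subgroupOf.mp hη)
  have hcop : Nat.Coprime m p := by
    have := Sylow.not_dvd_index R
    rw [← hm] at this
    exact ((Nat.Prime.coprime_iff_not_dvd hp).mpr this).symm
  have h3 : w'⁻¹ * ρ w' = 1 := by
    have := pow_gcd_eq_one.mpr ⟨h1, h2⟩
    rwa [hcop, pow_one] at this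
  have h4 : ρ w' = w' := by
    have := congrArg (fun u => w' * u) h3
    simpa using this
  have h5 : σ₁⁻¹ (σ₂ w') = w' := h4
  have h6 := congrArg σ₁ h5
  rw [MulAut.apply_inv_self] at h6
  exact h6.symm

end Cfsg.Agent.Lib.Helper03.Oliver24
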