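import Mathlib
import Cfsg.Agent.Lib.Helper03.Oliver24F

set_option autoImplicit false
set_option linter.deprecated false
set_option linter.unusedSectionVars false

/-!
Oliver's Lemma 2.4: the fixed points of the inverting automorphism on `Z(S)` form a subgroup normal in
the fusion system; conclusion.
-/

namespace Cfsg.Agent.Lib.Helper03.Oliver24

open Cfsg Cfsg.FusionSystem Cfsg.Agent.Lib.Helper87 Cfsg.Agent.Lib.Helper03.OliverLemma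
  Cfsg.Agent.Lib.Helper03.UAI Cfsg.Agent.Lib.Helper03.KappaEnd Cfsg.Agent.Lib.Helper03.FusEss
  Cfsg.Agent.Lib.Helper03.SL2Inv Cfsg.Agent.Lib.Helper90

variable {Ω : Type*} [Group Ω] {S : Subgroup Ω}

/-- The elements of `Z(S)` fixed by `σ`. -/
def fixZ (σ : MulAut ↥S) : Subgroup Ω where
  carrier := {w | ∃ hw : w ∈ ZZ S, ((σ ⟨w, hw.1⟩ : ↥S) : Ω) = w}
  one_mem' := ⟨Subgroup.one_mem _, by
    have : (⟨1, (Subgroup.one_mem (ZZ S)).1⟩ : ↥S) = 1 := rfl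
    rw [this, map_one]; rfl⟩
  mul_mem' := by
    rintro u v ⟨hu, hu'⟩ ⟨hv, hv'⟩
    refine ⟨Subgroup.mul_mem _ hu hv, ?_⟩
    have : (⟨u * v, (Subgroup.mul_mem _ hu hv).1⟩ : ↥S) = ⟨u, hu.1⟩ * ⟨v, hv.1⟩ := rfl
    rw [this, map_mul, Subgroup.coe_mul, hu', hv']
  inv_mem' := by
    rintro u ⟨hu, hu'⟩
    refine ⟨Subgroup.inv_mem _ hu, ?_⟩
    have : (⟨u⁻¹, (Subgroup.inv_mem _ hu).1⟩ : ↥S) = (⟨u, hu.1⟩ : ↥S)⁻¹ := rfl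
    rw [this, map_inv, Subgroup.coe_inv, hu']

theorem mem_fixZ {σ : MulAut ↥S} {w : Ω} :
    w ∈ fixZ σ ↔ ∃ hw : w ∈ ZZ S, ((σ ⟨w, hw.1⟩ : ↥S) : Ω) = w := Iff.rfl

theorem fixZ_le (σ : MulAut ↥S) : fixZ σ ≤ ZZ S := fun _ hw => hw.1

/-- The output of `exists_sigma_of_bad`. -/
structure SigmaFor (F : FusionSystem S) (P : Subgroup Ω) (g : MulAut P) (σ : MulAut ↥S) : Prop where
  mem : σ ∈ F.autGroup S
  fix : ∀ (w : P) (hw : (w : Ω) ∈ ZZ S), ((g⁻¹ w : P) : Ω) ∈ ZZ S → ((σ ⟨w, hw.1⟩ : ↥S) : Ω) = w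
  inv : ∀ (y : Ω) (hy : y ∈ Z0 S), ((σ ⟨y, hy.1.1⟩ : ↥S) : Ω) = y⁻¹
  dec : ∀ (w : P), (w : Ω) ∈ ZZ S → ∃ (c' : P) (y : Ω), (c' : Ω) ∈ ZZ S ∧
    ((g⁻¹ c' : P) : Ω) ∈ ZZ S ∧ y ∈ Z0 S ∧ (w : Ω) = c' * y

variable {p : ℕ} [Fact p.Prime] {F : FusionSystem S} {A P : Subgroup Ω} {x a : Ω}

/-- The value of `σ` on `w = c' y`. -/
theorem SigmaFor.apply_eq {g : MulAut P} {σ : MulAut ↥S} (s : SigmaFor F P g σ) (w : P)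
    (hw : (w : Ω) ∈ ZZ S) (c' : P) (y : Ω) (hc' : (c' : Ω) ∈ ZZ S)
    (hgc : ((g⁻¹ c' : P) : Ω) ∈ ZZ S) (hy : y ∈ Z0 S) (hwy : (w : Ω) = c' * y) :
    ((σ ⟨w, hw.1⟩ : ↥S) : Ω) = c' * y⁻¹ := by
  have e1 : (⟨w, hw.1⟩ : ↥S) = ⟨c', hc'.1⟩ * ⟨y, hy.1.1⟩ := Subtype.ext hwy
  rw [e1, map_mul, Subgroup.coe_mul, s.fix c' hc' hgc, s.inv y hy]

theorem SigmaFor.isInv {g : MulAut P} {σ : MulAut ↥S} (s : SigmaFor F P g σ) (hZP : ZZ S ≤ P) :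
    IsInv F σ := by
  refine ⟨s.mem, s.inv, fun w hw => ?_⟩
  obtain ⟨c', y, hc', hgc, hy, hwy⟩ := s.dec ⟨w, hZP hw⟩ hw
  refine ⟨y⁻¹ * y⁻¹, Subgroup.mul_mem _ (Subgroup.inv_mem _ hy) (Subgroup.inv_mem _ hy), ?_⟩
  rw [s.apply_eq ⟨w, hZP hw⟩ hw c' y hc' hgc hy hwy]
  have : w = c' * y := hwy
  rw [this]; group

/-- (K) elements of `Z(S)` fixed by `σ₀` lie in `Z ∩ gZ`. -/
theorem SigmaFor.mem_of_mem_fixZ [Finite S] (c : Ctx p F A) (e : AbEss p F A P x)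
    {g : MulAut P} {σ σ₀ : MulAut ↥S} (s : SigmaFor F P g σ) (h₀ : IsInv F σ₀) (w : P)
    (hw : (w : Ω) ∈ fixZ σ₀) : ((g⁻¹ w : P) : Ω) ∈ ZZ S := by
  have hp : p.Prime := Fact.out
  obtain ⟨hwZ, hwfix⟩ := hw
  obtain ⟨c', y, hc', hgc, hy, hwy⟩ := s.dec w hwZ
  have h1 := s.apply_eq w hwZ c' y hc' hgc hy hwy
  have h2 : σ ⟨w, hwZ.1⟩ = σ₀ ⟨w, hwZ.1⟩ := (s.isInv e.hZP).eq_on_ZZ c e h₀ w hwZ
  rw [h2, hwfix, hwy] at h1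
  have h3 : y = y⁻¹ := mul_left_cancel h1
  have h4 : y ^ 2 = 1 := by
    rw [pow_two]
    nth_rewrite 2 [h3]
    exact mul_inv_cancel y
  have h5 : y ^ p = 1 := pow_eq_one_of_mem_Z0 c e hy
  have hcop : Nat.Coprime 2 p := (Nat.coprime_primes Nat.prime_two hp).mpr (Ne.symm c.hp)
  have h6 : y = 1 := by
    have := pow_gcd_eq_one.mpr ⟨h4, h5⟩
    rwa [hcop, pow_one] at this
  have h7 : w = c' := Subtype.ext (by rw [hwy, h6, mul_one])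
  rw [h7]; exact hgc

/-- (K') conversely. -/
theorem SigmaFor.mem_fixZ_of_mem [Finite S] (c : Ctx p F A) (e : AbEss p F A P x)
    {g : MulAut P} {σ σ₀ : MulAut ↥S} (s : SigmaFor F P g σ) (h₀ : IsInv F σ₀) (w : P)
    (hw : (w : Ω) ∈ ZZ S) (hgw : ((g⁻¹ w : P) : Ω) ∈ ZZ S) : (w : Ω) ∈ fixZ σ₀ := by
  refine ⟨hw, ?_⟩
  have h2 : σ ⟨w, hw.1⟩ = σ₀ ⟨w, hw.1⟩ := (s.isInv e.hZP).eq_on_ZZ c e h₀ w hw
  rw [← h2]
  exact s.fix w hw hgw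

/-- (E1) invariance of the fixed points under `Aut_F(S)`. -/
theorem fixZ_autS_invariant [Finite S] (c : Ctx p F A) (e : AbEss p F A P x) {σ₀ : MulAut ↥S}
    (h₀ : IsInv F σ₀) (α : MulAut ↥S) (hα : α ∈ F.autGroup S) (w : ↥S)
    (hw : (w : Ω) ∈ fixZ σ₀) : ((α w : ↥S) : Ω) ∈ fixZ σ₀ := by
  obtain ⟨hwZ, hwfix⟩ := hw
  have hαZ : ((α w : ↥S) : Ω) ∈ ZZ S := ZZ_aut_mem α w hwZ
  refine ⟨hαZ, ?_⟩
  have hconj : IsInv F (α⁻¹ * σ₀ * α) := by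
    refine ⟨Subgroup.mul_mem _ (Subgroup.mul_mem _ (Subgroup.inv_mem _ hα) h₀.mem) hα, ?_, ?_⟩
    · intro y hy
      set y' : ↥S := ⟨y, hy.1.1⟩ with hy'
      have h1 : ((α y' : ↥S) : Ω) ∈ Z0 S := Z0_aut_mem α y' hy
      have h2 : σ₀ (α y') = (α y')⁻¹ := Subtype.ext (h₀.inv _ h1)
      show ((α⁻¹ (σ₀ (α y')) : ↥S) : Ω) = y⁻¹
      rw [h2, map_inv, MulAut.inv_apply_self]
      rfl
    · intro u hu
      set u' : ↥S := ⟨u, hu.1⟩ with hu'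
      have h1 : ((α u' : ↥S) : Ω) ∈ ZZ S := ZZ_aut_mem α u' hu
      obtain ⟨y, hy, hσy⟩ := h₀.mod _ h1
      set yS : ↥S := ⟨y, hy.1.1⟩ with hyS
      have h2 : σ₀ (α u') = α u' * yS := Subtype.ext hσy
      refine ⟨((α⁻¹ yS : ↥S) : Ω), Z0_aut_mem α⁻¹ yS hy, ?_⟩
      show ((α⁻¹ (σ₀ (α u')) : ↥S) : Ω) = u * ((α⁻¹ yS : ↥S) : Ω)
      rw [h2, map_mul, MulAut.inv_apply_self]
      rfl
  have h3 := hconj.eq_on_ZZ c e h₀ w hwZ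
  have h4 : (⟨(w : Ω), hwZ.1⟩ : ↥S) = w := rfl
  rw [h4] at h3 hwfix
  have h5 : σ₀ w = w := Subtype.ext hwfix
  have h6 : α⁻¹ (σ₀ (α w)) = σ₀ w := h3
  rw [h5] at h6
  have h7 := congrArg α h6
  rw [MulAut.apply_inv_self] at h7
  show ((σ₀ ⟨((α w : ↥S) : Ω), hαZ.1⟩ : ↥S) : Ω) = ((α w : ↥S) : Ω)
  have h8 : (⟨((α w : ↥S) : Ω), hαZ.1⟩ : ↥S) = α w := rfl
  rw [h8, h7]

/-- (E2) invariance under the `F`-automorphisms of an abelian essential subgroup. -/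
theorem AbEss.fixZ_invariant [Finite S] (c : Ctx p F A) (e : AbEss p F A P x) {σ₀ : MulAut ↥S}
    (h₀ : IsInv F σ₀) (α : MulAut P) (hα : α ∈ F.autGroup P) (w : P)
    (hw : (w : Ω) ∈ fixZ σ₀) : ((α w : P) : Ω) ∈ fixZ σ₀ := by
  have hPS := e.hPS
  have : Finite P := finite_of_le hPS
  obtain ⟨a, d⟩ := e.exists_a
  have star : ∀ γ ∈ F.autGroup P, ∀ u : P, (u : Ω) ∈ fixZ σ₀ → ((γ u : P) : Ω) ∈ ZZ S := by
    intro γ hγ u hu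
    by_cases hgood : γ * e.t d * γ⁻¹ ∈ Subgroup.zpowers (e.t d)
    · obtain ⟨σ, hσ, hσw⟩ := e.exists_sigma_of_good c d hγ hgood
      rw [hσw u hu.1]
      exact ZZ_aut_mem σ _ hu.1
    · have hbad' : γ⁻¹ * e.t d * γ⁻¹⁻¹ ∉ Subgroup.zpowers (e.t d) := by
        intro h
        apply hgood
        have := conj_mem_zpowers_symm (e.t d) γ⁻¹ h
        rwa [inv_inv] at this
      obtain ⟨σ, hσ, h2, h3, h4⟩ :=
        e.exists_sigma_of_bad c d (Subgroup.inv_mem _ hγ) hbad'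
      have s : SigmaFor F P γ⁻¹ σ := ⟨hσ, h2, h3, h4⟩
      have := s.mem_of_mem_fixZ c e h₀ u hu
      rwa [inv_inv] at this
  obtain ⟨g, hg, hbad⟩ := e.exists_bad c d
  obtain ⟨σ, hσ, h2, h3, h4⟩ := e.exists_sigma_of_bad c d hg hbad
  have s : SigmaFor F P g σ := ⟨hσ, h2, h3, h4⟩
  apply s.mem_fixZ_of_mem c e h₀ (α w) (star α hα w hw)
  have := star (g⁻¹ * α) (Subgroup.mul_mem _ (Subgroup.inv_mem _ hg) hα) w hw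
  exact this

end Cfsg.Agent.Lib.Helper03.Oliver24
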