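import Mathlib
import Cfsg.Agent.Lib.Helper03.Oliver24G

set_option autoImplicit false
set_option linter.deprecated false
set_option linter.unusedSectionVars false

/-!
Oliver's Lemma 2.4: conclusion.
-/

namespace Cfsg.Agent.Lib.Helper03.Oliver24

open Cfsg Cfsg.FusionSystem Cfsg.Agent.Lib.Helper87 Cfsg.Agent.Lib.Helper03.OliverLemma
  Cfsg.Agent.Lib.Helper03.UAI Cfsg.Agent.Lib.Helper03.KappaEnd Cfsg.Agent.Lib.Helper03.FusEss
  Cfsg.Agent.Lib.Helper03.SL2Inv Cfsg.Agent.Lib.Helper90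

open scoped commutatorElement

variable {Ω : Type*} [Group Ω] {S : Subgroup Ω}

theorem ZZ_le_ZZ2 (S : Subgroup Ω) : ZZ S ≤ ZZ2 S := by
  intro g hg
  show g ∈ (upperCentralSeries ↥S 2).map S.subtype
  rw [mem_Z2map_iff]
  refine ⟨hg.1, fun t ht => ?_⟩
  have : g * t * g⁻¹ * t⁻¹ = 1 := by
    rw [← ZZ_comm hg ht]; group
  rw [this]
  exact Subgroup.one_mem _

variable {p : ℕ} [Fact p.Prime] {F : FusionSystem S} {A : Subgroup Ω}

theorem main [Finite S] (c : Ctx p F A) :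
    (∃ x ∈ S, x ∉ A ∧ F.IsEssential p (ZZ S ⊔ Subgroup.zpowers x)) ∧
      ZZ S ≤ (commutator ↥S).map S.subtype ∧
      ∀ n : ℕ, Nat.card S = p ^ n → 3 ≤ n → Subgroup.lowerCentralSeries S (n - 2) ≠ ⊥ := by
  have hp : p.Prime := Fact.out
  obtain ⟨P₀, hess, x₀, hxP, hxA, hset, hZ2A, hrelN, hrelZ, hrelA, hPeq, hcomm, hinf⟩ :=
    exists_essential_ZZ c
  have e₀ : AbEss p F A P₀ x₀ := ⟨hess, hxP, hxA, hset, hZ2A, hrelN, hrelZ, hrelA, hcomm, hinf⟩
  obtain ⟨a₀, d₀⟩ := e₀.exists_a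
  obtain ⟨g₀, hg₀, hbad₀⟩ := e₀.exists_bad c d₀
  obtain ⟨σ₀, hσ₀, h2, h3, h4⟩ := e₀.exists_sigma_of_bad c d₀ hg₀ hbad₀
  have s₀ : SigmaFor F P₀ g₀ σ₀ := ⟨hσ₀, h2, h3, h4⟩
  have h₀ : IsInv F σ₀ := s₀.isInv e₀.hZP
  -- the fixed points of σ₀ on Z(S) are normal in F, hence trivial
  have hC : fixZ σ₀ = ⊥ := by
    apply eq_bot_of_invariant c
    intro P hP
    rcases hP with rfl | hP
    · exact ⟨(fixZ_le σ₀).trans inf_le_left,
        fun α hα w hw => fixZ_autS_invariant c e₀ h₀ α hα w hw⟩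
    · obtain ⟨x, hxP', hxA', hset', hZ2A', hrelN', hrelZ', hrelA', hcase⟩ :=
        core2 p c.hS F c.hF c.hna A c.hA c.huniq P hP (c.ne_A hP)
      have hZP : ZZ S ≤ P := ZZ_le_of_isEssential F hP
      have hPS : P ≤ S := hP.1.1
      refine ⟨(fixZ_le σ₀).trans hZP, ?_⟩
      rcases hcase with ⟨-, hcomm', hinf'⟩ | ⟨-, -, hinf'⟩
      · have e : AbEss p F A P x :=
          ⟨hP, hxP', hxA', hset', hZ2A', hrelN', hrelZ', hrelA', hcomm', hinf'⟩
        exact fun α hα w hw => e.fixZ_invariant c h₀ α hα w hw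
      · intro α hα w hw
        have hcard : p * Nat.card (ZZ S) < Nat.card P := by
          have h5 : A.relIndex P = (P ⊓ A).relIndex P := by
            rw [inf_comm, Subgroup.inf_relIndex_right]
          have h6 := relIndex_mul_card (inf_le_left : P ⊓ A ≤ P)
          rw [← h5, hrelA', hinf'] at h6
          have h7 := relIndex_mul_card (ZZ_le_ZZ2 S)
          rw [hrelZ'] at h7
          have : Finite (ZZ S) := finite_of_le (inf_le_left : ZZ S ≤ S)
          have hz : 0 < Nat.card (ZZ S) := Nat.card_pos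
          rw [← h6, ← h7]
          exact (Nat.mul_lt_mul_left hp.pos).mpr (lt_mul_of_one_lt_left hz hp.one_lt)
        obtain ⟨σ, hσ, hσw⟩ := exists_aut_eq_on_ZZ c
          ((Cfsg.Agent.Lib.Helper87.mem_autGroup_iff F hPS).mp hα) hcard hZP
        have h8 := hσw w hw.1
        have h9 : ((α w : P) : Ω) = ((σ ⟨w, hw.1.1⟩ : ↥S) : Ω) := h8
        rw [h9]
        exact fixZ_autS_invariant c e₀ h₀ σ hσ ⟨w, hw.1.1⟩ hw
  -- hence Z(S) = Z₀
  have hZZ0 : ZZ S ≤ Z0 S := by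
    intro w hw
    obtain ⟨c', y, hc', hgc, hy, hwy⟩ := s₀.dec ⟨w, e₀.hZP hw⟩ hw
    have h5 : (c' : Ω) ∈ fixZ σ₀ := ⟨hc', s₀.fix c' hc' hgc⟩
    rw [hC, Subgroup.mem_bot] at h5
    have h6 : w = c' * y := hwy
    rw [h6, h5, one_mul]
    exact hy
  refine ⟨⟨x₀, e₀.hPS hxP, hxA, hPeq ▸ hess⟩, hZZ0.trans inf_le_right, ?_⟩
  intro n hn hn3 hbot
  have hZeq : ZZ S = Z0 S := le_antisymm hZZ0 inf_le_left
  have hcardZ : Nat.card (ZZ S) = p := by rw [hZeq]; exact card_Z0 c e₀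
  -- L_{n-3} is central
  have hLS : ∀ k, Subgroup.lowerCentralSeries S k ≤ S := by
    intro k
    have := Subgroup.lowerCentralSeries_antitone (S := S) (Nat.zero_le k)
    exact this
  have hL : Subgroup.lowerCentralSeries S (n - 3) ≤ ZZ S := by
    intro u hu
    refine Subgroup.mem_inf.mpr ⟨hLS _ hu, ?_⟩
    rw [Subgroup.mem_centralizer_iff]
    intro s hs
    have h5 : ⁅u, s⁆ ∈ Subgroup.lowerCentralSeries S (n - 3 + 1) := by
      rw [Subgroup.lowerCentralSeries_succ]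
      exact Subgroup.commutator_mem_commutator hu hs
    have h6 : n - 3 + 1 = n - 2 := by omega
    rw [h6, hbot, Subgroup.mem_bot, commutatorElement_def] at h5
    calc s * u = (u * s * u⁻¹ * s⁻¹)⁻¹ * (u * s) := by group
      _ = u * s := by rw [h5, inv_one, one_mul]
  by_cases hn4 : n = 3
  · subst hn4
    apply c.hna
    refine ⟨⟨fun u v => Subtype.ext ?_⟩⟩
    have hu : (u : Ω) ∈ ZZ S := hL (by simp)
    exact (ZZ_comm hu v.2).symm
  · have hidx : ((ZZ S).subgroupOf S).index = p ^ (n - 1) := by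
      have h5 := relIndex_mul_card (inf_le_left : ZZ S ≤ S)
      rw [hcardZ, hn] at h5
      have h6 : p ^ n = p ^ (n - 1) * p := by
        rw [← pow_succ]; congr 1; omega
      rw [h6] at h5
      exact Nat.eq_of_mul_eq_mul_right hp.pos h5
    have h7 := (Cfsg.Agent.Lib.Helper03.OliverLemma2.partB hp e₀.set c.hA.2.2 e₀.hZ2A
      e₀.relZ).2.2 (n - 1) hidx (by omega)
    apply h7
    have h8 : n - 1 - 2 = n - 3 := by omega
    rw [h8]
    exact hL

end Cfsg.Agent.Lib.Helper03.Oliver24
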