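import Mathlib
import Cfsg.Agent.Lib.Helper40.OmegaLemma

set_option autoImplicit false

/-!
# The `Ω`-lemma, exponent form

A `p'`-element `g` normalizing a `p`-subgroup `Q` centralizes `Q` as soon as it centralizes every
`g`-invariant subgroup `E ≤ Q` all of whose elements satisfy `a ^ p = 1` (or `p = 2` and `a ^ 4 = 1`).
Equivalently: if `g` does not centralize `Q`, some `g`-invariant subgroup of `Q` of exponent `p` (or `4`)
is not centralized by `g`.  (Adapted from `Cfsg.Agent.Lib.Helper40.omega_lemma`.)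
-/

namespace Cfsg.Agent.Lib.Helper03

open scoped commutatorElement
open Cfsg.Agent.Lib.Helper40

variable {G : Type*} [Group G]

theorem omega_lemma_exp [Finite G] {p : ℕ} [Fact p.Prime] (g : G) (hg : (orderOf g).Coprime p) :
    ∀ n : ℕ, ∀ Q : Subgroup G, Nat.card Q = n → IsPGroup p Q →
      g ∈ Subgroup.normalizer (Q : Set G) →
      (∀ E : Subgroup G, E ≤ Q → g ∈ Subgroup.normalizer (E : Set G) →
        (∀ a ∈ E, (a ^ p = 1 ∨ (p = 2 ∧ a ^ 4 = 1))) → ∀ q ∈ E, g * q = q * g) →
      ∀ q ∈ Q, g * q = q * g := by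
  have hp : p.Prime := Fact.out
  intro n
  induction n using Nat.strong_induction_on with
  | _ n ih =>
  intro Q hn hQ hgQ hΩ
  by_cases hQb : Q = ⊥
  · intro q hq
    rw [hQb, Subgroup.mem_bot] at hq
    rw [hq]; simp
  -- the induction hypothesis for proper g-invariant subgroups
  have IH : ∀ R : Subgroup G, R ≤ Q → R ≠ Q → g ∈ Subgroup.normalizer (R : Set G) →
      ∀ r ∈ R, g * r = r * g := by
    intro R hRQ hRne hgR
    have hlt : Nat.card R < n := by
      rw [← hn]
      rcases lt_or_ge (Nat.card R) (Nat.card Q) with h | h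
      · exact h
      · exact absurd (Subgroup.eq_of_le_of_card_ge hRQ h) hRne
    exact ih _ hlt R rfl (hQ.to_le hRQ) hgR (fun E hE => hΩ E (hE.trans hRQ))
  -- power trick packaged
  have trick : ∀ x ∈ Q, ∀ z ∈ Q, g * x * g⁻¹ = x * z → g * z = z * g → g * x = x * g := by
    intro x _ z hz h1 h2
    have hz1 : z = 1 := eq_one_of_conj_pow g x z (orderOf g) (pow_orderOf_eq_one g) h1 h2
      (orderOf_coprime_of_isPGroup hQ hz hg)
    rw [hz1, mul_one] at h1
    calc g * x = (g * x * g⁻¹) * g := by group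
      _ = x * g := by rw [h1]
  -- Φ
  have hΦle := phiSub_le p Q
  have hΦne := phiSub_ne hQ hQb
  have hgΦ : g ∈ Subgroup.normalizer ((phiSub p Q : Subgroup G) : Set G) :=
    Subgroup.mem_normalizer_fintype (fun x hx => phiSub_conj_mem p hgQ x hx)
  have hΦ : ∀ u ∈ phiSub p Q, g * u = u * g := IH _ hΦle hΦne hgΦ
  -- D = [Q, g]
  have hDle : ⁅Q, Subgroup.zpowers g⁆ ≤ Q := by
    rw [Subgroup.commutator_le]
    intro a ha b hb
    have hbN : b ∈ Subgroup.normalizer (Q : Set G) :=
      (Subgroup.zpowers_le.mpr hgQ) hb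
    rw [commutatorElement_def]
    have h1 : a * b * a⁻¹ * b⁻¹ = a * (b * a⁻¹ * b⁻¹) := by group
    rw [h1]
    exact mul_mem ha ((Subgroup.mem_normalizer_iff.mp hbN a⁻¹).mp (inv_mem ha))
  have hgD : g ∈ Subgroup.normalizer ((⁅Q, Subgroup.zpowers g⁆ : Subgroup G) : Set G) := by
    apply mem_normalizer_of_map_conj_eq
    rw [Subgroup.map_commutator, map_conj_eq_of_mem_normalizer hgQ]
    congr 1
    apply map_conj_eq_of_mem_normalizer
    exact Subgroup.le_normalizer (Subgroup.mem_zpowers g)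
  have hzD : ∀ x ∈ Q, x⁻¹ * (g * x * g⁻¹) ∈ ⁅Q, Subgroup.zpowers g⁆ := by
    intro x hx
    have h1 : x⁻¹ * (g * x * g⁻¹) = ⁅x⁻¹, g⁆ := by rw [commutatorElement_def]; group
    rw [h1]
    exact Subgroup.commutator_mem_commutator (inv_mem hx) (Subgroup.mem_zpowers g)
  by_cases hD : ⁅Q, Subgroup.zpowers g⁆ = Q
  · -- Q = [Q, g]: Φ is central in Q
    have hΦcent : ⁅Subgroup.zpowers g, phiSub p Q⁆ = ⊥ := by
      rw [Subgroup.commutator_eq_bot_iff_le_centralizer, Subgroup.zpowers_le,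
        Subgroup.mem_centralizer_iff]
      intro u hu
      exact (hΦ u hu).symm
    have h1 : ⁅⁅Q, phiSub p Q⁆, Subgroup.zpowers g⁆ = ⊥ := by
      rw [eq_bot_iff, ← hΦcent, Subgroup.commutator_comm (Subgroup.zpowers g)]
      refine Subgroup.commutator_mono ?_ le_rfl
      rw [Subgroup.commutator_le]
      intro a ha u hu
      exact comm_mem_phiSub p ha (hΦle hu)
    have h2 : ⁅⁅phiSub p Q, Subgroup.zpowers g⁆, Q⁆ = ⊥ := by
      rw [Subgroup.commutator_comm (phiSub p Q), hΦcent, Subgroup.commutator_bot_left]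
    have h3 := Subgroup.commutator_commutator_eq_bot_of_rotate h1 h2
    rw [Subgroup.commutator_comm (Subgroup.zpowers g), hD,
      Subgroup.commutator_eq_bot_iff_le_centralizer] at h3
    have hcl : Cfsg.Agent.Lib.Helper16.Cl2 Q (phiSub p Q) :=
      ⟨hΦle, fun d hd h hh => ((Subgroup.mem_centralizer_iff.mp (h3 hh)) d hd),
        fun h hh k hk => comm_mem_phiSub p hh hk⟩
    -- commutators with central elements vanish
    have hcomm1 : ∀ y ∈ phiSub p Q, ∀ x ∈ Q, ⁅y, x⁆ = 1 := by
      intro y hy x hx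
      rw [commutatorElement_eq_one_iff_mul_comm]
      exact hcl.central y hy x hx
    -- the exponent e and the power homomorphism
    obtain ⟨e, he, hemem, hepow⟩ : ∃ e : ℕ, (∀ k : G, k ^ e = 1 → (k ^ p = 1 ∨ (p = 2 ∧ k ^ 4 = 1))) ∧
        (∀ x ∈ Q, x ^ e ∈ phiSub p Q) ∧
        (∀ x ∈ Q, ∀ y ∈ Q, (x * y) ^ e = x ^ e * y ^ e) := by
      by_cases hp2 : p = 2
      · refine ⟨4, fun k hk => Or.inr ⟨hp2, hk⟩, ?_, ?_⟩
        · intro x hx
          have h4 : x ^ 4 = (x ^ p) ^ p := by rw [hp2, ← pow_mul]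
          rw [h4]
          exact pow_mem (pow_mem_phiSub p hx) p
        · intro x hx y hy
          rw [hcl.mul_pow_formula hx hy 4]
          have h5 : ⁅y, x⁆ ^ 2 = 1 := by
            rw [← hcl.pow_left hy hx 2]
            exact hcomm1 _ (by rw [← hp2]; exact pow_mem_phiSub p hy) x hx
          have h6 : Cfsg.Agent.Lib.Helper16.Cl2.tri 4 = 2 * 3 := by decide
          rw [h6, pow_mul, h5, one_pow, mul_one]
      · refine ⟨p, fun k hk => Or.inl hk, fun x hx => pow_mem_phiSub p hx, ?_⟩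
        intro x hx y hy
        rw [hcl.mul_pow_formula hx hy p]
        obtain ⟨t, ht⟩ := tri_odd_prime hp hp2
        have h5 : ⁅y, x⁆ ^ p = 1 := by
          rw [← hcl.pow_left hy hx p]
          exact hcomm1 _ (pow_mem_phiSub p hy) x hx
        rw [ht, pow_mul, h5, one_pow, mul_one]
    -- every element of `Q = [Q, g]` has `e`-th power one
    have hall : ∀ c ∈ ⁅Q, Subgroup.zpowers g⁆, c ∈ Q ∧ c ^ e = 1 := by
      intro c hc
      rw [Subgroup.commutator_def] at hc
      induction hc using Subgroup.closure_induction with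
      | mem c hc =>
        obtain ⟨a, ha, b, hb, rfl⟩ := hc
        have hbN : b ∈ Subgroup.normalizer (Q : Set G) := (Subgroup.zpowers_le.mpr hgQ) hb
        have hba : b * a⁻¹ * b⁻¹ ∈ Q := (Subgroup.mem_normalizer_iff.mp hbN a⁻¹).mp (inv_mem ha)
        have h1 : ⁅a, b⁆ = a * (b * a⁻¹ * b⁻¹) := by rw [commutatorElement_def]; group
        refine ⟨by rw [h1]; exact mul_mem ha hba, ?_⟩
        rw [h1, hepow _ ha _ hba, conj_pow, inv_pow]
        -- b commutes with a ^ e
        have hbc : b * (a ^ e)⁻¹ * b⁻¹ = (a ^ e)⁻¹ := by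
          obtain ⟨i, rfl⟩ := Subgroup.mem_zpowers_iff.mp hb
          have hc1 : Commute g (a ^ e) := hΦ _ (hemem a ha)
          have hc2 : Commute (g ^ i) (a ^ e)⁻¹ := (hc1.zpow_left i).inv_right
          rw [hc2.eq, mul_assoc, mul_inv_cancel, mul_one]
        rw [hbc, mul_inv_cancel]
      | one => exact ⟨one_mem _, one_pow _⟩
      | mul x y _ _ hx hy =>
        refine ⟨mul_mem hx.1 hy.1, ?_⟩
        rw [hepow _ hx.1 _ hy.1, hx.2, hy.2, one_mul]
      | inv x _ hx =>
        refine ⟨inv_mem hx.1, ?_⟩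
        rw [inv_pow, hx.2, inv_one]
    exact hΩ Q le_rfl hgQ (fun a ha => he a (hall a (by rw [hD]; exact ha)).2)
  · -- [Q, g] < Q
    have hDc := IH _ hDle hD hgD
    intro x hx
    exact trick x hx _ (hDle (hzD x hx)) (by group) (hDc _ (hzD x hx))

end Cfsg.Agent.Lib.Helper03
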