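import Mathlib

/-!
# K-PG2 pack (S3452), leaf TAN: the tangent element
-/

set_option autoImplicit false
set_option linter.unusedSectionVars false
set_option linter.unusedVariables false

namespace Cfsg.Agent.Lib.Helper03.PG2

open Matrix Polynomial

/-- the binary form `β x² - (α-δ) x y - γ y²` of discriminant `D ≠ 0` represents `β e` (here in the
parametrised form needed below), case `β ≠ 0` -/
theorem tan_sub (p : ℕ) [Fact p.Prime] (hp : p ≠ 2) (α β γ δ e : ZMod p) (hβ : β ≠ 0)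
    (hD : (α - δ) ^ 2 + 4 * β * γ ≠ 0) :
    ∃ x y z : ZMod p, x ^ 2 + y * z = e ∧ (α - δ) * x + β * z + γ * y = 0 := by
  have h2 : (2 : ZMod p) ≠ 0 := by
    intro h
    have h' : ((2 : ℕ) : ZMod p) = 0 := by exact_mod_cast h
    rw [ZMod.natCast_eq_zero_iff] at h'
    have hp2 : p ≤ 2 := Nat.le_of_dvd (by norm_num) h'
    have := (Fact.out : p.Prime).two_le
    omega
  have h4 : (4 : ZMod p) ≠ 0 := by
    have : (4 : ZMod p) = 2 * 2 := by norm_num
    rw [this]
    exact mul_ne_zero h2 h2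
  have hcard : Fintype.card (ZMod p) % 2 = 1 := by
    rw [ZMod.card]
    rcases (Fact.out : p.Prime).eq_two_or_odd with h | h
    · exact absurd h hp
    · exact h
  have hf : degree (C (4 * β ^ 2) * X ^ 2 + C (0 : ZMod p) * X + C (-(4 * β ^ 2 * e))) = 2 :=
    degree_quadratic (mul_ne_zero h4 (pow_ne_zero 2 hβ))
  have hg : degree (C (-((α - δ) ^ 2 + 4 * β * γ)) * X ^ 2 + C (0 : ZMod p) * X + C (0 : ZMod p)) = 2 :=
    degree_quadratic (neg_ne_zero.mpr hD)
  obtain ⟨a, b, hab⟩ := FiniteField.exists_root_sum_quadratic hf hg hcard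
  simp only [eval_add, eval_mul, eval_C, eval_pow, eval_X, zero_mul, add_zero] at hab
  refine ⟨a + (α - δ) * b / (2 * β), b, -((α - δ) * (a + (α - δ) * b / (2 * β)) + γ * b) / β, ?_, ?_⟩
  · field_simp
    linear_combination hab
  · field_simp
    ring

/-- the same without the assumption `β ≠ 0` -/
theorem tan_sub' (p : ℕ) [Fact p.Prime] (hp : p ≠ 2) (α β γ δ e : ZMod p)
    (hdet : α * δ - β * γ = 1) (hs : (α + δ) ^ 2 ≠ 4) :
    ∃ x y z : ZMod p, x ^ 2 + y * z = e ∧ (α - δ) * x + β * z + γ * y = 0 := by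
  have hD : (α - δ) ^ 2 + 4 * β * γ ≠ 0 := by
    intro h
    apply hs
    linear_combination h + 4 * hdet
  by_cases hβ : β = 0
  · by_cases hγ : γ = 0
    · refine ⟨0, 1, e, by ring, ?_⟩
      rw [hβ, hγ]; ring
    · have hD' : (α - δ) ^ 2 + 4 * γ * β ≠ 0 := by
        intro h; apply hD; linear_combination h
      obtain ⟨x, y, z, h1, h2⟩ := tan_sub p hp α γ β δ e hγ hD'
      exact ⟨x, z, y, by linear_combination h1, by linear_combination h2⟩
  · exact tan_sub p hp α β γ δ e hβ hD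

theorem exists_tangent (p : ℕ) [Fact p.Prime] (hp : p ≠ 2)
    (K : Matrix.SpecialLinearGroup (Fin 2) (ZMod p)) (hK : K.1.trace ^ 2 ≠ 4) (t0 : ZMod p) :
    ∃ g : Matrix.SpecialLinearGroup (Fin 2) (ZMod p),
      g.1.trace = t0 ∧ 2 * (K.1 * g.1).trace = K.1.trace * t0 := by
  have h2 : (2 : ZMod p) ≠ 0 := by
    intro h
    have h' : ((2 : ℕ) : ZMod p) = 0 := by exact_mod_cast h
    rw [ZMod.natCast_eq_zero_iff] at h'
    have hp2 : p ≤ 2 := Nat.le_of_dvd (by norm_num) h'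
    have := (Fact.out : p.Prime).two_le
    omega
  have hdet : K.1 0 0 * K.1 1 1 - K.1 0 1 * K.1 1 0 = 1 := by
    have := K.2
    rw [Matrix.det_fin_two] at this
    exact this
  have htr : K.1.trace = K.1 0 0 + K.1 1 1 := Matrix.trace_fin_two K.1
  rw [htr] at hK
  obtain ⟨x, y, z, h1, h3⟩ := tan_sub' p hp (K.1 0 0) (K.1 0 1) (K.1 1 0) (K.1 1 1) (t0 ^ 2 / 4 - 1) hdet hK
  have hdetg : (!![t0 / 2 + x, y; z, t0 / 2 - x] : Matrix (Fin 2) (Fin 2) (ZMod p)).det = 1 := by
    rw [Matrix.det_fin_two_of]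
    have h4 : (4 : ZMod p) = 2 * 2 := by norm_num
    have e1 : t0 ^ 2 / 4 = (t0 / 2) ^ 2 := by
      rw [h4]; field_simp
    rw [e1] at h1
    linear_combination -h1
  refine ⟨⟨!![t0 / 2 + x, y; z, t0 / 2 - x], hdetg⟩, ?_, ?_⟩
  · show (!![t0 / 2 + x, y; z, t0 / 2 - x] : Matrix (Fin 2) (Fin 2) (ZMod p)).trace = t0
    rw [Matrix.trace_fin_two_of]
    field_simp
    ring
  · show 2 * (K.1 * (!![t0 / 2 + x, y; z, t0 / 2 - x] : Matrix (Fin 2) (Fin 2) (ZMod p))).trace = K.1.trace * t0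
    rw [htr, Matrix.trace_fin_two]
    simp only [Matrix.mul_apply, Fin.sum_univ_two, Matrix.of_apply, Matrix.cons_val_zero, Matrix.cons_val_one,
      Matrix.cons_val', Matrix.cons_val_fin_one]
    field_simp
    linear_combination 2 * h3

end Cfsg.Agent.Lib.Helper03.PG2
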