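import Mathlib
import Cfsg.Agent.Lib.Helper03.HomCount

set_option autoImplicit false

namespace Cfsg.Agent.Lib.Helper03

/-- For a bimultiplicative pairing `φ : D →* (B →* Z)` into a finite cyclic group, the kernel of
the flipped pairing has index at most the index of the kernel of `φ`. -/
theorem index_ker_flip_le {D B Z : Type*} [Group D] [Group B] [Finite D] [Finite B]
    [CommGroup Z] [Finite Z] [IsCyclic Z] (φ : D →* (B →* Z)) :
    (φ.flip).ker.index ≤ φ.ker.index := by
  classical
  have hfin : Finite φ.range := by
    have h0 : (φ.range : Set (B →* Z)).Finite := by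
      rw [MonoidHom.coe_range]; exact Set.finite_range φ
    exact h0.to_subtype
  -- evaluation map on the range of `φ`
  let ev : B →* (φ.range →* Z) :=
    { toFun := fun b =>
        { toFun := fun f => (f : B →* Z) b
          map_one' := rfl
          map_mul' := fun f g => rfl }
      map_one' := by
        ext f
        exact map_one (f : B →* Z)
      map_mul' := fun b b' => by
        ext f
        exact map_mul (f : B →* Z) b b' }
  have hker : ev.ker = (φ.flip).ker := by
    ext b
    rw [MonoidHom.mem_ker, MonoidHom.mem_ker]
    constructor
    · intro h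
      ext d
      have h1 := DFunLike.congr_fun h ⟨φ d, MonoidHom.mem_range.mpr ⟨d, rfl⟩⟩
      exact h1
    · intro h
      ext f
      obtain ⟨d, hd⟩ := MonoidHom.mem_range.mp f.2
      have h1 := DFunLike.congr_fun h d
      show (f : B →* Z) b = 1
      rw [← hd]
      exact h1
  have h1 : (φ.flip).ker.index = Nat.card ev.range := by
    rw [← hker]; exact Subgroup.index_ker ev
  have hfin2 : Finite (φ.range →* Z) := .of_injective _ DFunLike.coe_injective
  have h2 : Nat.card ev.range ≤ Nat.card (φ.range →* Z) :=
    Nat.card_le_card_of_injective (Subtype.val) Subtype.val_injective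
  have h3 : Nat.card (φ.range →* Z) ≤ (commutator φ.range).index :=
    card_monoidHom_le_index_commutator φ.range Z
  have h4 : (commutator φ.range).index ≤ Nat.card φ.range :=
    Nat.le_of_dvd Nat.card_pos (Subgroup.index_dvd_card _)
  have h5 : φ.ker.index = Nat.card φ.range := Subgroup.index_ker φ
  omega

/-- For a bimultiplicative pairing `φ : D →* (B →* Z)` into a finite cyclic group, the two
kernels have the same index. -/
theorem index_ker_flip_eq {D B Z : Type*} [Group D] [Group B] [Finite D] [Finite B]
    [CommGroup Z] [Finite Z] [IsCyclic Z] (φ : D →* (B →* Z)) :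
    (φ.flip).ker.index = φ.ker.index := by
  apply le_antisymm (index_ker_flip_le φ)
  have h := index_ker_flip_le φ.flip
  have hff : φ.flip.flip = φ := by
    ext d b
    rfl
  rwa [hff] at h

end Cfsg.Agent.Lib.Helper03
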