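import Mathlib
import Cfsg.Agent.Lib.Helper49.RSU3Defs

/-!
# Pack K-RSU3 (S2283), leaf L25 (keystone 228325): column 0 of an element of `SU_3` (antidiagonal form) is isotropic.
-/

set_option autoImplicit false
set_option linter.unusedSectionVars false
set_option linter.unusedVariables false

namespace Cfsg.Agent.Lib.Helper03.RSU3

open Matrix Cfsg.Agent.Lib.Helper49.StSU Cfsg.Agent.Lib.Helper49.RSU3

variable {F : Type*} [Field F] [Fintype F] {q : ℕ}

/-- L25 -/
theorem col_isotropic (hq : 3 ≤ q) (hF : Fintype.card F = q ^ 2) (g : GJ 3 F q)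
    (h20 : mat g 2 0 = 0) : mat g 1 0 = 0 := by
  have hq0 : q ≠ 0 := by omega
  have h := hJ_mat g (Pi.single 0 1) (Pi.single 0 1)
  have hcol : mat g *ᵥ (Pi.single 0 1 : Fin 3 → F) = fun i => mat g i 0 := by
    ext i
    simp [Matrix.mulVec_single]
  rw [hcol] at h
  unfold hJ at h
  rw [Fin.sum_univ_three, Fin.sum_univ_three] at h
  have r0 : Fin.rev (0 : Fin 3) = 2 := by decide
  have r1 : Fin.rev (1 : Fin 3) = 1 := by decide
  have r2 : Fin.rev (2 : Fin 3) = 0 := by decide
  simp only [r0, r1, r2, h20, zero_pow hq0, mul_zero, zero_mul, zero_add, add_zero] at h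
  have e01 : (Pi.single (0 : Fin 3) (1 : F) : Fin 3 → F) 1 = 0 := by
    simp
  have e02 : (Pi.single (0 : Fin 3) (1 : F) : Fin 3 → F) 2 = 0 := by
    simp
  rw [e01, e02] at h
  simp only [zero_pow hq0, mul_zero, zero_mul, add_zero] at h
  rcases mul_eq_zero.mp h with h1 | h1
  · exact h1
  · exact pow_eq_zero_iff hq0 |>.mp h1

end Cfsg.Agent.Lib.Helper03.RSU3
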