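import Mathlib
import Cfsg.Agent.Lib.Helper49.StSUDefs
import Cfsg.Agent.Lib.Helper40.GUConj

/-!
# K-StSU pack (S2546), leaf TR: `SU_n(q)` (standard form) is isomorphic to `SUJ` (antidiagonal form)

`exists_sqrt` (Helper40.GUConj) gives `C` with `Cᵀ C^φ = J`, hence
`hermForm (C u) (C v) = hJ u v`; conjugation by `C` carries `SUJ` onto `SU`.
-/

set_option autoImplicit false
set_option linter.unusedSectionVars false
set_option linter.unusedVariables false

namespace Cfsg.Agent.Lib.Helper03.StSU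

open Cfsg Matrix Cfsg.Agent.Lib.Helper49.StSU Cfsg.Agent.Lib.Helper40.GUConj

variable {n : ℕ} {F : Type*} [Field F] {q : ℕ}

/-- the antidiagonal matrix -/
def antiJ (n : ℕ) (F : Type*) [Field F] : Matrix (Fin n) (Fin n) F :=
  fun i j => if j = Fin.rev i then 1 else 0

theorem antiJ_apply (i j : Fin n) : antiJ n F i j = if j = Fin.rev i then 1 else 0 := rfl

theorem antiJ_mulVec (w : Fin n → F) (i : Fin n) : (antiJ n F *ᵥ w) i = w (Fin.rev i) := by
  unfold Matrix.mulVec dotProduct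
  simp only [antiJ_apply, ite_mul, one_mul, zero_mul, Finset.sum_ite_eq', Finset.mem_univ, if_true]

theorem antiJ_transpose : (antiJ n F)ᵀ = antiJ n F := by
  ext i j
  rw [Matrix.transpose_apply, antiJ_apply, antiJ_apply]
  by_cases h : i = Fin.rev j
  · rw [if_pos h, if_pos (by rw [h, Fin.rev_rev])]
  · rw [if_neg h, if_neg (fun h' => h (by rw [h', Fin.rev_rev]))]

theorem antiJ_mul_self : antiJ n F * antiJ n F = 1 := by
  ext i k
  rw [Matrix.mul_apply, Matrix.one_apply]
  simp only [antiJ_apply, ite_mul, one_mul, zero_mul, Finset.sum_ite_eq', Finset.mem_univ, if_true]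
  by_cases h : i = k
  · subst h; simp
  · rw [if_neg h, if_neg]
    intro h'
    apply h
    rw [h', Fin.rev_rev]

theorem antiJ_det_ne_zero : (antiJ n F).det ≠ 0 := by
  intro h
  have := congrArg Matrix.det (antiJ_mul_self (n := n) (F := F))
  rw [Matrix.det_mul, h, Matrix.det_one, mul_zero] at this
  exact zero_ne_one this

theorem adj_antiJ (φ : F →+* F) : adj φ (antiJ n F) = antiJ n F := by
  have h1 : φ.mapMatrix (antiJ n F) = antiJ n F := by
    ext i j
    rw [RingHom.mapMatrix_apply, Matrix.map_apply, antiJ_apply]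
    split_ifs <;> simp
  unfold adj
  rw [h1, antiJ_transpose]

theorem hJ_eq_dot (φ : F →+* F) (hφ : ∀ x, φ x = x ^ q) (u v : Fin n → F) :
    hJ n F q u v = u ⬝ᵥ (antiJ n F *ᵥ (φ ∘ v)) := by
  unfold hJ dotProduct
  apply Finset.sum_congr rfl
  intro i _
  rw [antiJ_mulVec, Function.comp_apply, hφ]

/-- the key identity: `C` carries `hJ` to `hermForm` -/
theorem hermForm_mulVec_of (φ : F →+* F) (hφ : ∀ x, φ x = x ^ q)
    (C : Matrix (Fin n) (Fin n) F) (hC : adj φ C * C = antiJ n F) (u v : Fin n → F) :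
    Cfsg.hermForm n F q (C *ᵥ u) (C *ᵥ v) = hJ n F q u v := by
  have h1 : Cᵀ * C.map φ = antiJ n F := by
    have := congrArg Matrix.transpose hC
    rw [Matrix.transpose_mul, antiJ_transpose] at this
    unfold adj at this
    rw [Matrix.transpose_transpose, RingHom.mapMatrix_apply] at this
    exact this
  rw [hermForm_mulVec_eq φ hφ, h1, hJ_eq_dot φ hφ]

theorem exists_SU_equiv [Fintype F] (p : ℕ) [Fact p.Prime] [CharP F p]
    (hF : Fintype.card F = q ^ 2) : Nonempty (↥(Cfsg.SU n F q) ≃* GJ n F q) := by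
  classical
  obtain ⟨φ, hφ, hφφ, θ₀, hθ₀⟩ := exists_frob hF
  obtain ⟨C, hC, -⟩ := exists_sqrt φ hφφ θ₀ hθ₀ (antiJ n F) (adj_antiJ φ) antiJ_det_ne_zero
  have hCdet : C.det ≠ 0 := by
    intro h0
    apply antiJ_det_ne_zero (n := n) (F := F)
    rw [← hC, Matrix.det_mul, h0, mul_zero]
  have hCu : IsUnit C := by
    rw [Matrix.isUnit_iff_isUnit_det]; exact isUnit_iff_ne_zero.mpr hCdet
  obtain ⟨Cu, hCu'⟩ := hCu
  set Ci : Matrix (Fin n) (Fin n) F := ((Cu⁻¹ : (Matrix (Fin n) (Fin n) F)ˣ) :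
    Matrix (Fin n) (Fin n) F) with hCidef
  have hCCi : C * Ci = 1 := by rw [← hCu', hCidef]; exact Cu.mul_inv
  have hCiC : Ci * C = 1 := by rw [← hCu', hCidef]; exact Cu.inv_mul
  have hdd : Ci.det * C.det = 1 := by rw [← Matrix.det_mul, hCiC, Matrix.det_one]
  have key : ∀ u v : Fin n → F, Cfsg.hermForm n F q (C *ᵥ u) (C *ᵥ v) = hJ n F q u v :=
    hermForm_mulVec_of φ hφ C hC
  have key' : ∀ x y : Fin n → F, hJ n F q (Ci *ᵥ x) (Ci *ᵥ y) = Cfsg.hermForm n F q x y := by
    intro x y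
    rw [← key, Matrix.mulVec_mulVec, Matrix.mulVec_mulVec, hCCi, Matrix.one_mulVec,
      Matrix.one_mulVec]
  -- matrices of elements
  have hSU : ∀ g : ↥(Cfsg.SU n F q), ∀ u v : Fin n → F,
      Cfsg.hermForm n F q
        (((g : Matrix.SpecialLinearGroup (Fin n) F) : Matrix (Fin n) (Fin n) F) *ᵥ u)
        (((g : Matrix.SpecialLinearGroup (Fin n) F) : Matrix (Fin n) (Fin n) F) *ᵥ v) =
      Cfsg.hermForm n F q u v := fun g => g.2
  -- forward map
  have hfdet : ∀ g : ↥(Cfsg.SU n F q),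
      (Ci * ((g : Matrix.SpecialLinearGroup (Fin n) F) : Matrix (Fin n) (Fin n) F) * C).det = 1 := by
    intro g
    rw [Matrix.det_mul, Matrix.det_mul, g.1.2, mul_one, hdd]
  have hfpres : ∀ g : ↥(Cfsg.SU n F q), ∀ u v : Fin n → F,
      hJ n F q
        ((Ci * ((g : Matrix.SpecialLinearGroup (Fin n) F) : Matrix (Fin n) (Fin n) F) * C) *ᵥ u)
        ((Ci * ((g : Matrix.SpecialLinearGroup (Fin n) F) : Matrix (Fin n) (Fin n) F) * C) *ᵥ v) =
      hJ n F q u v := by
    intro g u v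
    rw [← Matrix.mulVec_mulVec, ← Matrix.mulVec_mulVec, ← Matrix.mulVec_mulVec,
      ← Matrix.mulVec_mulVec, key', hSU g, key]
  have hbdet : ∀ h : GJ n F q, (C * mat h * Ci).det = 1 := by
    intro h
    rw [Matrix.det_mul, Matrix.det_mul, det_mat, mul_one, mul_comm, hdd]
  have hbpres : ∀ h : GJ n F q, ∀ u v : Fin n → F,
      Cfsg.hermForm n F q ((C * mat h * Ci) *ᵥ u) ((C * mat h * Ci) *ᵥ v) =
        Cfsg.hermForm n F q u v := by
    intro h u v
    rw [← Matrix.mulVec_mulVec, ← Matrix.mulVec_mulVec, ← Matrix.mulVec_mulVec,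
      ← Matrix.mulVec_mulVec, key, hJ_mat, key']
  refine ⟨{
    toFun := fun g => ⟨⟨Ci * ((g : Matrix.SpecialLinearGroup (Fin n) F) :
      Matrix (Fin n) (Fin n) F) * C, hfdet g⟩, hfpres g⟩
    invFun := fun h => ⟨⟨C * mat h * Ci, hbdet h⟩, hbpres h⟩
    left_inv := ?_
    right_inv := ?_
    map_mul' := ?_ }⟩
  · intro g
    apply Subtype.ext
    apply Subtype.ext
    show C * (Ci * ((g : Matrix.SpecialLinearGroup (Fin n) F) : Matrix (Fin n) (Fin n) F) * C) * Ci
      = ((g : Matrix.SpecialLinearGroup (Fin n) F) : Matrix (Fin n) (Fin n) F)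
    calc C * (Ci * ((g : Matrix.SpecialLinearGroup (Fin n) F) : Matrix (Fin n) (Fin n) F) * C) * Ci
        = (C * Ci) * ((g : Matrix.SpecialLinearGroup (Fin n) F) : Matrix (Fin n) (Fin n) F) *
            (C * Ci) := by simp only [mul_assoc]
      _ = _ := by rw [hCCi, one_mul, mul_one]
  · intro h
    apply mat_injective
    show Ci * (C * mat h * Ci) * C = mat h
    calc Ci * (C * mat h * Ci) * C = (Ci * C) * mat h * (Ci * C) := by simp only [mul_assoc]
      _ = _ := by rw [hCiC, one_mul, mul_one]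
  · intro g g'
    apply mat_injective
    show Ci * (((g * g' : ↥(Cfsg.SU n F q)) : Matrix.SpecialLinearGroup (Fin n) F) :
        Matrix (Fin n) (Fin n) F) * C =
      (Ci * ((g : Matrix.SpecialLinearGroup (Fin n) F) : Matrix (Fin n) (Fin n) F) * C) *
        (Ci * ((g' : Matrix.SpecialLinearGroup (Fin n) F) : Matrix (Fin n) (Fin n) F) * C)
    have hmul : (((g * g' : ↥(Cfsg.SU n F q)) : Matrix.SpecialLinearGroup (Fin n) F) :
        Matrix (Fin n) (Fin n) F) =
        ((g : Matrix.SpecialLinearGroup (Fin n) F) : Matrix (Fin n) (Fin n) F) *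
          ((g' : Matrix.SpecialLinearGroup (Fin n) F) : Matrix (Fin n) (Fin n) F) := rfl
    rw [hmul]
    calc Ci * (((g : Matrix.SpecialLinearGroup (Fin n) F) : Matrix (Fin n) (Fin n) F) *
          ((g' : Matrix.SpecialLinearGroup (Fin n) F) : Matrix (Fin n) (Fin n) F)) * C
        = Ci * ((g : Matrix.SpecialLinearGroup (Fin n) F) : Matrix (Fin n) (Fin n) F) * 1 *
          ((g' : Matrix.SpecialLinearGroup (Fin n) F) : Matrix (Fin n) (Fin n) F) * C := by
          simp only [mul_one, mul_assoc]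
      _ = _ := by rw [← hCCi]; simp only [mul_assoc]

end Cfsg.Agent.Lib.Helper03.StSU
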