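import Mathlib
import Cfsg.Agent.Lib.Helper49.RSU3Defs
import Cfsg.Agent.Lib.Helper03.StSUTR

/-!
# Pack K-RSU3 (S2283), leaf L26 (keystone 228326): `SU_3(q)` (standard form) is isomorphic to `GJ 3 F q`
(antidiagonal form) via conjugation with an explicit pair of mutually inverse matrices.
-/

set_option autoImplicit false
set_option linter.unusedSectionVars false
set_option linter.unusedVariables false

namespace Cfsg.Agent.Lib.Helper03.RSU3

open Cfsg Matrix Cfsg.Agent.Lib.Helper49.StSU Cfsg.Agent.Lib.Helper49.RSU3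
  Cfsg.Agent.Lib.Helper40.GUConj Cfsg.Agent.Lib.Helper03.StSU

variable {F : Type*} [Field F] [Fintype F] {q : ℕ}

/-- general `n` version -/
theorem exists_equiv_conj_gen (n : ℕ) (hF : Fintype.card F = q ^ 2) :
    ∃ (e : ↥(Cfsg.SU n F q) ≃* GJ n F q) (C Ci : Matrix (Fin n) (Fin n) F),
      C * Ci = 1 ∧ Ci * C = 1 ∧ ∀ g : ↥(Cfsg.SU n F q),
        mat (e g) = Ci * ((g : Matrix.SpecialLinearGroup (Fin n) F) : Matrix (Fin n) (Fin n) F) * C := by
  classical
  obtain ⟨φ, hφ, hφφ, θ₀, hθ₀⟩ := exists_frob hF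
  obtain ⟨C, hC, -⟩ := exists_sqrt φ hφφ θ₀ hθ₀ (antiJ n F) (adj_antiJ φ) antiJ_det_ne_zero
  have hCdet : C.det ≠ 0 := by
    intro h0
    apply antiJ_det_ne_zero (n := n) (F := F)
    rw [← hC, Matrix.det_mul, h0, mul_zero]
  have hCu : IsUnit C := by
    rw [Matrix.isUnit_iff_isUnit_det]; exact isUnit_iff_ne_zero.mpr hCdet
  obtain ⟨Cu, hCu'⟩ := hCu
  set Ci : Matrix (Fin n) (Fin n) F := ((Cu⁻¹ : (Matrix (Fin n) (Fin n) F)ˣ) :
    Matrix (Fin n) (Fin n) F) with hCidef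
  have hCCi : C * Ci = 1 := by rw [← hCu', hCidef]; exact Cu.mul_inv
  have hCiC : Ci * C = 1 := by rw [← hCu', hCidef]; exact Cu.inv_mul
  have hdd : Ci.det * C.det = 1 := by rw [← Matrix.det_mul, hCiC, Matrix.det_one]
  have key : ∀ u v : Fin n → F, Cfsg.hermForm n F q (C *ᵥ u) (C *ᵥ v) = hJ n F q u v :=
    hermForm_mulVec_of φ hφ C hC
  have key' : ∀ x y : Fin n → F, hJ n F q (Ci *ᵥ x) (Ci *ᵥ y) = Cfsg.hermForm n F q x y := by
    intro x y
    rw [← key, Matrix.mulVec_mulVec, Matrix.mulVec_mulVec, hCCi, Matrix.one_mulVec,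
      Matrix.one_mulVec]
  have hSU : ∀ g : ↥(Cfsg.SU n F q), ∀ u v : Fin n → F,
      Cfsg.hermForm n F q
        (((g : Matrix.SpecialLinearGroup (Fin n) F) : Matrix (Fin n) (Fin n) F) *ᵥ u)
        (((g : Matrix.SpecialLinearGroup (Fin n) F) : Matrix (Fin n) (Fin n) F) *ᵥ v) =
      Cfsg.hermForm n F q u v := fun g => g.2
  have hfdet : ∀ g : ↥(Cfsg.SU n F q),
      (Ci * ((g : Matrix.SpecialLinearGroup (Fin n) F) : Matrix (Fin n) (Fin n) F) * C).det = 1 := by
    intro g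
    rw [Matrix.det_mul, Matrix.det_mul, g.1.2, mul_one, hdd]
  have hfpres : ∀ g : ↥(Cfsg.SU n F q), ∀ u v : Fin n → F,
      hJ n F q
        ((Ci * ((g : Matrix.SpecialLinearGroup (Fin n) F) : Matrix (Fin n) (Fin n) F) * C) *ᵥ u)
        ((Ci * ((g : Matrix.SpecialLinearGroup (Fin n) F) : Matrix (Fin n) (Fin n) F) * C) *ᵥ v) =
      hJ n F q u v := by
    intro g u v
    rw [← Matrix.mulVec_mulVec, ← Matrix.mulVec_mulVec, ← Matrix.mulVec_mulVec,
      ← Matrix.mulVec_mulVec, key', hSU g, key]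
  have hbdet : ∀ h : GJ n F q, (C * mat h * Ci).det = 1 := by
    intro h
    rw [Matrix.det_mul, Matrix.det_mul, det_mat, mul_one, mul_comm, hdd]
  have hbpres : ∀ h : GJ n F q, ∀ u v : Fin n → F,
      Cfsg.hermForm n F q ((C * mat h * Ci) *ᵥ u) ((C * mat h * Ci) *ᵥ v) =
        Cfsg.hermForm n F q u v := by
    intro h u v
    rw [← Matrix.mulVec_mulVec, ← Matrix.mulVec_mulVec, ← Matrix.mulVec_mulVec,
      ← Matrix.mulVec_mulVec, key, hJ_mat, key']
  refine ⟨{
    toFun := fun g => ⟨⟨Ci * ((g : Matrix.SpecialLinearGroup (Fin n) F) :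
      Matrix (Fin n) (Fin n) F) * C, hfdet g⟩, hfpres g⟩
    invFun := fun h => ⟨⟨C * mat h * Ci, hbdet h⟩, hbpres h⟩
    left_inv := ?_
    right_inv := ?_
    map_mul' := ?_ }, C, Ci, hCCi, hCiC, ?_⟩
  · intro g
    apply Subtype.ext
    apply Subtype.ext
    show C * (Ci * ((g : Matrix.SpecialLinearGroup (Fin n) F) : Matrix (Fin n) (Fin n) F) * C) * Ci
      = ((g : Matrix.SpecialLinearGroup (Fin n) F) : Matrix (Fin n) (Fin n) F)
    calc C * (Ci * ((g : Matrix.SpecialLinearGroup (Fin n) F) : Matrix (Fin n) (Fin n) F) * C) * Ci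
        = (C * Ci) * ((g : Matrix.SpecialLinearGroup (Fin n) F) : Matrix (Fin n) (Fin n) F) *
            (C * Ci) := by simp only [mul_assoc]
      _ = _ := by rw [hCCi, one_mul, mul_one]
  · intro h
    apply mat_injective
    show Ci * (C * mat h * Ci) * C = mat h
    calc Ci * (C * mat h * Ci) * C = (Ci * C) * mat h * (Ci * C) := by simp only [mul_assoc]
      _ = _ := by rw [hCiC, one_mul, mul_one]
  · intro g g'
    apply mat_injective
    show Ci * (((g * g' : ↥(Cfsg.SU n F q)) : Matrix.SpecialLinearGroup (Fin n) F) :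
        Matrix (Fin n) (Fin n) F) * C =
      (Ci * ((g : Matrix.SpecialLinearGroup (Fin n) F) : Matrix (Fin n) (Fin n) F) * C) *
        (Ci * ((g' : Matrix.SpecialLinearGroup (Fin n) F) : Matrix (Fin n) (Fin n) F) * C)
    have hmul : (((g * g' : ↥(Cfsg.SU n F q)) : Matrix.SpecialLinearGroup (Fin n) F) :
        Matrix (Fin n) (Fin n) F) =
        ((g : Matrix.SpecialLinearGroup (Fin n) F) : Matrix (Fin n) (Fin n) F) *
          ((g' : Matrix.SpecialLinearGroup (Fin n) F) : Matrix (Fin n) (Fin n) F) := rfl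
    rw [hmul]
    calc Ci * (((g : Matrix.SpecialLinearGroup (Fin n) F) : Matrix (Fin n) (Fin n) F) *
          ((g' : Matrix.SpecialLinearGroup (Fin n) F) : Matrix (Fin n) (Fin n) F)) * C
        = Ci * ((g : Matrix.SpecialLinearGroup (Fin n) F) : Matrix (Fin n) (Fin n) F) * 1 *
          ((g' : Matrix.SpecialLinearGroup (Fin n) F) : Matrix (Fin n) (Fin n) F) * C := by
          simp only [mul_one, mul_assoc]
      _ = _ := by rw [← hCCi]; simp only [mul_assoc]
  · intro g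
    rfl

/-- L26 -/
theorem exists_equiv_conj (hq : 3 ≤ q) (hF : Fintype.card F = q ^ 2) :
    ∃ (e : ↥(Cfsg.SU 3 F q) ≃* GJ 3 F q) (C Ci : Matrix (Fin 3) (Fin 3) F),
      C * Ci = 1 ∧ Ci * C = 1 ∧ ∀ g : ↥(Cfsg.SU 3 F q),
        mat (e g) = Ci * ((g : Matrix.SpecialLinearGroup (Fin 3) F) : Matrix (Fin 3) (Fin 3) F) * C :=
  exists_equiv_conj_gen 3 hF

end Cfsg.Agent.Lib.Helper03.RSU3
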