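import Mathlib
import Cfsg.Agent.Lib.Helper48.RSpDefs2

/-!
# K-RSp pack (S2281), leaf M2: `Llow t` is bidiagonal and `Dlow t` is its inverse transpose
-/

set_option autoImplicit false
set_option linter.unusedVariables false

namespace Cfsg.Agent.Lib.Helper03.RSp

open Matrix Cfsg.Agent.Lib.Helper48.RSp Cfsg.Agent.Lib.Helper18

theorem m2_dvec_ne_zero (m : ℕ) {F : Type*} [Field F] (t : F) (ht : t ≠ 0) (j : Fin (m + 2)) :
    dvec m t j ≠ 0 := by
  unfold dvec
  split_ifs
  · exact one_ne_zero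
  · exact ht

theorem m2_diag_mul_inv (m : ℕ) {F : Type*} [Field F] (t : F) (ht : t ≠ 0) :
    Matrix.diagonal (dvec m t) * Matrix.diagonal (fun j => (dvec m t j)⁻¹) = 1 := by
  rw [Matrix.diagonal_mul_diagonal]
  have : (fun i => dvec m t i * (dvec m t i)⁻¹) = fun _ => (1 : F) := by
    funext i
    exact mul_inv_cancel₀ (m2_dvec_ne_zero m t ht i)
  rw [this, Matrix.diagonal_one]

theorem m2_diag_inv_mul (m : ℕ) {F : Type*} [Field F] (t : F) (ht : t ≠ 0) :
    Matrix.diagonal (fun j => (dvec m t j)⁻¹) * Matrix.diagonal (dvec m t) = 1 := by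
  rw [Matrix.diagonal_mul_diagonal]
  have : (fun i => (dvec m t i)⁻¹ * dvec m t i) = fun _ => (1 : F) := by
    funext i
    exact inv_mul_cancel₀ (m2_dvec_ne_zero m t ht i)
  rw [this, Matrix.diagonal_one]

theorem m2_Llow_transpose (m : ℕ) {F : Type*} [Field F] (t : F) :
    (Llow m t)ᵀ = Matrix.diagonal (fun j => (dvec m t j)⁻¹) * Uup m F * Matrix.diagonal (dvec m t) := by
  unfold Llow
  rw [Matrix.transpose_mul, Matrix.transpose_mul, Matrix.diagonal_transpose, Matrix.diagonal_transpose,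
    Matrix.transpose_transpose, Matrix.mul_assoc]

theorem m2_Uup_apply (m : ℕ) (F : Type*) [Field F] (a b : Fin (m + 2)) :
    Uup m F a b = (if a = b then 1 else 0) + (if a.val + 1 = b.val then 1 else 0) := by
  unfold Uup
  rw [Matrix.add_apply, Matrix.one_apply]
  rfl

theorem Llow_eq_Lbi (m : ℕ) {F : Type*} [Field F] (t : F) (ht : t ≠ 0) :
    Llow m t = Lbi m (fun j => if j = 0 then t else 1) := by
  ext i j
  unfold Llow Lbi
  rw [Matrix.mul_diagonal, Matrix.diagonal_mul, Matrix.transpose_apply, m2_Uup_apply]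
  by_cases hij : i = j
  · subst hij
    have h1 : ¬ (i.val + 1 = i.val) := by omega
    simp only [if_true, if_neg h1, add_zero, mul_one]
    exact mul_inv_cancel₀ (m2_dvec_ne_zero m t ht i)
  · have hji : ¬ (j = i) := fun h => hij h.symm
    rw [if_neg hji, if_neg hij, zero_add]
    by_cases hs : j.val + 1 = i.val
    · rw [if_pos hs, if_pos hs, mul_one]
      have hi0 : i ≠ 0 := by
        intro h
        rw [h] at hs
        simp at hs
      unfold dvec
      rw [if_neg hi0]
      show (t * (if j = 0 then (1 : F) else t)⁻¹) = if j = 0 then t else 1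
      by_cases hj0 : j = 0
      · rw [if_pos hj0, if_pos hj0, inv_one, mul_one]
      · rw [if_neg hj0, if_neg hj0]
        exact mul_inv_cancel₀ ht
    · rw [if_neg hs, if_neg hs, mul_zero, zero_mul]

theorem Llow_transpose_mul_Dlow (m : ℕ) {F : Type*} [Field F] (t : F) (ht : t ≠ 0)
    (hUA : Uup m F * Aalt m F = 1) : (Llow m t)ᵀ * Dlow m t = 1 := by
  rw [m2_Llow_transpose]
  unfold Dlow
  calc Matrix.diagonal (fun j => (dvec m t j)⁻¹) * Uup m F * Matrix.diagonal (dvec m t) *
        (Matrix.diagonal (fun j => (dvec m t j)⁻¹) * Aalt m F * Matrix.diagonal (dvec m t))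
      = Matrix.diagonal (fun j => (dvec m t j)⁻¹) * (Uup m F *
          ((Matrix.diagonal (dvec m t) * Matrix.diagonal (fun j => (dvec m t j)⁻¹)) *
            (Aalt m F * Matrix.diagonal (dvec m t)))) := by
        simp only [Matrix.mul_assoc]
    _ = Matrix.diagonal (fun j => (dvec m t j)⁻¹) * ((Uup m F * Aalt m F) * Matrix.diagonal (dvec m t)) := by
        rw [m2_diag_mul_inv m t ht, Matrix.one_mul, Matrix.mul_assoc]
    _ = 1 := by
        rw [hUA, Matrix.one_mul, m2_diag_inv_mul m t ht]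

theorem Dlow_mul_Llow_transpose (m : ℕ) {F : Type*} [Field F] (t : F) (ht : t ≠ 0)
    (hAU : Aalt m F * Uup m F = 1) : Dlow m t * (Llow m t)ᵀ = 1 := by
  rw [m2_Llow_transpose]
  unfold Dlow
  calc Matrix.diagonal (fun j => (dvec m t j)⁻¹) * Aalt m F * Matrix.diagonal (dvec m t) *
        (Matrix.diagonal (fun j => (dvec m t j)⁻¹) * Uup m F * Matrix.diagonal (dvec m t))
      = Matrix.diagonal (fun j => (dvec m t j)⁻¹) * (Aalt m F *
          ((Matrix.diagonal (dvec m t) * Matrix.diagonal (fun j => (dvec m t j)⁻¹)) *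
            (Uup m F * Matrix.diagonal (dvec m t)))) := by
        simp only [Matrix.mul_assoc]
    _ = Matrix.diagonal (fun j => (dvec m t j)⁻¹) * ((Aalt m F * Uup m F) * Matrix.diagonal (dvec m t)) := by
        rw [m2_diag_mul_inv m t ht, Matrix.one_mul, Matrix.mul_assoc]
    _ = 1 := by
        rw [hAU, Matrix.one_mul, m2_diag_inv_mul m t ht]

end Cfsg.Agent.Lib.Helper03.RSp
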