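import Mathlib
import Cfsg.Agent.Lib.Helper48.RSpDefs2
import Cfsg.Agent.Lib.Helper03.RSpM2

/-!
# K-RSp pack (S2281), leaf M3: `uMat`, `hMat` are symplectic and `h u = c h`
-/

set_option autoImplicit false
set_option linter.unusedVariables false

namespace Cfsg.Agent.Lib.Helper03.RSp

open Matrix Cfsg.Agent.Lib.Helper48.RSp Cfsg.Agent.Lib.Helper18

theorem m3_Elast_transpose (m : ℕ) (F : Type*) [Field F] : (Elast m F)ᵀ = Elast m F := by
  unfold Elast
  rw [Matrix.transpose_single]

theorem uMat_mem (m : ℕ) {F : Type*} [Field F] (s : F) (hUA : Uup m F * Aalt m F = 1) :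
    uMat m s ∈ Matrix.symplecticGroup (Fin (m + 2)) F := by
  unfold uMat
  rw [SymplecticGroup.fromBlocks_mem_iff]
  have hT : (Aalt m F)ᵀ * (Uup m F)ᵀ = 1 := by
    rw [← Matrix.transpose_mul, hUA, Matrix.transpose_one]
  refine ⟨by simp, ?_, ?_⟩
  · rw [Matrix.transpose_mul, Matrix.transpose_smul, m3_Elast_transpose, Matrix.transpose_transpose,
      Matrix.mul_assoc, hT, Matrix.mul_one, ← Matrix.mul_assoc, hUA, Matrix.one_mul]
  · rw [Matrix.transpose_zero, Matrix.zero_mul, sub_zero, hT]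

theorem hMat_mem (m : ℕ) {F : Type*} [Field F] (t : F) (ht : t ≠ 0) :
    hMat m t ∈ Matrix.symplecticGroup (Fin (m + 2)) F := by
  unfold hMat
  rw [SymplecticGroup.fromBlocks_mem_iff]
  refine ⟨by simp, by simp, ?_⟩
  rw [Matrix.transpose_zero, Matrix.zero_mul, zero_sub, Matrix.diagonal_transpose, Matrix.mul_neg, neg_neg,
    m2_diag_inv_mul m t ht]

theorem m3_diag_Elast_diag (m : ℕ) {F : Type*} [Field F] (t : F) :
    Matrix.diagonal (dvec m t) * Elast m F * Matrix.diagonal (dvec m t) = (t ^ 2) • Elast m F := by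
  ext i j
  rw [Matrix.mul_diagonal, Matrix.diagonal_mul, Matrix.smul_apply]
  unfold Elast
  rw [Matrix.single_apply]
  by_cases h : Fin.last (m + 1) = i ∧ Fin.last (m + 1) = j
  · obtain ⟨h1, h2⟩ := h
    subst h1
    subst h2
    have hl : (Fin.last (m + 1) : Fin (m + 2)) ≠ 0 := by
      intro h0
      have := congrArg Fin.val h0
      simp at this
    unfold dvec
    simp only [if_neg hl, and_self, if_true, mul_one, smul_eq_mul]
    ring
  · rw [if_neg h]
    simp

theorem hMat_mul_uMat (m : ℕ) {F : Type*} [Field F] (t s : F) (ht : t ≠ 0) :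
    hMat m t * uMat m s = cMat m t (-(s / t ^ 2)) * hMat m t := by
  unfold hMat uMat cMat
  rw [Matrix.fromBlocks_multiply, Matrix.fromBlocks_multiply]
  have e1 := m2_diag_mul_inv m t ht
  have e2 := m2_diag_inv_mul m t ht
  congr 1
  · simp
  · -- `-(d Uᵀ)` on both sides
    unfold Llow
    simp only [Matrix.zero_mul, zero_add, Matrix.mul_zero, add_zero, Matrix.neg_mul, Matrix.mul_neg]
    rw [Matrix.mul_assoc, Matrix.mul_assoc, e2, Matrix.mul_one]
  · unfold Dlow
    simp only [Matrix.mul_zero, add_zero, zero_add]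
    rw [Matrix.mul_assoc, Matrix.mul_assoc, e1, Matrix.mul_one]
  · unfold Dlow
    simp only [Matrix.zero_mul, Matrix.mul_zero, add_zero, Matrix.mul_neg, Matrix.mul_smul,
      Matrix.smul_mul]
    have key : Matrix.diagonal (fun j => (dvec m t j)⁻¹) * Aalt m F * Matrix.diagonal (dvec m t) * Elast m F *
        Matrix.diagonal (dvec m t) =
        (t ^ 2) • (Matrix.diagonal (fun j => (dvec m t j)⁻¹) * Aalt m F * Elast m F) := by
      rw [Matrix.mul_assoc, Matrix.mul_assoc
        (Matrix.diagonal (fun j => (dvec m t j)⁻¹) * Aalt m F), ← Matrix.mul_assoc (Matrix.diagonal (dvec m t)),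
        m3_diag_Elast_diag, Matrix.mul_smul]
    rw [Matrix.mul_assoc (Matrix.diagonal (fun j => (dvec m t j)⁻¹)) (Aalt m F) (Elast m F)] at key
    rw [key, neg_smul, neg_neg, smul_smul]
    have ht2 : s / t ^ 2 * t ^ 2 = s := by
      field_simp
    rw [ht2]

end Cfsg.Agent.Lib.Helper03.RSp
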