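import Mathlib

/-!
# Pack K-RU4 (S2279), leaf F (keystone 227906): a field of prime cardinality consists of the casts of naturals.
-/

set_option autoImplicit false

namespace Cfsg.Agent.Lib.Helper03.RU4

theorem exists_nat_cast {F : Type*} [Field F] [Fintype F] (hp : (Fintype.card F).Prime) (s : F) :
    ∃ k : ℕ, s = (k : F) := by
  classical
  -- the additive subgroup generated by 1 is everything
  have hcard : Nat.card F = Fintype.card F := Nat.card_eq_fintype_card
  have htop : AddSubgroup.zmultiples (1 : F) = ⊤ := by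
    have hdvd : Nat.card (AddSubgroup.zmultiples (1 : F)) ∣ Nat.card F :=
      AddSubgroup.card_addSubgroup_dvd_card _
    rw [hcard] at hdvd
    rcases (Nat.dvd_prime hp).mp hdvd with h1 | h1
    · exfalso
      have hbot : AddSubgroup.zmultiples (1 : F) = ⊥ := AddSubgroup.card_eq_one.mp h1
      have : (1 : F) ∈ (⊥ : AddSubgroup F) := by
        rw [← hbot]
        exact AddSubgroup.mem_zmultiples 1
      rw [AddSubgroup.mem_bot] at this
      exact one_ne_zero this
    · apply AddSubgroup.eq_top_of_card_eq
      rw [h1, hcard]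
  have hs : s ∈ AddSubgroup.zmultiples (1 : F) := by
    rw [htop]
    trivial
  obtain ⟨z, hz⟩ := AddSubgroup.mem_zmultiples_iff.mp hs
  -- z • 1 = (z : F); reduce an integer to a natural via the characteristic
  have hz' : s = (z : F) := by
    rw [← hz]
    simp
  have hchar : ((Fintype.card F : ℕ) : F) = 0 := Nat.cast_card_eq_zero F
  have hpos : 0 < Fintype.card F := hp.pos
  refine ⟨(z % (Fintype.card F : ℤ)).toNat, ?_⟩
  have hnn : 0 ≤ z % (Fintype.card F : ℤ) := Int.emod_nonneg _ (by exact_mod_cast hpos.ne')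
  have h1 : (((z % (Fintype.card F : ℤ)).toNat : ℕ) : F) = ((z % (Fintype.card F : ℤ) : ℤ) : F) := by
    have h0 : (((z % (Fintype.card F : ℤ)).toNat : ℕ) : ℤ) = z % (Fintype.card F : ℤ) :=
      Int.toNat_of_nonneg hnn
    rw [← h0]
    exact (Int.cast_natCast _).symm
  rw [h1, hz']
  have h2 : z = z % (Fintype.card F : ℤ) + (Fintype.card F : ℤ) * (z / (Fintype.card F : ℤ)) :=
    (Int.emod_add_mul_ediv z _).symm
  conv_lhs => rw [h2]
  push_cast
  rw [hchar]
  ring

end Cfsg.Agent.Lib.Helper03.RU4
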