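import Mathlib

/-!
# K-S2720-U0 (keystone 272018) `torus_count`: pure finite fields.
-/

set_option autoImplicit false

namespace Cfsg.Agent.Lib.Helper03.S2720K

open Module Finset

section

variable {K : Type*} [Field K] [Fintype K]

/-- `|K| = |K₀|²` for the fixed set `K₀` of an involutive automorphism `τ ≠ 1` (char `≠ 2`). -/
theorem card_eq_sq_fixed (h2 : (2 : K) ≠ 0) (τ : K →+* K) (hτ2 : ∀ a, τ (τ a) = a)
    (hτ1 : ∃ a, τ a ≠ a) :
    Fintype.card K = Nat.card {x : K // τ x = x} ^ 2 := by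
  classical
  obtain ⟨a0, ha0⟩ := hτ1
  set δ : K := a0 - τ a0 with hδ
  have hδ0 : δ ≠ 0 := fun h => ha0 (sub_eq_zero.1 h).symm
  have hτδ : τ δ = -δ := by rw [hδ, map_sub, hτ2]; ring
  have hτ2' : τ 2 = 2 := map_ofNat τ 2
  let e : K ≃ {x : K // τ x = x} × {x : K // τ x = x} :=
    { toFun := fun a => (⟨(a + τ a) / 2, by rw [map_div₀, map_add, hτ2, hτ2', add_comm]⟩,
        ⟨(a - τ a) / (2 * δ), by
          rw [map_div₀, map_sub, hτ2, map_mul, hτ2', hτδ]
          field_simp
          ring⟩)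
      invFun := fun p => p.1.1 + δ * p.2.1
      left_inv := fun a => by
        simp only
        field_simp
        ring
      right_inv := fun p => by
        obtain ⟨⟨c, hc⟩, ⟨d, hd⟩⟩ := p
        simp only [map_add, map_mul, hc, hd, hτδ]
        refine Prod.ext (Subtype.ext ?_) (Subtype.ext ?_)
        · simp only
          field_simp
          ring
        · simp only
          field_simp
          ring }
  rw [Fintype.card_congr e, Fintype.card_prod, Nat.card_eq_fintype_card, sq]

theorem natCard_subtype_filter {α : Type*} [Fintype α] (p : α → Prop) [DecidablePred p] :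
    Nat.card {a : α // p a} = #{a | p a} := by
  rw [Nat.card_eq_fintype_card, Fintype.card_subtype]

/-- the norm-one group of `τ` is cyclic of order `Q₀ + 1`, and all nonzero fibres of the norm have
`Q₀ + 1` elements. -/
theorem norm_facts (h2 : (2 : K) ≠ 0) (τ : K →+* K) (hτ2 : ∀ a, τ (τ a) = a)
    (hτ1 : ∃ a, τ a ≠ a) (Q₀ : ℕ) (hQ₀ : Nat.card {x : K // τ x = x} = Q₀) :
    ∃ u : Kˣ, (u : K) * τ (u : K) = 1 ∧ orderOf u = Q₀ + 1 ∧
      ∀ n : K, n ≠ 0 → τ n = n → Nat.card {a : K // a * τ a = n} = Q₀ + 1 := by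
  classical
  have hKcard := card_eq_sq_fixed h2 τ hτ2 hτ1
  rw [hQ₀] at hKcard
  obtain ⟨a0, ha0⟩ := hτ1
  set δ : K := a0 - τ a0 with hδ
  have hδ0 : δ ≠ 0 := fun h => ha0 (sub_eq_zero.1 h).symm
  have hτδ : τ δ = -δ := by rw [hδ, map_sub, hτ2]; ring
  set τu : Kˣ →* Kˣ := Units.map (τ : K →* K) with hτu
  have hτuval : ∀ a : Kˣ, ((τu a : Kˣ) : K) = τ (a : K) := fun a => rfl
  have hτuτu : ∀ a : Kˣ, τu (τu a) = a := fun a => Units.ext (by rw [hτuval, hτuval, hτ2])
  set N : Kˣ →* Kˣ := MonoidHom.mk' (fun a => a * τu a)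
    (fun a b => by rw [map_mul, mul_mul_mul_comm]) with hN
  set H : Kˣ →* Kˣ := MonoidHom.mk' (fun b => b * (τu b)⁻¹)
    (fun a b => by rw [map_mul, mul_inv, mul_mul_mul_comm]) with hH
  have hNap : ∀ a, N a = a * τu a := fun a => rfl
  have hHap : ∀ a, H a = a * (τu a)⁻¹ := fun a => rfl
  have hNval : ∀ a : Kˣ, ((N a : Kˣ) : K) = (a : K) * τ (a : K) := fun a => rfl
  have hHker : ∀ b : Kˣ, b ∈ H.ker ↔ τ (b : K) = b := by
    intro b
    rw [MonoidHom.mem_ker, hHap, mul_inv_eq_one, Units.ext_iff, hτuval, eq_comm]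
  have hNH : ∀ b, N (H b) = 1 := by
    intro b
    rw [hNap, hHap, map_mul, map_inv, hτuτu]
    group
  have hrange : H.range = N.ker := by
    ext a
    rw [MonoidHom.mem_range, MonoidHom.mem_ker]
    constructor
    · rintro ⟨b, rfl⟩
      exact hNH b
    · intro ha
      have ha' : (a : K) * τ (a : K) = 1 := by rw [← hNval, ha, Units.val_one]
      by_cases h1 : (a : K) = -1
      · refine ⟨Units.mk0 δ hδ0, ?_⟩
        rw [hHap, mul_inv_eq_iff_eq_mul]
        apply Units.ext
        rw [Units.val_mul, hτuval, Units.val_mk0, hτδ, h1]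
        ring
      · have h1' : 1 + (a : K) ≠ 0 := by
          intro h
          apply h1
          linear_combination h
        refine ⟨Units.mk0 (1 + (a : K)) h1', ?_⟩
        rw [hHap, mul_inv_eq_iff_eq_mul]
        apply Units.ext
        rw [Units.val_mul, hτuval, Units.val_mk0, map_add, map_one]
        linear_combination -ha'
  -- cardinalities
  have hQ₀pos : 2 ≤ Q₀ := by
    rw [← hQ₀, natCard_subtype_filter]
    have h01 : ({0, 1} : Finset K) ⊆ univ.filter (fun x => τ x = x) := by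
      intro x hx
      rw [mem_insert, mem_singleton] at hx
      rw [mem_filter]
      rcases hx with rfl | rfl
      · exact ⟨mem_univ _, map_zero τ⟩
      · exact ⟨mem_univ _, map_one τ⟩
    have := card_le_card h01
    rwa [card_pair zero_ne_one] at this
  obtain ⟨m, rfl⟩ : ∃ m, Q₀ = m + 2 := ⟨Q₀ - 2, by omega⟩
  have hcardU : Nat.card Kˣ = (m + 1) * (m + 3) := by
    rw [Nat.card_units, Nat.card_eq_fintype_card, hKcard]
    have : (m + 2) ^ 2 = (m + 1) * (m + 3) + 1 := by ring
    rw [this, Nat.add_sub_cancel]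
  have hcardHker : Nat.card H.ker = m + 1 := by
    have e : ↥H.ker ≃ {x : K // τ x = x ∧ x ≠ 0} :=
      { toFun := fun b => ⟨((b : Kˣ) : K), (hHker b).1 b.2, Units.ne_zero _⟩
        invFun := fun x => ⟨Units.mk0 x.1 x.2.2, (hHker _).2 x.2.1⟩
        left_inv := fun b => Subtype.ext (Units.ext rfl)
        right_inv := fun x => Subtype.ext rfl }
    rw [Nat.card_congr e, natCard_subtype_filter, ← filter_filter, filter_ne',
      card_erase_of_mem (by rw [mem_filter]; exact ⟨mem_univ _, map_zero τ⟩),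
      ← natCard_subtype_filter, hQ₀]
    rfl
  have hL1 := H.ker.card_mul_index
  rw [Subgroup.index_ker, hrange, hcardHker, hcardU] at hL1
  have hcardNker : Nat.card N.ker = m + 3 := Nat.eq_of_mul_eq_mul_left (Nat.succ_pos m) hL1
  have hL2 := N.ker.card_mul_index
  rw [Subgroup.index_ker, hcardNker, hcardU, mul_comm] at hL2
  have hcardNrange : Nat.card N.range = m + 1 := Nat.eq_of_mul_eq_mul_right (Nat.succ_pos _) hL2
  have hNrange : N.range = H.ker := by
    apply Subgroup.eq_of_le_of_card_ge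
    · rintro _ ⟨a, rfl⟩
      rw [hHker, hNval, map_mul, hτ2, mul_comm]
    · rw [hcardNrange, hcardHker]
  -- the generator
  obtain ⟨g, hg⟩ := IsCyclic.exists_generator (α := ↥N.ker)
  have hgord : orderOf g = m + 3 := by
    rw [orderOf_eq_card_of_forall_mem_zpowers hg, hcardNker]
  refine ⟨(g : Kˣ), ?_, ?_, ?_⟩
  · have := g.2
    rw [MonoidHom.mem_ker] at this
    rw [← hNval, this, Units.val_one]
  · rw [Subgroup.orderOf_coe, hgord]
  · intro n hn0 hτn
    have hmem : Units.mk0 n hn0 ∈ N.range := by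
      rw [hNrange, hHker]
      exact hτn
    obtain ⟨a1, ha1⟩ := hmem
    have e : {a : K // a * τ a = n} ≃ ↥N.ker :=
      { toFun := fun a => ⟨Units.mk0 a.1 (by
            intro h
            apply hn0
            rw [← a.2, h, zero_mul]) * a1⁻¹, by
          rw [MonoidHom.mem_ker, map_mul, map_inv, ha1, mul_inv_eq_one]
          apply Units.ext
          rw [hNval]
          exact a.2⟩
        invFun := fun k => ⟨((k : Kˣ) * a1 : Kˣ), by
          have hk := k.2
          rw [MonoidHom.mem_ker] at hk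
          rw [← hNval, map_mul, hk, one_mul, ha1]
          rfl⟩
        left_inv := fun a => by
          apply Subtype.ext
          simp
        right_inv := fun k => by
          apply Subtype.ext
          apply Units.ext
          simp }
    rw [Nat.card_congr e, hcardNker]

end

/-- **K-S2720-U0 (272018) torus_count**. -/
theorem torus_count {F K : Type*} [Field F] [Fintype F] [Field K] [Fintype K] [Algebra F K]
    (h2 : (2 : K) ≠ 0) (τ : K ≃ₐ[F] K) (hτ2 : ∀ a, τ (τ a) = a) (hτ1 : ∃ a, τ a ≠ a)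
    (T : K →ₗ[F] F) (hT : ∃ n : K, τ n = n ∧ T n ≠ 0) :
    ∃ (Q₀ e : ℕ) (u : Kˣ), Fintype.card K = Q₀ ^ 2 ∧ 0 < e ∧ Q₀ = Fintype.card F ^ e ∧
      (u : K) * τ (u : K) = 1 ∧ orderOf u = Q₀ + 1 ∧
      (∀ b : F, b ≠ 0 → Nat.card {a : K // a ≠ 0 ∧ T (a * τ a) = b} =
        (Q₀ + 1) * (Q₀ / Fintype.card F)) ∧
      Nat.card {a : K // a ≠ 0 ∧ T (a * τ a) = 0} = (Q₀ + 1) * (Q₀ / Fintype.card F - 1) := by
  classical
  set τr : K →+* K := (τ : K →+* K) with hτr
  have hτrap : ∀ a, τr a = τ a := fun a => rfl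
  set Q₀ : ℕ := Nat.card {x : K // τ x = x} with hQ₀def
  have hcardK : Fintype.card K = Q₀ ^ 2 := card_eq_sq_fixed h2 τr hτ2 hτ1
  obtain ⟨u, hu1, hu2, hfib⟩ := norm_facts h2 τr hτ2 hτ1 Q₀ rfl
  -- the fixed subspace
  set K0 : Submodule F K := LinearMap.eqLocus τ.toLinearMap LinearMap.id with hK0
  have hK0mem : ∀ x, x ∈ K0 ↔ τ x = x := fun x => Iff.rfl
  have hQ₀K0 : Fintype.card ↥K0 = Q₀ := by
    rw [hQ₀def, Nat.card_eq_fintype_card]
    exact Fintype.card_congr (Equiv.subtypeEquivRight hK0mem)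
  have : Nontrivial ↥K0 := ⟨⟨0, ⟨1, (hK0mem 1).2 (map_one τ)⟩, fun h =>
    zero_ne_one (congrArg Subtype.val h)⟩⟩
  have hQ₀pow : Q₀ = Fintype.card F ^ finrank F ↥K0 := by
    rw [← hQ₀K0, Module.card_eq_pow_finrank (K := F)]
  have he : 0 < finrank F ↥K0 := Module.finrank_pos
  -- fibres of `T` on the fixed field
  obtain ⟨n₀, hn₀, hTn₀⟩ := hT
  set fg : K →+ K × F := AddMonoidHom.prod (τr.toAddMonoidHom - AddMonoidHom.id K)
    T.toAddMonoidHom with hfg
  have hfgap : ∀ x, fg x = (τ x - x, T x) := fun x => rfl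
  have hfgiff : ∀ (x : K) (b : F), fg x = (0, b) ↔ τ x = x ∧ T x = b := by
    intro x b
    rw [hfgap, Prod.mk.injEq, sub_eq_zero]
  have hrangemem : ∀ b : F, (0, b) ∈ Set.range fg := by
    intro b
    refine ⟨(b / T n₀) • n₀, ?_⟩
    rw [hfgiff, map_smul, map_smul, hn₀, smul_eq_mul, div_mul_cancel₀ _ hTn₀]
    exact ⟨rfl, rfl⟩
  set M : ℕ := #{x : K | τ x = x ∧ T x = 0} with hMdef
  have hMb : ∀ b : F, #{x : K | τ x = x ∧ T x = b} = M := by
    intro b
    have := AddMonoidHom.card_fiber_eq_of_mem_range fg (hrangemem b) (hrangemem 0)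
    simp only [hfgiff] at this
    exact this
  have hqM : Fintype.card F * M = Q₀ := by
    have h1 : Q₀ = #{x : K | τ x = x} := by rw [hQ₀def, natCard_subtype_filter]
    rw [h1, card_eq_sum_card_fiberwise (f := fun x => T x) (t := univ) (fun x _ => mem_univ _)]
    simp only [filter_filter, hMb, sum_const, card_univ, smul_eq_mul]
  have hMval : M = Q₀ / Fintype.card F := by
    rw [← hqM, Nat.mul_div_cancel_left _ Fintype.card_pos]
  -- the main count
  have hτinj : ∀ a : K, a ≠ 0 → τ a ≠ 0 := fun a ha h =>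
    ha (by rw [← hτ2 a, h, map_zero])
  have hcount : ∀ b : F, #{a : K | a ≠ 0 ∧ T (a * τ a) = b} =
      #{n : K | n ≠ 0 ∧ τ n = n ∧ T n = b} * (Q₀ + 1) := by
    intro b
    rw [card_eq_sum_card_fiberwise (f := fun a => a * τ a)
      (t := univ.filter (fun n : K => n ≠ 0 ∧ τ n = n ∧ T n = b))]
    · rw [← smul_eq_mul, ← sum_const]
      apply sum_congr rfl
      intro n hn
      rw [mem_filter] at hn
      obtain ⟨-, hn0, hτn, hTn⟩ := hn
      rw [← hfib n hn0 hτn, natCard_subtype_filter, filter_filter]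
      congr 1
      ext a
      simp only [mem_filter, mem_univ, true_and]
      constructor
      · rintro ⟨-, h⟩
        exact h
      · intro h
        refine ⟨⟨?_, ?_⟩, h⟩
        · rintro rfl
          apply hn0
          rw [← h]
          simp
        · rw [← hTn, ← h]
          rfl
    · intro a ha
      rw [mem_coe, mem_filter] at ha ⊢
      refine ⟨mem_univ _, mul_ne_zero ha.2.1 (hτinj a ha.2.1), ?_, ha.2.2⟩
      rw [map_mul, hτ2, mul_comm]
  refine ⟨Q₀, finrank F ↥K0, u, hcardK, he, hQ₀pow, hu1, hu2, ?_, ?_⟩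
  · intro b hb
    rw [natCard_subtype_filter, hcount b, mul_comm, ← hMval, ← hMb b]
    congr 2
    ext n
    simp only [mem_filter, mem_univ, true_and]
    constructor
    · rintro ⟨-, h⟩
      exact h
    · intro h
      refine ⟨?_, h⟩
      rintro rfl
      apply hb
      rw [← h.2, map_zero]
  · rw [natCard_subtype_filter, hcount 0, mul_comm, ← hMval, hMdef]
    congr 1
    have : (univ.filter (fun n : K => n ≠ 0 ∧ τ n = n ∧ T n = 0)) =
        (univ.filter (fun n : K => τ n = n ∧ T n = 0)).erase 0 := by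
      ext n
      simp only [mem_filter, mem_univ, true_and, mem_erase]
    rw [this, card_erase_of_mem]
    rw [mem_filter]
    exact ⟨mem_univ _, map_zero τ, map_zero T⟩

end Cfsg.Agent.Lib.Helper03.S2720K
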