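import Mathlib
import Cfsg.Agent.Lib.Helper07.OrthKE

/-!
# K-S2720-U (keystone 272015), abstract geometry half

Given a finite field `K ⊇ F` acting `F`-linearly and regularly on a nondegenerate `σ`-invariant subspace `L`,
commuting with `σ|_L`, with an automorphism `τ` of order 2 which is the adjoint w.r.t. the polar form, and the
conclusion of `torus_count` for `(K, τ)`, we build the `FreeData`.
-/

set_option autoImplicit false

namespace Cfsg.Agent.Lib.Helper03.S2720K

open Module Cfsg.Agent.Lib.Helper07.KE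

section

variable {F : Type*} [Field F] {V : Type*} [AddCommGroup V] [Module F V]

theorem two_mul_Q (Q : QuadraticForm F V) (x : V) :
    2 * Q x = QuadraticMap.polar (⇑Q) x x := by
  rw [QuadraticMap.polar_self, two_smul, two_mul]

theorem polar_isom (Q : QuadraticForm F V) (σ : V →ₗ[F] V) (hσ : ∀ v, Q (σ v) = Q v) (x y : V) :
    QuadraticMap.polar (⇑Q) (σ x) (σ y) = QuadraticMap.polar (⇑Q) x y := by
  unfold QuadraticMap.polar
  rw [← map_add, hσ, hσ, hσ]

theorem Q_add_of_polar_zero (Q : QuadraticForm F V) {x y : V}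
    (h : QuadraticMap.polar (⇑Q) x y = 0) : Q (x + y) = Q x + Q y := by
  rw [QuadraticMap.map_add Q x y, h, add_zero]

end

theorem freeData_of_field_action {F : Type*} [Field F] [Fintype F] {V : Type*} [AddCommGroup V]
    [Module F V] [FiniteDimensional F V] (h2 : (2 : F) ≠ 0) (Q : QuadraticForm F V)
    (σ σ' : V →ₗ[F] V) (hσ : ∀ v, Q (σ v) = Q v) (hσσ' : ∀ v, σ' (σ v) = v)
    (hσ'σ : ∀ v, σ (σ' v) = v) (L : Submodule F V) (hσL : ∀ x ∈ L, σ x ∈ L) (hL0 : L ≠ ⊥)
    (hLnd : ∀ x ∈ L, (∀ y ∈ L, QuadraticMap.polar (⇑Q) x y = 0) → x = 0)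
    {K : Type*} [Field K] [Fintype K] [Algebra F K] (φ : K →ₐ[F] Module.End F ↥L)
    (hφσ : ∀ a : K, Commute (φ a) (σ.restrict hσL))
    (τ : K ≃ₐ[F] K) (hτ2 : ∀ a, τ (τ a) = a) (hτ1 : ∃ a, τ a ≠ a)
    (hadj : ∀ (a : K) (x y : ↥L), QuadraticMap.polar (⇑Q) ((φ a x : ↥L) : V) (y : V) =
      QuadraticMap.polar (⇑Q) (x : V) ((φ (τ a) y : ↥L) : V))
    (hreg : ∀ w : ↥L, w ≠ 0 → Function.Bijective (fun a : K => φ a w))
    (htc : ∀ T : K →ₗ[F] F, (∃ n : K, τ n = n ∧ T n ≠ 0) →
      ∃ (Q₀ e : ℕ) (u : Kˣ), Fintype.card K = Q₀ ^ 2 ∧ 0 < e ∧ Q₀ = Fintype.card F ^ e ∧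
        (u : K) * τ (u : K) = 1 ∧ orderOf u = Q₀ + 1 ∧
        (∀ b : F, b ≠ 0 → Nat.card {a : K // a ≠ 0 ∧ T (a * τ a) = b} =
          (Q₀ + 1) * (Q₀ / Fintype.card F)) ∧
        Nat.card {a : K // a ≠ 0 ∧ T (a * τ a) = 0} = (Q₀ + 1) * (Q₀ / Fintype.card F - 1)) :
    FreeData Q σ := by
  classical
  set B : LinearMap.BilinForm F V := QuadraticMap.polarBilin Q with hB
  have hBap : ∀ x y, B x y = QuadraticMap.polar (⇑Q) x y := fun x y => rfl
  have hBrefl : B.IsRefl := by
    intro x y h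
    rw [hBap] at h ⊢
    rw [QuadraticMap.polar_comm, h]
  set W' : Submodule F V := B.orthogonal L with hW'
  have hW'mem : ∀ y, y ∈ W' ↔ ∀ x ∈ L, QuadraticMap.polar (⇑Q) x y = 0 := by
    intro y
    rw [hW', LinearMap.BilinForm.mem_orthogonal_iff]
    rfl
  -- complement
  have hc : IsCompl L W' := by
    rw [hW', LinearMap.BilinForm.isCompl_orthogonal_iff_disjoint hBrefl, Submodule.disjoint_def]
    intro x hx hx'
    refine hLnd x hx fun y hy => ?_
    rw [QuadraticMap.polar_comm]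
    exact (hW'mem x).1 hx' y hy
  have horth : ∀ x ∈ L, ∀ y ∈ W', QuadraticMap.polar (⇑Q) x y = 0 :=
    fun x hx y hy => (hW'mem y).1 hy x hx
  have hdec : ∀ v : V, ∃ x ∈ L, ∃ y ∈ W', x + y = v := by
    intro v
    have : v ∈ L ⊔ W' := by rw [hc.sup_eq_top]; trivial
    exact Submodule.mem_sup.1 this
  -- `σ' L ⊆ L`, `σ W' ⊆ W'`
  have hσinj : Function.Injective (σ.restrict hσL) := by
    intro x y hxy
    have := congrArg (fun z : ↥L => σ' (z : V)) hxy
    simp only [LinearMap.coe_restrict_apply, hσσ'] at this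
    exact Subtype.ext this
  have hσsurj : Function.Surjective (σ.restrict hσL) :=
    LinearMap.injective_iff_surjective.1 hσinj
  have hσ'L : ∀ x ∈ L, σ' x ∈ L := by
    intro x hx
    obtain ⟨z, hz⟩ := hσsurj ⟨x, hx⟩
    have : σ (z : V) = x := by
      have := congrArg (fun t : ↥L => (t : V)) hz
      simpa using this
    rw [← this, hσσ']
    exact z.2
  have hσW' : ∀ y ∈ W', σ y ∈ W' := by
    intro y hy
    rw [hW'mem]
    intro x hx
    rw [← hσ'σ x, polar_isom Q σ hσ]
    exact horth _ (hσ'L x hx) y hy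
  -- a vector `w ∈ L` with `Q w ≠ 0`
  obtain ⟨w, hw⟩ : ∃ w : ↥L, Q (w : V) ≠ 0 := by
    by_contra hcon
    push Not at hcon
    apply hL0
    rw [eq_bot_iff]
    intro x hx
    rw [Submodule.mem_bot]
    refine hLnd x hx fun y hy => ?_
    unfold QuadraticMap.polar
    rw [hcon ⟨x + y, L.add_mem hx hy⟩, hcon ⟨x, hx⟩, hcon ⟨y, hy⟩]
    simp
  have hw0 : w ≠ 0 := by
    rintro rfl
    apply hw
    simp
  -- the linear form `T`
  let ev : K →ₗ[F] ↥L :=
    { toFun := fun n => φ n w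
      map_add' := fun a b => by simp
      map_smul' := fun c a => by simp }
  have hev : ∀ n, ev n = φ n w := fun n => rfl
  let T : K →ₗ[F] F := (2 : F)⁻¹ • ((B.flip (w : V)).comp (L.subtype.comp ev))
  have hT : ∀ n, T n = (2 : F)⁻¹ * QuadraticMap.polar (⇑Q) ((φ n w : ↥L) : V) (w : V) := by
    intro n
    rfl
  have hφmul : ∀ (a b : K) (x : ↥L), φ a (φ b x) = φ (a * b) x := by
    intro a b x
    rw [map_mul]
    rfl
  have hQT : ∀ a : K, Q ((φ a w : ↥L) : V) = T (a * τ a) := by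
    intro a
    have h := two_mul_Q Q ((φ a w : ↥L) : V)
    rw [hadj a w (φ a w), hφmul, QuadraticMap.polar_comm, mul_comm (τ a) a] at h
    rw [hT, ← h, ← mul_assoc, inv_mul_cancel₀ h2, one_mul]
  have hT1 : ∃ n : K, τ n = n ∧ T n ≠ 0 := by
    refine ⟨1, map_one τ, ?_⟩
    rw [hT, map_one, Module.End.one_apply, ← two_mul_Q, ← mul_assoc, inv_mul_cancel₀ h2, one_mul]
    exact hw
  obtain ⟨Q₀, e, u, hK, he, hQ₀, huτ, hord, hcnt, hcnt0⟩ := htc T hT1
  -- parity
  have hqodd : Odd (Fintype.card F) := by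
    rw [Nat.odd_iff]
    apply FiniteField.odd_card_of_char_ne_two
    intro h
    apply h2
    have := ringChar.Nat.cast_ringChar (R := F)
    rw [h] at this
    exact_mod_cast this
  have hQ₀odd : Odd Q₀ := by rw [hQ₀]; exact hqodd.pow
  have hdiv : Q₀ / Fintype.card F = Fintype.card F ^ (e - 1) := by
    rw [hQ₀]
    conv_lhs => rw [← Nat.sub_add_cancel he, pow_succ]
    exact Nat.mul_div_cancel _ Fintype.card_pos
  have hNodd : Odd (Q₀ / Fintype.card F) := by rw [hdiv]; exact hqodd.pow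
  -- the isometry `g`
  set g : V →ₗ[F] V := LinearMap.ofIsCompl hc (L.subtype.comp (φ (u : K))) W'.subtype with hg
  have hgL : ∀ x : ↥L, g (x : V) = ((φ (u : K) x : ↥L) : V) := by
    intro x
    rw [hg, LinearMap.ofIsCompl_apply_left]
    rfl
  have hgW' : ∀ y ∈ W', g y = y := by
    intro y hy
    have := LinearMap.ofIsCompl_apply_right hc (φ := L.subtype.comp (φ (u : K)))
      (ψ := W'.subtype) ⟨y, hy⟩
    simpa using this
  have hgpow : ∀ (j : ℕ) (x : ↥L), (g ^ j) (x : V) = ((φ ((u : K) ^ j) x : ↥L) : V) := by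
    intro j
    induction j with
    | zero => intro x; simp
    | succ j ih =>
      intro x
      rw [pow_succ', Module.End.mul_apply, ih, hgL, hφmul, ← pow_succ']
  have hφinj : ∀ x : ↥L, x ≠ 0 → ∀ a b : K, φ a x = φ b x → a = b :=
    fun x hx a b hab => (hreg x hx).1 hab
  have hQu : ∀ x : ↥L, Q ((φ (u : K) x : ↥L) : V) = Q (x : V) := by
    intro x
    have h := two_mul_Q Q ((φ (u : K) x : ↥L) : V)
    rw [hadj (u : K) x (φ (u : K) x), hφmul, mul_comm (τ (u : K)) (u : K), huτ, map_one, Module.End.one_apply,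
      ← two_mul_Q] at h
    exact mul_left_cancel₀ h2 h
  refine ⟨g, L, W', Q₀ + 1, fun b => if b = 0 then Q₀ / Fintype.card F - 1 else
    Q₀ / Fintype.card F, ?_, ?_, hc, horth, ?_, hgW', ?_, Nat.succ_pos _, ?_, ?_, ?_, ?_, ?_⟩
  · -- isometry
    intro v
    obtain ⟨x, hx, y, hy, rfl⟩ := hdec v
    rw [map_add, hgW' y hy, hgL ⟨x, hx⟩, Q_add_of_polar_zero Q (horth _ (Submodule.coe_mem _) y hy),
      Q_add_of_polar_zero Q (horth x hx y hy), hQu]
  · -- commutes with `σ`
    intro v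
    obtain ⟨x, hx, y, hy, rfl⟩ := hdec v
    rw [map_add, map_add, map_add, map_add, hgW' y hy, hgW' _ (hσW' y hy)]
    congr 1
    have h1 := hgL ⟨σ x, hσL x hx⟩
    have h2' := hgL ⟨x, hx⟩
    simp only at h1 h2'
    rw [h1, h2']
    have h3 := congrArg (fun f : Module.End F ↥L => ((f ⟨x, hx⟩ : ↥L) : V)) (hφσ (u : K)).eq
    simp only [Module.End.mul_apply, LinearMap.coe_restrict_apply] at h3
    rw [← h3]
    rfl
  · intro x hx
    have := hgL ⟨x, hx⟩
    simp only at this
    rw [this]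
    exact Submodule.coe_mem _
  · exact Nat.even_add_one.2 (Nat.not_even_iff_odd.2 hQ₀odd)
  · intro x hx
    have := hgpow (Q₀ + 1) ⟨x, hx⟩
    simp only at this
    rw [this, ← hord, ← Units.val_pow_eq_pow_val, pow_orderOf_eq_one, Units.val_one, map_one,
      Module.End.one_apply]
  · intro x hx hx0 j hj hjk hfix
    have h1 := hgpow j ⟨x, hx⟩
    simp only at h1
    rw [h1] at hfix
    have hx0' : (⟨x, hx⟩ : ↥L) ≠ 0 := by
      intro h
      exact hx0 (congrArg Subtype.val h)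
    have h3 : (u : K) ^ j = 1 := by
      apply hφinj _ hx0'
      rw [map_one, Module.End.one_apply]
      exact Subtype.ext hfix
    have h4 : u ^ j = 1 := by
      apply Units.ext
      rw [Units.val_pow_eq_pow_val, h3, Units.val_one]
    have h5 := Nat.le_of_dvd hj (orderOf_dvd_of_pow_eq_one h4)
    omega
  · -- counting
    intro b
    have hbij : Nat.card {x : V // x ∈ L ∧ x ≠ 0 ∧ Q x = b} =
        Nat.card {a : K // a ≠ 0 ∧ T (a * τ a) = b} := by
      symm
      refine Nat.card_eq_of_bijective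
        (fun a => ⟨((φ a.1 w : ↥L) : V), Submodule.coe_mem _, ?_, ?_⟩) ⟨?_, ?_⟩
      · intro h
        apply a.2.1
        apply hφinj w hw0
        rw [map_zero, LinearMap.zero_apply]
        exact Subtype.ext h
      · rw [hQT]
        exact a.2.2
      · intro a a' h
        apply Subtype.ext
        apply hφinj w hw0
        apply Subtype.ext
        exact congrArg (fun z : {x : V // x ∈ L ∧ x ≠ 0 ∧ Q x = b} => (z : V)) h
      · rintro ⟨x, hx, hx0, hxb⟩
        obtain ⟨a, ha⟩ := (hreg w hw0).2 ⟨x, hx⟩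
        simp only at ha
        have hax : ((φ a w : ↥L) : V) = x := by rw [ha]
        refine ⟨⟨a, ?_, ?_⟩, ?_⟩
        · rintro rfl
          apply hx0
          rw [← hax, map_zero, LinearMap.zero_apply]
          rfl
        · rw [← hQT, hax, hxb]
        · exact Subtype.ext hax
    rw [hbij]
    beta_reduce
    by_cases hb : b = 0
    · rw [if_pos hb, hb, hcnt0]
    · rw [if_neg hb, hcnt b hb]
  · intro b hb
    beta_reduce
    rw [if_neg hb]
    exact hNodd
  · beta_reduce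
    rw [if_pos rfl]
    exact Nat.Odd.sub_odd hNodd odd_one

end Cfsg.Agent.Lib.Helper03.S2720K
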