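import Mathlib
import Cfsg.Prelude.Def_ClassicalGeometry
import Cfsg.Agent.Lib.Helper48.Sp2GDefs

/-!
# Pack K-Sp2G (S2411), leaf Ea (keystone 241106): long root elements.
-/

set_option autoImplicit false

namespace Cfsg.Agent.Lib.Helper03.Sp2G

open Matrix Cfsg.Agent.Lib.Helper48.RSp Cfsg.Agent.Lib.Helper48.Sp2G Cfsg.Agent.Lib.Helper18

theorem ea_one_ne_zero (m : ℕ) : (1 : Fin (m + 2)) ≠ 0 := by
  intro h
  have := congrArg Fin.val h
  simp at this

theorem ea_val_one (m : ℕ) : ((1 : Fin (m + 2)) : ℕ) = 1 := by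
  simp

theorem ea_NupT_mul_E00 (m : ℕ) (F : Type*) [Field F] :
    (Nup m F)ᵀ * (Matrix.single 0 0 1 : SM m F) = (Matrix.single 1 0 1 : SM m F) := by
  ext i j
  by_cases hj : j = 0
  · subst hj
    rw [Matrix.mul_single_apply_same, Matrix.transpose_apply, mul_one, Matrix.single_apply]
    unfold Nup
    by_cases hi : i = 1
    · subst hi
      simp
    · have h1 : ¬ ((0 : Fin (m + 2)).val + 1 = i.val) := by
        intro h
        apply hi
        apply Fin.ext
        rw [ea_val_one]
        simp only [Fin.val_zero] at h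
        omega
      have h2 : ¬ ((1 : Fin (m + 2)) = i ∧ (0 : Fin (m + 2)) = 0) := fun h => hi h.1.symm
      rw [if_neg h1, if_neg h2]
  · rw [Matrix.mul_single_apply_of_ne _ _ _ _ _ hj, Matrix.single_apply, if_neg]
    intro h
    exact hj h.2.symm

theorem ea_E11_mul_NupT (m : ℕ) (F : Type*) [Field F] :
    (Matrix.single 1 1 1 : SM m F) * (Nup m F)ᵀ = (Matrix.single 1 0 1 : SM m F) := by
  ext i j
  by_cases hi : i = 1
  · subst hi
    rw [Matrix.single_mul_apply_same, Matrix.transpose_apply, one_mul, Matrix.single_apply]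
    unfold Nup
    by_cases hj : j = 0
    · subst hj
      simp
    · have h1 : ¬ (j.val + 1 = (1 : Fin (m + 2)).val) := by
        intro h
        apply hj
        apply Fin.ext
        rw [ea_val_one] at h
        simp only [Fin.val_zero]
        omega
      have h2 : ¬ ((1 : Fin (m + 2)) = 1 ∧ (0 : Fin (m + 2)) = j) := fun h => hj h.2.symm
      rw [if_neg h1, if_neg h2]
  · rw [Matrix.single_mul_apply_of_ne _ _ _ _ _ hi, Matrix.single_apply, if_neg]
    intro h
    exact hi h.1.symm

theorem wC_mul_z0 (m : ℕ) (F : Type*) [Field F] : wC m F * z0 m F = zL m F * wC m F := by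
  have hL0 : Fin.last (m + 1) ≠ (0 : Fin (m + 2)) := by
    intro h
    have := congrArg Fin.val h
    simp at this
  have e1 : (Matrix.single 1 1 1 : SM m F) * (Matrix.single 0 (Fin.last (m + 1)) 1 : SM m F) = 0 :=
    Matrix.single_mul_single_of_ne _ _ _ _ (ea_one_ne_zero m) _
  have e2 : (Matrix.single 0 (Fin.last (m + 1)) 1 : SM m F) * (Matrix.single 0 0 1 : SM m F) = 0 :=
    Matrix.single_mul_single_of_ne _ _ _ _ hL0 _
  have e3 := ea_NupT_mul_E00 m F
  have e4 := ea_E11_mul_NupT m F
  unfold wC z0 zL xMat E00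
  rw [Matrix.fromBlocks_multiply, Matrix.fromBlocks_multiply]
  congr 1
  · rw [mul_one, mul_zero, add_zero, one_mul, e1, add_zero]
  · rw [mul_one, one_mul, e3, e4]
    exact add_comm _ _
  · rw [mul_one, mul_zero, add_zero, zero_mul, one_mul, zero_add]
  · rw [mul_one, e2, zero_add, zero_mul, one_mul, zero_add]

theorem hT_mul_xMat_E00 (m : ℕ) {F : Type*} [Field F] (k a : F) (hk : k ≠ 0) :
    hT m k * xMat m (a • E00 m F) = xMat m ((k ^ 2 * a) • E00 m F) * hT m k := by
  have key : Matrix.diagonal (kvec m k) * (a • (Matrix.single 0 0 1 : SM m F)) =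
      ((k ^ 2 * a) • (Matrix.single 0 0 1 : SM m F)) * Matrix.diagonal (kvec m k⁻¹) := by
    ext i j
    rw [Matrix.diagonal_mul, Matrix.mul_diagonal]
    simp only [Matrix.smul_apply, Matrix.single_apply, kvec, smul_eq_mul]
    by_cases hi : i = 0
    · by_cases hj : j = 0
      · subst hi; subst hj
        simp only [if_true, and_self]
        field_simp
      · have h2 : ¬ ((0 : Fin (m + 2)) = i ∧ (0 : Fin (m + 2)) = j) := fun h => hj h.2.symm
        rw [if_neg h2]
        simp
    · have h2 : ¬ ((0 : Fin (m + 2)) = i ∧ (0 : Fin (m + 2)) = j) := fun h => hi h.1.symm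
      rw [if_neg h2]
      simp
  unfold hT xMat E00
  rw [Matrix.fromBlocks_multiply, Matrix.fromBlocks_multiply]
  congr 1
  · simp
  · rw [zero_mul, add_zero, one_mul, zero_add, key]
  · simp
  · simp

end Cfsg.Agent.Lib.Helper03.Sp2G
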