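import Mathlib

/-!
# Pack K-Sp2G (S2411), leaf Eb (keystone 241107): an additive subgroup of a finite field containing `1`
and stable under `k²`, `k` a generator of the multiplicative group, is everything.
-/

set_option autoImplicit false

namespace Cfsg.Agent.Lib.Helper03.Sp2G

open Polynomial in
/-- every element of a finite field is a sum of two squares -/
theorem eb_sum_two_sq {F : Type*} [Field F] [Fintype F] (x : F) : ∃ a b : F, x = a ^ 2 + b ^ 2 := by
  classical
  rcases Nat.mod_two_eq_zero_or_one (Fintype.card F) with h0 | h1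
  · have hchar : ringChar F = 2 := FiniteField.even_card_iff_char_two.mpr h0
    obtain ⟨r, hr⟩ := FiniteField.isSquare_of_char_two hchar x
    exact ⟨r, 0, by rw [hr]; ring⟩
  · have hf : (X ^ 2 : F[X]).degree = 2 := by
      rw [degree_X_pow]
      rfl
    have hg : (X ^ 2 - C x : F[X]).degree = 2 := by
      rw [degree_X_pow_sub_C (by norm_num) x]
      rfl
    obtain ⟨a, b, hab⟩ := FiniteField.exists_root_sum_quadratic hf hg h1
    refine ⟨a, b, ?_⟩
    simp only [eval_pow, eval_X, eval_sub, eval_C] at hab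
    linear_combination -hab

theorem addSubgroup_eq_top_of_sq {F : Type*} [Field F] [Fintype F] (k : F)
    (hgen : ∀ x : F, x ≠ 0 → ∃ j : ℕ, x = k ^ (j + 1)) (S : AddSubgroup F) (h1 : (1 : F) ∈ S)
    (hk : ∀ a ∈ S, k ^ 2 * a ∈ S) : ∀ a : F, a ∈ S := by
  have hpow : ∀ j : ℕ, k ^ (2 * j) ∈ S := by
    intro j
    induction j with
    | zero => simpa using h1
    | succ j ih =>
      have := hk _ ih
      rwa [← pow_add, show 2 + 2 * j = 2 * (j + 1) by ring] at this
  have hsq : ∀ y : F, y ^ 2 ∈ S := by
    intro y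
    by_cases hy : y = 0
    · subst hy
      simpa using S.zero_mem
    · obtain ⟨j, rfl⟩ := hgen y hy
      rw [← pow_mul, mul_comm]
      exact hpow (j + 1)
  intro a
  obtain ⟨x, y, rfl⟩ := eb_sum_two_sq a
  exact S.add_mem (hsq x) (hsq y)

end Cfsg.Agent.Lib.Helper03.Sp2G
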