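import Mathlib
import Cfsg.Prelude.Def_ClassicalGeometry
import Cfsg.Agent.Lib.Helper48.Sp2GDefs

/-!
# Pack K-Sp2G (S2411), leaf M2b (keystone 241103): the mixed element in characteristic 2.
-/

set_option autoImplicit false

namespace Cfsg.Agent.Lib.Helper03.Sp2G

open Matrix Cfsg.Agent.Lib.Helper48.RSp Cfsg.Agent.Lib.Helper48.Sp2G Cfsg.Agent.Lib.Helper18

theorem m2b_val_one (m : ℕ) : ((1 : Fin (m + 2)) : ℕ) = 1 := by
  simp

theorem m2b_val_two (m : ℕ) (hm : 1 ≤ m) : ((2 : Fin (m + 2)) : ℕ) = 2 := by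
  obtain ⟨m', rfl⟩ : ∃ m', m = m' + 1 := ⟨m - 1, by omega⟩
  exact Fin.val_two

theorem m2b_ne01 (m : ℕ) : (0 : Fin (m + 2)) ≠ 1 := by
  intro h
  have := congrArg Fin.val h
  rw [m2b_val_one] at this
  simp at this

theorem m2b_ne02 (m : ℕ) (hm : 1 ≤ m) : (0 : Fin (m + 2)) ≠ 2 := by
  intro h
  have := congrArg Fin.val h
  rw [m2b_val_two m hm] at this
  simp at this

theorem m2b_ne12 (m : ℕ) (hm : 1 ≤ m) : (1 : Fin (m + 2)) ≠ 2 := by
  intro h
  have := congrArg Fin.val h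
  rw [m2b_val_two m hm, m2b_val_one] at this
  omega

/-- product of matrix units, matching indices -/
theorem m2b_same {m : ℕ} {F : Type*} [Field F] (i j k : Fin (m + 2)) :
    (Matrix.single i j 1 : SM m F) * (Matrix.single j k 1 : SM m F) = Matrix.single i k 1 := by
  rw [Matrix.single_mul_single_same, mul_one]

/-- product of matrix units, non-matching indices -/
theorem m2b_ne {m : ℕ} {F : Type*} [Field F] (i j k l : Fin (m + 2)) (h : j ≠ k) :
    (Matrix.single i j 1 : SM m F) * (Matrix.single k l 1 : SM m F) = 0 :=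
  Matrix.single_mul_single_of_ne _ _ _ _ h _

theorem m2b_char2 {m : ℕ} {F : Type*} [Field F] (h2 : (2 : F) = 0) (X : SM m F) : X + X = 0 := by
  rw [← two_smul F X, h2, zero_smul]

theorem m2b_M3_cube (m : ℕ) (hm : 1 ≤ m) (F : Type*) [Field F] (h2 : (2 : F) = 0) :
    M3 m F * M3 m F * M3 m F = 1 := by
  have n01 := m2b_ne01 m
  have n02 := m2b_ne02 m hm
  have n12 := m2b_ne12 m hm
  unfold M3
  set a : SM m F := Matrix.single 1 1 1 with ha
  set b : SM m F := Matrix.single 1 2 1 with hb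
  set c : SM m F := Matrix.single 2 1 1 with hc
  have haa : a * a = a := m2b_same 1 1 1
  have hab : a * b = b := m2b_same 1 1 2
  have hac : a * c = 0 := m2b_ne 1 1 2 1 n12
  have hba : b * a = 0 := m2b_ne 1 2 1 1 n12.symm
  have hbb : b * b = 0 := m2b_ne 1 2 1 2 n12.symm
  have hbc : b * c = a := m2b_same 1 2 1
  have hca : c * a = c := m2b_same 2 1 1
  have hcc : c * c = 0 := m2b_ne 2 1 2 1 n12
  set d : SM m F := c * b with hd
  have hda : d * a = 0 := by rw [hd, mul_assoc, hba, mul_zero]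
  have hdb : d * b = 0 := by rw [hd, mul_assoc, hbb, mul_zero]
  have hdc : d * c = c := by rw [hd, mul_assoc, hbc, hca]
  have hsq : (1 - a + b + c) * (1 - a + b + c) = 1 + b + c + d := by
    simp only [mul_add, add_mul, mul_sub, sub_mul, mul_one, one_mul, haa, hab, hac, hba, hbb, hbc,
      hca, hcc, ← hd]
    abel
  rw [hsq]
  have hcube : (1 + b + c + d) * (1 - a + b + c) = 1 + (b + b) + (c + c) + (d + d) := by
    simp only [mul_add, add_mul, mul_sub, sub_mul, mul_one, one_mul, haa, hab, hac, hba, hbb, hbc,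
      hca, hcc, hda, hdb, hdc, ← hd]
    abel
  rw [hcube, m2b_char2 h2, m2b_char2 h2, m2b_char2 h2]
  simp

theorem m2b_M3'_cube (m : ℕ) (hm : 1 ≤ m) (F : Type*) [Field F] (h2 : (2 : F) = 0) :
    M3' m F * M3' m F * M3' m F = 1 := by
  have n01 := m2b_ne01 m
  have n02 := m2b_ne02 m hm
  have n12 := m2b_ne12 m hm
  unfold M3'
  set d : SM m F := Matrix.single 2 2 1 with hd
  set b : SM m F := Matrix.single 1 2 1 with hb
  set c : SM m F := Matrix.single 2 1 1 with hc
  have hdd : d * d = d := m2b_same 2 2 2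
  have hdb : d * b = 0 := m2b_ne 2 2 1 2 n12.symm
  have hdc : d * c = c := m2b_same 2 2 1
  have hbd : b * d = b := m2b_same 1 2 2
  have hbb : b * b = 0 := m2b_ne 1 2 1 2 n12.symm
  have hcd : c * d = 0 := m2b_ne 2 1 2 2 n12
  have hcb : c * b = d := m2b_same 2 1 2
  have hcc : c * c = 0 := m2b_ne 2 1 2 1 n12
  set a : SM m F := b * c with ha
  have had : a * d = 0 := by rw [ha, mul_assoc, hcd, mul_zero]
  have hab : a * b = b := by rw [ha, mul_assoc, hcb, hbd]
  have hac : a * c = 0 := by rw [ha, mul_assoc, hcc, mul_zero]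
  have hsq : (1 - d + b + c) * (1 - d + b + c) = 1 + a + b + c := by
    simp only [mul_add, add_mul, mul_sub, sub_mul, mul_one, one_mul, hdd, hdb, hdc, hbd, hbb,
      hcd, hcb, hcc, ← ha]
    abel
  rw [hsq]
  have hcube : (1 + a + b + c) * (1 - d + b + c) = 1 + (a + a) + (b + b) + (c + c) := by
    simp only [mul_add, add_mul, mul_sub, sub_mul, mul_one, one_mul, hdd, hdb, hdc, hbd, hbb,
      hcd, hcb, hcc, had, hab, hac, ← ha]
    abel
  rw [hcube, m2b_char2 h2, m2b_char2 h2, m2b_char2 h2]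
  simp

theorem m2b_sO_cube (m : ℕ) (hm : 1 ≤ m) (F : Type*) [Field F] (h2 : (2 : F) = 0) :
    sO m F * sO m F * sO m F = 1 := by
  unfold sO
  rw [Matrix.fromBlocks_multiply, Matrix.fromBlocks_multiply]
  simp only [mul_zero, zero_mul, add_zero, zero_add]
  rw [m2b_M3_cube m hm F h2, m2b_M3'_cube m hm F h2]
  exact Matrix.fromBlocks_one

theorem m2b_z0_sq (m : ℕ) (F : Type*) [Field F] (h2 : (2 : F) = 0) : z0 m F * z0 m F = 1 := by
  unfold z0
  rw [xMat_mul, m2b_char2 h2, xMat_zero]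

theorem m2b_comm (m : ℕ) (hm : 1 ≤ m) (F : Type*) [Field F] :
    z0 m F * sO m F = sO m F * z0 m F := by
  have n01 := m2b_ne01 m
  have n02 := m2b_ne02 m hm
  have n12 := m2b_ne12 m hm
  have e1 : E00 m F * M3' m F = E00 m F := by
    unfold E00 M3'
    simp only [mul_add, mul_sub, mul_one]
    rw [m2b_ne 0 0 2 2 n02, m2b_ne 0 0 1 2 n01, m2b_ne 0 0 2 1 n02]
    simp
  have e2 : M3 m F * E00 m F = E00 m F := by
    unfold E00 M3
    simp only [add_mul, sub_mul, one_mul]
    rw [m2b_ne 1 1 0 0 n01.symm, m2b_ne 1 2 0 0 n02.symm, m2b_ne 2 1 0 0 n01.symm]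
    simp
  unfold z0 sO xMat
  rw [Matrix.fromBlocks_multiply, Matrix.fromBlocks_multiply]
  simp only [mul_zero, zero_mul, add_zero, zero_add, one_mul, mul_one]
  rw [e1, e2]

theorem z0_mul_sO_pow (m : ℕ) (hm : 1 ≤ m) (F : Type*) [Field F] (h2 : (2 : F) = 0) :
    (z0 m F * sO m F) ^ 3 = z0 m F ∧ (z0 m F * sO m F) ^ 4 = sO m F := by
  have hc : Commute (z0 m F) (sO m F) := m2b_comm m hm F
  have hz2 : z0 m F ^ 2 = 1 := by rw [pow_two]; exact m2b_z0_sq m F h2
  have hs3 : sO m F ^ 3 = 1 := by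
    rw [pow_succ, pow_two]; exact m2b_sO_cube m hm F h2
  constructor
  · rw [hc.mul_pow, hs3, mul_one, pow_succ, hz2, one_mul]
  · rw [hc.mul_pow, pow_succ (sO m F) 3, hs3, one_mul,
      show (4 : ℕ) = 2 * 2 by norm_num, pow_mul, hz2, one_pow, one_mul]

end Cfsg.Agent.Lib.Helper03.Sp2G
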