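import Mathlib
import Cfsg.Agent.Lib.Helper48.StODefs

/-!
# K-StO pack (S2547), leaf C5a: `B ⊔ B⁻ = ⊤` in `O_{2m+1}(F)`, `2 ≠ 0`

Route (clone of `Helper03.StSUC5a1`): flag elimination with orthogonal Siegel elements
`v ↦ v + β(v,f) c - (β(v,c) + Q(c) β(v,f)) f`.
-/

set_option autoImplicit false
set_option linter.unusedSectionVars false
set_option linter.unusedVariables false

namespace Cfsg.Agent.Lib.Helper03.StO

open Cfsg Matrix Cfsg.Agent.Lib.Helper48.StO

variable {m : ℕ} {F : Type*} [Field F]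

/-! ### the polar form -/

/-- the weight of a coordinate in the polar form -/
def kap (F : Type*) [Field F] {m : ℕ} (x : OI m) : F := if x = zI then 2 else 1

theorem kap_zI : kap F (zI : OI m) = 2 := if_pos rfl
theorem kap_eI (i : Fin m) : kap F (eI i : OI m) = 1 := if_neg (by simp)
theorem kap_fI (i : Fin m) : kap F (fI i : OI m) = 1 := if_neg (by simp)

theorem kap_dualE (x : OI m) : kap F (dualE m x) = kap F x := by
  rcases x with x | x | x
  · rfl
  · show kap F (fI x : OI m) = kap F (eI x : OI m)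
    rw [kap_eI, kap_fI]
  · show kap F (eI x : OI m) = kap F (fI x : OI m)
    rw [kap_eI, kap_fI]

theorem kap_ne_zero (h2 : (2 : F) ≠ 0) (x : OI m) : kap F x ≠ 0 := by
  unfold kap
  split_ifs
  · exact h2
  · exact one_ne_zero

/-- the polar form of `quadFormOdd` -/
def bet (u v : OI m → F) : F := ∑ x, kap F x * u x * v (dualE m x)

theorem bet_eq (u v : OI m → F) :
    bet u v = 2 * u zI * v zI + ∑ i, (u (eI i) * v (fI i) + u (fI i) * v (eI i)) := by
  unfold bet
  rw [Fintype.sum_sum_type, Fintype.sum_sum_type, Finset.sum_add_distrib]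
  have h1 : ∑ x : Unit, kap F (Sum.inl x : OI m) * u (Sum.inl x) * v (dualE m (Sum.inl x)) =
      2 * u zI * v zI := by
    rw [Fintype.sum_unique]
    show kap F (zI : OI m) * u zI * v zI = _
    rw [kap_zI]
  have h2 : ∑ i : Fin m, kap F (Sum.inr (Sum.inl i) : OI m) * u (Sum.inr (Sum.inl i)) *
      v (dualE m (Sum.inr (Sum.inl i))) = ∑ i, u (eI i) * v (fI i) := by
    apply Finset.sum_congr rfl
    intro i _
    show kap F (eI i : OI m) * u (eI i) * v (fI i) = _
    rw [kap_eI, one_mul]
  have h3 : ∑ i : Fin m, kap F (Sum.inr (Sum.inr i) : OI m) * u (Sum.inr (Sum.inr i)) *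
      v (dualE m (Sum.inr (Sum.inr i))) = ∑ i, u (fI i) * v (eI i) := by
    apply Finset.sum_congr rfl
    intro i _
    show kap F (fI i : OI m) * u (fI i) * v (eI i) = _
    rw [kap_fI, one_mul]
  rw [h1, h2, h3]

theorem bet_add_left (x y z : OI m → F) : bet (x + y) z = bet x z + bet y z := by
  unfold bet
  rw [← Finset.sum_add_distrib]
  exact Finset.sum_congr rfl (fun i _ => by rw [Pi.add_apply]; ring)

theorem bet_sub_left (x y z : OI m → F) : bet (x - y) z = bet x z - bet y z := by
  unfold bet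
  rw [← Finset.sum_sub_distrib]
  exact Finset.sum_congr rfl (fun i _ => by rw [Pi.sub_apply]; ring)

theorem bet_smul_left (t : F) (x z : OI m → F) : bet (t • x) z = t * bet x z := by
  unfold bet
  rw [Finset.mul_sum]
  exact Finset.sum_congr rfl (fun i _ => by rw [Pi.smul_apply, smul_eq_mul]; ring)

theorem bet_add_right (x y z : OI m → F) : bet x (y + z) = bet x y + bet x z := by
  unfold bet
  rw [← Finset.sum_add_distrib]
  exact Finset.sum_congr rfl (fun i _ => by rw [Pi.add_apply]; ring)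

theorem bet_sub_right (x y z : OI m → F) : bet x (y - z) = bet x y - bet x z := by
  unfold bet
  rw [← Finset.sum_sub_distrib]
  exact Finset.sum_congr rfl (fun i _ => by rw [Pi.sub_apply]; ring)

theorem bet_smul_right (t : F) (x y : OI m → F) : bet x (t • y) = t * bet x y := by
  unfold bet
  rw [Finset.mul_sum]
  exact Finset.sum_congr rfl (fun i _ => by rw [Pi.smul_apply, smul_eq_mul]; ring)

theorem bet_single_right (v : OI m → F) (b : OI m) :
    bet v (Pi.single b 1) = kap F b * v (dualE m b) := by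
  unfold bet
  rw [Finset.sum_eq_single (dualE m b)]
  · rw [dualE_dualE, Pi.single_eq_same, mul_one, kap_dualE]
  · intro i _ hi
    rw [Pi.single_eq_of_ne, mul_zero]
    intro h
    apply hi
    rw [← h, dualE_dualE]
  · intro h
    exact absurd (Finset.mem_univ _) h

theorem bet_single_left (v : OI m → F) (b : OI m) :
    bet (Pi.single b 1) v = kap F b * v (dualE m b) := by
  unfold bet
  rw [Finset.sum_eq_single b]
  · rw [Pi.single_eq_same, mul_one]
  · intro i _ hi
    rw [Pi.single_eq_of_ne hi, mul_zero, zero_mul]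
  · intro h
    exact absurd (Finset.mem_univ _) h

theorem quad_add (u v : OI m → F) :
    Cfsg.quadFormOdd m F (u + v) = Cfsg.quadFormOdd m F u + Cfsg.quadFormOdd m F v + bet u v := by
  rw [bet_eq]
  unfold Cfsg.quadFormOdd
  have h : ∑ i : Fin m, (u + v) (Sum.inr (Sum.inl i)) * (u + v) (Sum.inr (Sum.inr i)) =
      ∑ i : Fin m, u (Sum.inr (Sum.inl i)) * u (Sum.inr (Sum.inr i)) +
      ∑ i : Fin m, v (Sum.inr (Sum.inl i)) * v (Sum.inr (Sum.inr i)) +
      ∑ i : Fin m, (u (eI i) * v (fI i) + u (fI i) * v (eI i)) := by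
    rw [← Finset.sum_add_distrib, ← Finset.sum_add_distrib]
    exact Finset.sum_congr rfl (fun i _ => by simp only [Pi.add_apply]; ring)
  rw [h]
  simp only [Pi.add_apply]
  ring

theorem quad_smul (t : F) (u : OI m → F) :
    Cfsg.quadFormOdd m F (t • u) = t ^ 2 * Cfsg.quadFormOdd m F u := by
  unfold Cfsg.quadFormOdd
  rw [mul_add, Finset.mul_sum]
  congr 1
  · simp only [Pi.smul_apply, smul_eq_mul]; ring
  · exact Finset.sum_congr rfl (fun i _ => by simp only [Pi.smul_apply, smul_eq_mul]; ring)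

theorem bet_self (u : OI m → F) : bet u u = 2 * Cfsg.quadFormOdd m F u := by
  rw [bet_eq]
  unfold Cfsg.quadFormOdd
  rw [mul_add, Finset.mul_sum]
  congr 1
  · ring
  · exact Finset.sum_congr rfl (fun i _ => by ring)

theorem quad_single_ne (b : OI m) (hb : b ≠ zI) :
    Cfsg.quadFormOdd m F (Pi.single b 1) = 0 := by
  unfold Cfsg.quadFormOdd
  have h1 : (Pi.single b 1 : OI m → F) (Sum.inl ()) = 0 := Pi.single_eq_of_ne (Ne.symm hb) _
  rw [h1]
  have h2 : ∑ i : Fin m, (Pi.single b 1 : OI m → F) (Sum.inr (Sum.inl i)) *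
      (Pi.single b 1 : OI m → F) (Sum.inr (Sum.inr i)) = 0 := by
    apply Finset.sum_eq_zero
    intro i _
    by_cases h : b = Sum.inr (Sum.inl i)
    · have h3 : (Pi.single b 1 : OI m → F) (Sum.inr (Sum.inr i)) = 0 :=
        Pi.single_eq_of_ne (by rw [h]; simp) _
      rw [h3, mul_zero]
    · rw [Pi.single_eq_of_ne (Ne.symm h), zero_mul]
  rw [h2]
  ring

/-! ### the Siegel transformations -/

/-- `v ↦ β(v, c)` as a linear map -/
def betL (c : OI m → F) : (OI m → F) →ₗ[F] F where
  toFun v := bet v c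
  map_add' x y := bet_add_left x y c
  map_smul' t x := by
    simp only [RingHom.id_apply, smul_eq_mul]
    exact bet_smul_left t x c

/-- the Siegel transformation `v ↦ v + β(v,f) c - (β(v,c) + Q(c) β(v,f)) f` -/
def siegL (f c : OI m → F) : (OI m → F) →ₗ[F] (OI m → F) :=
  LinearMap.id + (betL f).smulRight c -
    ((betL c) + Cfsg.quadFormOdd m F c • (betL f)).smulRight f

theorem siegL_apply (f c v : OI m → F) :
    siegL f c v = v + bet v f • c - (bet v c + Cfsg.quadFormOdd m F c * bet v f) • f := rfl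

theorem quad_siegL (f c : OI m → F) (hf : Cfsg.quadFormOdd m F f = 0) (hcf : bet c f = 0)
    (v : OI m → F) : Cfsg.quadFormOdd m F (siegL f c v) = Cfsg.quadFormOdd m F v := by
  rw [siegL_apply]
  have e : v + bet v f • c - (bet v c + Cfsg.quadFormOdd m F c * bet v f) • f =
      (v + bet v f • c) + (-(bet v c + Cfsg.quadFormOdd m F c * bet v f)) • f := by
    rw [neg_smul, sub_eq_add_neg]
  rw [e]
  simp only [quad_add, quad_smul, hf, bet_add_left, bet_smul_right, bet_smul_left, hcf]
  ring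

theorem siegL_siegL_neg (f c : OI m → F) (hf : Cfsg.quadFormOdd m F f = 0) (hcf : bet c f = 0)
    (hfc : bet f c = 0) (v : OI m → F) : siegL f c (siegL f ((-1 : F) • c) v) = v := by
  have hff : bet f f = 0 := by rw [bet_self, hf, mul_zero]
  rw [siegL_apply, siegL_apply]
  simp only [bet_sub_left, bet_add_left, bet_smul_left, bet_smul_right, quad_smul, hcf, hfc, hff,
    bet_self]
  ext x
  simp only [Pi.add_apply, Pi.sub_apply, Pi.smul_apply, smul_eq_mul]
  ring

theorem exists_sieg (f c : OI m → F) (hf : Cfsg.quadFormOdd m F f = 0) (hcf : bet c f = 0)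
    (hfc : bet f c = 0) : ∃ h : OG m F, ∀ v, mat h *ᵥ v = siegL f c v := by
  have hmv : ∀ (c : OI m → F) (v : OI m → F),
      LinearMap.toMatrix' (siegL f c) *ᵥ v = siegL f c v := by
    intro c v
    rw [← Matrix.toLin'_apply, Matrix.toLin'_toMatrix']
  have hinv : ∀ c : OI m → F, bet c f = 0 → bet f c = 0 →
      LinearMap.toMatrix' (siegL f c) * LinearMap.toMatrix' (siegL f ((-1 : F) • c)) = 1 := by
    intro c h1 h2
    rw [Matrix.ext_iff_mulVec]
    intro v
    rw [← Matrix.mulVec_mulVec, hmv, hmv, Matrix.one_mulVec, siegL_siegL_neg f c hf h1 h2]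
  have hinv' : LinearMap.toMatrix' (siegL f ((-1 : F) • c)) * LinearMap.toMatrix' (siegL f c) = 1 := by
    have h := hinv ((-1 : F) • c) (by rw [bet_smul_left, hcf, mul_zero])
      (by rw [bet_smul_right, hfc, mul_zero])
    rwa [smul_smul, neg_one_mul, neg_neg, one_smul] at h
  obtain ⟨h, hh⟩ := exists_of_isometry (LinearMap.toMatrix' (siegL f c))
    (LinearMap.toMatrix' (siegL f ((-1 : F) • c))) (hinv c hcf hfc) hinv'
    (fun u => by rw [hmv, quad_siegL f c hf hcf])
  exact ⟨h, fun v => by rw [hh, hmv]⟩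

/-- the Siegel element attached to the index `a ≠ z` -/
theorem exists_siegA (a : OI m) (ha : a ≠ zI) (c : OI m → F) (hca : c a = 0) :
    ∃ h : OG m F, ∀ (v : OI m → F) (x : OI m), (mat h *ᵥ v) x = v x + v a * c x -
      (bet v c + Cfsg.quadFormOdd m F c * v a) * (if x = dualE m a then 1 else 0) := by
  have hda : dualE m a ≠ zI := by
    rcases a with a | a | a
    · exact absurd rfl ha
    · simp
    · simp
  have hk : kap F (dualE m a) = 1 := if_neg hda
  obtain ⟨h, hh⟩ := exists_sieg (Pi.single (dualE m a) 1) c (quad_single_ne _ hda)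
    (by rw [bet_single_right, dualE_dualE, hca, mul_zero])
    (by rw [bet_single_left, dualE_dualE, hca, mul_zero])
  refine ⟨h, fun v x => ?_⟩
  rw [hh, siegL_apply, bet_single_right, dualE_dualE, hk, one_mul]
  simp only [Pi.add_apply, Pi.sub_apply, Pi.smul_apply, smul_eq_mul, Pi.single_apply]

theorem siegA_entry_zero (a : OI m) (c : OI m → F) (h : OG m F)
    (hh : ∀ (v : OI m → F) (x : OI m), (mat h *ᵥ v) x = v x + v a * c x -
      (bet v c + Cfsg.quadFormOdd m F c * v a) * (if x = dualE m a then 1 else 0))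
    (x y : OI m) (hxy : x ≠ y) (h1 : ¬ (y = a ∧ c x ≠ 0))
    (h2 : ¬ (x = dualE m a ∧ c (dualE m y) ≠ 0)) (h3 : ¬ (x = dualE m a ∧ y = a)) :
    mat h x y = 0 := by
  have e : mat h x y = (mat h *ᵥ Pi.single y 1) x := by
    rw [Matrix.mulVec_single_one]; rfl
  rw [e, hh, bet_single_left, Pi.single_eq_of_ne hxy]
  by_cases hya : y = a
  · subst hya
    have hcx : c x = 0 := by
      by_contra hne
      exact h1 ⟨rfl, hne⟩
    have hx : x ≠ dualE m y := fun hx => h3 ⟨hx, rfl⟩
    rw [hcx, if_neg hx]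
    ring
  · rw [Pi.single_eq_of_ne (Ne.symm hya)]
    by_cases hx : x = dualE m a
    · have hcy : c (dualE m y) = 0 := by
        by_contra hne
        exact h2 ⟨hx, hne⟩
      rw [hcy]
      ring
    · rw [if_neg hx]
      ring

/-! ### positions -/

theorem pos_le (x : OI m) : pos m x ≤ 2 * m := by
  rcases x with x | x | x
  · show m ≤ 2 * m; omega
  · show x.val ≤ 2 * m; have := x.2; omega
  · show 2 * m - x.val ≤ 2 * m; omega

theorem pos_eI (i : Fin m) : pos m (eI i) = i.val := rfl
theorem pos_fI (i : Fin m) : pos m (fI i) = 2 * m - i.val := rfl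
theorem pos_zI : pos m (zI : OI m) = m := rfl
theorem pos_eI_mk (j : ℕ) (hj : j < m) : pos m (eI ⟨j, hj⟩) = j := rfl
theorem pos_fI_mk (j : ℕ) (hj : j < m) : pos m (fI ⟨j, hj⟩) = 2 * m - j := rfl

/-! ### the flag stabilisers -/

/-- the first `j` columns (in the order `pos`) are upper triangular -/
def FlagO (m : ℕ) (F : Type*) [Field F] (j : ℕ) : Set (OG m F) :=
  {g | ∀ a b : OI m, pos m a < j → pos m a < pos m b → mat g b a = 0}

theorem flagO_eq (j : ℕ) : FlagO m F j =
    ((triSub m F (fun x : OI m => min (pos m x) j) : Subgroup (OG m F)) : Set (OG m F)) := by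
  ext g
  constructor
  · intro h x y hxy
    replace hxy : min (pos m y) j < min (pos m x) j := hxy
    have hy : pos m y < j := by
      by_contra hy
      push Not at hy
      rw [min_eq_right hy] at hxy
      exact absurd hxy (not_lt.2 (min_le_right _ _))
    rw [min_eq_left hy.le] at hxy
    exact h y x hy (lt_of_lt_of_le hxy (min_le_left _ _))
  · intro h a b ha hab
    apply h
    show min (pos m a) j < min (pos m b) j
    rw [min_eq_left ha.le]
    exact lt_min hab ha

theorem flagO_mul (j : ℕ) (g h : OG m F) (hg : g ∈ FlagO m F j) (hh : h ∈ FlagO m F j) :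
    g * h ∈ FlagO m F j := by
  rw [flagO_eq] at hg hh ⊢
  exact mul_mem hg hh

theorem flagO_inv (j : ℕ) (g : OG m F) (hg : g ∈ FlagO m F j) : g⁻¹ ∈ FlagO m F j := by
  rw [flagO_eq] at hg ⊢
  exact inv_mem hg

theorem flagO_of_B (j : ℕ) (g : OG m F) (hg : g ∈ Bsub m F) : g ∈ FlagO m F j := by
  intro a b _ hab
  exact (mem_Bsub_iff g).1 hg b a hab

/-! ### the adjoint formula -/

theorem bet_mulVec (g : OG m F) (u v : OI m → F) :
    bet (mat g *ᵥ u) (mat g *ᵥ v) = bet u v := by
  have h1 := quad_add (mat g *ᵥ u) (mat g *ᵥ v)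
  have h2 := quad_add u v
  rw [← Matrix.mulVec_add, quad_mulVec, quad_mulVec, quad_mulVec] at h1
  linear_combination h2 - h1

theorem mat_adjoint (g : OG m F) (x y : OI m) :
    kap F x * mat g x y = kap F y * mat g⁻¹ (dualE m y) (dualE m x) := by
  have h := bet_mulVec g (Pi.single y 1) (mat g⁻¹ *ᵥ Pi.single (dualE m x) 1)
  rw [Matrix.mulVec_mulVec, mat_mul_mat_inv, Matrix.one_mulVec, bet_single_right, dualE_dualE,
    kap_dualE, bet_single_left, Matrix.mulVec_single_one, Matrix.mulVec_single_one] at h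
  exact h

theorem entry_zero_of_adjoint (h2 : (2 : F) ≠ 0) (g : OG m F) (x y : OI m)
    (h : mat g⁻¹ (dualE m y) (dualE m x) = 0) : mat g x y = 0 := by
  have e := mat_adjoint g x y
  rw [h, mul_zero] at e
  rcases mul_eq_zero.1 e with h' | h'
  · exact absurd h' (kap_ne_zero h2 x)
  · exact h'

theorem col_zero_of_flagO (h2 : (2 : F) ≠ 0) (j : ℕ) (g : OG m F) (hg : g ∈ FlagO m F j)
    (b y : OI m) (hb : pos m (dualE m b) < j) (hyb : pos m y < pos m b) : mat g b y = 0 := by
  apply entry_zero_of_adjoint h2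
  apply flagO_inv j g hg (dualE m b) (dualE m y) hb
  rw [pos_dualE, pos_dualE]
  have := pos_le b
  omega

theorem flagO_top_le_B (h2 : (2 : F) ≠ 0) (g : OG m F) (hg : g ∈ FlagO m F m) :
    g ∈ Bsub m F := by
  rw [mem_Bsub_iff]
  intro x y hxy
  by_cases hy : pos m y < m
  · exact hg y x hy hxy
  · push Not at hy
    apply col_zero_of_flagO h2 m g hg x y _ hxy
    rw [pos_dualE]
    have := pos_le x
    omega

theorem exists_ne_zero_of_flagO (j : ℕ) (g : OG m F) (hg : g ∈ FlagO m F j)
    (a : OI m) (ha : pos m a = j) : ∃ x : OI m, j ≤ pos m x ∧ mat g x a ≠ 0 := by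
  by_contra hcon
  push Not at hcon
  have h1 : (mat g⁻¹ * mat g) a a = 1 := by rw [mat_inv_mul_mat, Matrix.one_apply_eq]
  rw [Matrix.mul_apply] at h1
  have h2 : ∑ x, mat g⁻¹ a x * mat g x a = 0 := by
    apply Finset.sum_eq_zero
    intro x _
    by_cases hx : j ≤ pos m x
    · rw [hcon x hx, mul_zero]
    · push Not at hx
      rw [flagO_inv j g hg x a hx (by rw [ha]; exact hx), zero_mul]
  rw [h2] at h1
  exact zero_ne_one h1

/-! ### triangular Siegel elements -/

theorem exists_sieg_lower (j : ℕ) (hj : j < m) (c : OI m → F)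
    (hc : ∀ x, c x ≠ 0 → j < pos m x ∧ pos m x < 2 * m - j) :
    ∃ h : OG m F, h ∈ Bminus m F ∧ h ∈ FlagO m F j ∧
      ∀ (v : OI m → F) (x : OI m), (mat h *ᵥ v) x = v x + v (eI ⟨j, hj⟩) * c x -
        (bet v c + Cfsg.quadFormOdd m F c * v (eI ⟨j, hj⟩)) *
          (if x = fI ⟨j, hj⟩ then 1 else 0) := by
  have hca : c (eI ⟨j, hj⟩) = 0 := by
    by_contra hne
    have := (hc _ hne).1
    rw [pos_eI_mk] at this
    exact lt_irrefl _ this
  obtain ⟨h, hh⟩ := exists_siegA (eI ⟨j, hj⟩ : OI m) (by simp) c hca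
  have hd : dualE m (eI ⟨j, hj⟩ : OI m) = fI ⟨j, hj⟩ := rfl
  refine ⟨h, ?_, ?_, fun v x => by rw [hh, hd]⟩
  · rw [mem_Bminus_iff]
    intro x y hxy
    apply siegA_entry_zero _ c h hh x y (fun e => by rw [e] at hxy; exact lt_irrefl _ hxy)
    · rintro ⟨hy, hcx⟩
      have := (hc x hcx).1
      rw [hy, pos_eI_mk] at hxy
      omega
    · rintro ⟨hx, hcy⟩
      have h1 := (hc _ hcy)
      rw [pos_dualE] at h1
      rw [hx, hd, pos_fI_mk] at hxy
      have := pos_le y
      omega
    · rintro ⟨hx, hy⟩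
      rw [hx, hy, hd, pos_fI_mk, pos_eI_mk] at hxy
      omega
  · intro y x hy hyx
    apply siegA_entry_zero _ c h hh x y (fun e => by rw [e] at hyx; exact lt_irrefl _ hyx)
    · rintro ⟨hya, -⟩
      rw [hya, pos_eI_mk] at hy
      exact lt_irrefl _ hy
    · rintro ⟨-, hcy⟩
      have h1 := (hc _ hcy)
      rw [pos_dualE] at h1
      omega
    · rintro ⟨-, hya⟩
      rw [hya, pos_eI_mk] at hy
      exact lt_irrefl _ hy

theorem exists_sieg_upper (j : ℕ) (hj : j < m) (c : OI m → F)
    (hc : ∀ x, c x ≠ 0 → j < pos m x ∧ pos m x < 2 * m - j) :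
    ∃ h : OG m F, h ∈ Bsub m F ∧
      ∀ (v : OI m → F) (x : OI m), (mat h *ᵥ v) x = v x + v (fI ⟨j, hj⟩) * c x -
        (bet v c + Cfsg.quadFormOdd m F c * v (fI ⟨j, hj⟩)) *
          (if x = eI ⟨j, hj⟩ then 1 else 0) := by
  have hca : c (fI ⟨j, hj⟩) = 0 := by
    by_contra hne
    have := (hc _ hne).2
    rw [pos_fI_mk] at this
    exact lt_irrefl _ this
  obtain ⟨h, hh⟩ := exists_siegA (fI ⟨j, hj⟩ : OI m) (by simp) c hca
  have hd : dualE m (fI ⟨j, hj⟩ : OI m) = eI ⟨j, hj⟩ := rfl
  refine ⟨h, ?_, fun v x => by rw [hh, hd]⟩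
  rw [mem_Bsub_iff]
  intro x y hxy
  apply siegA_entry_zero _ c h hh x y (fun e => by rw [e] at hxy; exact lt_irrefl _ hxy)
  · rintro ⟨hy, hcx⟩
    have := (hc x hcx).2
    rw [hy, pos_fI_mk] at hxy
    omega
  · rintro ⟨hx, hcy⟩
    have h1 := (hc _ hcy)
    rw [pos_dualE] at h1
    rw [hx, hd, pos_eI_mk] at hxy
    have := pos_le y
    omega
  · rintro ⟨hx, hy⟩
    rw [hx, hy, hd, pos_fI_mk, pos_eI_mk] at hxy
    omega

/-! ### the two moves -/

theorem col_mul (h g : OG m F) (x a : OI m) :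
    mat (h * g) x a = (mat h *ᵥ (fun y => mat g y a)) x := rfl

theorem quad_col (g : OG m F) (a : OI m) (ha : a ≠ zI) :
    Cfsg.quadFormOdd m F (fun y => mat g y a) = 0 := by
  have h := quad_mulVec g (Pi.single a 1)
  rw [Matrix.mulVec_single_one, quad_single_ne a ha] at h
  exact h

theorem col_zero_above (h2 : (2 : F) ≠ 0) (j : ℕ) (hj : j < m) (g : OG m F)
    (hg : g ∈ FlagO m F j) (b : OI m) (hb : 2 * m - j < pos m b) :
    mat g b (eI ⟨j, hj⟩) = 0 := by
  apply col_zero_of_flagO h2 j g hg b _ _ _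
  · rw [pos_dualE]
    have := pos_le b
    omega
  · rw [pos_eI_mk]
    omega

theorem quad_single_zI : Cfsg.quadFormOdd m F (Pi.single (zI : OI m) 1) = 1 := by
  unfold Cfsg.quadFormOdd
  have h1 : (Pi.single (zI : OI m) 1 : OI m → F) (Sum.inl ()) = 1 := Pi.single_eq_same _ _
  have h2 : ∑ i : Fin m, (Pi.single (zI : OI m) 1 : OI m → F) (Sum.inr (Sum.inl i)) *
      (Pi.single (zI : OI m) 1 : OI m → F) (Sum.inr (Sum.inr i)) = 0 := by
    apply Finset.sum_eq_zero
    intro i _
    rw [Pi.single_eq_of_ne (by simp), zero_mul]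
  rw [h1, h2]
  ring

theorem exists_upper_pivot (h2 : (2 : F) ≠ 0) (j : ℕ) (hj : j < m) (g : OG m F)
    (hg : g ∈ FlagO m F j) :
    ∃ h ∈ Bsub m F, mat (h * g) (eI ⟨j, hj⟩) (eI ⟨j, hj⟩) ≠ 0 := by
  classical
  set a : OI m := eI ⟨j, hj⟩ with hadef
  set a' : OI m := fI ⟨j, hj⟩ with ha'def
  have haa' : a ≠ a' := by simp [hadef, ha'def]
  set w : OI m → F := fun y => mat g y a with hw
  by_cases h0 : w a ≠ 0
  · exact ⟨1, one_mem _, by rw [one_mul]; exact h0⟩
  push Not at h0
  have hP1 : ∀ b, 2 * m - j < pos m b → w b = 0 := fun b hb => col_zero_above h2 j hj g hg b hb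
  by_cases hr : w a' ≠ 0
  · have key : ∀ t : F, t ^ 2 = 1 → 2 * t * w zI + w a' ≠ 0 →
        ∃ h ∈ Bsub m F, mat (h * g) a a ≠ 0 := by
      intro t ht hne
      have hcs : ∀ x, (t • (Pi.single (zI : OI m) 1 : OI m → F)) x ≠ 0 →
          j < pos m x ∧ pos m x < 2 * m - j := by
        intro x hx
        have hxz : x = zI := by
          by_contra hne'
          apply hx
          rw [Pi.smul_apply, Pi.single_eq_of_ne hne', smul_zero]
        rw [hxz, pos_zI]
        omega
      obtain ⟨h, hB, hh⟩ := exists_sieg_upper j hj _ hcs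
      refine ⟨h, hB, ?_⟩
      rw [col_mul, hh, if_pos rfl, bet_smul_right, bet_single_right, quad_smul, quad_single_zI,
        kap_zI, ht]
      show w a + w a' * (t • (Pi.single (zI : OI m) 1 : OI m → F)) a -
        (t * (2 * w (dualE m zI)) + 1 * 1 * w a') * 1 ≠ 0
      rw [h0, Pi.smul_apply, Pi.single_eq_of_ne (by simp [hadef]), smul_zero, mul_zero]
      intro hcon
      apply hne
      have : dualE m (zI : OI m) = zI := rfl
      rw [this] at hcon
      linear_combination (-1 : F) * hcon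
    by_cases hA : 2 * (1 : F) * w zI + w a' ≠ 0
    · exact key 1 (one_pow 2) hA
    · push Not at hA
      apply key (-1) (by ring)
      intro hB
      apply hr
      have h3 : (2 : F) * w a' = 0 := by linear_combination hA + hB
      rcases mul_eq_zero.1 h3 with h' | h'
      · exact absurd h' h2
      · exact h'
  push Not at hr
  obtain ⟨x, hjx, hx⟩ := exists_ne_zero_of_flagO j g hg a (pos_eI_mk j hj)
  have hxa : x ≠ a := fun e => hx (by rw [e]; exact h0)
  have hxa' : x ≠ a' := fun e => hx (by rw [e]; exact hr)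
  have hx1 : j < pos m x := by
    rcases Nat.lt_or_ge j (pos m x) with h | h
    · exact h
    · exfalso
      apply hxa
      apply pos_injective m
      rw [hadef, pos_eI_mk]
      omega
  have hx2 : pos m x < 2 * m - j := by
    rcases Nat.lt_trichotomy (pos m x) (2 * m - j) with h | h | h
    · exact h
    · exfalso
      apply hxa'
      apply pos_injective m
      rw [ha'def, pos_fI_mk]
      exact h
    · exact absurd (hP1 x h) hx
  have hcs : ∀ y, (Pi.single (dualE m x) 1 : OI m → F) y ≠ 0 →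
      j < pos m y ∧ pos m y < 2 * m - j := by
    intro y hy
    have hyx : y = dualE m x := by
      by_contra hne'
      exact hy (Pi.single_eq_of_ne hne' _)
    rw [hyx, pos_dualE]
    have := pos_le x
    omega
  obtain ⟨h, hB, hh⟩ := exists_sieg_upper j hj _ hcs
  refine ⟨h, hB, ?_⟩
  rw [col_mul, hh, if_pos rfl, bet_single_right, dualE_dualE, kap_dualE]
  show w a + w a' * _ - (kap F x * w x + _ * w a') * 1 ≠ 0
  rw [h0, hr, zero_mul, mul_zero, add_zero, mul_one, add_zero, zero_sub]
  exact neg_ne_zero.2 (mul_ne_zero (kap_ne_zero h2 x) hx)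

theorem exists_lower_clear (h2 : (2 : F) ≠ 0) (j : ℕ) (hj : j < m) (g : OG m F)
    (hg : g ∈ FlagO m F j) (hgj : mat g (eI ⟨j, hj⟩) (eI ⟨j, hj⟩) ≠ 0) :
    ∃ h ∈ Bminus m F, h * g ∈ FlagO m F (j + 1) := by
  classical
  set a : OI m := eI ⟨j, hj⟩ with hadef
  set a' : OI m := fI ⟨j, hj⟩ with ha'def
  have haa' : a ≠ a' := by simp [hadef, ha'def]
  set w : OI m → F := fun y => mat g y a with hw
  have hwa : w a ≠ 0 := hgj
  set c : OI m → F := fun x => if j < pos m x ∧ pos m x < 2 * m - j then - w x / w a else 0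
    with hc
  have hcs : ∀ x, c x ≠ 0 → j < pos m x ∧ pos m x < 2 * m - j := by
    intro x hx
    by_contra hne
    exact hx (if_neg hne)
  obtain ⟨h, hB, hF, hh⟩ := exists_sieg_lower j hj c hcs
  refine ⟨h, hB, ?_⟩
  have hg' : h * g ∈ FlagO m F j := flagO_mul j h g hF hg
  set w' : OI m → F := fun y => mat (h * g) y a with hw'
  have hw'x : ∀ x, w' x = w x + w a * c x -
      (bet w c + Cfsg.quadFormOdd m F c * w a) * (if x = a' then 1 else 0) := by
    intro x
    show mat (h * g) x a = _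
    rw [col_mul, hh]
  -- (i) interior rows
  have hi : ∀ x, j < pos m x → pos m x < 2 * m - j → w' x = 0 := by
    intro x h1 h3
    have hxa' : x ≠ a' := fun e => by
      rw [e, ha'def, pos_fI_mk] at h3
      exact lt_irrefl _ h3
    have hcx : c x = - w x / w a := if_pos ⟨h1, h3⟩
    rw [hw'x, if_neg hxa', hcx]
    field_simp
    ring
  -- (ii) the pivot
  have hii : w' a = w a := by
    have hca : c a = 0 := if_neg (fun h' => by
      rw [hadef, pos_eI_mk] at h'
      exact lt_irrefl _ h'.1)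
    rw [hw'x, if_neg haa', hca]
    ring
  -- (iii) rows beyond `rev`
  have hiii : ∀ x, 2 * m - j < pos m x → w' x = 0 :=
    fun x hx => col_zero_above h2 j hj (h * g) hg' x hx
  -- (iv) the last row, by isotropy
  have hiv : w' a' = 0 := by
    have hQ : Cfsg.quadFormOdd m F w' = 0 := quad_col (h * g) a (by simp [hadef])
    have hQ' : Cfsg.quadFormOdd m F w' = w' a * w' a' := by
      unfold Cfsg.quadFormOdd
      have hz : w' (Sum.inl ()) = 0 := by
        apply hi (zI : OI m)
        · rw [pos_zI]; exact hj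
        · rw [pos_zI]; omega
      rw [hz]
      rw [Finset.sum_eq_single (⟨j, hj⟩ : Fin m)]
      · ring
      · intro i _ hne
        have hne' : i.val ≠ j := fun e => hne (Fin.ext e)
        rcases Nat.lt_or_ge i.val j with hlt | hge
        · have : w' (fI i) = 0 := by
            apply hiii
            rw [pos_fI]
            have := i.2
            omega
          show w' (eI i) * w' (fI i) = 0
          rw [this, mul_zero]
        · have : w' (eI i) = 0 := by
            apply hi
            · rw [pos_eI]; omega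
            · rw [pos_eI]
              have := i.2
              omega
          show w' (eI i) * w' (fI i) = 0
          rw [this, zero_mul]
      · intro h'; exact absurd (Finset.mem_univ _) h'
    rw [hQ', hii] at hQ
    rcases mul_eq_zero.1 hQ with h' | h'
    · exact absurd h' hwa
    · exact h'
  intro y x hy hyx
  rcases Nat.lt_succ_iff_lt_or_eq.1 hy with hlt | heq
  · exact hg' y x hlt hyx
  · have hya : y = a := by
      apply pos_injective m
      rw [hadef, pos_eI_mk]
      exact heq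
    rw [hya]
    show w' x = 0
    rw [heq] at hyx
    rcases Nat.lt_trichotomy (pos m x) (2 * m - j) with h' | h' | h'
    · exact hi x hyx h'
    · have hxa' : x = a' := by
        apply pos_injective m
        rw [ha'def, pos_fI_mk]
        exact h'
      rw [hxa']
      exact hiv
    · exact hiii x h'

/-! ### the leaf -/

theorem exists_flagO (h2 : (2 : F) ≠ 0) (j : ℕ) (hj : j ≤ m) (g : OG m F) :
    ∃ h ∈ Bsub m F ⊔ Bminus m F, h * g ∈ FlagO m F j := by
  induction j with
  | zero =>
    exact ⟨1, one_mem _, fun a b ha _ => absurd ha (Nat.not_lt_zero _)⟩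
  | succ j ih =>
    have hj' : j < m := hj
    obtain ⟨h0, h0H, h0g⟩ := ih hj'.le
    obtain ⟨h1, h1B, h1p⟩ := exists_upper_pivot h2 j hj' (h0 * g) h0g
    have hg1 : h1 * (h0 * g) ∈ FlagO m F j :=
      flagO_mul j h1 _ (flagO_of_B j h1 h1B) h0g
    obtain ⟨h3, h3B, h3g⟩ := exists_lower_clear h2 j hj' (h1 * (h0 * g)) hg1 h1p
    refine ⟨h3 * h1 * h0, ?_, ?_⟩
    · exact mul_mem (mul_mem (Subgroup.mem_sup_right h3B) (Subgroup.mem_sup_left h1B)) h0H
    · have e : h3 * h1 * h0 * g = h3 * (h1 * (h0 * g)) := by simp only [mul_assoc]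
      rw [e]
      exact h3g

theorem B_sup_Bminus [Fintype F] (h2 : (2 : F) ≠ 0) : Bsub m F ⊔ Bminus m F = ⊤ := by
  rw [eq_top_iff]
  intro g _
  obtain ⟨h, hH, hg⟩ := exists_flagO h2 m le_rfl g
  have hB : h * g ∈ Bsub m F ⊔ Bminus m F :=
    Subgroup.mem_sup_left (flagO_top_le_B h2 (h * g) hg)
  have e : g = h⁻¹ * (h * g) := by rw [inv_mul_cancel_left]
  rw [e]
  exact mul_mem (inv_mem hH) hB

end Cfsg.Agent.Lib.Helper03.StO
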