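import Mathlib
import Cfsg.Agent.Lib.Helper53.StOmDefs

/-!
# K-StOm pack (S2549), leaf C5a1: the elimination step `flagStab_step` in `O⁻_{2m+2}(F)`,
any characteristic

Route (clone of `Helper03.StOC5a` / `Helper03.StSUC5a1`): orthogonal Siegel elements
`v ↦ v + β(v,f) c - (β(v,c) + Q(c) β(v,f)) f`, lower or upper block unitriangular.
-/

set_option autoImplicit false
set_option linter.unusedSectionVars false
set_option linter.unusedVariables false

namespace Cfsg.Agent.Lib.Helper03.StOm

open Cfsg Matrix Cfsg.Agent.Lib.Helper53.StOm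

variable {m : ℕ} {F : Type*} [Field F] {a b : F}

/-! ### the polar form -/

/-- the polar form of `quadFormMinus` -/
def bet (a b : F) (u v : MI m → F) : F :=
  ∑ i : Fin m, (u (eI i) * v (fI i) + u (fI i) * v (eI i)) +
    (2 * u (zI 0) * v (zI 0) + a * (u (zI 0) * v (zI 1) + u (zI 1) * v (zI 0)) +
      2 * b * u (zI 1) * v (zI 1))

theorem bet_add_left (x y z : MI m → F) : bet a b (x + y) z = bet a b x z + bet a b y z := by
  unfold bet
  have h : ∑ i : Fin m, ((x + y) (eI i) * z (fI i) + (x + y) (fI i) * z (eI i)) =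
      ∑ i : Fin m, (x (eI i) * z (fI i) + x (fI i) * z (eI i)) +
      ∑ i : Fin m, (y (eI i) * z (fI i) + y (fI i) * z (eI i)) := by
    rw [← Finset.sum_add_distrib]
    exact Finset.sum_congr rfl (fun i _ => by simp only [Pi.add_apply]; ring)
  rw [h]
  simp only [Pi.add_apply]
  ring

theorem bet_smul_left (t : F) (x z : MI m → F) : bet a b (t • x) z = t * bet a b x z := by
  unfold bet
  have h : ∑ i : Fin m, ((t • x) (eI i) * z (fI i) + (t • x) (fI i) * z (eI i)) =
      t * ∑ i : Fin m, (x (eI i) * z (fI i) + x (fI i) * z (eI i)) := by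
    rw [Finset.mul_sum]
    exact Finset.sum_congr rfl (fun i _ => by simp only [Pi.smul_apply, smul_eq_mul]; ring)
  rw [h]
  simp only [Pi.smul_apply, smul_eq_mul]
  ring

theorem bet_sub_left (x y z : MI m → F) : bet a b (x - y) z = bet a b x z - bet a b y z := by
  have h : x - y = x + (-1 : F) • y := by rw [neg_one_smul, sub_eq_add_neg]
  rw [h, bet_add_left, bet_smul_left]
  ring

theorem bet_add_right (x y z : MI m → F) : bet a b x (y + z) = bet a b x y + bet a b x z := by
  unfold bet
  have h : ∑ i : Fin m, (x (eI i) * (y + z) (fI i) + x (fI i) * (y + z) (eI i)) =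
      ∑ i : Fin m, (x (eI i) * y (fI i) + x (fI i) * y (eI i)) +
      ∑ i : Fin m, (x (eI i) * z (fI i) + x (fI i) * z (eI i)) := by
    rw [← Finset.sum_add_distrib]
    exact Finset.sum_congr rfl (fun i _ => by simp only [Pi.add_apply]; ring)
  rw [h]
  simp only [Pi.add_apply]
  ring

theorem bet_smul_right (t : F) (x y : MI m → F) : bet a b x (t • y) = t * bet a b x y := by
  unfold bet
  have h : ∑ i : Fin m, (x (eI i) * (t • y) (fI i) + x (fI i) * (t • y) (eI i)) =
      t * ∑ i : Fin m, (x (eI i) * y (fI i) + x (fI i) * y (eI i)) := by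
    rw [Finset.mul_sum]
    exact Finset.sum_congr rfl (fun i _ => by simp only [Pi.smul_apply, smul_eq_mul]; ring)
  rw [h]
  simp only [Pi.smul_apply, smul_eq_mul]
  ring

theorem bet_sub_right (x y z : MI m → F) : bet a b x (y - z) = bet a b x y - bet a b x z := by
  have h : y - z = y + (-1 : F) • z := by rw [neg_one_smul, sub_eq_add_neg]
  rw [h, bet_add_right, bet_smul_right]
  ring

theorem bet_comm (x y : MI m → F) : bet a b x y = bet a b y x := by
  unfold bet
  have h : ∑ i : Fin m, (x (eI i) * y (fI i) + x (fI i) * y (eI i)) =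
      ∑ i : Fin m, (y (eI i) * x (fI i) + y (fI i) * x (eI i)) :=
    Finset.sum_congr rfl (fun i _ => by ring)
  rw [h]
  ring

theorem bet_single_right_e (v : MI m → F) (i : Fin m) :
    bet a b v (Pi.single (eI i) 1) = v (fI i) := by
  unfold bet
  have h : ∑ i' : Fin m, (v (eI i') * (Pi.single (eI i) 1 : MI m → F) (fI i') +
      v (fI i') * (Pi.single (eI i) 1 : MI m → F) (eI i')) = v (fI i) := by
    rw [Finset.sum_eq_single i]
    · have h1 : (Pi.single (eI i) 1 : MI m → F) (eI i) = 1 := Pi.single_eq_same _ _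
      have h2 : (Pi.single (eI i) 1 : MI m → F) (fI i) = 0 := Pi.single_eq_of_ne (by simp) _
      rw [h1, h2]
      ring
    · intro i' _ hne
      have h1 : (Pi.single (eI i) 1 : MI m → F) (eI i') = 0 :=
        Pi.single_eq_of_ne (by simpa using hne) _
      have h2 : (Pi.single (eI i) 1 : MI m → F) (fI i') = 0 := Pi.single_eq_of_ne (by simp) _
      rw [h1, h2]
      ring
    · intro h'; exact absurd (Finset.mem_univ _) h'
  have h3 : ∀ k : Fin 2, (Pi.single (eI i) 1 : MI m → F) (zI k) = 0 :=
    fun k => Pi.single_eq_of_ne (by simp) _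
  rw [h, h3 0, h3 1]
  ring

theorem bet_single_right_f (v : MI m → F) (i : Fin m) :
    bet a b v (Pi.single (fI i) 1) = v (eI i) := by
  unfold bet
  have h : ∑ i' : Fin m, (v (eI i') * (Pi.single (fI i) 1 : MI m → F) (fI i') +
      v (fI i') * (Pi.single (fI i) 1 : MI m → F) (eI i')) = v (eI i) := by
    rw [Finset.sum_eq_single i]
    · have h1 : (Pi.single (fI i) 1 : MI m → F) (fI i) = 1 := Pi.single_eq_same _ _
      have h2 : (Pi.single (fI i) 1 : MI m → F) (eI i) = 0 := Pi.single_eq_of_ne (by simp) _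
      rw [h1, h2]
      ring
    · intro i' _ hne
      have h1 : (Pi.single (fI i) 1 : MI m → F) (fI i') = 0 :=
        Pi.single_eq_of_ne (by simpa using hne) _
      have h2 : (Pi.single (fI i) 1 : MI m → F) (eI i') = 0 := Pi.single_eq_of_ne (by simp) _
      rw [h1, h2]
      ring
    · intro h'; exact absurd (Finset.mem_univ _) h'
  have h3 : ∀ k : Fin 2, (Pi.single (fI i) 1 : MI m → F) (zI k) = 0 :=
    fun k => Pi.single_eq_of_ne (by simp) _
  rw [h, h3 0, h3 1]
  ring

theorem bet_single_left_e (v : MI m → F) (i : Fin m) :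
    bet a b (Pi.single (eI i) 1) v = v (fI i) := by
  rw [bet_comm, bet_single_right_e]

theorem bet_single_left_f (v : MI m → F) (i : Fin m) :
    bet a b (Pi.single (fI i) 1) v = v (eI i) := by
  rw [bet_comm, bet_single_right_f]

theorem quad_add (u v : MI m → F) :
    Cfsg.quadFormMinus m F a b (u + v) =
      Cfsg.quadFormMinus m F a b u + Cfsg.quadFormMinus m F a b v + bet a b u v := by
  unfold bet Cfsg.quadFormMinus
  have h : ∑ i : Fin m, (u + v) (Sum.inl (Sum.inl i)) * (u + v) (Sum.inl (Sum.inr i)) =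
      ∑ i : Fin m, u (Sum.inl (Sum.inl i)) * u (Sum.inl (Sum.inr i)) +
      ∑ i : Fin m, v (Sum.inl (Sum.inl i)) * v (Sum.inl (Sum.inr i)) +
      ∑ i : Fin m, (u (eI i) * v (fI i) + u (fI i) * v (eI i)) := by
    rw [← Finset.sum_add_distrib, ← Finset.sum_add_distrib]
    exact Finset.sum_congr rfl (fun i _ => by simp only [Pi.add_apply]; ring)
  rw [h]
  simp only [Pi.add_apply]
  ring

theorem quad_smul (t : F) (u : MI m → F) :
    Cfsg.quadFormMinus m F a b (t • u) = t ^ 2 * Cfsg.quadFormMinus m F a b u := by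
  unfold Cfsg.quadFormMinus
  have h : ∑ i : Fin m, (t • u) (Sum.inl (Sum.inl i)) * (t • u) (Sum.inl (Sum.inr i)) =
      t ^ 2 * ∑ i : Fin m, u (Sum.inl (Sum.inl i)) * u (Sum.inl (Sum.inr i)) := by
    rw [Finset.mul_sum]
    exact Finset.sum_congr rfl (fun i _ => by simp only [Pi.smul_apply, smul_eq_mul]; ring)
  rw [h]
  simp only [Pi.smul_apply, smul_eq_mul]
  ring

theorem bet_self (u : MI m → F) : bet a b u u = 2 * Cfsg.quadFormMinus m F a b u := by
  unfold bet Cfsg.quadFormMinus
  have h : ∑ i : Fin m, (u (eI i) * u (fI i) + u (fI i) * u (eI i)) =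
      2 * ∑ i : Fin m, u (Sum.inl (Sum.inl i)) * u (Sum.inl (Sum.inr i)) := by
    rw [Finset.mul_sum]
    exact Finset.sum_congr rfl (fun i _ => by ring)
  rw [h]
  ring

theorem quad_single_ne (x : MI m) (hx : pos m x ≠ m) :
    Cfsg.quadFormMinus m F a b (Pi.single x 1) = 0 := by
  unfold Cfsg.quadFormMinus
  have h0 : ∀ k : Fin 2, (Pi.single x 1 : MI m → F) (Sum.inr k) = 0 := by
    intro k
    apply Pi.single_eq_of_ne
    intro h'
    apply hx
    rw [← h']
    rfl
  rw [h0 0, h0 1]
  have h2 : ∑ i : Fin m, (Pi.single x 1 : MI m → F) (Sum.inl (Sum.inl i)) *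
      (Pi.single x 1 : MI m → F) (Sum.inl (Sum.inr i)) = 0 := by
    apply Finset.sum_eq_zero
    intro i _
    by_cases h : x = Sum.inl (Sum.inl i)
    · have h3 : (Pi.single x 1 : MI m → F) (Sum.inl (Sum.inr i)) = 0 :=
        Pi.single_eq_of_ne (by rw [h]; simp) _
      rw [h3, mul_zero]
    · rw [Pi.single_eq_of_ne (Ne.symm h), zero_mul]
  rw [h2]
  ring

theorem pos_le (x : MI m) : pos m x ≤ 2 * m := by
  rcases x with (x | x) | x
  · show x.val ≤ 2 * m; have := x.2; omega
  · show 2 * m - x.val ≤ 2 * m; omega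
  · show m ≤ 2 * m; omega

theorem pos_dualE_ne (x : MI m) (hx : pos m x ≠ m) : pos m (dualE m x) ≠ m := by
  rw [pos_dualE]
  have := pos_le x
  omega

theorem bet_single_right_dual (v : MI m → F) (x : MI m) (hx : pos m x ≠ m) :
    bet a b v (Pi.single (dualE m x) 1) = v x := by
  rcases x with (x | x) | x
  · exact bet_single_right_f v x
  · exact bet_single_right_e v x
  · exact absurd rfl hx

theorem bet_single_left_dual (v : MI m → F) (x : MI m) (hx : pos m x ≠ m) :
    bet a b (Pi.single (dualE m x) 1) v = v x := by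
  rw [bet_comm, bet_single_right_dual v x hx]

/-! ### the Siegel transformations -/

/-- `v ↦ β(v, c)` as a linear map -/
def betL (a b : F) (c : MI m → F) : (MI m → F) →ₗ[F] F where
  toFun v := bet a b v c
  map_add' x y := bet_add_left x y c
  map_smul' t x := by
    simp only [RingHom.id_apply, smul_eq_mul]
    exact bet_smul_left t x c

/-- the Siegel transformation `v ↦ v + β(v,f) c - (β(v,c) + Q(c) β(v,f)) f` -/
def siegL (a b : F) (f c : MI m → F) : (MI m → F) →ₗ[F] (MI m → F) :=
  LinearMap.id + (betL a b f).smulRight c -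
    ((betL a b c) + Cfsg.quadFormMinus m F a b c • (betL a b f)).smulRight f

theorem siegL_apply (f c v : MI m → F) :
    siegL a b f c v = v + bet a b v f • c -
      (bet a b v c + Cfsg.quadFormMinus m F a b c * bet a b v f) • f := rfl

theorem quad_siegL (f c : MI m → F) (hf : Cfsg.quadFormMinus m F a b f = 0)
    (hcf : bet a b c f = 0) (v : MI m → F) :
    Cfsg.quadFormMinus m F a b (siegL a b f c v) = Cfsg.quadFormMinus m F a b v := by
  rw [siegL_apply]
  have e : v + bet a b v f • c - (bet a b v c + Cfsg.quadFormMinus m F a b c * bet a b v f) • f =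
      (v + bet a b v f • c) +
        (-(bet a b v c + Cfsg.quadFormMinus m F a b c * bet a b v f)) • f := by
    rw [neg_smul, sub_eq_add_neg]
  rw [e]
  simp only [quad_add, quad_smul, hf, bet_add_left, bet_smul_right, bet_smul_left, hcf]
  ring

theorem siegL_siegL_neg (f c : MI m → F) (hf : Cfsg.quadFormMinus m F a b f = 0)
    (hcf : bet a b c f = 0) (hfc : bet a b f c = 0) (v : MI m → F) :
    siegL a b f c (siegL a b f ((-1 : F) • c) v) = v := by
  have hff : bet a b f f = 0 := by rw [bet_self, hf, mul_zero]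
  rw [siegL_apply, siegL_apply]
  simp only [bet_sub_left, bet_add_left, bet_smul_left, bet_smul_right, quad_smul, hcf, hfc, hff,
    bet_self]
  ext x
  simp only [Pi.add_apply, Pi.sub_apply, Pi.smul_apply, smul_eq_mul]
  ring

theorem exists_sieg (f c : MI m → F) (hf : Cfsg.quadFormMinus m F a b f = 0)
    (hcf : bet a b c f = 0) (hfc : bet a b f c = 0) :
    ∃ h : OG m F a b, ∀ v, mat h *ᵥ v = siegL a b f c v := by
  have hmv : ∀ (c : MI m → F) (v : MI m → F),
      LinearMap.toMatrix' (siegL a b f c) *ᵥ v = siegL a b f c v := by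
    intro c v
    rw [← Matrix.toLin'_apply, Matrix.toLin'_toMatrix']
  have hinv : ∀ c : MI m → F, bet a b c f = 0 → bet a b f c = 0 →
      LinearMap.toMatrix' (siegL a b f c) *
        LinearMap.toMatrix' (siegL a b f ((-1 : F) • c)) = 1 := by
    intro c h1 h2
    rw [Matrix.ext_iff_mulVec]
    intro v
    rw [← Matrix.mulVec_mulVec, hmv, hmv, Matrix.one_mulVec, siegL_siegL_neg f c hf h1 h2]
  have hinv' : LinearMap.toMatrix' (siegL a b f ((-1 : F) • c)) *
      LinearMap.toMatrix' (siegL a b f c) = 1 := by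
    have h := hinv ((-1 : F) • c) (by rw [bet_smul_left, hcf, mul_zero])
      (by rw [bet_smul_right, hfc, mul_zero])
    rwa [smul_smul, neg_one_mul, neg_neg, one_smul] at h
  obtain ⟨h, hh⟩ := exists_of_isometry (LinearMap.toMatrix' (siegL a b f c))
    (LinearMap.toMatrix' (siegL a b f ((-1 : F) • c))) (hinv c hcf hfc) hinv'
    (fun u => by rw [hmv, quad_siegL f c hf hcf])
  exact ⟨h, fun v => by rw [hh, hmv]⟩

/-- the Siegel element attached to the index `x0` (an `e` or an `f`) -/
theorem exists_siegA (x0 : MI m) (hx0 : pos m x0 ≠ m) (c : MI m → F) (hc0 : c x0 = 0) :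
    ∃ h : OG m F a b, ∀ (v : MI m → F) (x : MI m), (mat h *ᵥ v) x = v x + v x0 * c x -
      (bet a b v c + Cfsg.quadFormMinus m F a b c * v x0) *
        (if x = dualE m x0 then 1 else 0) := by
  obtain ⟨h, hh⟩ := exists_sieg (a := a) (b := b) (Pi.single (dualE m x0) 1) c
    (quad_single_ne _ (pos_dualE_ne x0 hx0))
    (by rw [bet_single_right_dual c x0 hx0, hc0])
    (by rw [bet_single_left_dual c x0 hx0, hc0])
  refine ⟨h, fun v x => ?_⟩
  rw [hh, siegL_apply, bet_single_right_dual v x0 hx0]
  simp only [Pi.add_apply, Pi.sub_apply, Pi.smul_apply, smul_eq_mul, Pi.single_apply]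

theorem siegA_entry_zero (x0 : MI m) (c : MI m → F) (h : OG m F a b)
    (hh : ∀ (v : MI m → F) (x : MI m), (mat h *ᵥ v) x = v x + v x0 * c x -
      (bet a b v c + Cfsg.quadFormMinus m F a b c * v x0) *
        (if x = dualE m x0 then 1 else 0))
    (x y : MI m) (hxy : x ≠ y) (h1 : ¬ (y = x0 ∧ c x ≠ 0))
    (h2 : ¬ (x = dualE m x0 ∧ bet a b (Pi.single y 1) c ≠ 0))
    (h3 : ¬ (x = dualE m x0 ∧ y = x0)) :
    mat h x y = 0 := by
  have e : mat h x y = (mat h *ᵥ Pi.single y 1) x := by
    rw [Matrix.mulVec_single_one]; rfl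
  rw [e, hh, Pi.single_eq_of_ne hxy]
  by_cases hya : y = x0
  · subst hya
    have hcx : c x = 0 := by
      by_contra hne
      exact h1 ⟨rfl, hne⟩
    have hx : x ≠ dualE m y := fun hx => h3 ⟨hx, rfl⟩
    rw [hcx, if_neg hx]
    ring
  · rw [Pi.single_eq_of_ne (Ne.symm hya)]
    by_cases hx : x = dualE m x0
    · have hcy : bet a b (Pi.single y 1) c = 0 := by
        by_contra hne
        exact h2 ⟨hx, hne⟩
      rw [hcy]
      ring
    · rw [if_neg hx]
      ring

/-! ### the flag stabilisers -/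

theorem flagStab_eq (j : ℕ) (hj : j ≤ m) : FlagStab m F a b j =
    ((triSub m F a b (fun x : MI m => min (pos m x) j) : Subgroup (OG m F a b)) :
      Set (OG m F a b)) := by
  ext g
  constructor
  · intro h x y hxy
    replace hxy : min (pos m y) j < min (pos m x) j := hxy
    have hy : pos m y < j := by
      by_contra hy
      push Not at hy
      rw [min_eq_right hy] at hxy
      exact absurd hxy (not_lt.2 (min_le_right _ _))
    rw [min_eq_left hy.le] at hxy
    have hyx : pos m y < pos m x := lt_of_lt_of_le hxy (min_le_left _ _)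
    rcases y with (y | y) | y
    · exact h y hy x hyx
    · exfalso
      have : pos m (Sum.inl (Sum.inr y) : MI m) = 2 * m - y.val := rfl
      have := y.2
      omega
    · exfalso
      have : pos m (Sum.inr y : MI m) = m := rfl
      omega
  · intro h i hi x hx
    apply h
    show min (pos m (eI i : MI m)) j < min (pos m x) j
    have : pos m (eI i : MI m) = i.val := rfl
    rw [this, min_eq_left hi.le]
    exact lt_min hx hi

theorem flagStab_mul (j : ℕ) (hj : j ≤ m) (g h : OG m F a b) (hg : g ∈ FlagStab m F a b j)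
    (hh : h ∈ FlagStab m F a b j) : g * h ∈ FlagStab m F a b j := by
  rw [flagStab_eq j hj] at hg hh ⊢
  exact mul_mem hg hh

theorem flagStab_inv (j : ℕ) (hj : j ≤ m) (g : OG m F a b) (hg : g ∈ FlagStab m F a b j) :
    g⁻¹ ∈ FlagStab m F a b j := by
  rw [flagStab_eq j hj] at hg ⊢
  exact inv_mem hg

theorem flagStab_of_B (j : ℕ) (g : OG m F a b) (hg : g ∈ Bsub m F a b) :
    g ∈ FlagStab m F a b j := by
  intro i _ x hx
  exact (mem_Bsub_iff g).1 hg x (eI i) hx

/-! ### the adjoint formula -/

theorem bet_mulVec (g : OG m F a b) (u v : MI m → F) :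
    bet a b (mat g *ᵥ u) (mat g *ᵥ v) = bet a b u v := by
  have h1 := quad_add (a := a) (b := b) (mat g *ᵥ u) (mat g *ᵥ v)
  have h2 := quad_add (a := a) (b := b) u v
  rw [← Matrix.mulVec_add, quad_mulVec, quad_mulVec, quad_mulVec] at h1
  linear_combination h2 - h1

theorem mat_adjoint (g : OG m F a b) (i k : Fin m) :
    mat g (fI i) (eI k) = mat g⁻¹ (fI k) (eI i) := by
  have h := bet_mulVec g (Pi.single (eI k) 1) (mat g⁻¹ *ᵥ Pi.single (eI i) 1)
  rw [Matrix.mulVec_mulVec, mat_mul_mat_inv, Matrix.one_mulVec, bet_single_right_e,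
    bet_single_left_e, Matrix.mulVec_single_one, Matrix.mulVec_single_one] at h
  exact h

theorem col_zero_of_flagStab (j : ℕ) (hj : j ≤ m) (g : OG m F a b)
    (hg : g ∈ FlagStab m F a b j) (i k : Fin m) (hi : i.val < j) :
    mat g (fI i) (eI k) = 0 := by
  rw [mat_adjoint]
  apply flagStab_inv j hj g hg i hi
  have : pos m (fI k : MI m) = 2 * m - k.val := rfl
  have := k.2
  have := i.2
  omega

theorem exists_ne_zero_of_flagStab (j : ℕ) (hj : j < m) (g : OG m F a b)
    (hg : g ∈ FlagStab m F a b j) :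
    ∃ x : MI m, j ≤ pos m x ∧ mat g x (eI ⟨j, hj⟩) ≠ 0 := by
  by_contra hcon
  push Not at hcon
  have h1 : (mat g⁻¹ * mat g) (eI ⟨j, hj⟩) (eI ⟨j, hj⟩) = 1 := by
    rw [mat_inv_mul_mat, Matrix.one_apply_eq]
  rw [Matrix.mul_apply] at h1
  have h2 : ∑ x, mat g⁻¹ (eI ⟨j, hj⟩) x * mat g x (eI ⟨j, hj⟩) = 0 := by
    apply Finset.sum_eq_zero
    intro x _
    by_cases hx : j ≤ pos m x
    · rw [hcon x hx, mul_zero]
    · push Not at hx
      rcases x with (x | x) | x
      · have hx' : x.val < j := hx
        rw [flagStab_inv j hj.le g hg x hx' (eI ⟨j, hj⟩) hx', zero_mul]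
      · exfalso
        have : pos m (Sum.inl (Sum.inr x) : MI m) = 2 * m - x.val := rfl
        have := x.2
        omega
      · exfalso
        have : pos m (Sum.inr x : MI m) = m := rfl
        omega
  rw [h2] at h1
  exact zero_ne_one h1

/-! ### triangular Siegel elements -/

theorem bet_single_left_interior (j : ℕ) (hj : j < m) (c : MI m → F)
    (hc : ∀ x, c x ≠ 0 → j < pos m x ∧ pos m x < 2 * m - j) (y : MI m)
    (hy : bet a b (Pi.single y 1) c ≠ 0) : j < pos m y ∧ pos m y < 2 * m - j := by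
  rcases y with (y | y) | y
  · rw [bet_single_left_e] at hy
    have h1 := hc _ hy
    have e1 : pos m (fI y : MI m) = 2 * m - y.val := rfl
    have e2 : pos m (Sum.inl (Sum.inl y) : MI m) = y.val := rfl
    rw [e1] at h1
    rw [e2]
    have := y.2
    omega
  · rw [bet_single_left_f] at hy
    have h1 := hc _ hy
    have e1 : pos m (eI y : MI m) = y.val := rfl
    have e2 : pos m (Sum.inl (Sum.inr y) : MI m) = 2 * m - y.val := rfl
    rw [e1] at h1
    rw [e2]
    have := y.2
    omega
  · have e2 : pos m (Sum.inr y : MI m) = m := rfl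
    rw [e2]
    omega

theorem exists_sieg_lower (j : ℕ) (hj : j < m) (c : MI m → F)
    (hc : ∀ x, c x ≠ 0 → j < pos m x ∧ pos m x < 2 * m - j) :
    ∃ h : OG m F a b, h ∈ Bminus m F a b ∧ h ∈ FlagStab m F a b j ∧
      ∀ (v : MI m → F) (x : MI m), (mat h *ᵥ v) x = v x + v (eI ⟨j, hj⟩) * c x -
        (bet a b v c + Cfsg.quadFormMinus m F a b c * v (eI ⟨j, hj⟩)) *
          (if x = fI ⟨j, hj⟩ then 1 else 0) := by
  have pe : pos m (eI ⟨j, hj⟩ : MI m) = j := rfl
  have pf : pos m (fI ⟨j, hj⟩ : MI m) = 2 * m - j := rfl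
  have hca : c (eI ⟨j, hj⟩) = 0 := by
    by_contra hne
    have := (hc _ hne).1
    rw [pe] at this
    exact lt_irrefl _ this
  obtain ⟨h, hh⟩ := exists_siegA (a := a) (b := b) (eI ⟨j, hj⟩ : MI m)
    (by rw [pe]; exact hj.ne) c hca
  have hd : dualE m (eI ⟨j, hj⟩ : MI m) = fI ⟨j, hj⟩ := rfl
  refine ⟨h, ?_, ?_, fun v x => by rw [hh, hd]⟩
  · rw [mem_Bminus_iff]
    intro x y hxy
    apply siegA_entry_zero _ c h hh x y (fun e => by rw [e] at hxy; exact lt_irrefl _ hxy)
    · rintro ⟨hy, hcx⟩
      have := (hc x hcx).1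
      rw [hy, pe] at hxy
      omega
    · rintro ⟨hx, hcy⟩
      have h1 := bet_single_left_interior j hj c hc y hcy
      rw [hx, hd, pf] at hxy
      omega
    · rintro ⟨hx, hy⟩
      rw [hx, hy, hd, pf, pe] at hxy
      omega
  · intro i hi x hx
    have pi : pos m (eI i : MI m) = i.val := rfl
    apply siegA_entry_zero _ c h hh x (eI i) (fun e => by rw [e, pi] at hx; exact lt_irrefl _ hx)
    · rintro ⟨hya, -⟩
      have := congrArg (pos m) hya
      rw [pi, pe] at this
      omega
    · rintro ⟨-, hcy⟩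
      have h1 := bet_single_left_interior j hj c hc _ hcy
      rw [pi] at h1
      omega
    · rintro ⟨-, hya⟩
      have := congrArg (pos m) hya
      rw [pi, pe] at this
      omega

theorem exists_sieg_upper (j : ℕ) (hj : j < m) (c : MI m → F)
    (hc : ∀ x, c x ≠ 0 → j < pos m x ∧ pos m x < 2 * m - j) :
    ∃ h : OG m F a b, h ∈ Bsub m F a b ∧
      ∀ (v : MI m → F) (x : MI m), (mat h *ᵥ v) x = v x + v (fI ⟨j, hj⟩) * c x -
        (bet a b v c + Cfsg.quadFormMinus m F a b c * v (fI ⟨j, hj⟩)) *
          (if x = eI ⟨j, hj⟩ then 1 else 0) := by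
  have pe : pos m (eI ⟨j, hj⟩ : MI m) = j := rfl
  have pf : pos m (fI ⟨j, hj⟩ : MI m) = 2 * m - j := rfl
  have hca : c (fI ⟨j, hj⟩) = 0 := by
    by_contra hne
    have := (hc _ hne).2
    rw [pf] at this
    exact lt_irrefl _ this
  obtain ⟨h, hh⟩ := exists_siegA (a := a) (b := b) (fI ⟨j, hj⟩ : MI m)
    (by rw [pf]; omega) c hca
  have hd : dualE m (fI ⟨j, hj⟩ : MI m) = eI ⟨j, hj⟩ := rfl
  refine ⟨h, ?_, fun v x => by rw [hh, hd]⟩
  rw [mem_Bsub_iff]
  intro x y hxy
  apply siegA_entry_zero _ c h hh x y (fun e => by rw [e] at hxy; exact lt_irrefl _ hxy)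
  · rintro ⟨hy, hcx⟩
    have := (hc x hcx).2
    rw [hy, pf] at hxy
    omega
  · rintro ⟨hx, hcy⟩
    have h1 := bet_single_left_interior j hj c hc y hcy
    rw [hx, hd, pe] at hxy
    omega
  · rintro ⟨hx, hy⟩
    rw [hx, hy, hd, pf, pe] at hxy
    omega

/-! ### the two moves -/

theorem col_mul (h g : OG m F a b) (x y : MI m) :
    mat (h * g) x y = (mat h *ᵥ (fun z => mat g z y)) x := rfl

theorem quad_col (g : OG m F a b) (y : MI m) (hy : pos m y ≠ m) :
    Cfsg.quadFormMinus m F a b (fun z => mat g z y) = 0 := by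
  have h := quad_mulVec g (Pi.single y 1)
  rw [Matrix.mulVec_single_one, quad_single_ne y hy] at h
  exact h

theorem quad_plane (s t : F) :
    Cfsg.quadFormMinus m F a b
      (s • (Pi.single (zI 0) 1 : MI m → F) + t • (Pi.single (zI 1) 1 : MI m → F)) =
      s ^ 2 + a * s * t + b * t ^ 2 := by
  unfold Cfsg.quadFormMinus
  have h01 : (zI 0 : MI m) ≠ zI 1 := by simp
  have h1 : ∀ i : Fin m, (s • (Pi.single (zI 0) 1 : MI m → F) +
      t • (Pi.single (zI 1) 1 : MI m → F)) (Sum.inl (Sum.inl i)) = 0 := by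
    intro i
    simp [Pi.single_apply]
  have h2 : (s • (Pi.single (zI 0) 1 : MI m → F) +
      t • (Pi.single (zI 1) 1 : MI m → F)) (Sum.inr 0) = s := by
    simp [Pi.single_apply]
  have h3 : (s • (Pi.single (zI 0) 1 : MI m → F) +
      t • (Pi.single (zI 1) 1 : MI m → F)) (Sum.inr 1) = t := by
    simp [Pi.single_apply]
  rw [h2, h3]
  have h4 : ∑ i : Fin m, (s • (Pi.single (zI 0) 1 : MI m → F) +
      t • (Pi.single (zI 1) 1 : MI m → F)) (Sum.inl (Sum.inl i)) *
      (s • (Pi.single (zI 0) 1 : MI m → F) +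
      t • (Pi.single (zI 1) 1 : MI m → F)) (Sum.inl (Sum.inr i)) = 0 := by
    apply Finset.sum_eq_zero
    intro i _
    rw [h1 i, zero_mul]
  rw [h4]
  ring

/-- the plane pivot: some `(s,t)` with `s A + t B + φ(s,t) y ≠ 0` when `y ≠ 0` -/
theorem exists_plane_param
    (hab : ∀ z₁ z₂ : F, z₁ ^ 2 + a * z₁ * z₂ + b * z₂ ^ 2 = 0 → z₁ = 0 ∧ z₂ = 0)
    (A B y : F) (hy : y ≠ 0) :
    ∃ s t : F, s * A + t * B + (s ^ 2 + a * s * t + b * t ^ 2) * y ≠ 0 := by
  by_contra hcon
  push Not at hcon
  have e1 := hcon 1 0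
  have e2 := hcon (-1) 0
  have e3 := hcon 0 1
  have e4 := hcon 1 1
  have e5 := hcon b 0
  have h2 : (2 : F) = 0 := by
    have : (2 : F) * y = 0 := by linear_combination e1 + e2
    rcases mul_eq_zero.1 this with h | h
    · exact h
    · exact absurd h hy
  have ha : a = 0 := by
    have : a * y = 0 := by linear_combination e4 - e1 - e3
    rcases mul_eq_zero.1 this with h | h
    · exact h
    · exact absurd h hy
  have hb : b * (b - 1) = 0 := by
    have : b * (b - 1) * y = 0 := by linear_combination e5 - b * e1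
    rcases mul_eq_zero.1 this with h | h
    · exact h
    · exact absurd h hy
  rcases mul_eq_zero.1 hb with hb0 | hb1
  · have := (hab 0 1 (by rw [hb0]; ring)).2
    exact one_ne_zero this
  · have hb1' : b = 1 := by linear_combination hb1
    have := (hab 1 1 (by rw [ha, hb1']; linear_combination h2)).1
    exact one_ne_zero this

theorem exists_upper_pivot
    (hab : ∀ z₁ z₂ : F, z₁ ^ 2 + a * z₁ * z₂ + b * z₂ ^ 2 = 0 → z₁ = 0 ∧ z₂ = 0)
    (j : ℕ) (hj : j < m) (g : OG m F a b) (hg : g ∈ FlagStab m F a b j) :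
    ∃ h ∈ Bsub m F a b, mat (h * g) (eI ⟨j, hj⟩) (eI ⟨j, hj⟩) ≠ 0 := by
  classical
  have pe : pos m (eI ⟨j, hj⟩ : MI m) = j := rfl
  have pf : pos m (fI ⟨j, hj⟩ : MI m) = 2 * m - j := rfl
  set a0 : MI m := eI ⟨j, hj⟩ with ha0
  set a1 : MI m := fI ⟨j, hj⟩ with ha1
  set w : MI m → F := fun y => mat g y a0 with hw
  by_cases h0 : w a0 ≠ 0
  · exact ⟨1, one_mem _, by rw [one_mul]; exact h0⟩
  push Not at h0
  have hP1 : ∀ i : Fin m, i.val < j → w (fI i) = 0 :=
    fun i hi => col_zero_of_flagStab j hj.le g hg i ⟨j, hj⟩ hi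
  by_cases hr : w a1 ≠ 0
  · obtain ⟨s, t, hst⟩ := exists_plane_param hab
      (bet a b w (Pi.single (zI 0) 1)) (bet a b w (Pi.single (zI 1) 1)) (w a1) hr
    set c : MI m → F := s • (Pi.single (zI 0) 1 : MI m → F) + t • (Pi.single (zI 1) 1 : MI m → F)
      with hc
    have hcs : ∀ x, c x ≠ 0 → j < pos m x ∧ pos m x < 2 * m - j := by
      intro x hx
      rcases x with (x | x) | x
      · exfalso; apply hx; simp [hc, Pi.single_apply]
      · exfalso; apply hx; simp [hc, Pi.single_apply]
      · have : pos m (Sum.inr x : MI m) = m := rfl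
        rw [this]
        omega
    obtain ⟨h, hB, hh⟩ := exists_sieg_upper (a := a) (b := b) j hj c hcs
    refine ⟨h, hB, ?_⟩
    rw [col_mul, hh, if_pos rfl, hc, bet_add_right, bet_smul_right, bet_smul_right, quad_plane]
    show w a0 + w a1 * _ - _ ≠ 0
    have hca0 : (s • (Pi.single (zI 0) 1 : MI m → F) + t • (Pi.single (zI 1) 1 : MI m → F)) a0
        = 0 := by
      simp [ha0, Pi.single_apply]
    rw [h0, hca0]
    intro hcon
    apply hst
    linear_combination (-1 : F) * hcon
  push Not at hr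
  by_cases hex : ∃ x, j < pos m x ∧ pos m x < 2 * m - j ∧ pos m x ≠ m ∧ w x ≠ 0
  · obtain ⟨x, hx1, hx2, hxm, hxw⟩ := hex
    have hcs : ∀ y, (Pi.single (dualE m x) 1 : MI m → F) y ≠ 0 →
        j < pos m y ∧ pos m y < 2 * m - j := by
      intro y hy
      have hyx : y = dualE m x := by
        by_contra hne'
        exact hy (Pi.single_eq_of_ne hne' _)
      rw [hyx, pos_dualE]
      have := pos_le x
      omega
    obtain ⟨h, hB, hh⟩ := exists_sieg_upper (a := a) (b := b) j hj _ hcs
    refine ⟨h, hB, ?_⟩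
    rw [col_mul, hh, if_pos rfl, bet_single_right_dual _ x hxm]
    show w a0 + w a1 * _ - (w x + _ * w a1) * 1 ≠ 0
    rw [h0, hr, zero_mul, mul_zero, add_zero, mul_one, add_zero, zero_sub]
    exact neg_ne_zero.2 hxw
  · exfalso
    push Not at hex
    have hQ : Cfsg.quadFormMinus m F a b w = 0 := quad_col g a0 (by rw [ha0, pe]; exact hj.ne)
    have hQ' : Cfsg.quadFormMinus m F a b w =
        w (Sum.inr 0) ^ 2 + a * w (Sum.inr 0) * w (Sum.inr 1) + b * w (Sum.inr 1) ^ 2 := by
      unfold Cfsg.quadFormMinus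
      have hs : ∑ i : Fin m, w (Sum.inl (Sum.inl i)) * w (Sum.inl (Sum.inr i)) = 0 := by
        apply Finset.sum_eq_zero
        intro i _
        rcases Nat.lt_trichotomy i.val j with hlt | heq | hgt
        · have := hP1 i hlt
          show w (eI i) * w (fI i) = 0
          rw [this, mul_zero]
        · have hi : i = ⟨j, hj⟩ := Fin.ext heq
          show w (eI i) * w (fI i) = 0
          rw [hi]
          show w a0 * w a1 = 0
          rw [h0, zero_mul]
        · have : w (eI i) = 0 := by
            apply hex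
            · show j < i.val
              exact hgt
            · show i.val < 2 * m - j
              have := i.2
              omega
            · show i.val ≠ m
              have := i.2
              omega
          show w (eI i) * w (fI i) = 0
          rw [this, zero_mul]
      rw [hs, zero_add]
    rw [hQ'] at hQ
    obtain ⟨hz0, hz1⟩ := hab _ _ hQ
    obtain ⟨x, hjx, hx⟩ := exists_ne_zero_of_flagStab j hj g hg
    apply hx
    show w x = 0
    rcases x with (x | x) | x
    · have px : pos m (Sum.inl (Sum.inl x) : MI m) = x.val := rfl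
      rw [px] at hjx
      rcases Nat.eq_or_lt_of_le hjx with heq | hlt
      · have hi : x = ⟨j, hj⟩ := Fin.ext heq.symm
        rw [hi]
        exact h0
      · apply hex
        · rw [px]; exact hlt
        · rw [px]
          have := x.2
          omega
        · rw [px]
          have := x.2
          omega
    · have px : pos m (Sum.inl (Sum.inr x) : MI m) = 2 * m - x.val := rfl
      rcases Nat.lt_trichotomy x.val j with hlt | heq | hgt
      · exact hP1 x hlt
      · have hi : x = ⟨j, hj⟩ := Fin.ext heq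
        rw [hi]
        exact hr
      · apply hex
        · rw [px]
          have := x.2
          omega
        · rw [px]
          have := x.2
          omega
        · rw [px]
          have := x.2
          omega
    · fin_cases x
      · exact hz0
      · exact hz1

theorem exists_lower_clear (j : ℕ) (hj : j < m) (g : OG m F a b)
    (hg : g ∈ FlagStab m F a b j) (hgj : mat g (eI ⟨j, hj⟩) (eI ⟨j, hj⟩) ≠ 0) :
    ∃ h ∈ Bminus m F a b, h * g ∈ FlagStab m F a b (j + 1) := by
  classical
  have pe : pos m (eI ⟨j, hj⟩ : MI m) = j := rfl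
  have pf : pos m (fI ⟨j, hj⟩ : MI m) = 2 * m - j := rfl
  set a0 : MI m := eI ⟨j, hj⟩ with ha0
  set a1 : MI m := fI ⟨j, hj⟩ with ha1
  have haa' : a0 ≠ a1 := by simp [ha0, ha1]
  set w : MI m → F := fun y => mat g y a0 with hw
  have hwa : w a0 ≠ 0 := hgj
  set c : MI m → F := fun x => if j < pos m x ∧ pos m x < 2 * m - j then - w x / w a0 else 0
    with hc
  have hcs : ∀ x, c x ≠ 0 → j < pos m x ∧ pos m x < 2 * m - j := by
    intro x hx
    by_contra hne
    exact hx (if_neg hne)
  obtain ⟨h, hB, hF, hh⟩ := exists_sieg_lower (a := a) (b := b) j hj c hcs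
  refine ⟨h, hB, ?_⟩
  have hg' : h * g ∈ FlagStab m F a b j := flagStab_mul j hj.le h g hF hg
  set w' : MI m → F := fun y => mat (h * g) y a0 with hw'
  have hw'x : ∀ x, w' x = w x + w a0 * c x -
      (bet a b w c + Cfsg.quadFormMinus m F a b c * w a0) * (if x = a1 then 1 else 0) := by
    intro x
    show mat (h * g) x a0 = _
    rw [col_mul, hh]
  have hi : ∀ x, j < pos m x → pos m x < 2 * m - j → w' x = 0 := by
    intro x h1 h3
    have hxa' : x ≠ a1 := fun e => by
      rw [e, ha1, pf] at h3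
      exact lt_irrefl _ h3
    have hcx : c x = - w x / w a0 := if_pos ⟨h1, h3⟩
    rw [hw'x, if_neg hxa', hcx]
    field_simp
    ring
  have hii : w' a0 = w a0 := by
    have hca : c a0 = 0 := if_neg (fun h' => by
      rw [ha0, pe] at h'
      exact lt_irrefl _ h'.1)
    rw [hw'x, if_neg haa', hca]
    ring
  have hiii : ∀ i : Fin m, i.val < j → w' (fI i) = 0 :=
    fun i hi => col_zero_of_flagStab j hj.le (h * g) hg' i ⟨j, hj⟩ hi
  have hiv : w' a1 = 0 := by
    have hQ : Cfsg.quadFormMinus m F a b w' = 0 :=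
      quad_col (h * g) a0 (by rw [ha0, pe]; exact hj.ne)
    have hQ' : Cfsg.quadFormMinus m F a b w' = w' a0 * w' a1 := by
      unfold Cfsg.quadFormMinus
      have hz : ∀ k : Fin 2, w' (Sum.inr k) = 0 := by
        intro k
        apply hi
        · show j < m; exact hj
        · show m < 2 * m - j; omega
      rw [hz 0, hz 1]
      rw [Finset.sum_eq_single (⟨j, hj⟩ : Fin m)]
      · show w' a0 * w' a1 + _ = _
        ring
      · intro i _ hne
        have hne' : i.val ≠ j := fun e => hne (Fin.ext e)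
        rcases Nat.lt_or_ge i.val j with hlt | hge
        · have := hiii i hlt
          show w' (eI i) * w' (fI i) = 0
          rw [this, mul_zero]
        · have : w' (eI i) = 0 := by
            apply hi
            · show j < i.val; omega
            · show i.val < 2 * m - j
              have := i.2
              omega
          show w' (eI i) * w' (fI i) = 0
          rw [this, zero_mul]
      · intro h'; exact absurd (Finset.mem_univ _) h'
    rw [hQ', hii] at hQ
    rcases mul_eq_zero.1 hQ with h' | h'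
    · exact absurd h' hwa
    · exact h'
  intro i hi' x hx
  rcases Nat.lt_succ_iff_lt_or_eq.1 hi' with hlt | heq
  · exact hg' i hlt x hx
  · have hia : (eI i : MI m) = a0 := by
      rw [ha0]
      have hi2 : i = ⟨j, hj⟩ := Fin.ext heq
      rw [hi2]
    rw [hia]
    show w' x = 0
    rw [heq] at hx
    rcases Nat.lt_trichotomy (pos m x) (2 * m - j) with h' | h' | h'
    · exact hi x hx h'
    · have hxa' : x = a1 := by
        rcases pos_eq_imp m x a1 (by rw [ha1, pf]; exact h') with h'' | h''
        · exact h''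
        · exfalso
          have := h''.2
          rw [ha1, pf] at this
          omega
      rw [hxa']
      exact hiv
    · rcases x with (x | x) | x
      · exfalso
        have : pos m (Sum.inl (Sum.inl x) : MI m) = x.val := rfl
        have := x.2
        omega
      · have px : pos m (Sum.inl (Sum.inr x) : MI m) = 2 * m - x.val := rfl
        apply hiii x
        have := x.2
        omega
      · exfalso
        have : pos m (Sum.inr x : MI m) = m := rfl
        omega

/-! ### the leaf -/

theorem flagStab_step (hab : ∀ z₁ z₂ : F, z₁ ^ 2 + a * z₁ * z₂ + b * z₂ ^ 2 = 0 → z₁ = 0 ∧ z₂ = 0)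
    (j : ℕ) (hj : j < m) (g : OG m F a b) (hg : g ∈ FlagStab m F a b j) :
    ∃ h ∈ Bsub m F a b ⊔ Bminus m F a b, h * g ∈ FlagStab m F a b (j + 1) := by
  obtain ⟨h1, h1B, h1p⟩ := exists_upper_pivot hab j hj g hg
  have hg1 : h1 * g ∈ FlagStab m F a b j :=
    flagStab_mul j hj.le h1 _ (flagStab_of_B j h1 h1B) hg
  obtain ⟨h3, h3B, h3g⟩ := exists_lower_clear j hj (h1 * g) hg1 h1p
  refine ⟨h3 * h1, mul_mem (Subgroup.mem_sup_right h3B) (Subgroup.mem_sup_left h1B), ?_⟩
  rw [mul_assoc]
  exact h3g

end Cfsg.Agent.Lib.Helper03.StOm
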