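import Mathlib
import Cfsg.Agent.Lib.Helper49.StSUDefs

/-!
# K-StSU pack (S2546), leaf C5a1: the elimination step `flagStab_step`

Route: `FlagStab j` is a subgroup (block triangular for `min x j`); the column `j` of
`g ∈ FlagStab j` vanishes below row `rev j` (adjoint formula); one family of matrices (Siegel
elements, lower or upper unitriangular) clears the column.
-/

set_option autoImplicit false
set_option linter.unusedSectionVars false
set_option linter.unusedVariables false

namespace Cfsg.Agent.Lib.Helper03.StSU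

open Cfsg Matrix Cfsg.Agent.Lib.Helper49.StSU

variable {n : ℕ} {F : Type*} [Field F] {q : ℕ}

/-! ### Frobenius facts -/

theorem q_ne_zero (ok : Ok n F q) : q ≠ 0 := by
  intro h
  have h1 := ok.frob_add 0 0
  rw [h] at h1
  simp at h1

theorem zero_powq (ok : Ok n F q) : (0 : F) ^ q = 0 := zero_pow (q_ne_zero ok)

/-- Frobenius as a ring hom -/
def frobHom (ok : Ok n F q) : F →+* F where
  toFun x := x ^ q
  map_one' := one_pow q
  map_mul' x y := mul_pow x y q
  map_zero' := zero_powq ok
  map_add' := ok.frob_add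

theorem frobHom_apply (ok : Ok n F q) (x : F) : frobHom ok x = x ^ q := rfl

theorem neg_powq (ok : Ok n F q) (x : F) : (-x) ^ q = -(x ^ q) := by
  rw [← frobHom_apply ok, map_neg, frobHom_apply]

theorem sub_powq (ok : Ok n F q) (x y : F) : (x - y) ^ q = x ^ q - y ^ q := by
  rw [← frobHom_apply ok, map_sub, frobHom_apply, frobHom_apply]

theorem sum_powq (ok : Ok n F q) {ι : Type*} (s : Finset ι) (f : ι → F) :
    (∑ i ∈ s, f i) ^ q = ∑ i ∈ s, (f i) ^ q := by
  rw [← frobHom_apply ok, map_sum]
  rfl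

/-! ### sesquilinearity of `hJ` -/

theorem hJ_add_left (x y z : Fin n → F) :
    hJ n F q (x + y) z = hJ n F q x z + hJ n F q y z := by
  unfold hJ
  rw [← Finset.sum_add_distrib]
  exact Finset.sum_congr rfl (fun i _ => by rw [Pi.add_apply, add_mul])

theorem hJ_sub_left (x y z : Fin n → F) :
    hJ n F q (x - y) z = hJ n F q x z - hJ n F q y z := by
  unfold hJ
  rw [← Finset.sum_sub_distrib]
  exact Finset.sum_congr rfl (fun i _ => by rw [Pi.sub_apply, sub_mul])

theorem hJ_smul_left (t : F) (x z : Fin n → F) :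
    hJ n F q (t • x) z = t * hJ n F q x z := by
  unfold hJ
  rw [Finset.mul_sum]
  exact Finset.sum_congr rfl (fun i _ => by rw [Pi.smul_apply, smul_eq_mul, mul_assoc])

theorem hJ_add_right (ok : Ok n F q) (x y z : Fin n → F) :
    hJ n F q x (y + z) = hJ n F q x y + hJ n F q x z := by
  unfold hJ
  rw [← Finset.sum_add_distrib]
  exact Finset.sum_congr rfl (fun i _ => by rw [Pi.add_apply, ok.frob_add, mul_add])

theorem hJ_sub_right (ok : Ok n F q) (x y z : Fin n → F) :
    hJ n F q x (y - z) = hJ n F q x y - hJ n F q x z := by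
  unfold hJ
  rw [← Finset.sum_sub_distrib]
  exact Finset.sum_congr rfl (fun i _ => by rw [Pi.sub_apply, sub_powq ok, mul_sub])

theorem hJ_smul_right (t : F) (x y : Fin n → F) :
    hJ n F q x (t • y) = t ^ q * hJ n F q x y := by
  unfold hJ
  rw [Finset.mul_sum]
  exact Finset.sum_congr rfl (fun i _ => by rw [Pi.smul_apply, smul_eq_mul, mul_pow]; ring)

theorem hJ_zero_right (ok : Ok n F q) (x : Fin n → F) : hJ n F q x 0 = 0 := by
  unfold hJ
  exact Finset.sum_eq_zero (fun i _ => by rw [Pi.zero_apply, zero_powq ok, mul_zero])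

theorem hJ_single_right (ok : Ok n F q) (v : Fin n → F) (b : Fin n) :
    hJ n F q v (Pi.single b 1) = v (Fin.rev b) := by
  unfold hJ
  rw [Finset.sum_eq_single (Fin.rev b)]
  · rw [Fin.rev_rev, Pi.single_eq_same, one_pow, mul_one]
  · intro i _ hi
    rw [Pi.single_eq_of_ne, zero_powq ok, mul_zero]
    intro h
    apply hi
    rw [← h, Fin.rev_rev]
  · intro h
    exact absurd (Finset.mem_univ _) h

theorem hJ_single_left (v : Fin n → F) (b : Fin n) :
    hJ n F q (Pi.single b 1) v = (v (Fin.rev b)) ^ q := by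
  unfold hJ
  rw [Finset.sum_eq_single b]
  · rw [Pi.single_eq_same, one_mul]
  · intro i _ hi
    rw [Pi.single_eq_of_ne hi, zero_mul]
  · intro h
    exact absurd (Finset.mem_univ _) h

theorem hJ_herm (ok : Ok n F q) (x y : Fin n → F) : (hJ n F q x y) ^ q = hJ n F q y x := by
  unfold hJ
  rw [sum_powq ok, ← Equiv.sum_comp Fin.revPerm]
  apply Finset.sum_congr rfl
  intro i _
  rw [Fin.revPerm_apply, Fin.rev_rev, mul_pow, ok.frob_frob, mul_comm]

/-! ### the abstract Siegel transformation -/

theorem hJ_siegel_abs (ok : Ok n F q) (f c : Fin n → F) (u : F)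
    (hff : hJ n F q f f = 0) (hcf : hJ n F q c f = 0) (hfc : hJ n F q f c = 0)
    (hu : u + u ^ q + hJ n F q c c = 0) (v w : Fin n → F) :
    hJ n F q (v + hJ n F q v f • (c + u • f) - hJ n F q v c • f)
      (w + hJ n F q w f • (c + u • f) - hJ n F q w c • f) = hJ n F q v w := by
  have e1 : hJ n F q c w = (hJ n F q w c) ^ q := (hJ_herm ok w c).symm
  have e2 : hJ n F q f w = (hJ n F q w f) ^ q := (hJ_herm ok w f).symm
  simp only [hJ_sub_left, hJ_add_left, hJ_smul_left, hJ_sub_right ok, hJ_add_right ok,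
    hJ_smul_right, hff, hcf, hfc, e1, e2]
  linear_combination (hJ n F q v f) * (hJ n F q w f) ^ q * hu

/-! ### the Siegel matrices -/

/-- `M v = v + v_a (c + u e_{rev a}) - hJ(v,c) e_{rev a}` -/
def siegMat (q : ℕ) (a : Fin n) (c : Fin n → F) (u : F) : Matrix (Fin n) (Fin n) F :=
  fun x y => (1 : Matrix (Fin n) (Fin n) F) x y +
    (if y = a then c x + (if x = Fin.rev a then u else 0) else 0) -
    (if x = Fin.rev a then (c (Fin.rev y)) ^ q else 0)

theorem siegMat_apply (a : Fin n) (c : Fin n → F) (u : F) (x y : Fin n) :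
    siegMat q a c u x y = (1 : Matrix (Fin n) (Fin n) F) x y +
    (if y = a then c x + (if x = Fin.rev a then u else 0) else 0) -
    (if x = Fin.rev a then (c (Fin.rev y)) ^ q else 0) := rfl

theorem siegMat_mulVec_apply (a : Fin n) (c : Fin n → F) (u : F) (v : Fin n → F) (x : Fin n) :
    (siegMat q a c u *ᵥ v) x = v x + v a * (c x + (if x = Fin.rev a then u else 0)) -
      (if x = Fin.rev a then hJ n F q v c else 0) := by
  have h1 : (siegMat q a c u *ᵥ v) x = ∑ y, ((1 : Matrix (Fin n) (Fin n) F) x y * v y +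
      (if y = a then (c x + (if x = Fin.rev a then u else 0)) * v y else 0) -
      (if x = Fin.rev a then v y * (c (Fin.rev y)) ^ q else 0)) := by
    unfold Matrix.mulVec dotProduct
    apply Finset.sum_congr rfl
    intro y _
    beta_reduce
    rw [siegMat_apply]
    by_cases h1 : y = a <;> by_cases h2 : x = Fin.rev a <;> simp only [h1, h2, if_true, if_false] <;> ring
  rw [h1, Finset.sum_sub_distrib, Finset.sum_add_distrib]
  have h2 : ∑ y, (1 : Matrix (Fin n) (Fin n) F) x y * v y = v x := by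
    simp [Matrix.one_apply]
  have h3 : ∑ y, (if y = a then (c x + (if x = Fin.rev a then u else 0)) * v y else 0) =
      v a * (c x + (if x = Fin.rev a then u else 0)) := by
    rw [Finset.sum_ite_eq' Finset.univ a, if_pos (Finset.mem_univ _), mul_comm]
  have h4 : ∑ y, (if x = Fin.rev a then v y * (c (Fin.rev y)) ^ q else 0) =
      (if x = Fin.rev a then hJ n F q v c else 0) := by
    by_cases hx : x = Fin.rev a
    · simp only [hx, if_true]; rfl
    · simp only [hx, if_false]; exact Finset.sum_const_zero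
  rw [h2, h3, h4]

theorem siegMat_mulVec (ok : Ok n F q) (a : Fin n) (c : Fin n → F) (u : F) (v : Fin n → F) :
    siegMat q a c u *ᵥ v =
      v + hJ n F q v (Pi.single (Fin.rev a) 1) • (c + u • Pi.single (Fin.rev a) 1) -
        hJ n F q v c • Pi.single (Fin.rev a) 1 := by
  funext x
  rw [siegMat_mulVec_apply, hJ_single_right ok, Fin.rev_rev]
  simp only [Pi.add_apply, Pi.sub_apply, Pi.smul_apply, smul_eq_mul, Pi.single_apply]
  by_cases hx : x = Fin.rev a <;> simp only [hx, if_true, if_false] <;> ring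

theorem hJ_siegMat (ok : Ok n F q) (a : Fin n) (ha : a ≠ Fin.rev a) (c : Fin n → F)
    (hca : c a = 0) (u : F) (hu : u + u ^ q + hJ n F q c c = 0) (v w : Fin n → F) :
    hJ n F q (siegMat q a c u *ᵥ v) (siegMat q a c u *ᵥ w) = hJ n F q v w := by
  rw [siegMat_mulVec ok, siegMat_mulVec ok]
  apply hJ_siegel_abs ok _ _ _ _ _ _ hu
  · rw [hJ_single_right ok, Fin.rev_rev, Pi.single_eq_of_ne ha]
  · rw [hJ_single_right ok, Fin.rev_rev, hca]
  · rw [hJ_single_left, Fin.rev_rev, hca, zero_powq ok]

/-! ### triangularity and determinant -/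

theorem siegMat_diag (ok : Ok n F q) (a : Fin n) (ha : a ≠ Fin.rev a) (c : Fin n → F)
    (hca : c a = 0) (u : F) (x : Fin n) : siegMat q a c u x x = 1 := by
  rw [siegMat_apply, Matrix.one_apply_eq]
  by_cases h1 : x = a
  · subst h1
    rw [if_pos rfl, if_neg ha, if_neg ha, hca]
    ring
  · rw [if_neg h1]
    by_cases h2 : x = Fin.rev a
    · rw [if_pos h2, h2, Fin.rev_rev, hca, zero_powq ok]
      ring
    · rw [if_neg h2]
      ring

/-- lower triangular when `a < rev a` and `c` is supported strictly between `a` and `rev a` -/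
theorem siegMat_lower (ok : Ok n F q) (a : Fin n) (ha : a < Fin.rev a) (c : Fin n → F)
    (hc : ∀ x, c x ≠ 0 → a < x ∧ x < Fin.rev a) (u : F) (x y : Fin n) (hxy : x < y) :
    siegMat q a c u x y = 0 := by
  rw [siegMat_apply, Matrix.one_apply_ne hxy.ne]
  have h1 : (if y = a then c x + (if x = Fin.rev a then u else 0) else 0) = 0 := by
    by_cases hy : y = a
    · rw [if_pos hy]
      subst hy
      have hcx : c x = 0 := by
        by_contra h
        exact absurd (hc x h).1 (not_lt.2 hxy.le)
      have hx : x ≠ Fin.rev y := fun h => by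
        rw [h] at hxy
        exact absurd (hxy.trans ha) (lt_irrefl _)
      rw [hcx, if_neg hx, add_zero]
    · rw [if_neg hy]
  have h2 : (if x = Fin.rev a then (c (Fin.rev y)) ^ q else 0) = 0 := by
    by_cases hx : x = Fin.rev a
    · rw [if_pos hx]
      have hcy : c (Fin.rev y) = 0 := by
        by_contra h
        have h3 := (hc _ h).1
        rw [hx] at hxy
        have h4 : Fin.rev y < a := by
          rw [← Fin.rev_rev a]
          exact Fin.rev_lt_rev.2 hxy
        exact absurd (h3.trans h4) (lt_irrefl _)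
      rw [hcy, zero_powq ok]
    · rw [if_neg hx]
  rw [h1, h2]
  ring

/-- upper triangular for the index `rev a` when `a < rev a` -/
theorem siegMat_upper (ok : Ok n F q) (a : Fin n) (ha : a < Fin.rev a) (c : Fin n → F)
    (hc : ∀ x, c x ≠ 0 → a < x ∧ x < Fin.rev a) (u : F) (x y : Fin n) (hxy : y < x) :
    siegMat q (Fin.rev a) c u x y = 0 := by
  rw [siegMat_apply, Matrix.one_apply_ne hxy.ne', Fin.rev_rev]
  have h1 : (if y = Fin.rev a then c x + (if x = a then u else 0) else 0) = 0 := by
    by_cases hy : y = Fin.rev a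
    · rw [if_pos hy]
      have hcx : c x = 0 := by
        by_contra h
        have := (hc x h).2
        rw [← hy] at this
        exact absurd (this.trans hxy) (lt_irrefl _)
      have hx : x ≠ a := fun h => by
        rw [h, hy] at hxy
        exact absurd (hxy.trans ha) (lt_irrefl _)
      rw [hcx, if_neg hx, add_zero]
    · rw [if_neg hy]
  have h2 : (if x = a then (c (Fin.rev y)) ^ q else 0) = 0 := by
    by_cases hx : x = a
    · rw [if_pos hx]
      have hcy : c (Fin.rev y) = 0 := by
        by_contra h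
        have h3 := (hc _ h).2
        rw [hx] at hxy
        have h4 : Fin.rev a < Fin.rev y := Fin.rev_lt_rev.2 hxy
        exact absurd (h3.trans h4) (lt_irrefl _)
      rw [hcy, zero_powq ok]
    · rw [if_neg hx]
  rw [h1, h2]
  ring

theorem exists_sieg_lower (ok : Ok n F q) (a : Fin n) (ha : a < Fin.rev a) (c : Fin n → F)
    (hc : ∀ x, c x ≠ 0 → a < x ∧ x < Fin.rev a) (u : F) (hu : u + u ^ q + hJ n F q c c = 0) :
    ∃ h : GJ n F q, mat h = siegMat q a c u ∧ h ∈ Bminus n F q := by
  have hca : c a = 0 := by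
    by_contra h
    exact absurd (hc a h).1 (lt_irrefl _)
  have hdet : (siegMat q a c u).det = 1 := by
    rw [Matrix.det_of_lowerTriangular]
    · exact Finset.prod_eq_one (fun x _ => siegMat_diag ok a ha.ne c hca u x)
    · intro x y hxy
      exact siegMat_lower ok a ha c hc u x y hxy
  refine ⟨⟨⟨siegMat q a c u, hdet⟩, fun v w => hJ_siegMat ok a ha.ne c hca u hu v w⟩, rfl, ?_⟩
  rw [mem_Bminus_iff]
  intro x y hxy
  exact siegMat_lower ok a ha c hc u x y hxy

theorem exists_sieg_upper (ok : Ok n F q) (a : Fin n) (ha : a < Fin.rev a) (c : Fin n → F)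
    (hc : ∀ x, c x ≠ 0 → a < x ∧ x < Fin.rev a) (u : F) (hu : u + u ^ q + hJ n F q c c = 0) :
    ∃ h : GJ n F q, mat h = siegMat q (Fin.rev a) c u ∧ h ∈ Bsub n F q := by
  have hcr : c (Fin.rev a) = 0 := by
    by_contra h
    exact absurd (hc _ h).2 (lt_irrefl _)
  have hne : Fin.rev a ≠ Fin.rev (Fin.rev a) := by
    rw [Fin.rev_rev]; exact ha.ne'
  have hdet : (siegMat q (Fin.rev a) c u).det = 1 := by
    rw [Matrix.det_of_upperTriangular]
    · exact Finset.prod_eq_one (fun x _ => siegMat_diag ok _ hne c hcr u x)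
    · intro x y hxy
      exact siegMat_upper ok a ha c hc u x y hxy
  refine ⟨⟨⟨siegMat q (Fin.rev a) c u, hdet⟩,
    fun v w => hJ_siegMat ok _ hne c hcr u hu v w⟩, rfl, ?_⟩
  rw [mem_Bsub_iff]
  intro x y hxy
  exact siegMat_upper ok a ha c hc u x y hxy

/-! ### `FlagStab j` is a subgroup -/

theorem flagStab_eq (j : ℕ) : FlagStab n F q j =
    ((triSub n F q (fun x : Fin n => min x.val j) : Subgroup (GJ n F q)) : Set (GJ n F q)) := by
  ext g
  constructor
  · intro h x y hxy
    replace hxy : min y.val j < min x.val j := hxy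
    have hy : y.val < j := by
      by_contra hy
      push Not at hy
      rw [min_eq_right hy] at hxy
      exact absurd hxy (not_lt.2 (min_le_right _ _))
    rw [min_eq_left hy.le] at hxy
    have hyx : y < x := Fin.lt_def.2 (lt_of_lt_of_le hxy (min_le_left _ _))
    exact h y x hy hyx
  · intro h a b ha hab
    apply h
    show min a.val j < min b.val j
    rw [min_eq_left ha.le]
    exact lt_min (Fin.lt_def.1 hab) ha

theorem flagStab_mul (j : ℕ) (g h : GJ n F q) (hg : g ∈ FlagStab n F q j)
    (hh : h ∈ FlagStab n F q j) : g * h ∈ FlagStab n F q j := by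
  rw [flagStab_eq] at hg hh ⊢
  exact mul_mem hg hh

theorem flagStab_inv (j : ℕ) (g : GJ n F q) (hg : g ∈ FlagStab n F q j) :
    g⁻¹ ∈ FlagStab n F q j := by
  rw [flagStab_eq] at hg ⊢
  exact inv_mem hg

theorem flagStab_of_B (j : ℕ) (g : GJ n F q) (hg : g ∈ Bsub n F q) : g ∈ FlagStab n F q j := by
  intro a b _ hab
  exact (mem_Bsub_iff g).1 hg b a hab

/-- the lower Siegel elements lie in `FlagStab j` -/
theorem flagStab_of_sieg (ok : Ok n F q) (j : ℕ) (a : Fin n) (hja : a.val = j)
    (c : Fin n → F) (hc : ∀ x, c x ≠ 0 → a < x ∧ x < Fin.rev a) (u : F) (h : GJ n F q)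
    (hh : mat h = siegMat q a c u) : h ∈ FlagStab n F q j := by
  intro y x hy hyx
  rw [hh, siegMat_apply, Matrix.one_apply_ne hyx.ne']
  have hya : y ≠ a := fun e => by rw [e, hja] at hy; exact lt_irrefl _ hy
  have hya' : y < a := Fin.lt_def.2 (by rw [hja]; exact hy)
  rw [if_neg hya]
  have hcy : c (Fin.rev y) = 0 := by
    by_contra h'
    have h3 := (hc _ h').2
    have h4 : Fin.rev a < Fin.rev y := Fin.rev_lt_rev.2 hya'
    exact absurd (h3.trans h4) (lt_irrefl _)
  rw [hcy, zero_powq ok]
  split_ifs <;> ring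

/-! ### the adjoint formula and the shape of column `j` -/

theorem mat_adjoint (ok : Ok n F q) (g : GJ n F q) (x y : Fin n) :
    mat g x y = (mat g⁻¹ (Fin.rev y) (Fin.rev x)) ^ q := by
  have h := hJ_mat g (Pi.single y 1) (mat g⁻¹ *ᵥ Pi.single (Fin.rev x) 1)
  rw [Matrix.mulVec_mulVec, mat_mul_inv, Matrix.one_mulVec, hJ_single_right ok, Fin.rev_rev,
    hJ_single_left, Matrix.mulVec_single_one, Matrix.mulVec_single_one] at h
  exact h

/-- column `a` (`a < j`... here for the column `y`) vanishes below row `rev` of the flag part -/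
theorem col_zero_of_flagStab (ok : Ok n F q) (j : ℕ) (g : GJ n F q) (hg : g ∈ FlagStab n F q j)
    (b y : Fin n) (hb : (Fin.rev b).val < j) (hyb : y < b) : mat g b y = 0 := by
  rw [mat_adjoint ok]
  have h1 := flagStab_inv j g hg (Fin.rev b) (Fin.rev y) hb (Fin.rev_lt_rev.2 hyb)
  rw [h1, zero_powq ok]

theorem exists_ne_zero_of_flagStab (j : ℕ) (g : GJ n F q) (hg : g ∈ FlagStab n F q j)
    (a : Fin n) (ha : a.val = j) : ∃ x : Fin n, a ≤ x ∧ mat g x a ≠ 0 := by
  by_contra hcon
  push Not at hcon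
  have h1 : (mat g⁻¹ * mat g) a a = 1 := by rw [mat_inv_mul, Matrix.one_apply_eq]
  rw [Matrix.mul_apply] at h1
  have h2 : ∑ x, mat g⁻¹ a x * mat g x a = 0 := by
    apply Finset.sum_eq_zero
    intro x _
    by_cases hx : a ≤ x
    · rw [hcon x hx, mul_zero]
    · push Not at hx
      have hxj : x.val < j := by rw [← ha]; exact Fin.lt_def.1 hx
      rw [flagStab_inv j g hg x a hxj hx, zero_mul]
  rw [h2] at h1
  exact zero_ne_one h1

/-! ### the three moves -/

theorem col_mul (h g : GJ n F q) (x a : Fin n) :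
    mat (h * g) x a = (mat h *ᵥ (fun y => mat g y a)) x := rfl

theorem hJ_col_self (ok : Ok n F q) (g : GJ n F q) (a : Fin n) (har : a < Fin.rev a) :
    hJ n F q (fun y => mat g y a) (fun y => mat g y a) = 0 := by
  have h := hJ_mat g (Pi.single a 1) (Pi.single a 1)
  rw [Matrix.mulVec_single_one, hJ_single_left, Pi.single_eq_of_ne har.ne', zero_powq ok] at h
  exact h

theorem col_zero_above (ok : Ok n F q) (j : ℕ) (a : Fin n) (ha : a.val = j) (har : a < Fin.rev a)
    (g : GJ n F q) (hg : g ∈ FlagStab n F q j) (b : Fin n) (hb : Fin.rev a < b) :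
    mat g b a = 0 := by
  apply col_zero_of_flagStab ok j g hg b a _ (har.trans hb)
  have h1 : Fin.rev b < a := by
    rw [← Fin.rev_rev a]; exact Fin.rev_lt_rev.2 hb
  rw [← ha]; exact Fin.lt_def.1 h1

theorem exists_upper_pivot (ok : Ok n F q) (j : ℕ) (a : Fin n) (ha : a.val = j)
    (har : a < Fin.rev a) (g : GJ n F q) (hg : g ∈ FlagStab n F q j) :
    ∃ h ∈ Bsub n F q, mat (h * g) a a ≠ 0 := by
  classical
  set w : Fin n → F := fun y => mat g y a with hw
  by_cases h0 : w a ≠ 0
  · exact ⟨1, one_mem _, by rw [one_mul]; exact h0⟩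
  push Not at h0
  have hP1 : ∀ b, Fin.rev a < b → w b = 0 := fun b hb => col_zero_above ok j a ha har g hg b hb
  by_cases hr : w (Fin.rev a) ≠ 0
  · obtain ⟨h, hh, hB⟩ := exists_sieg_upper ok a har 0 (fun x hx => absurd rfl hx) (aPar F q) (by
      rw [ok.a_pow, hJ_zero_right ok]; ring)
    refine ⟨h, hB, ?_⟩
    rw [col_mul, hh, siegMat_mulVec_apply, Fin.rev_rev, if_pos rfl, if_pos rfl, hJ_zero_right ok]
    show w a + w (Fin.rev a) * ((0 : Fin n → F) a + aPar F q) - 0 ≠ 0
    rw [h0, Pi.zero_apply, zero_add, zero_add, sub_zero]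
    exact mul_ne_zero hr ok.a_ne
  push Not at hr
  have hb0 : ∃ b0 : Fin n, a < b0 ∧ b0 < Fin.rev a ∧ b0 ≠ Fin.rev b0 ∧ w b0 ≠ 0 := by
    by_contra hcon
    push Not at hcon
    obtain ⟨x, hax, hx⟩ := exists_ne_zero_of_flagStab j g hg a ha
    have hxa : x ≠ a := fun e => hx (by rw [e]; exact h0)
    have hxr : x ≠ Fin.rev a := fun e => hx (by rw [e]; exact hr)
    have hxlt : x < Fin.rev a := by
      rcases lt_trichotomy x (Fin.rev a) with h | h | h
      · exact h
      · exact absurd h hxr
      · exact absurd (hP1 x h) hx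
    have hax' : a < x := lt_of_le_of_ne hax (Ne.symm hxa)
    have hxx : x = Fin.rev x := by
      by_contra hne
      exact hx (hcon x hax' hxlt hne)
    have hiso : hJ n F q w w = 0 := hJ_col_self ok g a har
    have hsum : hJ n F q w w = w x * (w x) ^ q := by
      unfold hJ
      rw [Finset.sum_eq_single x]
      · rw [← hxx]
      · intro i _ hi
        rcases lt_trichotomy i a with h | h | h
        · rw [hP1 _ (Fin.rev_lt_rev.2 h), zero_powq ok, mul_zero]
        · rw [h, h0, zero_mul]
        · rcases lt_trichotomy i (Fin.rev a) with h' | h' | h'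
          · by_cases hii : i = Fin.rev i
            · exfalso
              apply hi
              have e1 := congrArg Fin.val hii
              have e2 := congrArg Fin.val hxx
              rw [Fin.val_rev] at e1 e2
              apply Fin.ext
              have := i.isLt
              have := x.isLt
              omega
            · rw [hcon i h h' hii, zero_mul]
          · rw [h', hr, zero_mul]
          · rw [hP1 i h', zero_mul]
      · intro h; exact absurd (Finset.mem_univ _) h
    rw [hsum] at hiso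
    rcases mul_eq_zero.1 hiso with h | h
    · exact hx h
    · exact hx ((pow_eq_zero_iff (q_ne_zero ok)).1 h)
  obtain ⟨b0, hab0, hb0r, hb0ne, hwb0⟩ := hb0
  have hcsupp : ∀ x, (Pi.single (Fin.rev b0) 1 : Fin n → F) x ≠ 0 → a < x ∧ x < Fin.rev a := by
    intro x hx
    have hxe : x = Fin.rev b0 := by
      by_contra hne
      exact hx (Pi.single_eq_of_ne hne _)
    rw [hxe]
    constructor
    · have := Fin.rev_lt_rev.2 hb0r
      rwa [Fin.rev_rev] at this
    · exact Fin.rev_lt_rev.2 hab0
  obtain ⟨h, hh, hB⟩ := exists_sieg_upper ok a har (Pi.single (Fin.rev b0) 1) hcsupp 0 (by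
    rw [zero_powq ok, hJ_single_right ok, Fin.rev_rev, Pi.single_eq_of_ne hb0ne]; ring)
  refine ⟨h, hB, ?_⟩
  rw [col_mul, hh, siegMat_mulVec_apply, Fin.rev_rev, if_pos rfl, if_pos rfl, hJ_single_right ok,
    Fin.rev_rev]
  show w a + w (Fin.rev a) * _ - w b0 ≠ 0
  rw [h0, hr, zero_mul, zero_add, zero_sub]
  exact neg_ne_zero.2 hwb0

theorem exists_lower_clear_interior (ok : Ok n F q) (j : ℕ) (a : Fin n) (ha : a.val = j)
    (har : a < Fin.rev a) (g : GJ n F q) (hg : g ∈ FlagStab n F q j) (hgj : mat g a a ≠ 0) :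
    ∃ h ∈ Bminus n F q, h ∈ FlagStab n F q j ∧
      (∀ x, a < x → x < Fin.rev a → mat (h * g) x a = 0) ∧ mat (h * g) a a ≠ 0 := by
  classical
  set w : Fin n → F := fun y => mat g y a with hw
  set c : Fin n → F := fun x => if a < x ∧ x < Fin.rev a then - w x / w a else 0 with hc
  have hcsupp : ∀ x, c x ≠ 0 → a < x ∧ x < Fin.rev a := by
    intro x hx
    by_contra hne
    exact hx (if_neg hne)
  have hN : (hJ n F q c c) ^ q = hJ n F q c c := hJ_herm ok c c
  obtain ⟨u0, hu0⟩ := ok.tr_surj _ hN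
  obtain ⟨h, hh, hB⟩ := exists_sieg_lower ok a har c hcsupp (-u0) (by
    rw [neg_powq ok]; linear_combination (-1 : F) * hu0)
  refine ⟨h, hB, flagStab_of_sieg ok j a ha c hcsupp _ h hh, ?_, ?_⟩
  · intro x hax hxr
    rw [col_mul, hh, siegMat_mulVec_apply, if_neg hxr.ne, if_neg hxr.ne]
    show w x + w a * (c x + 0) - 0 = 0
    have hcx : c x = - w x / w a := if_pos ⟨hax, hxr⟩
    rw [hcx]
    have hwa : w a ≠ 0 := hgj
    field_simp
    ring
  · rw [col_mul, hh, siegMat_mulVec_apply, if_neg har.ne, if_neg har.ne]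
    show w a + w a * (c a + 0) - 0 ≠ 0
    have hca : c a = 0 := if_neg (fun h => lt_irrefl _ h.1)
    rw [hca, add_zero, mul_zero, add_zero, sub_zero]
    exact hgj

theorem exists_lower_clear_last (ok : Ok n F q) (j : ℕ) (a : Fin n) (ha : a.val = j)
    (har : a < Fin.rev a) (g : GJ n F q) (hg : g ∈ FlagStab n F q j) (hgj : mat g a a ≠ 0)
    (hint : ∀ x, a < x → x < Fin.rev a → mat g x a = 0) :
    ∃ h ∈ Bminus n F q, h ∈ FlagStab n F q j ∧ ∀ x, a < x → mat (h * g) x a = 0 := by
  classical
  set w : Fin n → F := fun y => mat g y a with hw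
  have hP1 : ∀ b, Fin.rev a < b → w b = 0 := fun b hb => col_zero_above ok j a ha har g hg b hb
  have hiso : hJ n F q w w = 0 := hJ_col_self ok g a har
  have hsum : hJ n F q w w = w a * (w (Fin.rev a)) ^ q + w (Fin.rev a) * (w a) ^ q := by
    unfold hJ
    rw [Finset.sum_eq_add a (Fin.rev a) har.ne]
    · rw [Fin.rev_rev]
    · rintro i - ⟨hia, hir⟩
      rcases lt_trichotomy i a with h | h | h
      · rw [hP1 _ (Fin.rev_lt_rev.2 h), zero_powq ok, mul_zero]
      · exact absurd h hia
      · rcases lt_trichotomy i (Fin.rev a) with h' | h' | h'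
        · rw [show w i = 0 from hint i h h', zero_mul]
        · exact absurd h' hir
        · rw [hP1 i h', zero_mul]
    · intro h; exact absurd (Finset.mem_univ _) h
    · intro h; exact absurd (Finset.mem_univ _) h
  have hwa : w a ≠ 0 := hgj
  have hwaq : (w a) ^ q ≠ 0 := pow_ne_zero _ hwa
  have hu : -(w (Fin.rev a) / w a) + (-(w (Fin.rev a) / w a)) ^ q +
      hJ n F q (0 : Fin n → F) 0 = 0 := by
    rw [hJ_zero_right ok, neg_powq ok, div_pow]
    rw [hsum] at hiso
    field_simp
    linear_combination (-1 : F) * hiso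
  obtain ⟨h, hh, hB⟩ := exists_sieg_lower ok a har 0 (fun x hx => absurd rfl hx) _ hu
  refine ⟨h, hB, flagStab_of_sieg ok j a ha 0 (fun x hx => absurd rfl hx) _ h hh, ?_⟩
  intro x hax
  rw [col_mul, hh, siegMat_mulVec_apply, hJ_zero_right ok]
  rcases lt_trichotomy x (Fin.rev a) with h' | h' | h'
  · rw [if_neg h'.ne, if_neg h'.ne]
    show w x + w a * ((0 : Fin n → F) x + 0) - 0 = 0
    rw [show w x = 0 from hint x hax h', Pi.zero_apply]
    ring
  · rw [if_pos h', if_pos h', h']
    show w (Fin.rev a) + w a * ((0 : Fin n → F) (Fin.rev a) + -(w (Fin.rev a) / w a)) - 0 = 0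
    rw [Pi.zero_apply]
    field_simp
    ring
  · rw [if_neg h'.ne', if_neg h'.ne']
    show w x + w a * ((0 : Fin n → F) x + 0) - 0 = 0
    rw [hP1 x h', Pi.zero_apply]
    ring

/-! ### the leaf -/

theorem flagStab_step (ok : Ok n F q) (j : ℕ) (hj : j < n / 2) (g : GJ n F q)
    (hg : g ∈ FlagStab n F q j) :
    ∃ h ∈ Bsub n F q ⊔ Bminus n F q, h * g ∈ FlagStab n F q (j + 1) := by
  have hjn : j < n := by omega
  set a : Fin n := ⟨j, hjn⟩ with hadef
  have ha : a.val = j := rfl
  have har : a < Fin.rev a := by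
    rw [Fin.lt_def, Fin.val_rev]
    show j < n - (j + 1)
    omega
  obtain ⟨h1, h1B, h1p⟩ := exists_upper_pivot ok j a ha har g hg
  have hg1 : h1 * g ∈ FlagStab n F q j := flagStab_mul j h1 g (flagStab_of_B j h1 h1B) hg
  obtain ⟨h2, h2B, h2F, h2z, h2p⟩ := exists_lower_clear_interior ok j a ha har (h1 * g) hg1 h1p
  have hg2 : h2 * (h1 * g) ∈ FlagStab n F q j := flagStab_mul j h2 _ h2F hg1
  obtain ⟨h3, h3B, h3F, h3z⟩ := exists_lower_clear_last ok j a ha har (h2 * (h1 * g)) hg2 h2p h2z
  have hg3 : h3 * (h2 * (h1 * g)) ∈ FlagStab n F q j := flagStab_mul j h3 _ h3F hg2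
  refine ⟨h3 * h2 * h1, ?_, ?_⟩
  · exact mul_mem (mul_mem (Subgroup.mem_sup_right h3B) (Subgroup.mem_sup_right h2B))
      (Subgroup.mem_sup_left h1B)
  · have e : h3 * h2 * h1 * g = h3 * (h2 * (h1 * g)) := by simp only [mul_assoc]
    rw [e]
    intro y x hy hyx
    rcases Nat.lt_succ_iff_lt_or_eq.1 hy with hlt | heq
    · exact hg3 y x hlt hyx
    · have hya : y = a := Fin.ext heq
      rw [hya] at hyx ⊢
      exact h3z x hyx

end Cfsg.Agent.Lib.Helper03.StSU
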