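import Cfsg.Agent.Lib.Helper11.Syl22Defs

/-!
# S4346 pack, keystone K-B4 (434613): `fix_numerics`
-/

set_option autoImplicit false

namespace Cfsg.Agent.Lib.Helper03.Syl22

open Cfsg.Agent.Lib.Helper11.Syl22

/-- `fixN g ≤ 22`, and `fixN g = 22` only for `g = 1`. -/
theorem fixN_lt {G : Type*} [Group G] (c : Ctx G) (hf : Faithful G) (g : G) (hg : g ≠ 1) :
    fixN g < 22 := by
  have : Finite (Sylow 3 G) := by
    apply Nat.finite_of_card_ne_zero
    rw [c.h22]; norm_num
  have hle : fixN g ≤ 22 := by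
    have h := Set.ncard_le_card (MulAction.fixedBy (Sylow 3 G) g)
    rw [c.h22] at h
    unfold fixN
    rw [Nat.card_coe_set_eq]
    exact h
  rcases Nat.lt_or_ge (fixN g) 22 with h | h
  · exact h
  · exfalso
    have h22 : fixN g = 22 := le_antisymm hle h
    have huniv : MulAction.fixedBy (Sylow 3 G) g = Set.univ := by
      rw [Set.eq_univ_iff_ncard, c.h22]
      unfold fixN at h22
      rw [← h22, Nat.card_coe_set_eq]
    apply hg
    apply hf
    intro Q
    have : Q ∈ MulAction.fixedBy (Sylow 3 G) g := by rw [huniv]; trivial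
    exact this

theorem fix_numerics {G : Type*} [Group G] (c : Ctx G) (hf : Faithful G) (hB : FixLemma G) :
    (∀ g : G, orderOf g = 5 →
      fixN g = 7 ∧ 7 ∣ Nat.card ↥(Subgroup.centralizer ({g} : Set G))) ∧
    (∀ g : G, orderOf g = 7 → fixN g = 1) ∧
    (∀ g : G, orderOf g = 11 → fixN g = 0) ∧
    (∀ (g : G) (r : ℕ), r.Prime → 13 ≤ r → orderOf g ≠ r) := by
  have hne : ∀ (g : G) (r : ℕ), r.Prime → orderOf g = r → g ≠ 1 := by
    intro g r hr ho h1
    rw [h1, orderOf_one] at ho
    exact hr.one_lt.ne' ho.symm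
  refine ⟨?_, ?_, ?_, ?_⟩
  · intro g ho
    have hlt := fixN_lt c hf g (hne g 5 (by norm_num) ho)
    obtain ⟨hmod, hcase⟩ := hB g 5 (by norm_num) (by norm_num) ho
    have hmod' : fixN g % 5 = 2 := by
      have := hmod
      unfold Nat.ModEq at this
      omega
    rcases hcase with h0 | ⟨h3, hdvd⟩
    · omega
    · have h7 : fixN g = 7 := by omega
      rw [h7] at hdvd
      exact ⟨h7, hdvd⟩
  · intro g ho
    have hlt := fixN_lt c hf g (hne g 7 (by norm_num) ho)
    obtain ⟨hmod, hcase⟩ := hB g 7 (by norm_num) (by norm_num) ho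
    have hmod' : fixN g % 7 = 1 := by
      have := hmod
      unfold Nat.ModEq at this
      omega
    rcases hcase with h0 | ⟨h3, _⟩
    · omega
    · omega
  · intro g ho
    have hlt := fixN_lt c hf g (hne g 11 (by norm_num) ho)
    obtain ⟨hmod, hcase⟩ := hB g 11 (by norm_num) (by norm_num) ho
    have hmod' : fixN g % 11 = 0 := by
      have := hmod
      unfold Nat.ModEq at this
      omega
    rcases hcase with h0 | ⟨h3, _⟩
    · exact h0
    · omega
  · intro g r hr h13 ho
    have hlt := fixN_lt c hf g (hne g r hr ho)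
    obtain ⟨hmod, hcase⟩ := hB g r hr (by omega) ho
    unfold Nat.ModEq at hmod
    by_cases hbig : 22 < r
    · rw [Nat.mod_eq_of_lt (lt_trans hlt hbig), Nat.mod_eq_of_lt hbig] at hmod
      omega
    · have hr22 : r ≤ 22 := by omega
      have hrcases : r = 13 ∨ r = 17 ∨ r = 19 := by
        interval_cases r <;> simp_all (config := {decide := true})
      rcases hrcases with rfl | rfl | rfl
      · rcases hcase with h0 | ⟨h3, _⟩ <;> omega
      · rcases hcase with h0 | ⟨h3, _⟩ <;> omega
      · rcases hcase with h0 | ⟨h3, _⟩ <;> omega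

end Cfsg.Agent.Lib.Helper03.Syl22
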