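import Mathlib
import Cfsg.Prelude.Def_Classical
import Cfsg.Agent.Lib.Helper48.U32.SU3F4
import Cfsg.Agent.S0278

/-! # Keystone K-TT68-C1: the derived group of `SU_3(2)` has order 54 and is a triangle group.

Concrete computation in the `F4` model of `Cfsg.Agent.Lib.Helper48.U32.SU3F4`. -/

set_option autoImplicit false
set_option linter.unusedSectionVars false
set_option linter.unusedVariables false

namespace Cfsg.Agent.Lib.Helper03.TT68

open Cfsg.Agent.Lib.Helper48.U32F4 Cfsg.Agent.Lib.Helper48.U32F4.F4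
open scoped commutatorElement

/-- Unitary matrices of determinant one over the concrete field `F4`, as a submonoid. -/
def UMon : Submonoid (Matrix (Fin 3) (Fin 3) F4) where
  carrier := {M | M.transpose * M.map frob = 1 ∧ M.det = 1}
  mul_mem' := by
    intro A B hA hB
    refine ⟨?_, ?_⟩
    · rw [Matrix.transpose_mul, Matrix.map_mul, Matrix.mul_assoc, ← Matrix.mul_assoc A.transpose,
        hA.1, Matrix.one_mul, hB.1]
    · rw [Matrix.det_mul, hA.2, hB.2, one_mul]
  one_mem' := by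
    refine ⟨?_, Matrix.det_one⟩
    rw [Matrix.transpose_one, Matrix.map_one _ (map_zero _) (map_one _), Matrix.one_mul]

section transport

variable {F : Type*} [Field F] (σ : F ≃+* F4)

/-- Transport to `SU_3(F)`. -/
def toSU (u : UMon) : Cfsg.SU 3 F 2 := ofF4 σ u.1 u.2.1 u.2.2

theorem toSU_mul (u u' : UMon) : toSU σ (u * u') = toSU σ u * toSU σ u' := by
  apply Subtype.ext
  apply Subtype.ext
  rw [Subgroup.coe_mul, Matrix.SpecialLinearGroup.coe_mul]
  exact Matrix.map_mul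

theorem toSU_one : toSU σ 1 = 1 := by
  apply Subtype.ext
  apply Subtype.ext
  exact Matrix.map_one _ (map_zero _) (map_one _)

/-- `toSU` as a monoid homomorphism. -/
def toSUHom : UMon →* Cfsg.SU 3 F 2 where
  toFun := toSU σ
  map_one' := toSU_one σ
  map_mul' := toSU_mul σ

theorem toSUHom_apply (u : UMon) : toSUHom σ u = toSU σ u := rfl

theorem toSU_injective : Function.Injective (toSU (F := F) σ) := by
  intro u u' h
  apply Subtype.ext
  ext j k
  have h1 : mat (toSU σ u) j k = mat (toSU σ u') j k := by rw [h]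
  exact σ.symm.injective h1

theorem chi_toSU (u : UMon) : chi (toSU σ u) = σ.symm (u.1 0 0 * u.1 1 0 * u.1 2 0) := by
  unfold chi toSU
  rw [mat_ofF4, mat_ofF4, mat_ofF4, map_mul, map_mul]

/-- If `g * h = x * h * g` then `x` is the commutator of `g` and `h`. -/
theorem toSU_commutator (x g h : UMon) (hx : g * h = x * h * g) :
    ⁅toSU σ g, toSU σ h⁆ = toSU σ x := by
  have h1 : toSU σ g * toSU σ h = toSU σ x * toSU σ h * toSU σ g := by
    rw [← toSU_mul, ← toSU_mul, ← toSU_mul, hx]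
  rw [commutatorElement_def, h1]
  group

theorem toSU_mem_commutator (x g h : UMon) (hx : g * h = x * h * g) :
    toSU σ x ∈ commutator (Cfsg.SU 3 F 2) := by
  rw [← toSU_commutator σ x g h hx, commutator_def]
  exact Subgroup.commutator_mem_commutator (Subgroup.mem_top _) (Subgroup.mem_top _)

end transport

/-! ### The concrete elements -/

def gA : UMon := ⟨!![0, 1, 0; 1, 0, 0; 0, 0, 1], by decide, by rw [Matrix.det_fin_three]; decide⟩
def gB : UMon := ⟨!![1, 0, 0; 0, 0, 1; 0, 1, 0], by decide, by rw [Matrix.det_fin_three]; decide⟩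
def gC : UMon := ⟨!![0, v, 0; w, 0, 0; 0, 0, 1], by decide, by rw [Matrix.det_fin_three]; decide⟩

def pA : UMon := ⟨!![1, w, 1; w, 1, 1; w, w, v], by decide, by rw [Matrix.det_fin_three]; decide⟩
def qA : UMon := ⟨!![1, w, w; w, 1, w; 1, 1, v], by decide, by rw [Matrix.det_fin_three]; decide⟩
def pB : UMon := ⟨!![1, 1, 1; 1, w, v; 1, v, w], by decide, by rw [Matrix.det_fin_three]; decide⟩
def qB : UMon := ⟨!![1, w, w; v, w, v; v, v, w], by decide, by rw [Matrix.det_fin_three]; decide⟩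
def pC : UMon := ⟨!![1, 1, 1; v, 1, w; w, 1, v], by decide, by rw [Matrix.det_fin_three]; decide⟩
def qC : UMon := ⟨!![1, 1, w; v, 1, v; 1, v, v], by decide, by rw [Matrix.det_fin_three]; decide⟩

/-- elements with `chi = w` and `chi = v` -/
def u0 : UMon := ⟨m0, m0_unitary, m0_det⟩
def u1 : UMon := ⟨!![1, 1, w; 1, v, v; v, 1, v], by decide, by rw [Matrix.det_fin_three]; decide⟩

theorem comm_A : pA * qA = gA * qA * pA := Subtype.ext (by decide)
theorem comm_B : pB * qB = gB * qB * pB := Subtype.ext (by decide)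
theorem comm_C : pC * qC = gC * qC * pC := Subtype.ext (by decide)

theorem gA_sq : gA * gA = 1 := Subtype.ext (by decide)
theorem gB_sq : gB * gB = 1 := Subtype.ext (by decide)
theorem gC_sq : gC * gC = 1 := Subtype.ext (by decide)
theorem gAB_cube : (gA * gB) ^ 3 = 1 := Subtype.ext (by decide)
theorem gBC_cube : (gB * gC) ^ 3 = 1 := Subtype.ext (by decide)
theorem gCA_cube : (gC * gA) ^ 3 = 1 := Subtype.ext (by decide)
theorem gT_cube : (gA * (gC * gB * gC)) ^ 3 = 1 := Subtype.ext (by decide)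
theorem gA_ne_one : gA ≠ 1 := by
  intro h
  have := congrArg (fun u : UMon => u.1 0 0) h
  revert this
  decide

def L19 : List (Matrix (Fin 3) (Fin 3) F4) :=
  [!![1, 0, 0; 0, 1, 0; 0, 0, 1],
   !![0, 1, 0; 1, 0, 0; 0, 0, 1],
   !![1, 0, 0; 0, 0, 1; 0, 1, 0],
   !![0, v, 0; w, 0, 0; 0, 0, 1],
   !![0, 0, 1; 1, 0, 0; 0, 1, 0],
   !![w, 0, 0; 0, v, 0; 0, 0, 1],
   !![0, 1, 0; 0, 0, 1; 1, 0, 0],
   !![0, v, 0; 0, 0, 1; w, 0, 0],
   !![v, 0, 0; 0, w, 0; 0, 0, 1],
   !![0, 0, v; w, 0, 0; 0, 1, 0],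
   !![0, 0, 1; 0, 1, 0; 1, 0, 0],
   !![0, 0, 1; 0, v, 0; w, 0, 0],
   !![0, w, 0; v, 0, 0; 0, 0, 1],
   !![w, 0, 0; 0, 0, v; 0, 1, 0],
   !![w, 0, 0; 0, 0, 1; 0, v, 0],
   !![v, 0, 0; 0, 0, 1; 0, w, 0],
   !![0, 0, v; 0, 1, 0; w, 0, 0],
   !![v, 0, 0; 0, 0, w; 0, 1, 0],
   !![0, 0, v; 0, w, 0; 1, 0, 0]]

theorem L19_nodup : L19.Nodup := by decide

section main

variable {F : Type*} [Field F] (σ : F ≃+* F4)

/-- all of `L19` lies in any subgroup containing the three generators -/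
theorem L19_mem (K : Subgroup (Cfsg.SU 3 F 2)) (hgA : toSU σ gA ∈ K) (hgB : toSU σ gB ∈ K)
    (hgC : toSU σ gC ∈ K) :
    ∀ X ∈ L19, ∃ h : X ∈ UMon, toSU σ ⟨X, h⟩ ∈ K := by
  let P : Matrix (Fin 3) (Fin 3) F4 → Prop := fun X => ∃ h : X ∈ UMon, toSU σ ⟨X, h⟩ ∈ K
  have step : ∀ {X Y : Matrix (Fin 3) (Fin 3) F4}, P X → ∀ g : UMon, toSU σ g ∈ K →
      X * g.1 = Y → P Y := by
    intro X Y hX g hg hXY
    obtain ⟨h, hK⟩ := hX
    subst hXY
    refine ⟨UMon.mul_mem h g.2, ?_⟩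
    have : (⟨X * g.1, UMon.mul_mem h g.2⟩ : UMon) = ⟨X, h⟩ * g := rfl
    rw [this, toSU_mul]
    exact K.mul_mem hK hg
  have e0 : P (!![1, 0, 0; 0, 1, 0; 0, 0, 1]) := by
    have h1 : (!![1, 0, 0; 0, 1, 0; 0, 0, 1] : Matrix (Fin 3) (Fin 3) F4) = 1 := by decide
    rw [h1]
    refine ⟨UMon.one_mem, ?_⟩
    have : (⟨1, UMon.one_mem⟩ : UMon) = 1 := rfl
    rw [this, toSU_one]
    exact K.one_mem
  have e1 : P (!![0, 1, 0; 1, 0, 0; 0, 0, 1]) := step e0 gA hgA (by decide)
  have e2 : P (!![1, 0, 0; 0, 0, 1; 0, 1, 0]) := step e0 gB hgB (by decide)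
  have e3 : P (!![0, v, 0; w, 0, 0; 0, 0, 1]) := step e0 gC hgC (by decide)
  have e4 : P (!![0, 0, 1; 1, 0, 0; 0, 1, 0]) := step e1 gB hgB (by decide)
  have e5 : P (!![w, 0, 0; 0, v, 0; 0, 0, 1]) := step e1 gC hgC (by decide)
  have e6 : P (!![0, 1, 0; 0, 0, 1; 1, 0, 0]) := step e2 gA hgA (by decide)
  have e7 : P (!![0, v, 0; 0, 0, 1; w, 0, 0]) := step e2 gC hgC (by decide)
  have e8 : P (!![v, 0, 0; 0, w, 0; 0, 0, 1]) := step e3 gA hgA (by decide)
  have e9 : P (!![0, 0, v; w, 0, 0; 0, 1, 0]) := step e3 gB hgB (by decide)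
  have e10 : P (!![0, 0, 1; 0, 1, 0; 1, 0, 0]) := step e4 gA hgA (by decide)
  have e11 : P (!![0, 0, 1; 0, v, 0; w, 0, 0]) := step e4 gC hgC (by decide)
  have e12 : P (!![0, w, 0; v, 0, 0; 0, 0, 1]) := step e5 gA hgA (by decide)
  have e13 : P (!![w, 0, 0; 0, 0, v; 0, 1, 0]) := step e5 gB hgB (by decide)
  have e14 : P (!![w, 0, 0; 0, 0, 1; 0, v, 0]) := step e6 gC hgC (by decide)
  have e15 : P (!![v, 0, 0; 0, 0, 1; 0, w, 0]) := step e7 gA hgA (by decide)
  have e16 : P (!![0, 0, v; 0, 1, 0; w, 0, 0]) := step e7 gB hgB (by decide)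
  have e17 : P (!![v, 0, 0; 0, 0, w; 0, 1, 0]) := step e8 gB hgB (by decide)
  have e18 : P (!![0, 0, v; 0, w, 0; 1, 0, 0]) := step e9 gA hgA (by decide)
  intro X hX
  simp only [L19, List.mem_cons, List.not_mem_nil, or_false] at hX
  rcases hX with rfl | rfl | rfl | rfl | rfl | rfl | rfl | rfl | rfl | rfl | rfl | rfl | rfl |
    rfl | rfl | rfl | rfl | rfl | rfl
  exacts [e0, e1, e2, e3, e4, e5, e6, e7, e8, e9, e10, e11, e12, e13, e14, e15, e16, e17, e18]

theorem card_ge_19 (K : Subgroup (Cfsg.SU 3 F 2)) [Finite K] (hgA : toSU σ gA ∈ K)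
    (hgB : toSU σ gB ∈ K) (hgC : toSU σ gC ∈ K) : 19 ≤ Nat.card K := by
  have hmem := L19_mem σ K hgA hgB hgC
  let f : {X // X ∈ L19.toFinset} → K := fun X =>
    ⟨toSU σ ⟨X.1, (hmem X.1 (List.mem_toFinset.mp X.2)).choose⟩,
      (hmem X.1 (List.mem_toFinset.mp X.2)).choose_spec⟩
  have hf : Function.Injective f := by
    intro X Y hXY
    have h1 := congrArg Subtype.val hXY
    have h2 := toSU_injective σ h1
    exact Subtype.ext (congrArg (fun u : UMon => u.1) h2)
  have h3 := Nat.card_le_card_of_injective f hf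
  have h4 : Nat.card {X // X ∈ L19.toFinset} = 19 := by
    rw [Nat.card_eq_fintype_card, Fintype.card_coe, List.toFinset_card_of_nodup L19_nodup]
    rfl
  omega

end main

/-- **K-TT68-C1**: the derived group of `SU_3(2)` has order 54 and is generated by three involutions
satisfying the triangle relations. -/
theorem su32_commutator_triangle {F : Type*} [Field F] [Fintype F] (hF : Fintype.card F = 4) :
    Nat.card ↥(commutator ↥(Cfsg.SU 3 F 2)) = 54 ∧
    ∃ a b c : ↥(commutator ↥(Cfsg.SU 3 F 2)), a * a = 1 ∧ b * b = 1 ∧ c * c = 1 ∧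
      (a * b) ^ 3 = 1 ∧ (b * c) ^ 3 = 1 ∧ (c * a) ^ 3 = 1 ∧ (a * (c * b * c)) ^ 3 = 1 ∧
      Subgroup.closure ({a, b, c} : Set ↥(commutator ↥(Cfsg.SU 3 F 2))) = ⊤ := by
  have σ : F ≃+* F4 := FiniteField.ringEquivOfCardEq (hF.trans F4.card_F4.symm)
  have hF' : Fintype.card F = 2 ^ 2 := by rw [hF]; norm_num
  -- card SU = 216
  have hSU : Nat.card (Cfsg.SU 3 F 2) = 216 := by
    have h1 := Cfsg.Agent.S0278.result hF' 3 (by norm_num)
    have h2 : (2 + 1) * Nat.card (Cfsg.SU 3 F 2) = 648 := by rw [h1]; decide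
    omega
  have hfin : Finite (Cfsg.SU 3 F 2) := Nat.finite_of_card_ne_zero (by rw [hSU]; norm_num)
  -- chiHom surjective
  have hsurj : Function.Surjective (chiHom σ) := by
    have h0 : chiHom σ (toSU σ u0) = Multiplicative.ofAdd (σ.symm w) := by
      show Multiplicative.ofAdd (chi (toSU σ u0)) = _
      rw [chi_toSU]; rfl
    have h1 : chiHom σ (toSU σ u1) = Multiplicative.ofAdd (σ.symm v) := by
      show Multiplicative.ofAdd (chi (toSU σ u1)) = _
      rw [chi_toSU]; rfl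
    have key : ∀ t : F4, ∃ g, chiHom σ g = Multiplicative.ofAdd (σ.symm t) := by
      intro t
      cases t
      · refine ⟨1, ?_⟩
        rw [map_one]
        show (1 : Multiplicative F) = Multiplicative.ofAdd (σ.symm 0)
        rw [map_zero]; rfl
      · refine ⟨toSU σ u0 * toSU σ u1, ?_⟩
        rw [map_mul, h0, h1, ← ofAdd_add, ← map_add]; rfl
      · exact ⟨_, h0⟩
      · exact ⟨_, h1⟩
    intro y
    obtain ⟨g, hg⟩ := key (σ (Multiplicative.toAdd y))
    refine ⟨g, ?_⟩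
    rw [hg, σ.symm_apply_apply]; rfl
  have hA : Nat.card (Multiplicative F) = 4 := by
    rw [Nat.card_eq_fintype_card, Fintype.card_multiplicative, hF]
  have hker : Nat.card (chiHom σ).ker = 54 := by
    have h1 := Subgroup.card_mul_index (chiHom σ).ker
    rw [Subgroup.index_ker, MonoidHom.range_eq_top.mpr hsurj, Subgroup.card_top, hA, hSU] at h1
    omega
  have hCker : commutator (Cfsg.SU 3 F 2) ≤ (chiHom σ).ker :=
    Abelianization.commutator_subset_ker (chiHom σ)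
  have haC : toSU σ gA ∈ commutator (Cfsg.SU 3 F 2) := toSU_mem_commutator σ gA pA qA comm_A
  have hbC : toSU σ gB ∈ commutator (Cfsg.SU 3 F 2) := toSU_mem_commutator σ gB pB qB comm_B
  have hcC : toSU σ gC ∈ commutator (Cfsg.SU 3 F 2) := toSU_mem_commutator σ gC pC qC comm_C
  have hKC : Subgroup.closure ({toSU σ gA, toSU σ gB, toSU σ gC} : Set (Cfsg.SU 3 F 2)) ≤
      commutator (Cfsg.SU 3 F 2) := by
    rw [Subgroup.closure_le]
    intro x hx
    simp only [Set.mem_insert_iff, Set.mem_singleton_iff] at hx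
    rcases hx with rfl | rfl | rfl
    exacts [haC, hbC, hcC]
  have haK : toSU σ gA ∈
      Subgroup.closure ({toSU σ gA, toSU σ gB, toSU σ gC} : Set (Cfsg.SU 3 F 2)) :=
    Subgroup.subset_closure (by simp)
  have hbK : toSU σ gB ∈
      Subgroup.closure ({toSU σ gA, toSU σ gB, toSU σ gC} : Set (Cfsg.SU 3 F 2)) :=
    Subgroup.subset_closure (by simp)
  have hcK : toSU σ gC ∈
      Subgroup.closure ({toSU σ gA, toSU σ gB, toSU σ gC} : Set (Cfsg.SU 3 F 2)) :=
    Subgroup.subset_closure (by simp)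
  have h19 := card_ge_19 σ _ haK hbK hcK
  have hdvd : Nat.card (Subgroup.closure
      ({toSU σ gA, toSU σ gB, toSU σ gC} : Set (Cfsg.SU 3 F 2))) ∣ 54 := by
    rw [← hker]; exact Subgroup.card_dvd_of_le (hKC.trans hCker)
  have h2 : 2 ∣ Nat.card (Subgroup.closure
      ({toSU σ gA, toSU σ gB, toSU σ gC} : Set (Cfsg.SU 3 F 2))) := by
    have ho : orderOf (toSU σ gA) = 2 := by
      apply orderOf_eq_prime
      · rw [pow_two, ← toSU_mul, gA_sq, toSU_one]
      · intro h; exact gA_ne_one (toSU_injective σ (h.trans (toSU_one σ).symm))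
    have h3 := Subgroup.orderOf_dvd_natCard _ haK
    rwa [ho] at h3
  have hK54 : Nat.card (Subgroup.closure
      ({toSU σ gA, toSU σ gB, toSU σ gC} : Set (Cfsg.SU 3 F 2))) = 54 := by
    obtain ⟨m, hm⟩ := hdvd
    have hm3 : m < 3 := by
      by_contra hcon
      have hcon' : 3 ≤ m := Nat.le_of_not_lt hcon
      have := Nat.mul_le_mul h19 hcon'
      omega
    interval_cases m <;> omega
  have hKker : Subgroup.closure ({toSU σ gA, toSU σ gB, toSU σ gC} : Set (Cfsg.SU 3 F 2)) =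
      (chiHom σ).ker :=
    Subgroup.eq_of_le_of_card_ge (hKC.trans hCker) (by rw [hK54, hker])
  have hKeq : Subgroup.closure ({toSU σ gA, toSU σ gB, toSU σ gC} : Set (Cfsg.SU 3 F 2)) =
      commutator (Cfsg.SU 3 F 2) := le_antisymm hKC (by rw [hKker]; exact hCker)
  have hCcard : Nat.card (commutator (Cfsg.SU 3 F 2)) = 54 := by rw [← hKeq, hK54]
  refine ⟨hCcard, ⟨toSU σ gA, haC⟩, ⟨toSU σ gB, hbC⟩, ⟨toSU σ gC, hcC⟩, ?_, ?_, ?_, ?_, ?_, ?_, ?_, ?_⟩
  · apply Subtype.ext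
    show toSU σ gA * toSU σ gA = 1
    rw [← toSU_mul, gA_sq, toSU_one]
  · apply Subtype.ext
    show toSU σ gB * toSU σ gB = 1
    rw [← toSU_mul, gB_sq, toSU_one]
  · apply Subtype.ext
    show toSU σ gC * toSU σ gC = 1
    rw [← toSU_mul, gC_sq, toSU_one]
  · apply Subtype.ext
    show (toSU σ gA * toSU σ gB) ^ 3 = 1
    rw [← toSU_mul, ← toSUHom_apply, ← map_pow, gAB_cube, map_one]
  · apply Subtype.ext
    show (toSU σ gB * toSU σ gC) ^ 3 = 1
    rw [← toSU_mul, ← toSUHom_apply, ← map_pow, gBC_cube, map_one]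
  · apply Subtype.ext
    show (toSU σ gC * toSU σ gA) ^ 3 = 1
    rw [← toSU_mul, ← toSUHom_apply, ← map_pow, gCA_cube, map_one]
  · apply Subtype.ext
    show (toSU σ gA * (toSU σ gC * toSU σ gB * toSU σ gC)) ^ 3 = 1
    rw [← toSU_mul, ← toSU_mul, ← toSU_mul, ← toSUHom_apply, ← map_pow, gT_cube, map_one]
  · apply Subgroup.map_injective (commutator (Cfsg.SU 3 F 2)).subtype_injective
    rw [MonoidHom.map_closure, ← MonoidHom.range_eq_map, Subgroup.range_subtype,
      Set.image_insert_eq, Set.image_insert_eq, Set.image_singleton]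
    exact hKeq

end Cfsg.Agent.Lib.Helper03.TT68
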