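import Cfsg.Agent.Lib.Helper03.UNdUCcore
import Cfsg.Agent.Lib.Helper79.UNdUB

/-!
# K-UNd pack (architect helper73), leaf U-C (595413) `exists_type_u`, exact signature
(U-B = `Cfsg.Agent.Lib.Helper79.UNd.exists_piece_u`).
-/

set_option autoImplicit false
set_option linter.unusedSectionVars false
set_option linter.unusedVariables false

namespace Cfsg.Agent.Lib.Helper03.UNd

open Module Cfsg.Agent.Lib.Helper99.HermONB Cfsg.Agent.Lib.Helper98.Elus Cfsg.Agent.Lib.Helper73.UNd

universe u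
variable {F : Type u} [Field F] {V : Type u} [AddCommGroup V] [Module F V]
variable {q : ℕ} {h : V → V → F}

/-- U-C (595413): port of `Nd4.exists_type` (no parity conditions). -/
theorem exists_type_u [Fintype F] [FiniteDimensional F V] (hF : Fintype.card F = q ^ 2)
    (hh : HForm q h) (p : ℕ) (hp : 0 < p) (u : V →ₗ[F] V) (hu : u ^ p = 1)
    (hNp : (u - 1) ^ p = 0) (hiso : Isom h u) :
    ∀ n : ℕ, ∀ U : Submodule F V, Inv u U → ND h U → finrank F U = n →
      ∃ μ : Multiset ℕ, (∀ a ∈ μ, 0 < a ∧ a ≤ p) ∧ μ.sum = n ∧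
        (∀ k, finrank F ↥(U ⊓ LinearMap.ker ((u - 1) ^ k)) = (μ.map (fun a => min a k)).sum) ∧
        ∀ ν : Multiset ℕ, ν ≤ μ →
          ∃ W : Submodule F V, W ≤ U ∧ Inv u W ∧ ND h W ∧ finrank F W = ν.sum :=
  exists_type_u_of_piece hF hh p hp u hu hNp hiso
    (fun U hU hUnd hne =>
      Cfsg.Agent.Lib.Helper79.UNd.exists_piece_u hF hh p hp u hu hNp hiso U hU hUnd hne)

end Cfsg.Agent.Lib.Helper03.UNd
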