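import Cfsg.Agent.Lib.Helper73.UNdDefs
import Cfsg.Agent.Lib.Helper65.UNdBA1
import Cfsg.Agent.Lib.Helper79.UNdBA3
import Cfsg.Agent.Lib.Helper98.Nd1

/-!
# K-UNd pack (architect helper73), leaf U-C (595413) `exists_type_u`, core:
port of `Helper98.Nd.exists_type` without parity conditions, with the statement of leaf U-B
(`exists_piece_u`) as a hypothesis.
-/

set_option autoImplicit false
set_option linter.unusedSimpArgs false
set_option linter.unusedSectionVars false
set_option linter.unusedVariables false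

namespace Cfsg.Agent.Lib.Helper03.UNd

open Module Cfsg.Agent.Lib.Helper99.HermONB Cfsg.Agent.Lib.Helper98.Elus Cfsg.Agent.Lib.Helper73.UNd
open Cfsg.Agent.Lib.Helper98.Nd (inv_sub_one finrank_sup_inf_ker le_cons_cases)

universe u
variable {F : Type u} [Field F] {V : Type u} [AddCommGroup V] [Module F V]
variable {q : ℕ} {h : V → V → F}

/-- the Jordan type with its selection property, from the existence of pieces -/
theorem exists_type_u_of_piece [Fintype F] [FiniteDimensional F V] (hF : Fintype.card F = q ^ 2)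
    (hh : HForm q h) (p : ℕ) (hp : 0 < p) (u : V →ₗ[F] V) (hu : u ^ p = 1)
    (hNp : (u - 1) ^ p = 0) (hiso : Isom h u)
    (hpiece : ∀ U : Submodule F V, Inv u U → ND h U → U ≠ ⊥ →
      ∃ (P : Submodule F V) (a : ℕ), P ≤ U ∧ Inv u P ∧ ND h P ∧ 0 < a ∧ a ≤ p ∧
        finrank F P = a ∧ ∀ k, finrank F ↥(P ⊓ LinearMap.ker ((u - 1) ^ k)) = min a k) :
    ∀ n : ℕ, ∀ U : Submodule F V, Inv u U → ND h U → finrank F U = n →
      ∃ μ : Multiset ℕ, (∀ a ∈ μ, 0 < a ∧ a ≤ p) ∧ μ.sum = n ∧
        (∀ k, finrank F ↥(U ⊓ LinearMap.ker ((u - 1) ^ k)) = (μ.map (fun a => min a k)).sum) ∧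
        ∀ ν : Multiset ℕ, ν ≤ μ →
          ∃ W : Submodule F V, W ≤ U ∧ Inv u W ∧ ND h W ∧ finrank F W = ν.sum := by
  intro n
  induction n using Nat.strong_induction_on with
  | _ n ih =>
    intro U hU hUnd hUn
    by_cases hne : U = ⊥
    · subst hne
      rw [finrank_bot] at hUn
      refine ⟨0, by simp, by simpa using hUn, ?_, ?_⟩
      · intro k
        rw [bot_inf_eq, finrank_bot]
        simp
      · intro ν hν
        have : ν = 0 := by simpa using hν
        subst this
        exact ⟨⊥, le_rfl, inv_bot u, Cfsg.Agent.Lib.Helper65.UNd.nd_bot hh, by simp⟩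
    obtain ⟨P, a, hPU, hPinv, hPnd, ha0, hap, hPd, hPk⟩ := hpiece U hU hUnd hne
    obtain ⟨c1, c2, c3, c4⟩ :=
      Cfsg.Agent.Lib.Helper65.UNd.compl_props hF hh P U hPnd hPU hUnd
    set U' := perp hh P ⊓ U with hU'
    have hU'inv : Inv u U' :=
      (Cfsg.Agent.Lib.Helper79.UNd.inv_perp hF hh p hp u 1 one_ne_zero
        (by rw [one_smul]; exact hu) hiso P hPinv).inf hU
    obtain ⟨μ', m1, m3, m4, m5⟩ := ih (n - a) (by omega) U' hU'inv c3 (by omega)
    have hNP : Inv (u - 1) P := inv_sub_one u P hPinv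
    have hNU' : Inv (u - 1) U' := inv_sub_one u U' hU'inv
    have hker : ∀ k, finrank F ↥(U ⊓ LinearMap.ker ((u - 1) ^ k)) =
        min a k + (μ'.map (fun a => min a k)).sum := by
      intro k
      have := finrank_sup_inf_ker (u - 1) P U' hNP hNU' c2 k
      rw [c1, hPk k, m4 k] at this
      exact this
    have hort : ∀ W' : Submodule F V, W' ≤ U' → Ort h P W' := by
      intro W' hW' x hx y hy
      have hy' : y ∈ perp hh P := (Submodule.mem_inf.mp (hW' hy)).1
      exact Cfsg.Agent.Lib.Helper65.UNd.eq_zero_symm hF hh ((mem_perp hh P y).mp hy' x hx)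
    refine ⟨a ::ₘ μ', ?_, ?_, ?_, ?_⟩
    · intro b hb
      rcases Multiset.mem_cons.mp hb with rfl | hb
      · exact ⟨ha0, hap⟩
      · exact m1 b hb
    · rw [Multiset.sum_cons, m3]
      omega
    · intro k
      rw [hker k, Multiset.map_cons, Multiset.sum_cons]
    · intro ν hν
      rcases le_cons_cases μ' ν a hν with h' | ⟨haν, h'⟩
      · obtain ⟨W, hW1, hW2, hW3, hW4⟩ := m5 ν h'
        exact ⟨W, le_trans hW1 inf_le_right, hW2, hW3, hW4⟩
      · obtain ⟨W, hW1, hW2, hW3, hW4⟩ := m5 (ν.erase a) h'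
        refine ⟨P ⊔ W, sup_le hPU (le_trans hW1 inf_le_right), hPinv.sup hW2,
          (Cfsg.Agent.Lib.Helper65.UNd.nd_sup hF hh P W hPnd hW3 (hort W hW1)).1, ?_⟩
        rw [Cfsg.Agent.Lib.Helper65.UNd.finrank_sup_of_ort hF hh P W hPnd hW3 (hort W hW1), hPd,
          hW4, Multiset.sum_erase haν]

end Cfsg.Agent.Lib.Helper03.UNd
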