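import Cfsg.Agent.Lib.Helper46.UTiDefs
import Cfsg.Agent.Lib.Helper98.Ti2

/-! # Keystone K-UTi-B6 (595306): Chevalley-Warning for one hermitian and `k` sesquilinear forms.

Restrict scalars to the fixed field `F₀` of `a ↦ a ^ q` and apply
`Cfsg.Agent.Lib.Helper98.Ti.exists_common_isotropic` over `F₀`. -/

set_option autoImplicit false
set_option linter.unusedSectionVars false
set_option linter.unusedVariables false

namespace Cfsg.Agent.Lib.Helper03.UTi

open Module Polynomial Cfsg.Agent.Lib.Helper98.Elus Cfsg.Agent.Lib.Helper46.UTi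
open Cfsg.Agent.Lib.Helper19 (pow_q_pow_q add_pow_q sum_pow_q q_pos one_lt_q frobQ frobQ_apply)

universe u

section base

variable {F : Type u} [Field F] [Fintype F] {q : ℕ}

/-- the fixed field of `a ↦ a ^ q` -/
noncomputable def fixS (hF : Fintype.card F = q ^ 2) : Subfield F :=
  (frobQ hF).eqLocusField (RingHom.id F)

theorem mem_fixS (hF : Fintype.card F = q ^ 2) (a : F) : a ∈ fixS hF ↔ a ^ q = a := by
  unfold fixS
  rw [RingHom.mem_eqLocusField, frobQ_apply, RingHom.id_apply]

theorem exists_not_fixed (hF : Fintype.card F = q ^ 2) : ∃ w : F, w ^ q ≠ w := by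
  classical
  by_contra hcon
  have hall : ∀ w : F, w ^ q = w := by
    intro w
    by_contra h
    exact hcon ⟨w, h⟩
  have hq : 1 < q := one_lt_q hF
  have hne : (X ^ q - X : F[X]) ≠ 0 := FiniteField.X_pow_card_sub_X_ne_zero F hq
  have hsub : (Finset.univ : Finset F).val ⊆ (X ^ q - X : F[X]).roots := by
    intro a _
    rw [Polynomial.mem_roots hne]
    simp [hall a]
  have h1 := Polynomial.card_le_degree_of_subset_roots hsub
  rw [FiniteField.X_pow_card_sub_X_natDegree_eq F hq, Finset.card_univ, hF] at h1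
  nlinarith

/-- the trace to the fixed field -/
noncomputable def trS (hF : Fintype.card F = q ^ 2) (x : F) : fixS hF :=
  ⟨x + x ^ q, by rw [mem_fixS, add_pow_q hF, pow_q_pow_q hF, add_comm]⟩

theorem trS_val (hF : Fintype.card F = q ^ 2) (x : F) : ((trS hF x : fixS hF) : F) = x + x ^ q :=
  rfl

theorem trS_add (hF : Fintype.card F = q ^ 2) (x y : F) : trS hF (x + y) = trS hF x + trS hF y := by
  apply Subtype.ext
  rw [Subfield.coe_add, trS_val, trS_val, trS_val, add_pow_q hF]
  ring

theorem trS_smul (hF : Fintype.card F = q ^ 2) (c : fixS hF) (x : F) :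
    trS hF ((c : F) * x) = c • trS hF x := by
  apply Subtype.ext
  have hc : (c : F) ^ q = c := (mem_fixS hF _).mp c.2
  rw [smul_eq_mul, Subfield.coe_mul, trS_val, trS_val, mul_pow, hc]
  ring

theorem two_le_finrank (hF : Fintype.card F = q ^ 2) : 2 ≤ finrank (fixS hF) F := by
  obtain ⟨w, hw⟩ := exists_not_fixed hF
  have hli : LinearIndependent (fixS hF) ![(1 : F), w] := by
    rw [LinearIndependent.pair_iff]
    intro s t hst
    have ht : t = 0 := by
      by_contra ht
      apply hw
      have ht' : (t : F) ≠ 0 := fun h => ht (Subtype.ext h)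
      have h1 : w = -(s : F) / (t : F) := by
        have h2 : (s : F) * 1 + (t : F) * w = 0 := hst
        field_simp
        linear_combination h2
      have h3 : -(s : F) / (t : F) ∈ fixS hF :=
        (fixS hF).div_mem ((fixS hF).neg_mem s.2) t.2
      rw [← h1] at h3
      exact (mem_fixS hF w).mp h3
    refine ⟨?_, ht⟩
    rw [ht] at hst
    have h2 : (s : F) * 1 + ((0 : fixS hF) : F) * w = 0 := hst
    apply Subtype.ext
    simpa using h2
  have := hli.fintype_card_le_finrank
  simpa using this

end base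

section main

variable {F : Type u} [Field F] [Fintype F] {V : Type u} [AddCommGroup V] [Module F V]
  [FiniteDimensional F V] {q : ℕ} {H : V → V → F}

/-- the `F₀`-bilinear form `(u, v) ↦ tr (w * T u v)` on `U`, for a sesquilinear `T` -/
noncomputable def trForm (hF : Fintype.card F = q ^ 2) (U : Submodule F V) (w : F)
    (T : V → V → F)
    (hT1 : ∀ x x' y, T (x + x') y = T x y + T x' y)
    (hT2 : ∀ (c : F) x y, T (c • x) y = c * T x y)
    (hT3 : ∀ x y y', T x (y + y') = T x y + T x y')
    (hT4 : ∀ (c : F) x y, T x (c • y) = c ^ q * T x y) :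
    LinearMap.BilinForm (fixS hF) U :=
  LinearMap.mk₂ (fixS hF) (fun u v => trS hF (w * T (u : V) (v : V)))
    (by
      intro u u' v
      show trS hF (w * T ((u + u' : U) : V) v) = _
      rw [Submodule.coe_add, hT1, mul_add, trS_add])
    (by
      intro c u v
      show trS hF (w * T ((c • u : U) : V) v) = _
      have : ((c • u : U) : V) = (c : F) • (u : V) := rfl
      rw [this, hT2, ← trS_smul]
      congr 1
      ring)
    (by
      intro u v v'
      show trS hF (w * T u ((v + v' : U) : V)) = _
      rw [Submodule.coe_add, hT3, mul_add, trS_add])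
    (by
      intro c u v
      show trS hF (w * T u ((c • v : U) : V)) = _
      have : ((c • v : U) : V) = (c : F) • (v : V) := rfl
      have hc : (c : F) ^ q = c := (mem_fixS hF _).mp c.2
      rw [this, hT4, hc, ← trS_smul]
      congr 1
      ring)

theorem trForm_apply (hF : Fintype.card F = q ^ 2) (U : Submodule F V) (w : F)
    (T : V → V → F) (hT1 hT2 hT3 hT4) (u v : U) :
    ((trForm hF U w T hT1 hT2 hT3 hT4 u v : fixS hF) : F) =
      w * T u v + (w * T u v) ^ q := rfl

/-- **K-UTi-B6 (595306)** Chevalley-Warning for sesquilinear forms. -/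
theorem exists_common_isotropic (hF : Fintype.card F = q ^ 2) (hH : IsHerm q H)
    (U : Submodule F V) (k : ℕ) (S : Fin k → V → V → F)
    (hS1 : ∀ j x x' y, S j (x + x') y = S j x y + S j x' y)
    (hS2 : ∀ j (c : F) x y, S j (c • x) y = c * S j x y)
    (hS3 : ∀ j x y y', S j x (y + y') = S j x y + S j x y')
    (hS4 : ∀ j (c : F) x y, S j x (c • y) = c ^ q * S j x y)
    (hd : 2 * k + 1 < finrank F U) : ∃ v ∈ U, v ≠ 0 ∧ H v v = 0 ∧ ∀ j, S j v v = 0 := by
  classical
  obtain ⟨w, hw⟩ := exists_not_fixed hF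
  -- an element of nonzero trace
  obtain ⟨w1, hw1⟩ : ∃ w1 : F, w1 + w1 ^ q ≠ 0 := by
    by_cases h2 : (1 : F) + 1 = 0
    · refine ⟨w, fun h => hw ?_⟩
      have h3 : w ^ q = -w := eq_neg_of_add_eq_zero_right h
      have h4 : -w = w := by
        have : w + w = 0 := by
          have := congrArg (fun t => t * w) h2
          simpa [add_mul] using this
        exact neg_eq_of_add_eq_zero_left this
      rw [h3, h4]
    · exact ⟨1, by rw [one_pow]; exact h2⟩
  -- the forms
  let B0 : LinearMap.BilinForm (fixS hF) U :=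
    trForm hF U w1 H hH.add_left hH.smul_left (hH.add_right hF) hH.smul_right
  let B : F → Fin k → LinearMap.BilinForm (fixS hF) U := fun c j =>
    trForm hF U c (S j) (hS1 j) (hS2 j) (hS3 j) (hS4 j)
  let β : Fin (2 * k + 1) → LinearMap.BilinForm (fixS hF) U := fun s =>
    if h0 : (s : ℕ) = 0 then B0
    else if h1 : (s : ℕ) ≤ k then B 1 ⟨(s : ℕ) - 1, by omega⟩
    else B w ⟨(s : ℕ) - 1 - k, by have := s.2; omega⟩
  have hfin : Module.Finite (fixS hF) F := Module.Finite.of_finite
  have hfinU : Module.Finite (fixS hF) U := Module.Finite.trans F U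
  have hdim : 2 * (2 * k + 1) < finrank (fixS hF) (⊤ : Submodule (fixS hF) U) := by
    rw [finrank_top, ← finrank_mul_finrank (fixS hF) F U]
    have := two_le_finrank hF
    calc 2 * (2 * k + 1) < 2 * finrank F U := by omega
      _ ≤ finrank (fixS hF) F * finrank F U := Nat.mul_le_mul_right _ this
  obtain ⟨u, -, hu0, hu⟩ := Cfsg.Agent.Lib.Helper98.Ti.exists_common_isotropic
    (⊤ : Submodule (fixS hF) U) (2 * k + 1) β hdim
  refine ⟨(u : V), u.2, fun h => hu0 (Subtype.ext h), ?_, ?_⟩
  · have h0 := hu ⟨0, by omega⟩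
    simp only [β, dif_pos] at h0
    have h1 := congrArg (fun t : fixS hF => (t : F)) h0
    simp only [B0, trForm_apply, ZeroMemClass.coe_zero] at h1
    rw [mul_pow, hH.self_pow, ← add_mul] at h1
    rcases mul_eq_zero.mp h1 with h | h
    · exact absurd h hw1
    · exact h
  · intro j
    have ha := hu ⟨(j : ℕ) + 1, by have := j.2; omega⟩
    have hb := hu ⟨(j : ℕ) + 1 + k, by have := j.2; omega⟩
    have hj1 : (⟨(j : ℕ) + 1 - 1, by have := j.2; omega⟩ : Fin k) = j := Fin.ext (by simp)
    have hj2 : (⟨(j : ℕ) + 1 + k - 1 - k, by have := j.2; omega⟩ : Fin k) = j :=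
      Fin.ext (by simp)
    have hne : ¬ ((j : ℕ) + 1 = 0) := by omega
    have hle : (j : ℕ) + 1 ≤ k := j.2
    have hne2 : ¬ ((j : ℕ) + 1 + k = 0) := by omega
    have hnle : ¬ ((j : ℕ) + 1 + k ≤ k) := by omega
    simp only [β, dif_neg hne, dif_pos hle, hj1] at ha
    simp only [β, dif_neg hne2, dif_neg hnle, hj2] at hb
    have ha' := congrArg (fun t : fixS hF => (t : F)) ha
    have hb' := congrArg (fun t : fixS hF => (t : F)) hb
    simp only [B, trForm_apply, ZeroMemClass.coe_zero, one_mul] at ha' hb'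
    set x := S j (u : V) (u : V) with hx
    have hxq : x ^ q = -x := eq_neg_of_add_eq_zero_right ha'
    rw [mul_pow, hxq] at hb'
    have h3 : (w - w ^ q) * x = 0 := by linear_combination hb'
    rcases mul_eq_zero.mp h3 with h | h
    · exact absurd (sub_eq_zero.mp h).symm hw
    · exact h

end main

end Cfsg.Agent.Lib.Helper03.UTi
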